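import Mathlib

set_option autoImplicit false
set_option linter.style.haveILetI false

namespace Cfsg.Agent.Helper1

open Pointwise

section
variable {G : Type*} [Group G]

theorem mem_conj_smul_iff (H : Subgroup G) (g x : G) :
    x ∈ MulAut.conj g • H ↔ g⁻¹ * x * g ∈ H := by
  rw [Subgroup.mem_pointwise_smul_iff_inv_smul_mem]
  simp [MulAut.smul_def]

theorem mem_map_conj_iff (H : Subgroup G) (g x : G) :
    x ∈ H.map (MulAut.conj g).toMonoidHom ↔ g⁻¹ * x * g ∈ H := by
  constructor
  · rintro ⟨y, hy, rfl⟩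
    simp only [MulEquiv.toMonoidHom_eq_coe, MonoidHom.coe_coe, MulAut.conj_apply]
    have : g⁻¹ * (g * y * g⁻¹) * g = y := by group
    rw [this]; exact hy
  · intro h
    refine ⟨g⁻¹ * x * g, h, ?_⟩
    simp only [MulEquiv.toMonoidHom_eq_coe, MonoidHom.coe_coe, MulAut.conj_apply]
    group

theorem map_conj_eq_smul (g : G) (Z : Subgroup G) :
    Z.map (MulAut.conj g).toMonoidHom = MulAut.conj g • Z := rfl

theorem conj_smul_eq_self_iff (g : G) (Z : Subgroup G) :
    MulAut.conj g • Z = Z ↔ g ∈ Subgroup.normalizer (Z : Set G) := by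
  rw [← Subgroup.inv_mem_iff, Subgroup.mem_normalizer_iff]
  constructor
  · intro h z
    have := mem_conj_smul_iff Z g z
    rw [h] at this
    simpa using this
  · intro h
    ext z
    rw [mem_conj_smul_iff]
    have := h z
    simpa using this.symm

theorem mem_sylow_smul_iff {p : ℕ} (P : Sylow p G) (g x : G) :
    x ∈ (g • P : Sylow p G) ↔ g⁻¹ * x * g ∈ P := by
  have : x ∈ ((g • P : Sylow p G) : Subgroup G) ↔ g⁻¹ * x * g ∈ (P : Subgroup G) := by
    rw [Sylow.coe_subgroup_smul, mem_conj_smul_iff]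
  exact this

end

section
variable {G : Type*} [Group G] [Finite G] {p : ℕ} [Fact p.Prime]

/-- Two Sylow subgroups contained in a subgroup `H` are conjugate by an element of `H`. -/
theorem sylow_conj_in_subgroup (P Q : Sylow p G) (H : Subgroup G)
    (hP : (P : Subgroup G) ≤ H) (hQ : (Q : Subgroup G) ≤ H) :
    ∃ c ∈ H, c • P = Q := by
  obtain ⟨h, hh⟩ := MulAction.exists_smul_eq H (P.subtype hP) (Q.subtype hQ)
  rw [Sylow.smul_subtype] at hh
  refine ⟨h, h.2, ?_⟩
  have := Sylow.subtype_injective hh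
  rw [Subgroup.smul_def] at this
  exact this

end

end Cfsg.Agent.Helper1
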