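import Mathlib
import Cfsg.Prelude.Def_Solvable
import Cfsg.Agent.Helper1.SylowBasic
import Cfsg.Agent.Helper8.TI

/-!
Basic facts on Frobenius complements (`Cfsg.IsFrobeniusComplement`) and the Frobenius kernel
(`Cfsg.frobeniusKernel`, a set).
-/

set_option autoImplicit false

namespace Cfsg.Agent.Helper1

open Pointwise

variable {G : Type*} [Group G]

/-- elementwise form of the trivial intersection property. -/
theorem frob_inter {H : Subgroup G} (hH : Cfsg.IsFrobeniusComplement H) {g x : G} (hg : g ∉ H)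
    (hx : x ∈ H) (hgx : g⁻¹ * x * g ∈ H) : x = 1 := by
  have h1 : x ∈ H ⊓ MulAut.conj g • H :=
    ⟨hx, (mem_conj_smul_iff H g x).mpr hgx⟩
  rw [hH.2.2 g hg] at h1
  exact h1

/-- elementwise form of the trivial intersection property, other direction of conjugation. -/
theorem frob_inter' {H : Subgroup G} (hH : Cfsg.IsFrobeniusComplement H) {g x : G} (hg : g ∉ H)
    (hx : x ∈ H) (hgx : g * x * g⁻¹ ∈ H) : x = 1 := by
  have hg' : g⁻¹ ∉ H := fun h => hg (by simpa using H.inv_mem h)
  have := frob_inter hH hg' hx (by simpa using hgx)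
  exact this

/-- A Frobenius complement is self-normalizing. -/
theorem frob_normalizer {H : Subgroup G} (hH : Cfsg.IsFrobeniusComplement H) :
    Subgroup.normalizer (H : Set G) = H := by
  apply le_antisymm _ Subgroup.le_normalizer
  intro g hg
  by_contra hgH
  apply hH.1
  rw [eq_bot_iff]
  intro x hx
  have h1 : g * x * g⁻¹ ∈ H := (Subgroup.mem_normalizer_iff.mp hg x).mp hx
  rw [Subgroup.mem_bot]
  exact frob_inter' hH hgH hx h1

/-- A Frobenius complement is a TI-subset. -/
theorem frob_ti {H : Subgroup G} (hH : Cfsg.IsFrobeniusComplement H) :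
    Cfsg.IsTISubset (H : Set G) := by
  intro g hg x hx hgx
  have hgH : g ∉ H := fun h => hg (Subgroup.le_normalizer h)
  exact frob_inter' hH hgH hx hgx

/-- membership in the Frobenius kernel. -/
theorem mem_frobeniusKernel_iff (H : Subgroup G) (x : G) :
    x ∈ Cfsg.frobeniusKernel H ↔ x = 1 ∨ ∀ g : G, g * x * g⁻¹ ∉ H := by
  unfold Cfsg.frobeniusKernel
  rw [Set.mem_ofPred_eq]
  constructor
  · rintro (h | h)
    · exact Or.inl h
    · right
      intro g hg
      apply h g⁻¹
      rw [mem_conj_smul_iff]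
      simpa using hg
  · rintro (h | h)
    · exact Or.inl h
    · right
      intro g hg
      rw [mem_conj_smul_iff] at hg
      apply h g⁻¹
      simpa using hg

theorem not_mem_frobeniusKernel_iff (H : Subgroup G) (x : G) :
    x ∉ Cfsg.frobeniusKernel H ↔ x ≠ 1 ∧ ∃ g : G, g * x * g⁻¹ ∈ H := by
  rw [mem_frobeniusKernel_iff]
  push Not
  rfl

/-- The Frobenius kernel has exactly `H.index` elements. -/
theorem frob_card_kernel [Finite G] {H : Subgroup G} (hH : Cfsg.IsFrobeniusComplement H) :
    Nat.card (Cfsg.frobeniusKernel H) = H.index := by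
  classical
  have h1 := Cfsg.Agent.Helper8.ti_card (H : Set G) (frob_ti hH)
  rw [frob_normalizer hH] at h1
  -- complement of the kernel
  have h2 : Nat.card {g : G // g ≠ 1 ∧ ∃ x : G, x * g * x⁻¹ ∈ (H : Set G)} =
      Nat.card ((Cfsg.frobeniusKernel H)ᶜ : Set G) := by
    apply Nat.card_congr
    apply Equiv.subtypeEquivRight
    intro g
    rw [Set.mem_compl_iff, not_mem_frobeniusKernel_iff]
    rfl
  have h3 : Nat.card {h : G // h ∈ (H : Set G) ∧ h ≠ 1} + 1 = Nat.card H := by
    have e : Nat.card {h : G // h ∈ (H : Set G) ∧ h ≠ 1} = ((H : Set G) \ {1}).ncard := by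
      rw [← Nat.card_coe_set_eq]
      apply Nat.card_congr
      apply Equiv.subtypeEquivRight
      intro g
      simp
    rw [e, Set.ncard_sdiff_singleton_add_one (H.one_mem) (Set.toFinite _), ← Nat.card_coe_set_eq]
    rfl
  have h4 : Nat.card ((Cfsg.frobeniusKernel H)ᶜ : Set G) + Nat.card (Cfsg.frobeniusKernel H) =
      Nat.card G := by
    rw [Nat.card_coe_set_eq, Nat.card_coe_set_eq]
    exact Set.ncard_compl_add_ncard _
  rw [h2] at h1
  have h5 := H.index_mul_card
  have hpos : 0 < Nat.card H := Nat.card_pos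
  -- arithmetic
  set c := Nat.card ((Cfsg.frobeniusKernel H)ᶜ : Set G)
  set k := Nat.card (Cfsg.frobeniusKernel H)
  set a := Nat.card {h : G // h ∈ (H : Set G) ∧ h ≠ 1}
  set n := H.index
  set m := Nat.card H
  -- c * m = (n * m) * a, a + 1 = m, c + k = n * m
  have h6 : c * m = n * m * a := by rw [h1, ← h5]
  have h7 : c = n * a := by
    apply Nat.eq_of_mul_eq_mul_right hpos
    rw [h6]; ring
  have h8 : c + k = n * (a + 1) := by rw [h4, ← h5, h3]
  rw [h7] at h8
  have : n * a + k = n * a + n := by rw [h8]; ring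
  omega

/-- `|G : H| ≡ 1 mod |H|` for a Frobenius complement: `H` acts freely on the nontrivial cosets. -/
theorem frob_index_mod [Finite G] {H : Subgroup G} (hH : Cfsg.IsFrobeniusComplement H) :
    H.index % Nat.card H = 1 % Nat.card H := by
  classical
  have hsm : ∀ (h : H) (g : G), h • ((g : G) : G ⧸ H) = (((h : G) * g : G) : G ⧸ H) :=
    fun h g => rfl
  let Y : SubMulAction H (G ⧸ H) :=
    { carrier := {q | q ≠ ((1 : G) : G ⧸ H)}
      smul_mem' := by
        intro h q hq hq'
        apply hq
        induction q using QuotientGroup.induction_on with | _ g => ?_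
        rw [hsm, QuotientGroup.eq] at hq'
        rw [QuotientGroup.eq]
        have h1 : g = (h : G)⁻¹ * (((h : G) * g)⁻¹ * 1)⁻¹ := by group
        have h2 : g⁻¹ * 1 = g⁻¹ := mul_one _
        rw [h2, H.inv_mem_iff, h1]
        exact H.mul_mem (H.inv_mem h.2) (H.inv_mem hq') }
  have hfree : ∀ y : Y, MulAction.stabilizer H y = ⊥ := by
    rintro ⟨q, hq⟩
    rw [eq_bot_iff]
    intro h hh
    rw [MulAction.mem_stabilizer_iff] at hh
    have hh' : h • q = q := congrArg Subtype.val hh
    induction q using QuotientGroup.induction_on with | _ g => ?_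
    have hg : g ∉ H := by
      intro hg
      apply hq
      show ((g : G) : G ⧸ H) = ((1 : G) : G ⧸ H)
      rw [QuotientGroup.eq]
      simpa using hg
    rw [hsm, QuotientGroup.eq] at hh'
    have h3 : ((h : G) * g)⁻¹ * g = (g⁻¹ * (h : G) * g)⁻¹ := by group
    rw [h3, H.inv_mem_iff] at hh'
    rw [Subgroup.mem_bot]
    exact Subtype.ext (frob_inter hH hg h.2 hh')
  have e := MulAction.selfEquivOrbitsQuotientProd hfree
  have hc : Nat.card Y = Nat.card (Quotient (MulAction.orbitRel H Y)) * Nat.card H := by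
    rw [Nat.card_congr e, Nat.card_prod]
  have hY : Nat.card Y + 1 = H.index := by
    rw [Subgroup.index_eq_card]
    have h1 : Nat.card Y = (({((1 : G) : G ⧸ H)} : Set (G ⧸ H))ᶜ).ncard := by
      rw [← Nat.card_coe_set_eq]
      rfl
    rw [h1, Set.ncard_compl, Set.ncard_singleton]
    have : 0 < Nat.card (G ⧸ H) := Nat.card_pos
    omega
  rw [← hY, hc]
  simp [Nat.add_mod]

end Cfsg.Agent.Helper1
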