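import Mathlib
import Cfsg.Prelude.Def_Characters
import Cfsg.Prelude.Def_Solvable
import Cfsg.Agent.Helper1.Frobenius
import Cfsg.Agent.Helper24.Generalized
import Cfsg.Agent.Helper24.Regular
import Cfsg.Agent.Helper24.CharBasic
import Cfsg.Agent.Helper24.Linear
import Cfsg.Agent.Helper8.Ind
import Cfsg.Agent.Helper5.IndFun

/-!
Frobenius' theorem: the Frobenius kernel is a normal subgroup complementing the complement.
Proof by character theory (extension of irreducible characters of the complement).
-/

set_option autoImplicit false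

namespace Cfsg.Agent.Helper1

open Cfsg Cfsg.Agent.Helper24 Cfsg.Agent.Helper5
open scoped ComplexConjugate

universe u

section Induction

variable {G : Type u} [Group G] [Fintype G] {H : Subgroup G}

/-- induction from a Frobenius complement: value on a nonidentity element of `H`. -/
theorem frob_indFun_apply_mem (hH : IsFrobeniusComplement H) (θ : H → ℂ)
    (hθ : IsClassFunction H θ) {h : G} (hh : h ∈ H) (h1 : h ≠ 1) :
    indFun H θ h = θ ⟨h, hh⟩ := by
  classical
  unfold Cfsg.indFun
  have hterm : ∀ x : G, extendByZero H θ (x⁻¹ * h * x) = if x ∈ H then θ ⟨h, hh⟩ else 0 := by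
    intro x
    by_cases hx : x ∈ H
    · rw [if_pos hx]
      have hmem : x⁻¹ * h * x ∈ H := H.mul_mem (H.mul_mem (H.inv_mem hx) hh) hx
      rw [extendByZero_apply_mem H θ hmem]
      have := hθ ⟨h, hh⟩ ⟨x, hx⟩⁻¹
      rw [← this]
      congr 1
      apply Subtype.ext
      simp
    · rw [if_neg hx]
      apply extendByZero_apply_not_mem
      intro hmem
      exact h1 (frob_inter hH hx hh hmem)
  rw [Finset.sum_congr rfl (fun x _ => hterm x), Finset.sum_ite, Finset.sum_const_zero, add_zero,
    Finset.sum_const, nsmul_eq_mul, ← mul_assoc]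
  have hcard : ((Finset.univ.filter (fun x : G => x ∈ H)).card : ℂ) = (Nat.card H : ℂ) := by
    congr 1
    rw [Nat.card_eq_fintype_card, Fintype.card_subtype]
  rw [hcard]
  have hH0 : (Nat.card H : ℂ) ≠ 0 := by exact_mod_cast Nat.card_pos.ne'
  rw [inv_mul_cancel₀ hH0, one_mul]

/-- induction from a Frobenius complement vanishes on the nonidentity elements of the kernel. -/
theorem frob_indFun_apply_kernel (θ : H → ℂ) {g : G} (hg : g ∈ frobeniusKernel H) (g1 : g ≠ 1) :
    indFun H θ g = 0 := by
  unfold Cfsg.indFun
  rw [mem_frobeniusKernel_iff] at hg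
  rcases hg with hg | hg
  · exact absurd hg g1
  · have : ∀ x : G, extendByZero H θ (x⁻¹ * g * x) = 0 := by
      intro x
      apply extendByZero_apply_not_mem
      have := hg x⁻¹
      simpa using this
    rw [Finset.sum_congr rfl (fun x _ => this x), Finset.sum_const_zero, mul_zero]

end Induction

theorem isGeneralizedCharacter_const {G : Type u} [Group G] (n : ℕ) :
    IsGeneralizedCharacter G (fun _ => (n : ℂ)) := by
  have h1 : IsGeneralizedCharacter G (fun _ => (1 : ℂ)) :=
    IsCharacter.isGeneralizedCharacter (isCharacter_const_one (G := G))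
  have := IsGeneralizedCharacter.nsmul h1 n
  convert this using 1
  ext g
  simp

section Extension

variable {G : Type u} [Group G] [Fintype G] {H : Subgroup G}

/-- the extension `θ*` to `G` of a class function `θ` of the Frobenius complement `H`. -/
noncomputable def frobExt (H : Subgroup G) (θ : H → ℂ) : G → ℂ :=
  indFun H (θ - fun _ => θ 1) + fun _ => θ 1

theorem frobExt_apply_mem (hH : IsFrobeniusComplement H) (θ : H → ℂ)
    (hθ : IsClassFunction H θ) {h : G} (hh : h ∈ H) : frobExt H θ h = θ ⟨h, hh⟩ := by
  unfold frobExt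
  rw [Pi.add_apply]
  by_cases h1 : h = 1
  · subst h1
    rw [indFun_apply_one]
    simp
    rfl
  · have hcf : IsClassFunction H (θ - fun _ => θ 1) := by
      intro g k
      simp only [Pi.sub_apply]
      rw [hθ g k]
    rw [frob_indFun_apply_mem hH _ hcf hh h1]
    simp

theorem frobExt_apply_kernel (hH : IsFrobeniusComplement H) (θ : H → ℂ)
    (hθ : IsClassFunction H θ) {g : G} (hg : g ∈ frobeniusKernel H) : frobExt H θ g = θ 1 := by
  by_cases g1 : g = 1
  · subst g1
    rw [frobExt_apply_mem hH θ hθ H.one_mem]
    rfl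
  · unfold frobExt
    rw [Pi.add_apply, frob_indFun_apply_kernel _ hg g1, zero_add]

theorem frobExt_apply_one (hH : IsFrobeniusComplement H) (θ : H → ℂ)
    (hθ : IsClassFunction H θ) : frobExt H θ 1 = θ 1 :=
  frobExt_apply_kernel hH θ hθ (Or.inl rfl)

theorem frobExt_isGeneralizedCharacter {θ : H → ℂ} (hθ : IsIrrCharacter H θ) :
    IsGeneralizedCharacter G (frobExt H θ) := by
  obtain ⟨n, hn, hn1⟩ := isIrrCharacter_one hθ
  unfold frobExt
  rw [hn1]
  apply IsGeneralizedCharacter.add
  · apply IsGeneralizedCharacter.indFun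
    exact IsGeneralizedCharacter.sub (IsIrrCharacter.isGeneralizedCharacter hθ)
      (isGeneralizedCharacter_const n)
  · exact isGeneralizedCharacter_const n

theorem classInner_one_one {K : Type u} [Group K] [Fintype K] :
    classInner (fun _ : K => (1 : ℂ)) (fun _ => 1) = 1 :=
  classInner_irr_self (trivIrr K)

/-- the norm of the extension is one -/
theorem frobExt_norm [Fintype H] (hH : IsFrobeniusComplement H) {θ : H → ℂ}
    (hθ : IsIrrCharacter H θ) : classInner (frobExt H θ) (frobExt H θ) = 1 := by
  classical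
  obtain ⟨n, hn, hn1⟩ := isIrrCharacter_one hθ
  have hθcf : IsClassFunction H θ :=
    IsGeneralizedCharacter.isClassFunction (IsIrrCharacter.isGeneralizedCharacter hθ)
  have hcf : IsClassFunction G (frobExt H θ) :=
    IsGeneralizedCharacter.isClassFunction (frobExt_isGeneralizedCharacter hθ)
  let cG : G → ℂ := fun _ => 1
  let cH : H → ℂ := fun _ => 1
  let d : ℂ := (n : ℂ)
  have hconstG : (fun _ : G => θ 1) = d • cG := by ext g; simp [hn1, cG, d]
  have hconstH : (fun _ : H => θ 1) = d • cH := by ext g; simp [hn1, cH, d]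
  have hres : (fun h : H => frobExt H θ h) = θ := by
    ext h
    exact frobExt_apply_mem hH θ hθcf h.2
  have hθθ : classInner θ θ = 1 := classInner_irr_self ⟨θ, hθ⟩
  have hext : frobExt H θ = indFun H (θ - d • cH) + d • cG := by
    unfold frobExt
    rw [hconstG, hconstH]
  -- A
  have hA : classInner (indFun H (θ - d • cH)) (frobExt H θ) = 1 - d * classInner cH θ := by
    rw [Cfsg.Agent.Helper8.frobenius_reciprocity H _ _ hcf, hres, classInner_sub_left, classInner_smul_left, hθθ]
  -- B
  have hcGcf : IsClassFunction G cG := fun _ _ => rfl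
  have hB : classInner (frobExt H θ) cG = classInner θ cH := by
    rw [hext, classInner_add_left, classInner_smul_left, Cfsg.Agent.Helper8.frobenius_reciprocity H _ _ hcGcf]
    have : (fun h : H => cG h) = cH := rfl
    rw [this, classInner_sub_left, classInner_smul_left]
    have e1 : classInner cH cH = 1 := classInner_one_one
    have e2 : classInner cG cG = 1 := classInner_one_one
    rw [e1, e2]
    ring
  have hC : classInner (d • cG) (frobExt H θ) = d * classInner cH θ := by
    rw [classInner_smul_left, ← classInner_conj_symm, hB, classInner_conj_symm]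
  have hsplit : classInner (frobExt H θ) (frobExt H θ) =
      classInner (indFun H (θ - d • cH)) (frobExt H θ) + classInner (d • cG) (frobExt H θ) := by
    conv_lhs => rw [hext]
    rw [classInner_add_left, ← hext]
  rw [hsplit, hA, hC]
  ring

/-- the extension of an irreducible character is an irreducible character -/
theorem frobExt_isIrrCharacter [Fintype H] (hH : IsFrobeniusComplement H) {θ : H → ℂ}
    (hθ : IsIrrCharacter H θ) : IsIrrCharacter G (frobExt H θ) := by
  have : Fintype (IrrCharacter G) := Fintype.ofFinite _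
  apply IsGeneralizedCharacter.isIrrCharacter_of_classInner_self
    (frobExt_isGeneralizedCharacter hθ) (frobExt_norm hH hθ)
  have hθcf : IsClassFunction H θ :=
    IsGeneralizedCharacter.isClassFunction (IsIrrCharacter.isGeneralizedCharacter hθ)
  rw [frobExt_apply_one hH θ hθcf]
  obtain ⟨n, hn, hn1⟩ := isIrrCharacter_one hθ
  rw [hn1]
  simp [hn]

end Extension

section Main

/-- the kernel of a character is a normal subgroup -/
theorem exists_normal_ker {G : Type u} [Group G] [Finite G] {χ : G → ℂ} (hχ : IsCharacter G χ) :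
    ∃ K : Subgroup G, K.Normal ∧ ∀ g, g ∈ K ↔ χ g = χ 1 := by
  obtain ⟨n, ρ, rfl⟩ := hχ
  let K : Subgroup G :=
    { carrier := {g | ρ g = LinearMap.id}
      one_mem' := by
        show ρ 1 = LinearMap.id
        rw [map_one]; rfl
      mul_mem' := by
        intro a b ha hb
        show ρ (a * b) = LinearMap.id
        have ha' : ρ a = LinearMap.id := ha
        have hb' : ρ b = LinearMap.id := hb
        rw [map_mul, ha', hb']; rfl
      inv_mem' := by
        intro a ha
        show ρ a⁻¹ = LinearMap.id
        have ha' : ρ a = LinearMap.id := ha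
        have h1 : ρ a⁻¹ * ρ a = 1 := by rw [← map_mul, inv_mul_cancel, map_one]
        rw [ha'] at h1
        have : ρ a⁻¹ * LinearMap.id = ρ a⁻¹ := mul_one (ρ a⁻¹)
        rw [← this, h1]; rfl }
  refine ⟨K, ⟨?_⟩, ?_⟩
  · intro a ha g
    show ρ (g * a * g⁻¹) = LinearMap.id
    have ha' : ρ a = LinearMap.id := ha
    rw [map_mul, map_mul, ha']
    have : ρ g * LinearMap.id = ρ g := mul_one (ρ g)
    rw [this, ← map_mul, mul_inv_cancel, map_one]; rfl
  · intro g
    rw [Representation.char_one, char_eq_finrank_iff]
    rfl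

variable {G : Type u} [Group G] [Fintype G] {H : Subgroup G}

/-- **Frobenius' theorem**. -/
theorem frobenius_theorem (hH : IsFrobeniusComplement H) :
    ∃ N : Subgroup G, (N : Set G) = frobeniusKernel H ∧ N.Normal ∧ Subgroup.IsComplement' N H := by
  classical
  have : Fintype H := Fintype.ofFinite H
  have : Fintype (IrrCharacter H) := Fintype.ofFinite _
  have hex : ∀ θ : IrrCharacter H, ∃ K : Subgroup G, K.Normal ∧
      ∀ g, g ∈ K ↔ frobExt H (θ : H → ℂ) g = frobExt H (θ : H → ℂ) 1 := by
    intro θ
    have hirr := frobExt_isIrrCharacter hH θ.2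
    obtain ⟨n, ρ, -, hρ⟩ := hirr
    exact exists_normal_ker ⟨n, ρ, hρ⟩
  choose K hKn hKmem using hex
  have hθcf : ∀ θ : IrrCharacter H, IsClassFunction H (θ : H → ℂ) := fun θ =>
    IsGeneralizedCharacter.isClassFunction (IsIrrCharacter.isGeneralizedCharacter θ.2)
  let N : Subgroup G := ⨅ θ, K θ
  have hNn : N.Normal := Subgroup.normal_iInf_normal hKn
  have hNmem : ∀ g, g ∈ N ↔ ∀ θ : IrrCharacter H, frobExt H (θ : H → ℂ) g = (θ : H → ℂ) 1 := by
    intro g
    rw [Subgroup.mem_iInf]
    apply forall_congr'
    intro θ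
    rw [hKmem, frobExt_apply_one hH _ (hθcf θ)]
  -- N ∩ H = ⊥
  have hNH : ∀ h : G, h ∈ N → h ∈ H → h = 1 := by
    intro h hN hhH
    by_contra h1
    have h1' : (⟨h, hhH⟩ : H) ≠ 1 := fun e => h1 (congrArg Subtype.val e)
    have hsum := sum_irr_one_mul_eq_zero (G := H) h1'
    have hval : ∀ θ : IrrCharacter H, (θ : H → ℂ) ⟨h, hhH⟩ = (θ : H → ℂ) 1 := by
      intro θ
      rw [← frobExt_apply_mem hH _ (hθcf θ) hhH]
      exact (hNmem h).mp hN θ
    rw [Finset.sum_congr rfl (fun θ _ => by rw [hval θ, ← pow_two])] at hsum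
    rw [sum_sq_irr_one] at hsum
    have : (Nat.card H : ℂ) ≠ 0 := by exact_mod_cast Nat.card_pos.ne'
    exact this hsum
  have hset : (N : Set G) = frobeniusKernel H := by
    ext g
    constructor
    · intro hg
      by_contra hgk
      rw [not_mem_frobeniusKernel_iff] at hgk
      obtain ⟨g1, x, hx⟩ := hgk
      have := hNH _ (hNn.conj_mem g hg x) hx
      apply g1
      have e : g = x⁻¹ * (x * g * x⁻¹) * x := by group
      rw [e, this]; group
    · intro hg
      rw [SetLike.mem_coe, hNmem]
      intro θ
      exact frobExt_apply_kernel hH _ (hθcf θ) hg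
  refine ⟨N, hset, hNn, ?_⟩
  apply Subgroup.isComplement'_of_card_mul_and_disjoint
  · have h1 : Nat.card N = H.index := by
      rw [← frob_card_kernel hH, ← hset]
      rfl
    rw [h1, mul_comm]
    exact H.card_mul_index
  · rw [Subgroup.disjoint_def]
    intro x hxN hxH
    exact hNH x hxN hxH

end Main

end Cfsg.Agent.Helper1
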