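import Mathlib
import Cfsg.Agent.Helper1.Frobenius
import Cfsg.Agent.Helper1.FrobeniusThm

/-!
Frobenius groups: conjugates of complements, subgroups covered by conjugates of a complement,
comparability of normal subgroups with the kernel.
-/

set_option autoImplicit false

namespace Cfsg.Agent.Helper1

open Pointwise

variable {G : Type*} [Group G]

/-- a conjugate of a Frobenius complement is a Frobenius complement -/
theorem frob_conj {H : Subgroup G} (hH : Cfsg.IsFrobeniusComplement H) (g : G) :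
    Cfsg.IsFrobeniusComplement (MulAut.conj g • H) := by
  refine ⟨?_, ?_, ?_⟩
  · intro h
    apply hH.1
    rw [eq_bot_iff] at h ⊢
    intro x hx
    have : g * x * g⁻¹ ∈ MulAut.conj g • H := by
      rw [mem_conj_smul_iff]
      have e : g⁻¹ * (g * x * g⁻¹) * g = x := by group
      rw [e]; exact hx
    have h1 := h this
    rw [Subgroup.mem_bot] at h1 ⊢
    have e : x = g⁻¹ * (g * x * g⁻¹) * g := by group
    rw [e, h1]; group
  · intro h
    apply hH.2.1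
    rw [eq_top_iff] at h ⊢
    intro x _
    have h1 : g * x * g⁻¹ ∈ MulAut.conj g • H := h (Subgroup.mem_top _)
    rw [mem_conj_smul_iff] at h1
    have e : g⁻¹ * (g * x * g⁻¹) * g = x := by group
    rwa [e] at h1
  · intro x hx
    rw [eq_bot_iff]
    intro y hy
    obtain ⟨hy1, hy2⟩ := Subgroup.mem_inf.mp hy
    rw [mem_conj_smul_iff] at hy1 hy2 hx
    rw [mem_conj_smul_iff] at hy2
    rw [Subgroup.mem_bot]
    -- y' = g⁻¹ y g ∈ H, and (g⁻¹ x g)⁻¹ y' (g⁻¹ x g) ∈ H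
    have h3 : (g⁻¹ * x * g)⁻¹ * (g⁻¹ * y * g) * (g⁻¹ * x * g) ∈ H := by
      have e : (g⁻¹ * x * g)⁻¹ * (g⁻¹ * y * g) * (g⁻¹ * x * g) = g⁻¹ * (x⁻¹ * y * x) * g := by group
      rw [e]; exact hy2
    have h4 := frob_inter hH hx hy1 h3
    have e : y = g * (g⁻¹ * y * g) * g⁻¹ := by group
    rw [e, h4]; group

/-- if a nonidentity element is conjugated into `H` by two elements, they differ by `H`. -/
theorem frob_conj_mem_unique {H : Subgroup G} (hH : Cfsg.IsFrobeniusComplement H) {x g₁ g₂ : G}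
    (hx : x ≠ 1) (h1 : g₁ * x * g₁⁻¹ ∈ H) (h2 : g₂ * x * g₂⁻¹ ∈ H) : g₂ * g₁⁻¹ ∈ H := by
  by_contra hn
  have h3 : (g₂ * g₁⁻¹) * (g₁ * x * g₁⁻¹) * (g₂ * g₁⁻¹)⁻¹ = g₂ * x * g₂⁻¹ := by group
  have := frob_inter' hH hn h1 (by rw [h3]; exact h2)
  apply hx
  have e : x = g₁⁻¹ * (g₁ * x * g₁⁻¹) * g₁ := by group
  rw [e, this]; group

/-- the centralizer of a nonidentity element of `H` lies in `H`. -/
theorem frob_centralizer_le {H : Subgroup G} (hH : Cfsg.IsFrobeniusComplement H) {h c : G}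
    (hh : h ∈ H) (h1 : h ≠ 1) (hc : c * h = h * c) : c ∈ H := by
  by_contra hn
  apply h1
  apply frob_inter' hH hn hh
  have : c * h * c⁻¹ = h := by rw [hc]; group
  rw [this]; exact hh

/-- restriction of a Frobenius complement to a subgroup -/
theorem frob_subgroupOf {H : Subgroup G} (hH : Cfsg.IsFrobeniusComplement H) (U : Subgroup G)
    (h1 : H.subgroupOf U ≠ ⊥) (h2 : H.subgroupOf U ≠ ⊤) :
    Cfsg.IsFrobeniusComplement (H.subgroupOf U) := by
  refine ⟨h1, h2, ?_⟩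
  intro x hx
  rw [eq_bot_iff]
  intro y hy
  obtain ⟨hy1, hy2⟩ := Subgroup.mem_inf.mp hy
  rw [mem_conj_smul_iff] at hy2
  rw [Subgroup.mem_subgroupOf] at hy1 hy2 hx
  rw [Subgroup.mem_bot]
  apply Subtype.ext
  exact frob_inter hH hx hy1 (by simpa using hy2)

/-- two Frobenius complements in one finite group, with a "cross" TI condition: impossible. -/
theorem two_complements_false [Finite G] {M M' : Subgroup G}
    (hM : Cfsg.IsFrobeniusComplement M) (hM' : Cfsg.IsFrobeniusComplement M')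
    (v : G) (hv1 : v ≠ 1) (hvM' : v ∈ M') (hvK : v ∈ Cfsg.frobeniusKernel M)
    (hcross : ∀ w a b : G, w ≠ 1 → a * w * a⁻¹ ∈ M → b * w * b⁻¹ ∈ M' →
      ∀ y ∈ M', ∃ c : G, c * y * c⁻¹ ∈ M) : False := by
  classical
  have hKM := frob_card_kernel hM
  have hKM' := frob_card_kernel hM'
  have hunion : Cfsg.frobeniusKernel M ∪ Cfsg.frobeniusKernel M' = Set.univ := by
    rw [Set.eq_univ_iff_forall]
    intro g
    by_contra hg
    rw [Set.mem_union, not_or, not_mem_frobeniusKernel_iff, not_mem_frobeniusKernel_iff] at hg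
    obtain ⟨⟨hg1, a, ha⟩, -, b, hb⟩ := hg
    obtain ⟨c, hc⟩ := hcross g a b hg1 ha hb v hvM'
    rw [mem_frobeniusKernel_iff] at hvK
    rcases hvK with h | h
    · exact hv1 h
    · exact h c hc
  have hinter : 1 ≤ (Cfsg.frobeniusKernel M ∩ Cfsg.frobeniusKernel M').ncard := by
    have : 0 < (Cfsg.frobeniusKernel M ∩ Cfsg.frobeniusKernel M').ncard := by
      rw [Set.ncard_pos (Set.toFinite _)]
      exact ⟨1, Or.inl rfl, Or.inl rfl⟩
    omega
  have hcount := Set.ncard_union_add_ncard_inter (Cfsg.frobeniusKernel M) (Cfsg.frobeniusKernel M')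
  have hK1 : (Cfsg.frobeniusKernel M).ncard = M.index := by
    rw [← Nat.card_coe_set_eq]; exact hKM
  have hK2 : (Cfsg.frobeniusKernel M').ncard = M'.index := by
    rw [← Nat.card_coe_set_eq]; exact hKM'
  rw [hunion, Set.ncard_univ, hK1, hK2] at hcount
  have hhalf : ∀ N : Subgroup G, N ≠ ⊥ → 2 * N.index ≤ Nat.card G := by
    intro N hN
    have h1 : 1 < Nat.card N := (Subgroup.one_lt_card_iff_ne_bot _).mpr hN
    have h2 := N.index_mul_card
    have h3 : 0 < N.index := Nat.pos_of_ne_zero Subgroup.index_ne_zero_of_finite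
    nlinarith
  have h1 := hhalf M hM.1
  have h2 := hhalf M' hM'.1
  omega

theorem mem_conj_subgroupOf_iff (H U : Subgroup G) (y : G) (z : U) :
    z ∈ (MulAut.conj y • H).subgroupOf U ↔ y⁻¹ * (z : G) * y ∈ H := by
  rw [Subgroup.mem_subgroupOf, mem_conj_smul_iff]

/-- a subgroup all of whose nonidentity elements are conjugate into the Frobenius complement `H`
is contained in a conjugate of `H`. -/
theorem frob_covered_le_conj [Finite G] {H : Subgroup G} (hH : Cfsg.IsFrobeniusComplement H)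
    (U : Subgroup G) (hU : ∀ u ∈ U, u ≠ 1 → ∃ x : G, x * u * x⁻¹ ∈ H) :
    ∃ g : G, U ≤ MulAut.conj g • H := by
  have hU' : ∀ u ∈ U, u ≠ 1 → ∃ y : G, y⁻¹ * u * y ∈ H := by
    intro u hu hu1
    obtain ⟨x, hx⟩ := hU u hu hu1
    exact ⟨x⁻¹, by simpa using hx⟩
  by_cases hbot : U = ⊥
  · exact ⟨1, by rw [hbot]; exact bot_le⟩
  obtain ⟨u₀, hu₀, hu₀1⟩ := (Subgroup.ne_bot_iff_exists_ne_one).mp hbot |>.imp
    (fun u hu => hu) |> fun ⟨u, hu⟩ => (⟨(u : G), u.2, fun h => hu (Subtype.ext h)⟩ :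
      ∃ u₀ : G, u₀ ∈ U ∧ u₀ ≠ 1)
  obtain ⟨y₀, hy₀⟩ := hU' u₀ hu₀ hu₀1
  have hH' := frob_conj hH y₀
  by_cases hMtop : (MulAut.conj y₀ • H).subgroupOf U = ⊤
  · exact ⟨y₀, Subgroup.subgroupOf_eq_top.mp hMtop⟩
  have hMbot : (MulAut.conj y₀ • H).subgroupOf U ≠ ⊥ := by
    intro h
    have : (⟨u₀, hu₀⟩ : U) ∈ (MulAut.conj y₀ • H).subgroupOf U := by
      rw [mem_conj_subgroupOf_iff]; exact hy₀
    rw [h, Subgroup.mem_bot] at this
    exact hu₀1 (congrArg Subtype.val this)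
  have hMF := frob_subgroupOf hH' U hMbot hMtop
  -- a nonidentity element of the kernel of M in U
  have hKcard := frob_card_kernel hMF
  have hidx : 1 < ((MulAut.conj y₀ • H).subgroupOf U).index := by
    have h1 : ((MulAut.conj y₀ • H).subgroupOf U).index ≠ 1 :=
      fun h1 => hMtop (Subgroup.index_eq_one.mp h1)
    have h0 : ((MulAut.conj y₀ • H).subgroupOf U).index ≠ 0 := Subgroup.index_ne_zero_of_finite
    omega
  obtain ⟨v, hvK, hv1⟩ : ∃ v ∈ Cfsg.frobeniusKernel ((MulAut.conj y₀ • H).subgroupOf U), v ≠ 1 := by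
    by_contra hcon
    push Not at hcon
    have hsub : Cfsg.frobeniusKernel ((MulAut.conj y₀ • H).subgroupOf U) ⊆ {1} :=
      fun x hx => hcon x hx
    have := Set.ncard_le_ncard hsub (Set.toFinite _)
    rw [Set.ncard_singleton, ← Nat.card_coe_set_eq, hKcard] at this
    omega
  have hvG1 : (v : G) ≠ 1 := fun h => hv1 (Subtype.ext h)
  obtain ⟨y₁, hy₁⟩ := hU' v v.2 hvG1
  have hH'' := frob_conj hH y₁
  by_cases hM'top : (MulAut.conj y₁ • H).subgroupOf U = ⊤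
  · exact ⟨y₁, Subgroup.subgroupOf_eq_top.mp hM'top⟩
  have hvM' : v ∈ (MulAut.conj y₁ • H).subgroupOf U := by
    rw [mem_conj_subgroupOf_iff]; exact hy₁
  have hM'bot : (MulAut.conj y₁ • H).subgroupOf U ≠ ⊥ := by
    intro h
    rw [h, Subgroup.mem_bot] at hvM'
    exact hv1 hvM'
  have hM'F := frob_subgroupOf hH'' U hM'bot hM'top
  exfalso
  apply two_complements_false hMF hM'F v hv1 hvM' hvK
  intro w a b hw ha hb y hy
  rw [mem_conj_subgroupOf_iff] at ha hb hy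
  refine ⟨a * b⁻¹, ?_⟩
  rw [mem_conj_subgroupOf_iff]
  have hwG : (w : G) ≠ 1 := fun h => hw (Subtype.ext h)
  -- w conjugated into H by y₀⁻¹ a and y₁⁻¹ b
  have h1 : (y₀⁻¹ * a) * (w : G) * (y₀⁻¹ * a)⁻¹ ∈ H := by
    have e : (y₀⁻¹ * a) * (w : G) * (y₀⁻¹ * a)⁻¹ = y₀⁻¹ * ((a * w * a⁻¹ : U) : G) * y₀ := by
      simp only [Subgroup.coe_mul, Subgroup.coe_inv]; group
    rw [e]; exact ha
  have h2 : (y₁⁻¹ * b) * (w : G) * (y₁⁻¹ * b)⁻¹ ∈ H := by
    have e : (y₁⁻¹ * b) * (w : G) * (y₁⁻¹ * b)⁻¹ = y₁⁻¹ * ((b * w * b⁻¹ : U) : G) * y₁ := by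
      simp only [Subgroup.coe_mul, Subgroup.coe_inv]; group
    rw [e]; exact hb
  have h3 := frob_conj_mem_unique hH hwG h2 h1
  -- h3 : (y₀⁻¹ a) (y₁⁻¹ b)⁻¹ ∈ H
  have e : y₀⁻¹ * ((a * b⁻¹ * y * (a * b⁻¹)⁻¹ : U) : G) * y₀ =
      ((y₀⁻¹ * a) * (y₁⁻¹ * b)⁻¹) * (y₁⁻¹ * (y : G) * y₁) * ((y₀⁻¹ * a) * (y₁⁻¹ * b)⁻¹)⁻¹ := by
    simp only [Subgroup.coe_mul, Subgroup.coe_inv]
    group
  rw [e]
  exact H.mul_mem (H.mul_mem h3 hy) (H.inv_mem h3)

/-- the kernel meets the complement trivially -/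
theorem frob_kernel_inter {H : Subgroup G} {x : G} (hx : x ∈ Cfsg.frobeniusKernel H)
    (hxH : x ∈ H) : x = 1 := by
  rw [mem_frobeniusKernel_iff] at hx
  rcases hx with h | h
  · exact h
  · exfalso
    apply h 1
    simpa using hxH

/-- a normal subgroup of a Frobenius group is contained in the kernel or contains it. -/
theorem frob_normal_le_or_le [Finite G] {H N : Subgroup G} (hH : Cfsg.IsFrobeniusComplement H)
    (hN : (N : Set G) = Cfsg.frobeniusKernel H) [hNn : N.Normal] (M : Subgroup G) [hMn : M.Normal] :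
    M ≤ N ∨ N ≤ M := by
  by_cases hle : M ≤ N
  · exact Or.inl hle
  right
  obtain ⟨m, hmM, hmN⟩ := SetLike.not_le_iff_exists.mp hle
  have hmK : m ∉ Cfsg.frobeniusKernel H := by rw [← hN]; exact hmN
  rw [not_mem_frobeniusKernel_iff] at hmK
  obtain ⟨hm1, x, hx⟩ := hmK
  set h₀ := x * m * x⁻¹ with hh₀
  have hh₀M : h₀ ∈ M := hMn.conj_mem m hmM x
  have hh₀1 : h₀ ≠ 1 := by
    intro h
    apply hm1
    have e : m = x⁻¹ * h₀ * x := by rw [hh₀]; group
    rw [e, h]; group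
  let ψ : N → N := fun n => ⟨n * h₀ * (n : G)⁻¹ * h₀⁻¹, by
    have : (n : G) * h₀ * (n : G)⁻¹ * h₀⁻¹ = n * (h₀ * (n : G)⁻¹ * h₀⁻¹) := by group
    rw [this]
    exact N.mul_mem n.2 (hNn.conj_mem _ (N.inv_mem n.2) h₀)⟩
  have hinj : Function.Injective ψ := by
    intro n₁ n₂ h
    have h' : (n₁ : G) * h₀ * (n₁ : G)⁻¹ * h₀⁻¹ = n₂ * h₀ * (n₂ : G)⁻¹ * h₀⁻¹ :=
      congrArg Subtype.val h
    have h2 : (n₁ : G) * h₀ * (n₁ : G)⁻¹ = n₂ * h₀ * (n₂ : G)⁻¹ := mul_right_cancel h'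
    have hc : ((n₂ : G)⁻¹ * n₁) * h₀ = h₀ * ((n₂ : G)⁻¹ * n₁) := by
      calc ((n₂ : G)⁻¹ * n₁) * h₀ = (n₂ : G)⁻¹ * ((n₁ : G) * h₀ * (n₁ : G)⁻¹) * n₁ := by group
        _ = (n₂ : G)⁻¹ * ((n₂ : G) * h₀ * (n₂ : G)⁻¹) * n₁ := by rw [h2]
        _ = h₀ * ((n₂ : G)⁻¹ * n₁) := by group
    have hcH := frob_centralizer_le hH hx hh₀1 hc
    have hcN : (n₂ : G)⁻¹ * n₁ ∈ N := N.mul_mem (N.inv_mem n₂.2) n₁.2
    have hcK : (n₂ : G)⁻¹ * n₁ ∈ Cfsg.frobeniusKernel H := by rw [← hN]; exact hcN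
    have := frob_kernel_inter hcK hcH
    apply Subtype.ext
    rw [inv_mul_eq_one] at this
    exact this.symm
  have hsurj : Function.Surjective ψ := Finite.injective_iff_surjective.mp hinj
  intro n hn
  obtain ⟨n', hn'⟩ := hsurj ⟨n, hn⟩
  have e : n = (n' : G) * h₀ * (n' : G)⁻¹ * h₀⁻¹ := (congrArg Subtype.val hn').symm
  rw [e]
  exact M.mul_mem (hMn.conj_mem h₀ hh₀M n') (M.inv_mem hh₀M)

end Cfsg.Agent.Helper1
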