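import Mathlib

set_option autoImplicit false
set_option linter.style.haveILetI false

namespace Cfsg.Agent.Helper1

section
variable {G : Type*} [Group G]

theorem le_frattini_iff (K : Subgroup G) : K ≤ frattini G ↔ ∀ M : Subgroup G, IsCoatom M → K ≤ M := by
  unfold frattini Order.radical
  simp only [le_iInf_iff, Set.mem_ofPred_eq]

theorem mem_frattini_iff (x : G) : x ∈ frattini G ↔ ∀ M : Subgroup G, IsCoatom M → x ∈ M := by
  unfold frattini Order.radical
  simp only [Subgroup.mem_iInf, Set.mem_ofPred_eq]

variable [Finite G] {p : ℕ} [hp : Fact p.Prime]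

theorem IsPGroup.coatom_normal (hG : IsPGroup p G) {M : Subgroup G} (hM : IsCoatom M) : M.Normal := by
  haveI := hG.isNilpotent
  exact Subgroup.NormalizerCondition.normal_of_coatom M Group.normalizerCondition_of_isNilpotent hM

theorem IsPGroup.coatom_card_quotient (hG : IsPGroup p G) {M : Subgroup G} (hM : IsCoatom M)
    [M.Normal] : Nat.card (G ⧸ M) = p := by
  have hQ : IsPGroup p (G ⧸ M) := hG.to_quotient M
  have hnt : Nontrivial (G ⧸ M) := by
    rw [← not_subsingleton_iff_nontrivial]
    intro h
    exact hM.1 (QuotientGroup.subgroup_eq_top_of_subsingleton M h)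
  -- an element of order p in the quotient
  obtain ⟨k, hk⟩ := (IsPGroup.iff_card.mp hQ)
  have hk0 : k ≠ 0 := by
    intro h
    rw [h, pow_zero] at hk
    have := (Nat.card_eq_one_iff_unique.mp hk).1
    exact not_subsingleton (G ⧸ M) this
  have hdvd : p ∣ Nat.card (G ⧸ M) := by rw [hk]; exact dvd_pow_self p hk0
  obtain ⟨y, hy⟩ := exists_prime_orderOf_dvd_card' p hdvd
  -- comap of zpowers y contains M strictly
  have hle : M ≤ (Subgroup.zpowers y).comap (QuotientGroup.mk' M) := by
    intro m hm
    rw [Subgroup.mem_comap]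
    have : QuotientGroup.mk' M m = 1 := (QuotientGroup.eq_one_iff m).mpr hm
    rw [this]; exact Subgroup.one_mem _
  have hne : (Subgroup.zpowers y).comap (QuotientGroup.mk' M) ≠ M := by
    intro h
    obtain ⟨x, rfl⟩ := QuotientGroup.mk'_surjective M y
    have hx : x ∈ (Subgroup.zpowers (QuotientGroup.mk' M x)).comap (QuotientGroup.mk' M) := by
      rw [Subgroup.mem_comap]; exact Subgroup.mem_zpowers _
    rw [h] at hx
    have : QuotientGroup.mk' M x = 1 := (QuotientGroup.eq_one_iff x).mpr hx
    rw [this, orderOf_one] at hy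
    exact hp.out.one_lt.ne hy
  have htop : (Subgroup.zpowers y).comap (QuotientGroup.mk' M) = ⊤ :=
    hM.2 _ (lt_of_le_of_ne hle (Ne.symm hne))
  have hz : Subgroup.zpowers y = ⊤ := by
    rw [eq_top_iff]
    intro z _
    obtain ⟨x, rfl⟩ := QuotientGroup.mk'_surjective M z
    have : x ∈ (Subgroup.zpowers y).comap (QuotientGroup.mk' M) := by rw [htop]; trivial
    exact this
  rw [← hy, ← Nat.card_zpowers, hz, Subgroup.card_top]

theorem IsPGroup.coatom_index (hG : IsPGroup p G) {M : Subgroup G} (hM : IsCoatom M) :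
    M.index = p := by
  haveI := IsPGroup.coatom_normal hG hM
  rw [Subgroup.index_eq_card]; exact IsPGroup.coatom_card_quotient hG hM

theorem IsPGroup.pow_mem_coatom (hG : IsPGroup p G) {M : Subgroup G} (hM : IsCoatom M) (x : G) :
    x ^ p ∈ M := by
  haveI := IsPGroup.coatom_normal hG hM
  have h := IsPGroup.coatom_card_quotient hG hM
  rw [← QuotientGroup.eq_one_iff, QuotientGroup.mk_pow, ← h]
  exact pow_card_eq_one'

theorem IsPGroup.commutator_le_coatom (hG : IsPGroup p G) {M : Subgroup G} (hM : IsCoatom M) :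
    commutator G ≤ M := by
  haveI := IsPGroup.coatom_normal hG hM
  have h := IsPGroup.coatom_card_quotient hG hM
  haveI : IsCyclic (G ⧸ M) := isCyclic_of_prime_card h
  letI : CommGroup (G ⧸ M) := IsCyclic.commGroup
  have := Abelianization.commutator_subset_ker (QuotientGroup.mk' M)
  rwa [QuotientGroup.ker_mk'] at this

theorem IsPGroup.commutator_le_frattini (hG : IsPGroup p G) : commutator G ≤ frattini G :=
  (le_frattini_iff _).mpr fun _ hM => IsPGroup.commutator_le_coatom hG hM

theorem IsPGroup.pow_mem_frattini (hG : IsPGroup p G) (x : G) : x ^ p ∈ frattini G :=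
  (mem_frattini_iff _).mpr fun _ hM => IsPGroup.pow_mem_coatom hG hM x

end

end Cfsg.Agent.Helper1

namespace Cfsg.Agent.Helper1

/-- In a finite commutative group of exponent dividing a prime `p`, the Frattini subgroup is trivial. -/
theorem frattini_eq_bot_of_elementary {Q : Type*} [Group Q] [Finite Q] {p : ℕ} (hp : p.Prime)
    (hcomm : ∀ a b : Q, a * b = b * a) (hexp : ∀ a : Q, a ^ p = 1) : frattini Q = ⊥ := by
  rw [eq_bot_iff]
  intro x hx
  rw [Subgroup.mem_bot]
  by_contra hx1
  -- choose M maximal among subgroups not containing x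
  let S : Set (Subgroup Q) := {K | x ∉ K}
  have hS : S.Nonempty := ⟨⊥, by simpa [S, Subgroup.mem_bot] using hx1⟩
  obtain ⟨M, hMS, hMmax⟩ := wellFounded_gt.has_min S hS
  have hxM : x ∉ M := hMS
  have hcoatom : IsCoatom M := by
    refine ⟨fun h => hxM (h ▸ Subgroup.mem_top x), ?_⟩
    intro K hMK
    have hxK : x ∈ K := by
      by_contra h
      exact hMmax K h hMK
    rw [eq_top_iff]
    intro g _
    by_cases hgM : g ∈ M
    · exact hMK.le hgM
    · have hlt : M < M ⊔ Subgroup.zpowers g := by
        apply lt_of_le_of_ne le_sup_left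
        intro h
        apply hgM
        rw [h]
        exact (le_sup_right : Subgroup.zpowers g ≤ _) (Subgroup.mem_zpowers g)
      have hx' : x ∈ M ⊔ Subgroup.zpowers g := by
        by_contra h
        exact hMmax _ h hlt
      haveI : (Subgroup.zpowers g).Normal := ⟨fun a ha b => by
        have : b * a * b⁻¹ = a := by rw [hcomm b a, mul_inv_cancel_right]
        rw [this]; exact ha⟩
      rw [Subgroup.mem_sup_of_normal_right] at hx'
      obtain ⟨m, hm, z, ⟨k, rfl⟩, hmz⟩ := hx'
      have hgk : g ^ k ∈ K := by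
        have : g ^ k = m⁻¹ * x := by rw [← hmz]; group
        rw [this]
        exact K.mul_mem (K.inv_mem (hMK.le hm)) hxK
      have hpk : ¬ (p : ℤ) ∣ k := by
        rintro ⟨l, rfl⟩
        apply hxM
        rw [← hmz]
        have : g ^ ((p : ℤ) * l) = 1 := by
          rw [zpow_mul, zpow_natCast, hexp, one_zpow]
        simp only at hmz ⊢
        rw [this, mul_one]; exact hm
      have hcop : IsCoprime k (p : ℤ) := by
        have := (Int.isCoprime_iff_gcd_eq_one (m := k) (n := p)).mpr
        apply this
        have hpp : Prime (p : ℤ) := Nat.prime_iff_prime_int.mp hp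
        rw [Int.gcd_comm]
        exact (Int.isCoprime_iff_gcd_eq_one.mp ((Prime.coprime_iff_not_dvd hpp).mpr hpk))
      obtain ⟨a, b, hab⟩ := hcop
      have : g = (g ^ k) ^ a * (g ^ p) ^ b := by
        rw [← zpow_natCast g p, ← zpow_mul, ← zpow_mul, ← zpow_add, mul_comm k a, mul_comm (p : ℤ) b, hab, zpow_one]
      rw [this, hexp, one_zpow, mul_one]
      exact K.zpow_mem hgk a
  exact hxM (frattini_le_coatom hcoatom hx)

end Cfsg.Agent.Helper1
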