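import Mathlib
import Cfsg.Agent.Helper1.FrobeniusConj
import Cfsg.Agent.Lead.CoprimeSylow
import Cfsg.Agent.S0041
import Cfsg.Agent.S0144

/-!
Structure of Frobenius complements: abelian subgroups and subgroups of order `pq` are cyclic.
-/

set_option autoImplicit false

namespace Cfsg.Agent.Helper1

open Pointwise

variable {G : Type*} [Group G]

/-- the complement acts fixed-point-freely on the kernel -/
theorem frob_fpf {H N : Subgroup G} (hH : Cfsg.IsFrobeniusComplement H)
    (hN : (N : Set G) = Cfsg.frobeniusKernel H) :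
    ∀ h ∈ H, h ≠ 1 → N ⊓ Subgroup.centralizer {h} = ⊥ := by
  intro h hh h1
  rw [eq_bot_iff]
  intro x hx
  obtain ⟨hxN, hxC⟩ := Subgroup.mem_inf.mp hx
  rw [Subgroup.mem_centralizer_singleton_iff] at hxC
  have hxH := frob_centralizer_le hH hh h1 hxC
  have hxK : x ∈ Cfsg.frobeniusKernel H := by rw [← hN]; exact hxN
  rw [Subgroup.mem_bot]
  exact frob_kernel_inter hxK hxH

/-- `|H|` and `|G : H|` are coprime -/
theorem frob_coprime [Finite G] {H : Subgroup G} (hH : Cfsg.IsFrobeniusComplement H) :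
    (Nat.card H).Coprime H.index := by
  have h1 := frob_index_mod hH
  have h2 : 1 < Nat.card H := (Subgroup.one_lt_card_iff_ne_bot _).mpr hH.1
  rw [Nat.mod_eq_of_lt h2] at h1
  unfold Nat.Coprime
  rw [Nat.gcd_rec, h1, Nat.gcd_one_left]

/-- the center of a subgroup `Q`, as a subgroup of the ambient group -/
def centerIn (Q : Subgroup G) : Subgroup G := Q ⊓ Subgroup.centralizer (Q : Set G)

theorem centerIn_comm (Q : Subgroup G) : IsMulCommutative (centerIn Q) := by
  refine ⟨⟨fun a b => Subtype.ext ?_⟩⟩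
  have ha := (Subgroup.mem_inf.mp a.2).2
  have hb := (Subgroup.mem_inf.mp b.2).1
  rw [Subgroup.mem_centralizer_iff] at ha
  exact (ha b hb).symm

theorem centerIn_ne_bot [Finite G] {q : ℕ} [Fact q.Prime] {Q : Subgroup G} (hQ : IsPGroup q Q)
    (hQ1 : Q ≠ ⊥) : centerIn Q ≠ ⊥ := by
  have : Nontrivial Q := (Subgroup.nontrivial_iff_ne_bot Q).mpr hQ1
  have hcen := hQ.center_nontrivial
  obtain ⟨c, hc1⟩ := exists_ne (1 : Subgroup.center Q)
  intro hbot
  have hmem : ((c : Q) : G) ∈ centerIn Q := by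
    refine Subgroup.mem_inf.mpr ⟨(c : Q).2, ?_⟩
    rw [Subgroup.mem_centralizer_iff]
    intro y hy
    have := Subgroup.mem_center_iff.mp c.2 ⟨y, hy⟩
    exact congrArg Subtype.val this
  rw [hbot, Subgroup.mem_bot] at hmem
  exact hc1 (Subtype.ext (Subtype.ext hmem))

theorem normalizer_le_normalizer_centerIn (Q : Subgroup G) :
    Subgroup.normalizer (Q : Set G) ≤ Subgroup.normalizer (centerIn Q : Set G) := by
  intro g hg
  rw [Subgroup.mem_normalizer_iff] at hg ⊢
  have hg' : ∀ y, g⁻¹ * y * g ∈ Q ↔ y ∈ Q := by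
    intro y
    have := hg (g⁻¹ * y * g)
    have e : g * (g⁻¹ * y * g) * g⁻¹ = y := by group
    rw [e] at this
    exact this
  intro z
  unfold centerIn
  rw [Subgroup.mem_inf, Subgroup.mem_inf, Subgroup.mem_centralizer_iff,
    Subgroup.mem_centralizer_iff]
  constructor
  · rintro ⟨hz1, hz2⟩
    refine ⟨(hg z).mp hz1, ?_⟩
    intro y hy
    have hy' : g⁻¹ * y * g ∈ Q := (hg' y).mpr hy
    have := hz2 _ hy'
    calc y * (g * z * g⁻¹) = g * ((g⁻¹ * y * g) * z) * g⁻¹ := by group
      _ = g * (z * (g⁻¹ * y * g)) * g⁻¹ := by rw [this]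
      _ = g * z * g⁻¹ * y := by group
  · rintro ⟨hz1, hz2⟩
    refine ⟨(hg z).mpr hz1, ?_⟩
    intro y hy
    have hy' : g * y * g⁻¹ ∈ Q := (hg y).mp hy
    have := hz2 _ hy'
    calc y * z = g⁻¹ * ((g * y * g⁻¹) * (g * z * g⁻¹)) * g := by group
      _ = g⁻¹ * ((g * z * g⁻¹) * (g * y * g⁻¹)) * g := by rw [this]
      _ = z * y := by group

/-- a solvable subgroup of a Frobenius complement normalizes a nontrivial abelian subgroup of the
kernel -/
theorem frob_exists_invariant_abelian [Finite G] {H N : Subgroup G}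
    (hH : Cfsg.IsFrobeniusComplement H) (hN : (N : Set G) = Cfsg.frobeniusKernel H)
    [hNn : N.Normal] (A : Subgroup G) (hAH : A ≤ H) (hAs : Group.IsSolvable A) :
    ∃ V : Subgroup G, IsMulCommutative V ∧ V ≠ ⊥ ∧ V ≤ N ∧
      A ≤ Subgroup.normalizer (V : Set G) := by
  have hcardN : Nat.card N = H.index := by
    rw [← frob_card_kernel hH, ← hN]; rfl
  have hNbot : N ≠ ⊥ := by
    intro h
    rw [h, Subgroup.card_bot] at hcardN
    exact hH.2.1 (Subgroup.index_eq_one.mp hcardN.symm)
  have hcop : (Nat.card A).Coprime (Nat.card N) := by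
    rw [hcardN]
    exact Nat.Coprime.coprime_dvd_left (Subgroup.card_dvd_of_le hAH) (frob_coprime hH)
  have hAN : A ≤ Subgroup.normalizer (N : Set G) := by
    rw [Subgroup.normalizer_eq_top_iff.mpr hNn]; exact le_top
  have hN1 : Nat.card N ≠ 1 := fun h => hNbot (Subgroup.card_eq_one.mp h)
  obtain ⟨r, hr, hrN⟩ := Nat.exists_prime_and_dvd hN1
  have : Fact r.Prime := ⟨hr⟩
  obtain ⟨R, hR⟩ := Cfsg.Agent.Lead.coprime_exists_invariant_sylow A N hAN hcop (Or.inl hAs) r
  set R' : Subgroup G := (R : Subgroup N).map N.subtype with hR'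
  have hR'p : IsPGroup r R' := R.isPGroup'.map N.subtype
  have hR'1 : R' ≠ ⊥ := by
    intro h
    rw [hR', Subgroup.map_eq_bot_iff_of_injective _ N.subtype_injective] at h
    have := R.card_eq_multiplicity
    rw [h, Subgroup.card_bot] at this
    have hpos : 0 < (Nat.card N).factorization r :=
      hr.factorization_pos_of_dvd Nat.card_pos.ne' hrN
    have : 1 < r ^ (Nat.card N).factorization r := Nat.one_lt_pow hpos.ne' hr.one_lt
    omega
  refine ⟨centerIn R', centerIn_comm R', centerIn_ne_bot hR'p hR'1, ?_, ?_⟩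
  · intro x hx
    have := (Subgroup.mem_inf.mp hx).1
    rw [hR'] at this
    obtain ⟨y, -, rfl⟩ := this
    exact y.2
  · exact hR.trans (normalizer_le_normalizer_centerIn R')

/-- abelian subgroups and subgroups of order `pq` of a Frobenius complement are cyclic -/
theorem frob_compl_subgroup_cyclic [Finite G] {H N : Subgroup G}
    (hH : Cfsg.IsFrobeniusComplement H) (hN : (N : Set G) = Cfsg.frobeniusKernel H)
    [hNn : N.Normal] (A : Subgroup G) (hAH : A ≤ H)
    (hA : IsMulCommutative A ∨ ∃ p q : ℕ, p.Prime ∧ q.Prime ∧ Nat.card A = p * q) :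
    IsCyclic A := by
  have hAs : Group.IsSolvable A := by
    rcases hA with hA | ⟨p, q, hp, hq, hcard⟩
    · exact Group.isSolvable_of_comm (fun a b => mul_comm' a b)
    · exact Cfsg.Agent.S0144.result p q 1 1 hp hq (by rw [hcard, pow_one, pow_one])
  obtain ⟨V, hVc, hV1, hVN, hAV⟩ := frob_exists_invariant_abelian hH hN A hAH hAs
  apply Cfsg.Agent.S0041.result A V hV1 hAV _ hA
  intro a ha a1
  rw [eq_bot_iff, ← frob_fpf hH hN a (hAH ha) a1]
  exact inf_le_inf_right _ hVN

end Cfsg.Agent.Helper1
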