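import Mathlib

set_option autoImplicit false

/-! Groups with an abelian subgroup of prime index: `[G : Z(G)] = p * |G'|`. -/

namespace Cfsg.Agent.Helper1.AbIdxP

open Subgroup
open scoped commutatorElement

variable {G : Type*} [Group G]

theorem comm_of_isMulCommutative {H : Subgroup G} (hH : IsMulCommutative H) {x y : G}
    (hx : x ∈ H) (hy : y ∈ H) : x * y = y * x :=
  congrArg Subtype.val (hH.is_comm.comm (⟨x, hx⟩ : H) ⟨y, hy⟩)

/-- If `H` is abelian, `b` centralizes `H` and `H ⊔ zpowers b = ⊤` then `G` is commutative. -/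
theorem center_eq_top_of_sup_zpowers (H : Subgroup G) (hH : IsMulCommutative H) (b : G)
    (hb : ∀ x ∈ H, x * b = b * x) (hsup : H ⊔ zpowers b = ⊤) : center G = ⊤ := by
  have key : ∀ x : G, (∀ y ∈ H, y * x = x * y) → b * x = x * b → x ∈ center G := by
    intro x hxH hxb
    have : centralizer {x} = ⊤ := by
      rw [eq_top_iff, ← hsup, sup_le_iff]
      constructor
      · intro y hy
        rw [mem_centralizer_singleton_iff]
        exact hxH y hy
      · rw [zpowers_le, mem_centralizer_singleton_iff]
        exact hxb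
    rw [mem_center_iff]
    intro g
    have hg : g ∈ centralizer {x} := this ▸ mem_top g
    rw [mem_centralizer_singleton_iff] at hg
    exact hg
  rw [eq_top_iff, ← hsup, sup_le_iff]
  constructor
  · intro x hx
    exact key x (fun y hy => comm_of_isMulCommutative hH hy hx) (hb x hx).symm
  · rw [zpowers_le]
    exact key b hb rfl

theorem comm_of_center_eq_top (h : center G = ⊤) (x y : G) : x * y = y * x := by
  have hy : y ∈ center G := h ▸ mem_top y
  exact (mem_center_iff.mp hy x)

/-- A subgroup of prime index is maximal: any `K` not contained in it joins with it to `⊤`. -/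
theorem sup_eq_top_of_index_prime {A K : Subgroup G} {p : ℕ} (hp : p.Prime) (hAi : A.index = p)
    (hK : ¬ K ≤ A) : A ⊔ K = ⊤ := by
  have hdvd : (A ⊔ K).index ∣ p := hAi ▸ index_dvd_of_le le_sup_left
  rcases (Nat.dvd_prime hp).mp hdvd with h1 | h1
  · exact index_eq_one.mp h1
  · exfalso
    apply hK
    have h2 := relIndex_mul_index (le_sup_left : A ≤ A ⊔ K)
    rw [h1, hAi] at h2
    have h3 : A.relIndex (A ⊔ K) = 1 := by
      have := hp.pos
      nlinarith
    exact le_trans le_sup_right (relIndex_eq_one.mp h3)


/-- With an abelian subgroup of prime index in a non-abelian group, the centre lies inside it. -/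
theorem center_le_of_index_prime {A : Subgroup G} (hA : IsMulCommutative A) {p : ℕ} (hp : p.Prime)
    (hAi : A.index = p) (hna : center G ≠ ⊤) : center G ≤ A := by
  by_contra hK
  have hsup := sup_eq_top_of_index_prime hp hAi hK
  apply hna
  have hA' : A ≤ center G := by
    intro x hx
    have : centralizer {x} = ⊤ := by
      rw [eq_top_iff, ← hsup, sup_le_iff]
      refine ⟨fun y hy => ?_, fun y hy => ?_⟩
      · rw [mem_centralizer_singleton_iff]; exact comm_of_isMulCommutative hA hy hx
      · rw [mem_centralizer_singleton_iff]; exact (mem_center_iff.mp hy x).symm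
    rw [mem_center_iff]
    intro g
    have hg : g ∈ centralizer {x} := this ▸ mem_top g
    rw [mem_centralizer_singleton_iff] at hg
    exact hg
  rw [eq_top_iff, ← hsup]
  exact sup_le hA' le_rfl

/-- Two distinct abelian subgroups of prime index `p` intersect in the centre. -/
theorem inf_le_center_of_index_prime {A B : Subgroup G} (hA : IsMulCommutative A)
    (hB : IsMulCommutative B) {p : ℕ} (hp : p.Prime) (hAi : A.index = p) (hBA : ¬ B ≤ A) :
    A ⊓ B ≤ center G := by
  have hsup := sup_eq_top_of_index_prime hp hAi hBA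
  intro x hx
  have : centralizer {x} = ⊤ := by
    rw [eq_top_iff, ← hsup, sup_le_iff]
    refine ⟨fun y hy => ?_, fun y hy => ?_⟩
    · rw [mem_centralizer_singleton_iff]; exact comm_of_isMulCommutative hA hy hx.1
    · rw [mem_centralizer_singleton_iff]; exact comm_of_isMulCommutative hB hy hx.2
  rw [mem_center_iff]
  intro g
  have hg : g ∈ centralizer {x} := this ▸ mem_top g
  rw [mem_centralizer_singleton_iff] at hg
  exact hg

/-- Main count: `|A| = |Z(G)| * |G'|` for an abelian normal subgroup `A` of prime index in a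
non-abelian finite group. -/
theorem card_eq_card_center_mul_card_commutator [Finite G] {A : Subgroup G}
    (hA : IsMulCommutative A) [hAn : A.Normal] {p : ℕ} (hp : p.Prime) (hAi : A.index = p)
    (hna : center G ≠ ⊤) :
    Nat.card A = Nat.card (center G) * Nat.card (commutator G) := by
  have hAtop : A ≠ ⊤ := by
    intro h
    rw [h, index_top] at hAi
    exact hp.one_lt.ne hAi
  obtain ⟨b, hbA⟩ : ∃ b, b ∉ A := by
    by_contra h
    push Not at h
    exact hAtop (eq_top_iff.mpr fun x _ => h x)
  have hsup : A ⊔ zpowers b = ⊤ :=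
    sup_eq_top_of_index_prime hp hAi (by rw [zpowers_le]; exact hbA)
  have hZA : center G ≤ A := center_le_of_index_prime hA hp hAi hna
  have hconj : ∀ x ∈ A, b * x * b⁻¹ ∈ A := fun x hx => hAn.conj_mem x hx b
  have hconj' : ∀ x ∈ A, b⁻¹ * x * b ∈ A := fun x hx => by
    have := hAn.conj_mem x hx b⁻¹
    rwa [inv_inv] at this
  -- the commutator homomorphism
  let φ : A →* A := MonoidHom.mk'
    (fun x => ⟨x * (b * (x : G)⁻¹ * b⁻¹), A.mul_mem x.2 (hconj _ (A.inv_mem x.2))⟩) (by
      intro x y
      apply Subtype.ext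
      have hu : b * (x : G)⁻¹ * b⁻¹ ∈ A := hconj _ (A.inv_mem x.2)
      have hv : b * (y : G)⁻¹ * b⁻¹ ∈ A := hconj _ (A.inv_mem y.2)
      have h1 := comm_of_isMulCommutative hA hv hu
      have h2 := comm_of_isMulCommutative hA y.2 hu
      show (x : G) * y * (b * ((x : G) * y)⁻¹ * b⁻¹)
        = x * (b * (x : G)⁻¹ * b⁻¹) * (y * (b * (y : G)⁻¹ * b⁻¹))
      have e : b * ((x : G) * y)⁻¹ * b⁻¹ = (b * (y : G)⁻¹ * b⁻¹) * (b * (x : G)⁻¹ * b⁻¹) := by
        group
      rw [e, h1]
      generalize b * (x : G)⁻¹ * b⁻¹ = u at *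
      generalize b * (y : G)⁻¹ * b⁻¹ = v at *
      calc (x : G) * y * (u * v) = x * (y * u) * v := by group
        _ = x * (u * y) * v := by rw [h2]
        _ = x * u * (y * v) := by group)
  have hφ : ∀ x : A, ((φ x : A) : G) = x * (b * (x : G)⁻¹ * b⁻¹) := fun x => rfl
  -- kernel
  have hker : φ.ker = (center G).subgroupOf A := by
    ext x
    rw [MonoidHom.mem_ker, mem_subgroupOf, Subtype.ext_iff, hφ, coe_one]
    constructor
    · intro h
      have hxb : (x : G) * b = b * x := by
        have : (x : G) * (b * (x : G)⁻¹ * b⁻¹) * (b * x) = b * x := by rw [h, one_mul]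
        rw [← this]; group
      have hcen : centralizer {(x : G)} = ⊤ := by
        rw [eq_top_iff, ← hsup, sup_le_iff]
        refine ⟨fun y hy => ?_, ?_⟩
        · rw [mem_centralizer_singleton_iff]; exact comm_of_isMulCommutative hA hy x.2
        · rw [zpowers_le, mem_centralizer_singleton_iff]; exact hxb.symm
      rw [mem_center_iff]
      intro g
      have hg : g ∈ centralizer {(x : G)} := hcen ▸ mem_top g
      rw [mem_centralizer_singleton_iff] at hg
      exact hg
    · intro h
      have := mem_center_iff.mp h b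
      calc (x : G) * (b * (x : G)⁻¹ * b⁻¹) = (x * b) * (x : G)⁻¹ * b⁻¹ := by group
        _ = (b * x) * (x : G)⁻¹ * b⁻¹ := by rw [this]
        _ = 1 := by group
  -- range
  set R : Subgroup G := φ.range.map A.subtype with hR
  have hRA : R ≤ A := map_subtype_le _
  have hRmem : ∀ x ∈ A, x * (b * x⁻¹ * b⁻¹) ∈ R := by
    intro x hx
    exact ⟨φ ⟨x, hx⟩, ⟨⟨x, hx⟩, rfl⟩, rfl⟩
  have hRmem' : ∀ r ∈ R, ∃ x ∈ A, r = x * (b * x⁻¹ * b⁻¹) := by
    rintro r ⟨y, ⟨x, rfl⟩, rfl⟩
    exact ⟨x, x.2, rfl⟩
  have hRle : R ≤ commutator G := by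
    intro r hr
    obtain ⟨x, -, rfl⟩ := hRmem' r hr
    rw [commutator_def]
    have : x * (b * x⁻¹ * b⁻¹) = ⁅x, b⁆ := by rw [commutatorElement_def]; group
    rw [this]
    exact commutator_mem_commutator (mem_top x) (mem_top b)
  have hRn : R.Normal := by
    rw [← normalizer_eq_top_iff, eq_top_iff, ← hsup, sup_le_iff]
    constructor
    · intro a ha
      rw [mem_normalizer_iff]
      intro h
      constructor
      · intro hh
        have : a * h * a⁻¹ = h := by
          rw [comm_of_isMulCommutative hA ha (hRA hh)]; group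
        rwa [this]
      · intro hh
        have hhA : h ∈ A := by
          have : h = a⁻¹ * (a * h * a⁻¹) * a := by group
          rw [this]
          exact A.mul_mem (A.mul_mem (A.inv_mem ha) (hRA hh)) ha
        have : a * h * a⁻¹ = h := by
          rw [comm_of_isMulCommutative hA ha hhA]; group
        rwa [this] at hh
    · rw [zpowers_le, mem_normalizer_iff]
      intro h
      constructor
      · intro hh
        obtain ⟨x, hx, rfl⟩ := hRmem' h hh
        have := hRmem (b * x * b⁻¹) (hconj x hx)
        have e : b * (x * (b * x⁻¹ * b⁻¹)) * b⁻¹ = b * x * b⁻¹ * (b * (b * x * b⁻¹)⁻¹ * b⁻¹) := by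
          group
        rwa [e]
      · intro hh
        obtain ⟨x, hx, hxe⟩ := hRmem' _ hh
        have := hRmem (b⁻¹ * x * b) (hconj' x hx)
        have e : h = b⁻¹ * x * b * (b * (b⁻¹ * x * b)⁻¹ * b⁻¹) := by
          have : h = b⁻¹ * (b * h * b⁻¹) * b := by group
          rw [this, hxe]; group
        rwa [e]
  have hcommle : commutator G ≤ R := by
    rw [← Subgroup.Normal.quotient_commutative_iff_commutator_le]
    have hAq : IsMulCommutative (A.map (QuotientGroup.mk' R)) := inferInstance
    have hcen := center_eq_top_of_sup_zpowers (A.map (QuotientGroup.mk' R)) hAq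
      (QuotientGroup.mk' R b) (by
        rintro _ ⟨x, hx, rfl⟩
        rw [← commutatorElement_eq_one_iff_mul_comm, ← map_commutatorElement,
          QuotientGroup.mk'_apply, QuotientGroup.eq_one_iff]
        have : ⁅x, b⁆ = x * (b * x⁻¹ * b⁻¹) := by rw [commutatorElement_def]; group
        rw [this]
        exact hRmem x hx) (by
        rw [← MonoidHom.map_zpowers, ← Subgroup.map_sup, hsup, ← MonoidHom.range_eq_map,
          MonoidHom.range_eq_top]
        exact QuotientGroup.mk'_surjective R)
    exact ⟨⟨fun x y => comm_of_center_eq_top hcen x y⟩⟩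
  have hReq : R = commutator G := le_antisymm hRle hcommle
  -- counting
  have h1 : Nat.card φ.ker * Nat.card φ.range = Nat.card A := by
    rw [← Subgroup.index_ker, Subgroup.card_mul_index]
  have h2 : Nat.card φ.ker = Nat.card (center G) := by
    rw [hker]
    exact Nat.card_congr (subgroupOfEquivOfLe hZA).toEquiv
  have h3 : Nat.card φ.range = Nat.card (commutator G) := by
    rw [← hReq, hR, Subgroup.card_subtype]
  rw [← h1, h2, h3]


/-- In a group of order `p²` and exponent `p` there are exactly `p + 1` subgroups of index `p`. -/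
theorem card_subgroups_index_p {Q : Type*} [Group Q] [Finite Q] {p : ℕ} (hp : p.Prime)
    (hQ : Nat.card Q = p ^ 2) (hexp : ∀ a : Q, a ^ p = 1) :
    Nat.card {C : Subgroup Q // C.index = p} = p + 1 := by
  classical
  have hcardC : ∀ C : Subgroup Q, C.index = p → Nat.card C = p := by
    intro C hC
    have := C.card_mul_index
    rw [hC, hQ, pow_two] at this
    exact Nat.eq_of_mul_eq_mul_right hp.pos this
  have hord : ∀ a : Q, a ≠ 1 → orderOf a = p := by
    intro a ha
    rcases (Nat.dvd_prime hp).mp (orderOf_dvd_of_pow_eq_one (hexp a)) with h | h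
    · exact absurd (orderOf_eq_one_iff.mp h) ha
    · exact h
  have hidx : ∀ a : Q, a ≠ 1 → (zpowers a).index = p := by
    intro a ha
    have := (zpowers a).card_mul_index
    rw [Nat.card_zpowers, hord a ha, hQ, pow_two] at this
    exact Nat.eq_of_mul_eq_mul_left hp.pos this
  haveI : Fintype Q := Fintype.ofFinite Q
  haveI : Fintype (Subgroup Q) := Fintype.ofFinite _
  let s : Finset Q := Finset.univ.erase 1
  let t : Finset (Subgroup Q) := Finset.univ.filter (fun C => C.index = p)
  have hmaps : Set.MapsTo (fun a => zpowers a) (s : Set Q) (t : Set (Subgroup Q)) := by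
    intro a ha
    have ha' : a ≠ 1 := by simpa [s] using ha
    simpa [t] using hidx a ha'
  have hcount := Finset.card_eq_sum_card_fiberwise hmaps
  have hfib : ∀ C ∈ t, (s.filter (fun a => zpowers a = C)).card = p - 1 := by
    intro C hC
    have hCi : C.index = p := by simpa [t] using hC
    have : s.filter (fun a => zpowers a = C) = (Finset.univ.filter (· ∈ C)).erase 1 := by
      ext a
      simp only [s, Finset.mem_filter, Finset.mem_erase, Finset.mem_univ, and_true, true_and]
      constructor
      · rintro ⟨ha, rfl⟩; exact ⟨ha, mem_zpowers a⟩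
      · rintro ⟨ha, haC⟩
        refine ⟨ha, ?_⟩
        apply Subgroup.eq_of_le_of_card_ge (zpowers_le.mpr haC)
        rw [hcardC C hCi, Nat.card_zpowers, hord a ha]
    rw [this, Finset.card_erase_of_mem (by simp [C.one_mem])]
    have : (Finset.univ.filter (· ∈ C)).card = Nat.card C := by
      rw [Nat.card_eq_fintype_card, Fintype.card_subtype]
    rw [this, hcardC C hCi]
  rw [Finset.sum_congr rfl hfib, Finset.sum_const, smul_eq_mul] at hcount
  have hs : s.card = p ^ 2 - 1 := by
    rw [Finset.card_erase_of_mem (Finset.mem_univ _), Finset.card_univ, ← Nat.card_eq_fintype_card,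
      hQ]
  have ht : Nat.card {C : Subgroup Q // C.index = p} = t.card := by
    rw [Nat.card_eq_fintype_card, Fintype.card_subtype]
  rw [ht]
  rw [hs] at hcount
  have hp2 := hp.two_le
  have h1 : p ^ 2 - 1 = (p + 1) * (p - 1) := by
    obtain ⟨k, rfl⟩ : ∃ k, p = k + 1 := ⟨p - 1, by omega⟩
    simp only [Nat.add_sub_cancel]
    have : (k + 1) ^ 2 = (k + 1 + 1) * k + 1 := by ring
    rw [this, Nat.add_sub_cancel]
  rw [h1] at hcount
  exact (Nat.eq_of_mul_eq_mul_right (by omega) hcount).symm

end Cfsg.Agent.Helper1.AbIdxP
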