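import Mathlib
import Cfsg.Agent.Helper1.PGroup
import Cfsg.Agent.Helper20.NonCyclic
import Cfsg.Agent.Helper23.PGroup
import Cfsg.Agent.Helper23.Cyclic
import Cfsg.Agent.Helper2.QuaternionLift

/-!
# Finite `p`-groups with a unique subgroup of order `p`

Such a group is cyclic, or `p = 2` and it is generalized quaternion.
-/

set_option autoImplicit false

namespace Cfsg.Agent.Helper1

universe u

/-- at most one subgroup of order `p` -/
def UniqP (p : ℕ) (G : Type*) [Group G] : Prop :=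
  ∀ H K : Subgroup G, Nat.card H = p → Nat.card K = p → H = K

section basics

variable {G : Type*} [Group G]

theorem UniqP.subgroup {p : ℕ} (h : UniqP p G) (H : Subgroup G) : UniqP p H := by
  intro K₁ K₂ h₁ h₂
  have hinj : Function.Injective H.subtype := H.subtype_injective
  apply Subgroup.map_injective hinj
  apply h
  · rw [Subgroup.card_map_of_injective hinj]; exact h₁
  · rw [Subgroup.card_map_of_injective hinj]; exact h₂

/-- all solutions of `g ^ p = 1` lie in one subgroup of order at most `p` -/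
theorem UniqP.exists_subgroup {p : ℕ} [hp : Fact p.Prime] (h : UniqP p G) :
    ∃ P : Subgroup G, Nat.card P ≤ p ∧ ∀ g : G, g ^ p = 1 → g ∈ P := by
  by_cases hex : ∃ g : G, g ≠ 1 ∧ g ^ p = 1
  · obtain ⟨g₀, hg₀, hg₀p⟩ := hex
    have ho : orderOf g₀ = p := orderOf_eq_prime hg₀p hg₀
    refine ⟨Subgroup.zpowers g₀, by rw [Nat.card_zpowers, ho], ?_⟩
    intro g hg
    by_cases hg1 : g = 1
    · rw [hg1]; exact Subgroup.one_mem _
    · have ho' : orderOf g = p := orderOf_eq_prime hg hg1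
      have := h (Subgroup.zpowers g) (Subgroup.zpowers g₀) (by rw [Nat.card_zpowers, ho'])
        (by rw [Nat.card_zpowers, ho])
      rw [← this]; exact Subgroup.mem_zpowers g
  · push Not at hex
    refine ⟨⊥, by rw [Subgroup.card_bot]; exact hp.out.one_lt.le, ?_⟩
    intro g hg
    have hg1 : g = 1 := by
      by_contra h1
      exact hex g h1 hg
    rw [hg1]; exact Subgroup.one_mem _

end basics

section comm

open Cfsg.Agent.Helper20 in
/-- the commutative case -/
theorem UniqP.isCyclic_of_commGroup {G : Type u} [CommGroup G] [Finite G] {p : ℕ}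
    [hp : Fact p.Prime] (hG : IsPGroup p G) (h : UniqP p G) : IsCyclic G := by
  classical
  by_contra hnc
  have : Fintype G := Fintype.ofFinite G
  obtain ⟨r, hr, hlt⟩ := exists_prime_tors_gt hnc
  have hle : tors G r ≤ r := by
    unfold tors
    by_cases hrp : r = p
    · subst hrp
      obtain ⟨P, hP, hmem⟩ := h.exists_subgroup
      refine le_trans ?_ hP
      rw [← Fintype.card_subtype, ← Nat.card_eq_fintype_card]
      exact Nat.card_le_card_of_injective (fun a : {a : G // a ^ r = 1} => (⟨a.1, hmem a.1 a.2⟩ : P))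
        (fun a b hab => Subtype.ext (congrArg (fun z : P => (z : G)) hab))
    · have hsub : Finset.univ.filter (fun a : G => a ^ r = 1) ⊆ {1} := by
        intro a ha
        simp only [Finset.mem_filter, Finset.mem_univ, true_and] at ha
        rw [Finset.mem_singleton]
        obtain ⟨k, hk⟩ := hG a
        have hd1 : orderOf a ∣ r := orderOf_dvd_of_pow_eq_one ha
        have hd2 : orderOf a ∣ p ^ k := orderOf_dvd_of_pow_eq_one hk
        have hcop : Nat.Coprime r (p ^ k) :=
          Nat.Coprime.pow_right k ((Nat.coprime_primes hr hp.out).mpr hrp)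
        have := Nat.eq_one_of_dvd_coprimes hcop hd1 hd2
        exact orderOf_eq_one_iff.mp this
      calc (Finset.univ.filter (fun a : G => a ^ r = 1)).card ≤ ({1} : Finset G).card :=
            Finset.card_le_card hsub
        _ = 1 := Finset.card_singleton 1
        _ ≤ r := hr.one_lt.le
  omega

/-- the commutative case, `IsMulCommutative` form -/
theorem UniqP.isCyclic_of_isMulCommutative {G : Type u} [Group G] [Finite G] [hc : IsMulCommutative G]
    {p : ℕ} [hp : Fact p.Prime] (hG : IsPGroup p G) (h : UniqP p G) : IsCyclic G := by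
  let _ : CommGroup G := { (inferInstance : Group G) with mul_comm := fun a b => mul_comm' a b }
  exact UniqP.isCyclic_of_commGroup hG h

end comm

section chain

variable {G : Type*} [Group G] [Finite G]

open Cfsg.Agent.Helper23 in
theorem le_of_card_le_of_isCyclic_isPGroup {p : ℕ} [hp : Fact p.Prime]
    (P : Subgroup G) (hcyc : IsCyclic P) (hP : IsPGroup p P) (K L : Subgroup G) (hK : K ≤ P)
    (hL : L ≤ P) (hcard : Nat.card K ≤ Nat.card L) : K ≤ L := by
  obtain ⟨i, hi⟩ := IsPGroup.iff_card.mp (hP.to_le hK)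
  obtain ⟨j, hj⟩ := IsPGroup.iff_card.mp (hP.to_le hL)
  have hij : i ≤ j := by
    rw [hi, hj] at hcard
    exact (Nat.pow_le_pow_iff_right hp.out.one_lt).mp hcard
  have hdvd : p ^ i ∣ Nat.card L := by rw [hj]; exact pow_dvd_pow p hij
  obtain ⟨K'', hK''⟩ := Sylow.exists_subgroup_card_pow_prime p hdvd
  have hK'L : K''.map L.subtype ≤ L := Subgroup.map_subtype_le K''
  have hK'card : Nat.card (K''.map L.subtype) = Nat.card K := by
    rw [Subgroup.card_map_of_injective L.subtype_injective, hK'', hi]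
  have := eq_of_card_eq_of_isCyclic P hcyc (K''.map L.subtype) K (hK'L.trans hL) hK hK'card
  rw [← this]; exact hK'L

/-- the subgroups of a cyclic `p`-group form a chain -/
theorem le_total_of_isCyclic_isPGroup {p : ℕ} [hp : Fact p.Prime]
    (P : Subgroup G) (hcyc : IsCyclic P) (hP : IsPGroup p P) (K L : Subgroup G) (hK : K ≤ P)
    (hL : L ≤ P) : K ≤ L ∨ L ≤ K := by
  rcases le_total (Nat.card K) (Nat.card L) with h | h
  · exact Or.inl (le_of_card_le_of_isCyclic_isPGroup P hcyc hP K L hK hL h)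
  · exact Or.inr (le_of_card_le_of_isCyclic_isPGroup P hcyc hP L K hL hK h)

end chain

section key

variable {G : Type*} [Group G] [Finite G]

/-- Key lemma for `p = 2`: if all involutions of the `2`-group `G` lie in the cyclic subgroup `A`,
and `x ∉ A` normalizes but does not centralize `A`, with `x ^ 2 ∈ A`, then `x` inverts `A` and
`x ^ 2` is an involution. -/
theorem invert_of_unique_involution (hG : IsPGroup 2 G) (A : Subgroup G) (hcyc : IsCyclic A)
    (x : G) (hxA : x ∉ A) (hx2 : x ^ 2 ∈ A)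
    (hnorm : ∀ b ∈ A, x⁻¹ * b * x ∈ A) (hnc : ∃ b ∈ A, x⁻¹ * b * x ≠ b)
    (hinv : ∀ g : G, g ^ 2 = 1 → g ∈ A) :
    (∀ b ∈ A, x⁻¹ * b * x = b⁻¹) ∧ x ^ 2 ≠ 1 ∧ x ^ 4 = 1 := by
  have hcomm : ∀ b ∈ A, ∀ c ∈ A, b * c = c * b := by
    obtain ⟨a, ha⟩ := (Subgroup.isCyclic_iff_exists_zpowers_eq_top A).mp hcyc
    intro b hb c hc
    rw [← ha] at hb hc
    obtain ⟨i, rfl⟩ := hb
    obtain ⟨j, rfl⟩ := hc
    exact (Commute.zpow_zpow_self a i j).eq
  -- the norm map
  set N : G → G := fun b => x⁻¹ * b * x * b with hN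
  have hN_mem : ∀ b ∈ A, N b ∈ A := fun b hb => A.mul_mem (hnorm b hb) hb
  have hN_mul : ∀ b ∈ A, ∀ c ∈ A, N (b * c) = N b * N c := by
    intro b hb c hc
    simp only [hN]
    have h1 := hcomm b hb (x⁻¹ * c * x) (hnorm c hc)
    calc x⁻¹ * (b * c) * x * (b * c) = x⁻¹ * b * x * (x⁻¹ * c * x * b) * c := by group
      _ = x⁻¹ * b * x * (b * (x⁻¹ * c * x)) * c := by rw [h1]
      _ = x⁻¹ * b * x * b * (x⁻¹ * c * x * c) := by group
  have hsq : ∀ b : G, (x * b) ^ 2 = x ^ 2 * N b := by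
    intro b; simp only [hN]; rw [pow_two, pow_two]; group
  have hne : ∀ b ∈ A, x ^ 2 * N b ≠ 1 := by
    intro b hb h
    rw [← hsq] at h
    have := hinv _ h
    apply hxA
    have h2 : x = x * b * b⁻¹ := by group
    rw [h2]; exact A.mul_mem this (A.inv_mem hb)
  -- the centralizer of `x` in `A`
  set C : Subgroup G := A ⊓ Subgroup.centralizer {x} with hC
  have hC_mem : ∀ c, c ∈ C ↔ c ∈ A ∧ x⁻¹ * c * x = c := by
    intro c
    rw [hC, Subgroup.mem_inf, Subgroup.mem_centralizer_iff]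
    constructor
    · rintro ⟨h1, h2⟩
      refine ⟨h1, ?_⟩
      have := h2 x rfl
      rw [mul_assoc, ← this]; group
    · rintro ⟨h1, h2⟩
      refine ⟨h1, ?_⟩
      intro y hy
      rw [Set.mem_singleton_iff] at hy
      subst hy
      calc y * c = y * (y⁻¹ * c * y) := by rw [h2]
        _ = c * y := by group
  have hCA : C ≤ A := inf_le_left
  have hN_C : ∀ c ∈ C, N c = c ^ 2 := by
    intro c hc
    simp only [hN]
    rw [((hC_mem c).mp hc).2, pow_two]
  have hx2C : x ^ 2 ∈ C := (hC_mem _).mpr ⟨hx2, by group⟩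
  have hN_memC : ∀ b ∈ A, N b ∈ C := by
    intro b hb
    rw [hC_mem]
    refine ⟨hN_mem b hb, ?_⟩
    simp only [hN]
    have h1 : (x ^ 2)⁻¹ * b * x ^ 2 = b := by
      have := hcomm b hb (x ^ 2) hx2
      rw [mul_assoc, this]; group
    have h2 := hcomm b hb (x⁻¹ * b * x) (hnorm b hb)
    calc x⁻¹ * (x⁻¹ * b * x * b) * x = ((x ^ 2)⁻¹ * b * x ^ 2) * (x⁻¹ * b * x) := by group
      _ = b * (x⁻¹ * b * x) := by rw [h1]
      _ = x⁻¹ * b * x * b := h2
  -- `C` is cyclic
  have hCcyc : IsCyclic C := Subgroup.isCyclic_of_le hCA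
  obtain ⟨c₀, hc₀⟩ := (Subgroup.isCyclic_iff_exists_zpowers_eq_top C).mp hCcyc
  have hc₀C : c₀ ∈ C := by rw [← hc₀]; exact Subgroup.mem_zpowers c₀
  have hzpC : ∀ k : ℤ, c₀ ^ k ∈ C := fun k => C.zpow_mem hc₀C k
  have hN_zp : ∀ k : ℤ, N (c₀ ^ k) = c₀ ^ (2 * k) := by
    intro k
    rw [hN_C _ (hzpC k), ← zpow_natCast, ← zpow_mul, mul_comm]; rfl
  -- every norm is the norm of an element of `C`
  have hkey : ∀ b ∈ A, ∃ c ∈ C, N b = N c := by
    intro b hb
    have hNb : N b ∈ Subgroup.zpowers c₀ := by rw [hc₀]; exact hN_memC b hb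
    obtain ⟨k, hk⟩ := hNb
    have hx2' : (x ^ 2)⁻¹ ∈ Subgroup.zpowers c₀ := by rw [hc₀]; exact C.inv_mem hx2C
    obtain ⟨l, hl⟩ := hx2'
    rcases Int.even_or_odd' k with ⟨q, hq | hq⟩
    · refine ⟨c₀ ^ q, hzpC q, ?_⟩
      rw [hN_zp, ← hq]; exact hk.symm
    · exfalso
      rcases Int.even_or_odd' l with ⟨q', hq' | hq'⟩
      · apply hne (c₀ ^ q') (hCA (hzpC q'))
        rw [hN_zp, ← hq']
        show x ^ 2 * c₀ ^ l = 1
        have : c₀ ^ l = (x ^ 2)⁻¹ := hl
        rw [this]; group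
      · apply hne (c₀ ^ (q' - q) * b) (A.mul_mem (hCA (hzpC _)) hb)
        rw [hN_mul _ (hCA (hzpC _)) _ hb, hN_zp]
        have h1 : N b = c₀ ^ k := hk.symm
        rw [h1, ← zpow_add]
        have h2 : 2 * (q' - q) + k = l := by omega
        rw [h2]
        have : c₀ ^ l = (x ^ 2)⁻¹ := hl
        rw [this]; group
  -- the subgroup of inverted elements
  let I : Subgroup G :=
    { carrier := {b | b ∈ A ∧ x⁻¹ * b * x = b⁻¹}
      one_mem' := ⟨A.one_mem, by group⟩
      mul_mem' := by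
        rintro b c ⟨hb, hb'⟩ ⟨hc, hc'⟩
        refine ⟨A.mul_mem hb hc, ?_⟩
        have h1 : x⁻¹ * (b * c) * x = (x⁻¹ * b * x) * (x⁻¹ * c * x) := by group
        rw [h1, hb', hc', mul_inv_rev]
        exact hcomm _ (A.inv_mem hb) _ (A.inv_mem hc)
      inv_mem' := by
        rintro b ⟨hb, hb'⟩
        refine ⟨A.inv_mem hb, ?_⟩
        have h1 : x⁻¹ * b⁻¹ * x = (x⁻¹ * b * x)⁻¹ := by group
        rw [h1, hb'] }
  have hI_mem : ∀ b, b ∈ I ↔ b ∈ A ∧ x⁻¹ * b * x = b⁻¹ := fun b => Iff.rfl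
  have hIA : I ≤ A := fun b hb => hb.1
  have hdecomp : ∀ b ∈ A, ∃ c ∈ C, b * c⁻¹ ∈ I := by
    intro b hb
    obtain ⟨c, hc, hbc⟩ := hkey b hb
    refine ⟨c, hc, A.mul_mem hb (A.inv_mem (hCA hc)), ?_⟩
    have h1 : N (b * c⁻¹) = 1 := by
      rw [hN_mul b hb _ (A.inv_mem (hCA hc)), hbc, hN_C c hc, hN_C _ (C.inv_mem hc)]
      group
    simp only [hN] at h1
    exact eq_inv_of_mul_eq_one_left h1
  have hAI : A ≤ I := by
    rcases le_total_of_isCyclic_isPGroup (p := 2) A hcyc (hG.to_subgroup A) C I hCA hIA with h | h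
    · intro b hb
      obtain ⟨c, hc, hbc⟩ := hdecomp b hb
      have : b = b * c⁻¹ * c := by group
      rw [this]; exact I.mul_mem hbc (h hc)
    · exfalso
      obtain ⟨b, hb, hbx⟩ := hnc
      apply hbx
      obtain ⟨c, hc, hbc⟩ := hdecomp b hb
      have : b = b * c⁻¹ * c := by group
      have hbC : b ∈ C := by rw [this]; exact C.mul_mem (h hbc) hc
      exact ((hC_mem b).mp hbC).2
  have hinvert : ∀ b ∈ A, x⁻¹ * b * x = b⁻¹ := fun b hb => (hAI hb).2
  have hx21 : x ^ 2 ≠ 1 := fun h => hxA (hinv x h)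
  refine ⟨hinvert, hx21, ?_⟩
  have h1 := hinvert _ hx2
  have h2 : x⁻¹ * x ^ 2 * x = x ^ 2 := by group
  rw [h2] at h1
  calc x ^ 4 = x ^ 2 * x ^ 2 := by group
    _ = x ^ 2 * (x ^ 2)⁻¹ := by rw [← h1]
    _ = 1 := mul_inv_cancel _

end key

section two

variable {G : Type*} [Group G] [Finite G]

omit [Finite G] in
theorem pow_half_orderOf {g : G} {k : ℕ} (h : orderOf g = 2 ^ (k + 1)) :
    (g ^ 2 ^ k) ^ 2 = 1 ∧ g ^ 2 ^ k ≠ 1 := by
  constructor
  · rw [← pow_mul, ← pow_succ, ← h]; exact pow_orderOf_eq_one g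
  · apply pow_ne_one_of_lt_orderOf (by positivity)
    rw [h]; exact Nat.pow_lt_pow_right (by norm_num) (Nat.lt_succ_self k)

/-- the case `p = 2` -/
theorem UniqP.two_case (hG : IsPGroup 2 G) (h : UniqP 2 G) :
    IsCyclic G ∨ ∃ n : ℕ, Nonempty (G ≃* QuaternionGroup (2 ^ n)) := by
  have : Fact (Nat.Prime 2) := ⟨Nat.prime_two⟩
  obtain ⟨A, hAn, hAc, hCA⟩ := Cfsg.Agent.Helper23.exists_normal_abelian_centralizer_le hG
  have hAcyc : IsCyclic A :=
    UniqP.isCyclic_of_isMulCommutative (hG.to_subgroup A) (h.subgroup A)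
  by_cases hAtop : A = ⊤
  · left
    subst hAtop
    exact isCyclic_of_surjective (Subgroup.topEquiv : (⊤ : Subgroup G) ≃* G)
      Subgroup.topEquiv.surjective
  right
  have hAbot : A ≠ ⊥ := by
    intro hb
    apply hAtop
    rw [eq_top_iff]
    refine le_trans ?_ hCA
    rw [hb]
    intro g _
    rw [Subgroup.mem_centralizer_iff]
    intro y hy
    rw [Subgroup.coe_bot, Set.mem_singleton_iff] at hy
    rw [hy, one_mul, mul_one]
  -- the involution
  have h2dvd : 2 ∣ Nat.card A := by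
    obtain ⟨k, hk⟩ := IsPGroup.iff_card.mp (hG.to_subgroup A)
    rcases k with _ | k
    · exfalso; apply hAbot; rw [pow_zero] at hk; exact Subgroup.card_eq_one.mp hk
    · rw [hk, pow_succ]; exact dvd_mul_left 2 _
  obtain ⟨z', hz'⟩ := exists_prime_orderOf_dvd_card' 2 h2dvd
  set z : G := (z' : G) with hz
  have hzA : z ∈ A := z'.2
  have hzo : orderOf z = 2 := by rw [← hz', hz]; exact Subgroup.orderOf_coe z'
  have hz2 : z ^ 2 = 1 := by rw [← hzo]; exact pow_orderOf_eq_one z
  have hz1 : z ≠ 1 := by intro h1; rw [h1, orderOf_one] at hzo; omega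
  have hinvol : ∀ g : G, g ^ 2 = 1 → g ≠ 1 → g = z := by
    intro g hg hg1
    have hog : orderOf g = 2 := orderOf_eq_prime hg hg1
    have := h (Subgroup.zpowers g) (Subgroup.zpowers z) (by rw [Nat.card_zpowers, hog])
      (by rw [Nat.card_zpowers, hzo])
    have hgz : g ∈ Subgroup.zpowers z := by rw [← this]; exact Subgroup.mem_zpowers g
    obtain ⟨k, hk⟩ := Subgroup.mem_zpowers_iff.mp hgz
    rcases Int.even_or_odd' k with ⟨q, hq | hq⟩
    · exfalso; apply hg1
      rw [← hk, hq, zpow_mul, zpow_ofNat, hz2, one_zpow]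
    · rw [← hk, hq, zpow_add, zpow_mul, zpow_ofNat, hz2, one_zpow, one_mul, zpow_one]
  have hinv : ∀ g : G, g ^ 2 = 1 → g ∈ A := by
    intro g hg
    by_cases hg1 : g = 1
    · rw [hg1]; exact A.one_mem
    · rw [hinvol g hg hg1]; exact hzA
  have hzcent : ∀ w : G, w⁻¹ * z * w = z := by
    intro w
    apply hinvol
    · have : (w⁻¹ * z * w) ^ 2 = w⁻¹ * z ^ 2 * w := by rw [pow_two, pow_two]; group
      rw [this, hz2]; group
    · intro h1
      apply hz1
      calc z = w * (w⁻¹ * z * w) * w⁻¹ := by group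
        _ = 1 := by rw [h1]; group
  have hnorm : ∀ y : G, ∀ b ∈ A, y⁻¹ * b * y ∈ A := by
    intro y b hb
    have := hAn.conj_mem b hb y⁻¹
    simpa using this
  have hnc : ∀ y : G, y ∉ A → ∃ b ∈ A, y⁻¹ * b * y ≠ b := by
    intro y hy
    by_contra hcon
    push Not at hcon
    apply hy
    apply hCA
    rw [Subgroup.mem_centralizer_iff]
    intro b hb
    have := hcon b hb
    calc b * y = y * (y⁻¹ * b * y) := by group
      _ = y * b := by rw [this]
  have hkey : ∀ y : G, y ∉ A → y ^ 2 ∈ A →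
      (∀ b ∈ A, y⁻¹ * b * y = b⁻¹) ∧ y ^ 2 ≠ 1 ∧ y ^ 4 = 1 :=
    fun y hy hy2 => invert_of_unique_involution hG A hAcyc y hy hy2 (hnorm y) (hnc y hy) hinv
  -- a generator
  obtain ⟨a, ha⟩ := (Subgroup.isCyclic_iff_exists_zpowers_eq_top A).mp hAcyc
  have haA : a ∈ A := by rw [← ha]; exact Subgroup.mem_zpowers a
  have hcomm : ∀ b ∈ A, ∀ c ∈ A, b * c = c * b := by
    intro b hb c hc
    rw [← ha] at hb hc
    obtain ⟨i, rfl⟩ := hb
    obtain ⟨j, rfl⟩ := hc
    exact (Commute.zpow_zpow_self a i j).eq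
  obtain ⟨m, hm⟩ := IsPGroup.iff_card.mp (hG.to_subgroup A)
  have hoa : orderOf a = 2 ^ m := by rw [← hm, ← ha, Nat.card_zpowers]
  -- if an element outside `A` inverts `A`, then `|A| ≥ 4`
  have hm2 : ∀ y : G, y ∉ A → (∀ b ∈ A, y⁻¹ * b * y = b⁻¹) → 2 ≤ m := by
    intro y hy hyinv
    by_contra hlt
    have hm1 : m ≤ 1 := by omega
    have ha2 : a ^ 2 = 1 := by
      apply orderOf_dvd_iff_pow_eq_one.mp
      rw [hoa]
      exact pow_dvd_pow 2 hm1
    obtain ⟨b, hb, hbne⟩ := hnc y hy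
    apply hbne
    rw [hyinv b hb]
    rw [← ha] at hb
    obtain ⟨i, rfl⟩ := hb
    have : (a ^ i) ^ 2 = 1 := by
      rw [← zpow_natCast, ← zpow_mul, mul_comm, zpow_mul, zpow_natCast, ha2, one_zpow]
    exact inv_eq_of_mul_eq_one_left (by rw [← pow_two]; exact this)
  -- no element of order 4 in `G ⧸ A`
  have hno4 : ∀ w : G, w ^ 2 ∉ A → w ^ 4 ∈ A → False := by
    intro w hw2 hw4
    have hy2 : (w ^ 2) ^ 2 ∈ A := by rw [← pow_mul]; exact hw4
    obtain ⟨hyinv, -, -⟩ := hkey (w ^ 2) hw2 hy2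
    have h2m := hm2 (w ^ 2) hw2 hyinv
    obtain ⟨m', rfl⟩ : ∃ m', m = m' + 2 := ⟨m - 2, by omega⟩
    set b : G := a ^ 2 ^ m' with hb
    have hbA : b ∈ A := A.pow_mem haA _
    have hb2 : b ^ 2 = z := by
      have h1 : b ^ 2 = a ^ 2 ^ (m' + 1) := by rw [hb, ← pow_mul, ← pow_succ]
      have h2 := pow_half_orderOf (g := a) (k := m' + 1) hoa
      rw [h1]
      exact hinvol _ h2.1 h2.2
    set bw : G := w⁻¹ * b * w with hbw
    have hbwA : bw ∈ A := hnorm w b hbA
    have hbw2 : bw ^ 2 = z := by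
      have : bw ^ 2 = w⁻¹ * b ^ 2 * w := by rw [hbw, pow_two, pow_two]; group
      rw [this, hb2, hzcent]
    have hd2 : (bw * b⁻¹) ^ 2 = 1 := by
      have h1 : (bw * b⁻¹) ^ 2 = bw * (b⁻¹ * bw) * b⁻¹ := by rw [pow_two]; group
      rw [h1, hcomm _ (A.inv_mem hbA) _ hbwA]
      have h2 : bw * (bw * b⁻¹) * b⁻¹ = bw ^ 2 * (b ^ 2)⁻¹ := by rw [pow_two, pow_two]; group
      rw [h2, hbw2, hb2, mul_inv_cancel]
    have hfix : (w ^ 2)⁻¹ * b * w ^ 2 = b := by
      have h1 : (w ^ 2)⁻¹ * b * w ^ 2 = w⁻¹ * bw * w := by rw [hbw, pow_two]; group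
      rw [h1]
      by_cases hd1 : bw * b⁻¹ = 1
      · have : bw = b := by rw [← mul_inv_eq_one]; exact hd1
        rw [this]
        exact this
      · have hdz := hinvol _ hd2 hd1
        have : bw = z * b := by rw [← hdz]; group
        rw [this]
        have h3 : w⁻¹ * (z * b) * w = (w⁻¹ * z * w) * (w⁻¹ * b * w) := by group
        rw [h3, hzcent, ← hbw, this, ← mul_assoc, ← pow_two, hz2, one_mul]
    have hbinv := hyinv b hbA
    rw [hfix] at hbinv
    apply hz1
    rw [← hb2, pow_two]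
    nth_rewrite 1 [hbinv]
    exact inv_mul_cancel b
  -- every element outside `A` squares into `A`
  have hall2 : ∀ y : G, y ∉ A → y ^ 2 ∈ A := by
    intro y hy
    have hex : ∃ j : ℕ, y ^ 2 ^ j ∈ A := by
      obtain ⟨k, hk⟩ := hG y
      exact ⟨k, by rw [hk]; exact A.one_mem⟩
    classical
    have hj := Nat.find_spec hex
    have hjmin := fun i (hi : i < Nat.find hex) => Nat.find_min hex hi
    set j := Nat.find hex with hjdef
    have hj0 : j ≠ 0 := by
      intro h0
      rw [h0, pow_zero, pow_one] at hj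
      exact hy hj
    by_cases hj1 : j = 1
    · rw [hj1, pow_one] at hj; exact hj
    · exfalso
      obtain ⟨j', hj'⟩ : ∃ j', j = j' + 2 := ⟨j - 2, by omega⟩
      apply hno4 (y ^ 2 ^ j')
      · rw [← pow_mul, ← pow_succ]
        exact hjmin (j' + 1) (by omega)
      · rw [← pow_mul]
        have : 2 ^ j' * 4 = 2 ^ (j' + 2) := by rw [pow_add]; norm_num
        rw [this, ← hj']; exact hj
  -- pick `x ∉ A`
  obtain ⟨x, hx⟩ : ∃ x : G, x ∉ A := by
    by_contra hcon
    push Not at hcon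
    exact hAtop (eq_top_iff.mpr fun g _ => hcon g)
  obtain ⟨hxinv, hx21, hx4⟩ := hkey x hx (hall2 x hx)
  have hcoset : ∀ y : G, y ∉ A → y * x ∈ A := by
    intro y hy
    obtain ⟨hyinv, -, -⟩ := hkey y hy (hall2 y hy)
    apply hCA
    rw [Subgroup.mem_centralizer_iff]
    intro b hb
    have h1 : (y * x)⁻¹ * b * (y * x) = b := by
      have : (y * x)⁻¹ * b * (y * x) = x⁻¹ * (y⁻¹ * b * y) * x := by group
      rw [this, hyinv b hb, hxinv _ (A.inv_mem hb), inv_inv]
    calc b * (y * x) = (y * x) * ((y * x)⁻¹ * b * (y * x)) := by group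
      _ = (y * x) * b := by rw [h1]
  have hindex : A.index = 2 := by
    rw [Subgroup.index_eq_two_iff_exists_notMem_and]
    refine ⟨x, hx, fun y => ?_⟩
    by_cases hy : y ∈ A
    · exact Or.inr hy
    · exact Or.inl (hcoset y hy)
  have hcardG : Nat.card G = 2 ^ m * 2 := by
    rw [← Subgroup.card_mul_index A, hindex, hm]
  have h2m := hm2 x hx hxinv
  obtain ⟨m', rfl⟩ : ∃ m', m = m' + 1 := ⟨m - 1, by omega⟩
  refine ⟨m', ?_⟩
  have : NeZero (2 ^ m') := ⟨by positivity⟩
  apply Cfsg.Agent.Helper2.QLift.nonempty_mulEquiv_quaternionGroup (2 ^ m') (by rw [hcardG]; ring)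
    a x (by rw [hoa]; ring)
  · have h2 := pow_half_orderOf (g := a) (k := m') hoa
    rw [hinvol _ h2.1 h2.2, ← pow_two]
    apply hinvol _ _ hx21
    rw [← pow_mul]; exact hx4
  · have := hxinv _ (A.inv_mem haA)
    rw [inv_inv] at this
    calc x * a * x⁻¹ = x * (x⁻¹ * a⁻¹ * x) * x⁻¹ := by rw [this]
      _ = a⁻¹ := by group
  · rw [ha]; exact hx

end two

section classTwo

variable {G : Type*} [Group G]

/-- if `h * g = g * h * c` with `c` commuting with `g` and `h`, then `h ^ n * g = g * h ^ n * c ^ n` -/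
theorem pow_mul_of_central (g h c : G) (hc : h * g = g * h * c) (hch : Commute c h) (n : ℕ) :
    h ^ n * g = g * h ^ n * c ^ n := by
  induction n with
  | zero => simp
  | succ n ih =>
    calc h ^ (n + 1) * g = h ^ n * (h * g) := by rw [pow_succ, mul_assoc]
      _ = (h ^ n * g) * h * c := by rw [hc]; simp only [mul_assoc]
      _ = g * h ^ n * (c ^ n * h) * c := by rw [ih]; simp only [mul_assoc]
      _ = g * h ^ n * (h * c ^ n) * c := by rw [(hch.pow_left n).eq]
      _ = g * (h ^ n * h) * (c ^ n * c) := by simp only [mul_assoc]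
      _ = g * h ^ (n + 1) * c ^ (n + 1) := by rw [← pow_succ, ← pow_succ]

/-- the power formula in class two -/
theorem mul_pow_of_central (g h c : G) (hc : h * g = g * h * c) (hcg : Commute c g)
    (hch : Commute c h) (n : ℕ) :
    (g * h) ^ n = g ^ n * h ^ n * c ^ (n * (n - 1) / 2) := by
  induction n with
  | zero => simp
  | succ n ih =>
    rw [Nat.triangle_succ]
    set T := n * (n - 1) / 2 with hT
    have h1 := pow_mul_of_central g h c hc hch n
    calc (g * h) ^ (n + 1) = g ^ n * h ^ n * c ^ T * (g * h) := by rw [pow_succ, ih]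
      _ = g ^ n * h ^ n * (c ^ T * g) * h := by simp only [mul_assoc]
      _ = g ^ n * h ^ n * (g * c ^ T) * h := by rw [(hcg.pow_left T).eq]
      _ = g ^ n * (h ^ n * g) * (c ^ T * h) := by simp only [mul_assoc]
      _ = g ^ n * (g * h ^ n * c ^ n) * (h * c ^ T) := by rw [h1, (hch.pow_left T).eq]
      _ = g ^ n * g * h ^ n * (c ^ n * h) * c ^ T := by simp only [mul_assoc]
      _ = g ^ n * g * h ^ n * (h * c ^ n) * c ^ T := by rw [(hch.pow_left n).eq]
      _ = (g ^ n * g) * (h ^ n * h) * (c ^ n * c ^ T) := by simp only [mul_assoc]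
      _ = g ^ (n + 1) * h ^ (n + 1) * c ^ (T + n) := by
          rw [← pow_succ, ← pow_succ, ← pow_add, add_comm n T]

end classTwo

section odd

open scoped commutatorElement

/-- the case of odd `p` -/
theorem UniqP.odd_case {p : ℕ} [hp : Fact p.Prime] (hp2 : p ≠ 2) :
    ∀ (n : ℕ) (G : Type u) [Group G] [Finite G], Nat.card G = n → IsPGroup p G → UniqP p G →
      IsCyclic G := by
  intro n
  induction n using Nat.strong_induction_on with
  | _ n ih =>
  intro G _ _ hcard hG h
  by_contra hnc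
  -- coatoms are cyclic
  have hcoatom_cyc : ∀ M : Subgroup G, IsCoatom M → IsCyclic M := by
    intro M hM
    have hlt : Nat.card M < n := by
      rw [← hcard]
      have h1 : Nat.card M * M.index = Nat.card G := Subgroup.card_mul_index M
      have h2 : M.index = p := IsPGroup.coatom_index hG hM
      rw [h2] at h1
      have hpos : 0 < Nat.card M := Nat.card_pos
      have := hp.out.one_lt
      nlinarith
    exact ih _ hlt M rfl (hG.to_subgroup M) (h.subgroup M)
  have hnt : (⊥ : Subgroup G) ≠ ⊤ := by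
    intro hbt
    apply hnc
    have : Subsingleton G := by
      rw [← Subgroup.subsingleton_iff] 
      exact subsingleton_of_bot_eq_top hbt
    exact isCyclic_of_subsingleton
  obtain ⟨M₁, hM₁, -⟩ := (eq_top_or_exists_le_coatom (⊥ : Subgroup G)).resolve_left hnt
  obtain ⟨x, hx⟩ : ∃ x : G, x ∉ M₁ := by
    by_contra hcon
    push Not at hcon
    exact hM₁.1 (eq_top_iff.mpr fun g _ => hcon g)
  have hzx : Subgroup.zpowers x ≠ ⊤ := by
    intro htop
    exact hnc (isCyclic_iff_exists_zpowers_eq_top.mpr ⟨x, htop⟩)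
  obtain ⟨M₂, hM₂, hxM₂⟩ := (eq_top_or_exists_le_coatom (Subgroup.zpowers x)).resolve_left hzx
  have hxM₂' : x ∈ M₂ := hxM₂ (Subgroup.mem_zpowers x)
  have hsup : M₁ ⊔ M₂ = ⊤ := by
    apply hM₁.2
    apply lt_of_le_of_ne le_sup_left
    intro heq
    apply hx
    rw [heq]
    exact (le_sup_right : M₂ ≤ M₁ ⊔ M₂) hxM₂'
  have hM_comm : ∀ M : Subgroup G, IsCoatom M → ∀ b ∈ M, ∀ c ∈ M, b * c = c * b := by
    intro M hM b hb c hc
    obtain ⟨a, ha⟩ := (Subgroup.isCyclic_iff_exists_zpowers_eq_top M).mp (hcoatom_cyc M hM)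
    rw [← ha] at hb hc
    obtain ⟨i, rfl⟩ := hb
    obtain ⟨j, rfl⟩ := hc
    exact (Commute.zpow_zpow_self a i j).eq
  set Z : Subgroup G := M₁ ⊓ M₂ with hZ
  have hZcent : ∀ g ∈ Z, ∀ y : G, Commute g y := by
    intro g hg y
    have hle : M₁ ⊔ M₂ ≤ Subgroup.centralizer {g} := by
      apply sup_le
      · intro b hb
        rw [Subgroup.mem_centralizer_iff]
        intro y hy
        rw [Set.mem_singleton_iff] at hy
        rw [hy]
        exact hM_comm M₁ hM₁ g hg.1 b hb
      · intro b hb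
        rw [Subgroup.mem_centralizer_iff]
        intro y hy
        rw [Set.mem_singleton_iff] at hy
        rw [hy]
        exact hM_comm M₂ hM₂ g hg.2 b hb
    rw [hsup] at hle
    have := hle (Subgroup.mem_top y)
    rw [Subgroup.mem_centralizer_iff] at this
    exact this g rfl
  have hpowZ : ∀ g : G, g ^ p ∈ Z :=
    fun g => ⟨IsPGroup.pow_mem_coatom hG hM₁ g, IsPGroup.pow_mem_coatom hG hM₂ g⟩
  have hcommZ : ∀ g k : G, ⁅g, k⁆ ∈ Z := by
    intro g k
    have hmem : ⁅g, k⁆ ∈ commutator G := by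
      rw [commutator_def]
      exact Subgroup.commutator_mem_commutator (Subgroup.mem_top g) (Subgroup.mem_top k)
    exact ⟨IsPGroup.commutator_le_coatom hG hM₁ hmem, IsPGroup.commutator_le_coatom hG hM₂ hmem⟩
  -- the `p`-th power map is a homomorphism
  have hpodd : p ∣ p * (p - 1) / 2 := by
    have hodd : Odd p := hp.out.eq_two_or_odd'.resolve_left hp2
    obtain ⟨k, hk⟩ := hodd
    have : p * (p - 1) / 2 = p * k := by
      rw [hk, Nat.add_sub_cancel, ← mul_assoc, mul_comm _ 2, mul_assoc, Nat.mul_div_cancel_left _ (by norm_num)]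
    rw [this]; exact dvd_mul_right p k
  have hmulpow : ∀ g k : G, (g * k) ^ p = g ^ p * k ^ p := by
    intro g k
    set c : G := ⁅k⁻¹, g⁻¹⁆ with hc
    have hcZ : c ∈ Z := hcommZ _ _
    have hceq : k * g = g * k * c := by rw [hc, commutatorElement_def]; group
    have hcg : Commute c g := hZcent c hcZ g
    have hck : Commute c k := hZcent c hcZ k
    have hcp : c ^ p = 1 := by
      have h1 := pow_mul_of_central g k c hceq hck p
      have h2 : k ^ p * g = g * k ^ p := (hZcent _ (hpowZ k) g).eq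
      rw [h2] at h1
      exact (mul_eq_left.mp h1.symm)
    rw [mul_pow_of_central g k c hceq hcg hck p]
    obtain ⟨t, ht⟩ := hpodd
    rw [ht, pow_mul, hcp, one_pow, mul_one]
  let f : G →* G := MonoidHom.mk' (fun g => g ^ p) hmulpow
  obtain ⟨P, hPcard, hPmem⟩ := h.exists_subgroup
  have hker : Nat.card f.ker ≤ p := by
    refine le_trans (Subgroup.card_le_of_le ?_) hPcard
    intro g hg
    exact hPmem g (MonoidHom.mem_ker.mp hg)
  have hrange : Nat.card f.range ≤ Nat.card Z := by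
    apply Subgroup.card_le_of_le
    rintro _ ⟨g, rfl⟩
    exact hpowZ g
  have hGcard : Nat.card G = Nat.card f.ker * Nat.card f.range := by
    rw [← Subgroup.index_ker, Subgroup.card_mul_index]
  -- `Z` has index at least `p ^ 2`
  have hM₁card : Nat.card M₁ * p = Nat.card G := by
    rw [← IsPGroup.coatom_index hG hM₁]; exact Subgroup.card_mul_index M₁
  have hZM₁ : Nat.card Z * p ≤ Nat.card M₁ := by
    obtain ⟨i, hi⟩ := IsPGroup.iff_card.mp (hG.to_subgroup Z)
    obtain ⟨j, hj⟩ := IsPGroup.iff_card.mp (hG.to_subgroup M₁)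
    have hle : Z ≤ M₁ := inf_le_left
    have hne : Z ≠ M₁ := by
      intro heq
      have h12 : M₁ ≤ M₂ := by rw [← heq]; exact inf_le_right
      apply hx
      have : M₁ = M₂ := by
        by_contra hne
        exact hM₂.1 (hM₁.2 M₂ (lt_of_le_of_ne h12 hne))
      rw [this]; exact hxM₂'
    have hlt : Nat.card Z < Nat.card M₁ := by
      apply lt_of_le_of_ne (Subgroup.card_le_of_le hle)
      intro hc
      exact hne (Subgroup.eq_of_le_of_card_ge hle hc.ge)
    rw [hi, hj] at hlt ⊢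
    have hij : i < j := (Nat.pow_lt_pow_iff_right hp.out.one_lt).mp hlt
    rw [← pow_succ]
    exact Nat.pow_le_pow_right hp.out.pos hij
  have hZpos : 0 < Nat.card Z := Nat.card_pos
  have hp1 := hp.out.one_lt
  have hkpos : 0 < Nat.card f.ker := Nat.card_pos
  have hrpos : 0 < Nat.card f.range := Nat.card_pos
  have h1 : Nat.card Z * p * p ≤ Nat.card f.ker * Nat.card f.range := by
    rw [← hGcard, ← hM₁card]
    exact Nat.mul_le_mul_right p hZM₁
  have h2 : Nat.card f.ker * Nat.card f.range ≤ p * Nat.card Z := Nat.mul_le_mul hker hrange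
  nlinarith

end odd

/-- A finite `p`-group with at most one subgroup of order `p` is cyclic or generalized quaternion. -/
theorem UniqP.cyclic_or_quaternion {G : Type u} [Group G] [Finite G] (p : ℕ) [Fact p.Prime]
    (hG : IsPGroup p G) (h : UniqP p G) :
    IsCyclic G ∨ (p = 2 ∧ ∃ n : ℕ, Nonempty (G ≃* QuaternionGroup (2 ^ n))) := by
  by_cases hp2 : p = 2
  · subst hp2
    rcases UniqP.two_case hG h with h1 | h1
    · exact Or.inl h1
    · exact Or.inr ⟨rfl, h1⟩
  · exact Or.inl (UniqP.odd_case hp2 _ G rfl hG h)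

end Cfsg.Agent.Helper1
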