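import Mathlib
import Cfsg.Agent.Helper1.FrobeniusCompl
import Cfsg.Agent.Helper1.UniqueOrderP

/-!
Groups acting fixed-point-freely on a nontrivial normal subgroup `K` (no Frobenius hypothesis on
the ambient group): abelian subgroups are cyclic, `p`-subgroups have at most one subgroup of
order `p`, hence Sylow subgroups are cyclic or generalized quaternion.
-/

set_option autoImplicit false

namespace Cfsg.Agent.Helper1

variable {G : Type*} [Group G]

/-- a solvable group `A` acting fixed-point-freely on the normal subgroup `K ≠ 1` normalizes a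
nontrivial abelian subgroup of `K` -/
theorem fpf_exists_invariant_abelian [Finite G] {K : Subgroup G} [hKn : K.Normal] (hK : K ≠ ⊥)
    (A : Subgroup G) (hfpf : ∀ a ∈ A, a ≠ 1 → K ⊓ Subgroup.centralizer {a} = ⊥)
    (hAs : Group.IsSolvable A) :
    ∃ V : Subgroup G, IsMulCommutative V ∧ V ≠ ⊥ ∧ V ≤ K ∧
      A ≤ Subgroup.normalizer (V : Set G) := by
  have hAK : A ≤ Subgroup.normalizer (K : Set G) := by
    rw [Subgroup.normalizer_eq_top_iff.mpr hKn]; exact le_top
  have hcop : (Nat.card A).Coprime (Nat.card K) := Cfsg.Agent.S0041.coprime_of_fpf hAK hfpf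
  have hK1 : Nat.card K ≠ 1 := fun h => hK (Subgroup.card_eq_one.mp h)
  obtain ⟨r, hr, hrK⟩ := Nat.exists_prime_and_dvd hK1
  have : Fact r.Prime := ⟨hr⟩
  obtain ⟨R, hR⟩ := Cfsg.Agent.Lead.coprime_exists_invariant_sylow A K hAK hcop (Or.inl hAs) r
  set R' : Subgroup G := (R : Subgroup K).map K.subtype with hR'
  have hR'p : IsPGroup r R' := R.isPGroup'.map K.subtype
  have hR'1 : R' ≠ ⊥ := by
    intro h
    rw [hR', Subgroup.map_eq_bot_iff_of_injective _ K.subtype_injective] at h
    have := R.card_eq_multiplicity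
    rw [h, Subgroup.card_bot] at this
    have hpos : 0 < (Nat.card K).factorization r :=
      hr.factorization_pos_of_dvd Nat.card_pos.ne' hrK
    have : 1 < r ^ (Nat.card K).factorization r := Nat.one_lt_pow hpos.ne' hr.one_lt
    omega
  refine ⟨centerIn R', centerIn_comm R', centerIn_ne_bot hR'p hR'1, ?_, ?_⟩
  · intro x hx
    have := (Subgroup.mem_inf.mp hx).1
    rw [hR'] at this
    obtain ⟨y, -, rfl⟩ := this
    exact y.2
  · exact hR.trans (normalizer_le_normalizer_centerIn R')

/-- abelian groups and groups of order `pq` acting fixed-point-freely on a nontrivial normal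
subgroup are cyclic -/
theorem fpf_subgroup_cyclic [Finite G] {K : Subgroup G} [hKn : K.Normal] (hK : K ≠ ⊥)
    (A : Subgroup G) (hfpf : ∀ a ∈ A, a ≠ 1 → K ⊓ Subgroup.centralizer {a} = ⊥)
    (hA : IsMulCommutative A ∨ ∃ p q : ℕ, p.Prime ∧ q.Prime ∧ Nat.card A = p * q) :
    IsCyclic A := by
  have hAs : Group.IsSolvable A := by
    rcases hA with hA | ⟨p, q, hp, hq, hcard⟩
    · exact Group.isSolvable_of_comm (fun a b => mul_comm' a b)
    · exact Cfsg.Agent.S0144.result p q 1 1 hp hq (by rw [hcard, pow_one, pow_one])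
  obtain ⟨V, hVc, hV1, hVK, hAV⟩ := fpf_exists_invariant_abelian hK A hfpf hAs
  apply Cfsg.Agent.S0041.result A V hV1 hAV _ hA
  intro a ha a1
  rw [eq_bot_iff, ← hfpf a ha a1]
  exact inf_le_inf_right _ hVK

/-- a `p`-group acting fixed-point-freely on a nontrivial normal subgroup has at most one subgroup
of order `p` -/
theorem fpf_pgroup_unique [Finite G] {K : Subgroup G} [hKn : K.Normal] (hK : K ≠ ⊥)
    {p : ℕ} [hp : Fact p.Prime] (Q : Subgroup G) (hQ : IsPGroup p Q)
    (hfpf : ∀ a ∈ Q, a ≠ 1 → K ⊓ Subgroup.centralizer {a} = ⊥)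
    (X Y : Subgroup G) (hX : X ≤ Q) (hY : Y ≤ Q) (hXp : Nat.card X = p) (hYp : Nat.card Y = p) :
    X = Y := by
  have hQ1 : Q ≠ ⊥ := by
    intro h
    rw [h, le_bot_iff] at hX
    rw [hX, Subgroup.card_bot] at hXp
    exact hp.out.one_lt.ne hXp
  -- a central element of order `p`
  have hZ1 : centerIn Q ≠ ⊥ := centerIn_ne_bot hQ hQ1
  have hZp : IsPGroup p (centerIn Q) := hQ.to_le inf_le_left
  have hdvd : p ∣ Nat.card (centerIn Q) := by
    obtain ⟨k, hk⟩ := IsPGroup.iff_card.mp hZp
    rcases k with _ | k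
    · exfalso; apply hZ1; rw [pow_zero] at hk; exact Subgroup.card_eq_one.mp hk
    · rw [hk, pow_succ]; exact dvd_mul_left p _
  obtain ⟨z', hz'⟩ := exists_prime_orderOf_dvd_card' p hdvd
  set z : G := (z' : G) with hz
  have hzo : orderOf z = p := by rw [← hz', hz]; exact Subgroup.orderOf_coe z'
  have hzQ : z ∈ Q := (Subgroup.mem_inf.mp z'.2).1
  have hzc : z ∈ Subgroup.centralizer (Q : Set G) := (Subgroup.mem_inf.mp z'.2).2
  have hZcard : Nat.card (Subgroup.zpowers z) = p := by rw [Nat.card_zpowers, hzo]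
  have hZQ : Subgroup.zpowers z ≤ Q := Subgroup.zpowers_le.mpr hzQ
  have key : ∀ X : Subgroup G, X ≤ Q → Nat.card X = p → X = Subgroup.zpowers z := by
    intro X hX hXp
    have hXcyc : IsCyclic X := isCyclic_of_prime_card hXp
    have hXcomm : X ≤ Subgroup.centralizer (X : Set G) := by
      rw [Subgroup.le_centralizer_iff_isMulCommutative]
      exact IsCyclic.isMulCommutative
    have hZX : Subgroup.zpowers z ≤ Subgroup.centralizer (X : Set G) := by
      rw [Subgroup.zpowers_le]
      exact Subgroup.centralizer_le hX hzc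
    have hZZ : Subgroup.zpowers z ≤ Subgroup.centralizer (Subgroup.zpowers z : Set G) := by
      rw [Subgroup.le_centralizer_iff_isMulCommutative]
      infer_instance
    set A : Subgroup G := X ⊔ Subgroup.zpowers z with hA
    have hAcomm : IsMulCommutative A := by
      rw [← Subgroup.le_centralizer_iff_isMulCommutative]
      apply sup_le
      · rw [Subgroup.le_centralizer_iff]
        exact sup_le hXcomm hZX
      · rw [Subgroup.le_centralizer_iff]
        exact sup_le (Subgroup.le_centralizer_iff.mp hZX) hZZ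
    have hAQ : A ≤ Q := sup_le hX hZQ
    have hAcyc : IsCyclic A :=
      fpf_subgroup_cyclic hK A (fun a ha a1 => hfpf a (hAQ ha) a1) (Or.inl hAcomm)
    exact Cfsg.Agent.Helper23.eq_of_card_eq_of_isCyclic A hAcyc X (Subgroup.zpowers z)
      le_sup_left le_sup_right (by rw [hXp, hZcard])
  rw [key X hX hXp, key Y hY hYp]

/-- a `p`-subgroup of a group acting fixed-point-freely on a nontrivial normal subgroup is cyclic
or generalized quaternion -/
theorem fpf_pgroup_cyclic_or_quaternion [Finite G] {K : Subgroup G} [hKn : K.Normal] (hK : K ≠ ⊥)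
    {p : ℕ} [hp : Fact p.Prime] (Q : Subgroup G) (hQ : IsPGroup p Q)
    (hfpf : ∀ a ∈ Q, a ≠ 1 → K ⊓ Subgroup.centralizer {a} = ⊥) :
    IsCyclic Q ∨ (p = 2 ∧ ∃ n : ℕ, Nonempty (Q ≃* QuaternionGroup (2 ^ n))) := by
  apply UniqP.cyclic_or_quaternion p hQ
  intro X Y hXp hYp
  have hinj : Function.Injective Q.subtype := Q.subtype_injective
  apply Subgroup.map_injective hinj
  apply fpf_pgroup_unique hK Q hQ hfpf _ _ (Subgroup.map_subtype_le X) (Subgroup.map_subtype_le Y)
  · rw [Subgroup.card_map_of_injective hinj]; exact hXp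
  · rw [Subgroup.card_map_of_injective hinj]; exact hYp

end Cfsg.Agent.Helper1
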