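import Mathlib
import Cfsg.Agent.Helper1.FpfCompl
import Cfsg.Agent.S0035
import Cfsg.Agent.S0042

/-!
General facts on a finite Frobenius group `G` with complement `C` and kernel `N`
(a normal subgroup whose carrier is `Cfsg.frobeniusKernel C`).
-/

set_option autoImplicit false
set_option linter.style.haveILetI false

namespace Cfsg.Agent.Helper1.FrobGroup

open Pointwise Cfsg Cfsg.Agent.Helper1

variable {G : Type*} [Group G]

/-- the centralizer of a nonidentity kernel element lies in the kernel -/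
theorem kernel_centralizer {C N : Subgroup G} (hC : IsFrobeniusComplement C)
    (hN : (N : Set G) = frobeniusKernel C) [hNn : N.Normal]
    {n x : G} (hn : n ∈ N) (hn1 : n ≠ 1) (hx : x * n = n * x) : x ∈ N := by
  by_contra hxN
  have hxK : x ∉ frobeniusKernel C := by rw [← hN]; exact hxN
  rw [not_mem_frobeniusKernel_iff] at hxK
  obtain ⟨hx1, g, hg⟩ := hxK
  have h1 : g * x * g⁻¹ ≠ 1 := by
    intro h
    apply hx1
    have e : x = g⁻¹ * (g * x * g⁻¹) * g := by group
    rw [e, h]; group
  have h2 : (g * n * g⁻¹) * (g * x * g⁻¹) = (g * x * g⁻¹) * (g * n * g⁻¹) := by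
    have e1 : (g * n * g⁻¹) * (g * x * g⁻¹) = g * (n * x) * g⁻¹ := by group
    have e2 : (g * x * g⁻¹) * (g * n * g⁻¹) = g * (x * n) * g⁻¹ := by group
    rw [e1, e2, hx]
  have h3 : g * n * g⁻¹ ∈ C := frob_centralizer_le hC hg h1 h2
  have h4 : g * n * g⁻¹ ∈ N := hNn.conj_mem n hn g
  have h5 : g * n * g⁻¹ = 1 := frob_kernel_inter (by rw [← hN]; exact h4) h3
  apply hn1
  have e : n = g⁻¹ * (g * n * g⁻¹) * g := by group
  rw [e, h5]; group

/-- elements outside the kernel act fixed-point-freely on the kernel -/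
theorem kernel_fpf {C N : Subgroup G} (hC : IsFrobeniusComplement C)
    (hN : (N : Set G) = frobeniusKernel C) [hNn : N.Normal]
    {n x : G} (hx : x ∉ N) (hn : n ∈ N) (hxn : x * n = n * x) : n = 1 := by
  by_contra hn1
  exact hx (kernel_centralizer hC hN hn hn1 hxn)

/-- the kernel and the complement are complements of each other -/
theorem isComplement' [Finite G] {C N : Subgroup G} (hC : IsFrobeniusComplement C)
    (hN : (N : Set G) = frobeniusKernel C) : Subgroup.IsComplement' N C := by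
  obtain ⟨N', hN', -, hcomp⟩ := Cfsg.Agent.S0035.result C hC
  have : N' = N := SetLike.coe_injective (by rw [hN', hN])
  rw [← this]; exact hcomp

theorem card_mul [Finite G] {C N : Subgroup G} (hC : IsFrobeniusComplement C)
    (hN : (N : Set G) = frobeniusKernel C) : Nat.card N * Nat.card C = Nat.card G :=
  (isComplement' hC hN).card_mul_card

theorem card_kernel [Finite G] {C N : Subgroup G} (hC : IsFrobeniusComplement C)
    (hN : (N : Set G) = frobeniusKernel C) : Nat.card N = C.index := by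
  rw [← frob_card_kernel hC, ← hN]; rfl

theorem coprime [Finite G] {C N : Subgroup G} (hC : IsFrobeniusComplement C)
    (hN : (N : Set G) = frobeniusKernel C) : (Nat.card C).Coprime (Nat.card N) := by
  rw [card_kernel hC hN]; exact frob_coprime hC

theorem kernel_ne_bot [Finite G] {C N : Subgroup G} (hC : IsFrobeniusComplement C)
    (hN : (N : Set G) = frobeniusKernel C) : N ≠ ⊥ := by
  intro h
  have h1 := card_kernel hC hN
  rw [h, Subgroup.card_bot] at h1
  exact hC.2.1 (Subgroup.index_eq_one.mp h1.symm)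

theorem disjoint {C N : Subgroup G} (hN : (N : Set G) = frobeniusKernel C)
    {x : G} (hxN : x ∈ N) (hxC : x ∈ C) : x = 1 :=
  frob_kernel_inter (by rw [← hN]; exact hxN) hxC

theorem nilpotent [Finite G] {C N : Subgroup G} (hC : IsFrobeniusComplement C)
    (hN : (N : Set G) = frobeniusKernel C) : Group.IsNilpotent N := by
  obtain ⟨N', hN', -, hnil⟩ := Cfsg.Agent.S0042.result C hC
  have : N' = N := SetLike.coe_injective (by rw [hN', hN])
  rw [← this]; exact hnil

theorem normal [Finite G] {C N : Subgroup G} (hC : IsFrobeniusComplement C)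
    (hN : (N : Set G) = frobeniusKernel C) : N.Normal := by
  obtain ⟨N', hN', hn, -⟩ := Cfsg.Agent.S0035.result C hC
  have : N' = N := SetLike.coe_injective (by rw [hN', hN])
  rw [← this]; exact hn

/-- the fixed-point-free action in the form used by `FpfCompl` -/
theorem fpf_form {C N : Subgroup G} (hC : IsFrobeniusComplement C)
    (hN : (N : Set G) = frobeniusKernel C) :
    ∀ a ∈ C, a ≠ 1 → N ⊓ Subgroup.centralizer {a} = ⊥ :=
  frob_fpf hC hN

/-- an involution acting fixed-point-freely on a finite normal subgroup inverts it -/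
theorem involution_inverts [Finite G] {N : Subgroup G} [hNn : N.Normal] {t : G} (ht : t * t = 1)
    (hfpf : ∀ n ∈ N, t * n = n * t → n = 1) : ∀ n ∈ N, t * n * t⁻¹ = n⁻¹ := by
  have htinv : t⁻¹ = t := inv_eq_of_mul_eq_one_right ht
  let f : N → N := fun x => ⟨(x : G)⁻¹ * (t * x * t⁻¹), N.mul_mem (N.inv_mem x.2) (hNn.conj_mem x x.2 t)⟩
  have hinj : Function.Injective f := by
    intro x y hxy
    have h1 : (x : G)⁻¹ * (t * x * t⁻¹) = (y : G)⁻¹ * (t * y * t⁻¹) := congrArg Subtype.val hxy
    have h2 : t * ((y : G) * (x : G)⁻¹) = ((y : G) * (x : G)⁻¹) * t := by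
      have e1 : t * ((y : G) * (x : G)⁻¹) = (y : G) * ((y : G)⁻¹ * (t * y * t⁻¹)) * t * (x : G)⁻¹ := by
        group
      rw [e1, ← h1]; group
    have h3 := hfpf _ (N.mul_mem y.2 (N.inv_mem x.2)) h2
    apply Subtype.ext
    exact (mul_inv_eq_one.mp h3).symm
  have hsurj : Function.Surjective f := Finite.surjective_of_injective hinj
  intro n hn
  obtain ⟨x, hx⟩ := hsurj ⟨n, hn⟩
  have hx' : (x : G)⁻¹ * (t * x * t⁻¹) = n := congrArg Subtype.val hx
  rw [← hx', htinv]
  have e : t * ((x : G)⁻¹ * (t * x * t)) * t = (t * (x : G)⁻¹ * t) * x * (t * t) := by group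
  rw [e, ht, mul_one]
  have e2 : ((x : G)⁻¹ * (t * x * t))⁻¹ = t⁻¹ * (x : G)⁻¹ * t⁻¹ * x := by group
  rw [e2, htinv]

/-- a Frobenius complement has at most one involution -/
theorem unique_involution [Finite G] {C N : Subgroup G} (hC : IsFrobeniusComplement C)
    (hN : (N : Set G) = frobeniusKernel C) {s t : G} (hs : s ∈ C) (ht : t ∈ C)
    (hs1 : s ≠ 1) (ht1 : t ≠ 1) (hs2 : s * s = 1) (ht2 : t * t = 1) : s = t := by
  have hNn : N.Normal := normal hC hN
  have hsN : s ∉ N := fun h => hs1 (disjoint hN h hs)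
  have htN : t ∉ N := fun h => ht1 (disjoint hN h ht)
  have his := involution_inverts hs2 (fun n hn h => kernel_fpf hC hN hsN hn h)
  have hit := involution_inverts ht2 (fun n hn h => kernel_fpf hC hN htN hn h)
  have hsinv : s⁻¹ = s := inv_eq_of_mul_eq_one_right hs2
  have htinv : t⁻¹ = t := inv_eq_of_mul_eq_one_right ht2
  -- `s * t` centralizes `N`
  by_contra hst
  have hst1 : s * t ≠ 1 := by
    intro h
    apply hst
    have : s = t⁻¹ := eq_inv_of_mul_eq_one_left h
    rw [this, htinv]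
  have hstN : s * t ∉ N := fun h => hst1 (disjoint hN h (C.mul_mem hs ht))
  obtain ⟨n, hn, hn1⟩ : ∃ n ∈ N, n ≠ 1 := by
    by_contra hcon
    push Not at hcon
    apply kernel_ne_bot hC hN
    rw [eq_bot_iff]
    intro x hx
    rw [Subgroup.mem_bot]; exact hcon x hx
  apply hn1
  apply kernel_fpf hC hN hstN hn
  have h1 := his (t * n * t⁻¹) (hNn.conj_mem n hn t)
  rw [hit n hn, inv_inv] at h1
  -- h1 : s * n⁻¹ * s⁻¹ = n
  have e : s * t * n = (s * (t * n * t⁻¹) * s⁻¹) * (s * t) := by group
  rw [e, hit n hn, h1]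

/-! ### element orders -/

theorem exists_orderOf_eq_of_dvd [Finite G] {x : G} {n : ℕ} (hn : n ∣ orderOf x) :
    ∃ g : G, orderOf g = n :=
  ⟨_, orderOf_pow_orderOf_div (orderOf_pos x).ne' hn⟩

theorem exists_orderOf_eq_of_isCyclic [Finite G] [IsCyclic G] {d : ℕ} (hd : d ∣ Nat.card G) :
    ∃ g : G, orderOf g = d := by
  obtain ⟨g, hg⟩ := IsCyclic.exists_ofOrder_eq_natCard (α := G)
  exact exists_orderOf_eq_of_dvd (x := g) (by rw [hg]; exact hd)

theorem exists_orderOf_eq_of_surjective {G' : Type*} [Group G'] [Finite G] (f : G →* G')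
    (hf : Function.Surjective f) (z : G') : ∃ g : G, orderOf g = orderOf z := by
  obtain ⟨g, rfl⟩ := hf z
  exact exists_orderOf_eq_of_dvd (orderOf_map_dvd f g)

/-- in a finite nilpotent group there are elements of order `pq` for primes `p ≠ q` dividing the
order -/
theorem exists_orderOf_mul_of_nilpotent [Finite G] [Group.IsNilpotent G] {p q : ℕ}
    (hp : p.Prime) (hq : q.Prime) (hpq : p ≠ q) (hpG : p ∣ Nat.card G) (hqG : q ∣ Nat.card G) :
    ∃ g : G, orderOf g = p * q := by
  haveI : Fact p.Prime := ⟨hp⟩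
  haveI : Fact q.Prime := ⟨hq⟩
  obtain ⟨x, hx⟩ := exists_prime_orderOf_dvd_card' (G := G) p hpG
  obtain ⟨y, hy⟩ := exists_prime_orderOf_dvd_card' (G := G) q hqG
  have hxp : IsPGroup p (Subgroup.zpowers x) :=
    IsPGroup.of_card (n := 1) (by rw [Nat.card_zpowers, hx, pow_one])
  have hyq : IsPGroup q (Subgroup.zpowers y) :=
    IsPGroup.of_card (n := 1) (by rw [Nat.card_zpowers, hy, pow_one])
  obtain ⟨P, hP⟩ := hxp.exists_le_sylow
  obtain ⟨Q, hQ⟩ := hyq.exists_le_sylow
  have hPn : (P : Subgroup G).Normal := inferInstance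
  have hQn : (Q : Subgroup G).Normal := inferInstance
  have hdisj : Disjoint (P : Subgroup G) (Q : Subgroup G) :=
    IsPGroup.disjoint_of_ne p q hpq _ _ P.isPGroup' Q.isPGroup'
  have hcomm : Commute x y :=
    Subgroup.commute_of_normal_of_disjoint _ _ hPn hQn hdisj x y
      (hP (Subgroup.mem_zpowers x)) (hQ (Subgroup.mem_zpowers y))
  refine ⟨x * y, ?_⟩
  rw [hcomm.orderOf_mul_eq_mul_orderOf_of_coprime (by rw [hx, hy]; exact (Nat.coprime_primes hp hq).mpr hpq),
    hx, hy]

/-- a nonidentity element of `p`-power order has a power of order `p` -/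
theorem exists_pow_orderOf_eq_prime [Finite G] {p : ℕ} (hp : p.Prime) {v : G} (hv1 : v ≠ 1)
    {k : ℕ} (hv : v ^ (p ^ k) = 1) : ∃ i : ℕ, orderOf (v ^ i) = p := by
  have h1 : orderOf v ∣ p ^ k := orderOf_dvd_of_pow_eq_one hv
  obtain ⟨j, -, hj⟩ := (Nat.dvd_prime_pow hp).mp h1
  have hj0 : j ≠ 0 := by
    intro h
    rw [h, pow_zero, orderOf_eq_one_iff] at hj
    exact hv1 hj
  refine ⟨orderOf v / p, orderOf_pow_orderOf_div (orderOf_pos v).ne' ?_⟩
  rw [hj]
  exact dvd_pow_self p hj0

end Cfsg.Agent.Helper1.FrobGroup
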