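import Mathlib

set_option autoImplicit false
set_option linter.style.haveILetI false

namespace Cfsg.Agent.Helper1

section
variable {G : Type*} [Group G]

/-- A minimal normal subgroup which is solvable is abelian. -/
theorem minNormal_commutator_eq_bot (N : Subgroup G) [N.Normal] (hN : N ≠ ⊥)
    (hs : Group.IsSolvable N)
    (hmin : ∀ M : Subgroup G, M.Normal → M ≤ N → M = ⊥ ∨ M = N) : ⁅N, N⁆ = ⊥ := by
  have hle : ⁅N, N⁆ ≤ N := Subgroup.commutator_le_self N
  rcases hmin ⁅N, N⁆ inferInstance hle with h | h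
  · exact h
  · exfalso
    haveI : Nontrivial N := by
      rw [Subgroup.nontrivial_iff_ne_bot]; exact hN
    have hlt := Group.IsSolvable.commutator_lt_top_of_nontrivial N
    have h1 : (commutator N).map N.subtype = (⊤ : Subgroup N).map N.subtype := by
      rw [Subgroup.map_subtype_commutator, h, ← MonoidHom.range_eq_map, Subgroup.range_subtype]
    have h2 := Subgroup.map_injective N.subtype_injective h1
    exact hlt.ne h2

theorem isMulCommutative_of_commutator_eq_bot (N : Subgroup G) (h : ⁅N, N⁆ = ⊥) :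
    IsMulCommutative N := by
  rw [Subgroup.commutator_eq_bot_iff_le_centralizer] at h
  refine ⟨⟨fun a b => ?_⟩⟩
  apply Subtype.ext
  have := h a.2 b b.2
  exact this.symm

variable [Finite G]

/-- A minimal normal subgroup which is solvable is elementary abelian. -/
theorem minNormal_elementary (N : Subgroup G) [N.Normal] (hN : N ≠ ⊥)
    (hs : Group.IsSolvable N)
    (hmin : ∀ M : Subgroup G, M.Normal → M ≤ N → M = ⊥ ∨ M = N) :
    IsMulCommutative N ∧ ∃ p : ℕ, p.Prime ∧ ∀ x ∈ N, x ^ p = 1 := by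
  have hcomm := isMulCommutative_of_commutator_eq_bot N (minNormal_commutator_eq_bot N hN hs hmin)
  refine ⟨hcomm, ?_⟩
  have hcard : Nat.card N ≠ 1 := fun h => hN (Subgroup.card_eq_one.mp h)
  obtain ⟨p, hp, hpd⟩ := Nat.exists_prime_and_dvd hcard
  refine ⟨p, hp, ?_⟩
  haveI : Fact p.Prime := ⟨hp⟩
  let Ω : Subgroup G :=
    { carrier := {x | x ∈ N ∧ x ^ p = 1}
      one_mem' := ⟨N.one_mem, one_pow p⟩
      mul_mem' := by
        rintro a b ⟨ha, hap⟩ ⟨hb, hbp⟩
        refine ⟨N.mul_mem ha hb, ?_⟩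
        have hab : Commute a b := by
          have := mul_comm' (⟨a, ha⟩ : N) ⟨b, hb⟩
          exact congrArg Subtype.val this
        rw [hab.mul_pow, hap, hbp, one_mul]
      inv_mem' := by
        rintro a ⟨ha, hap⟩
        exact ⟨N.inv_mem ha, by rw [inv_pow, hap, inv_one]⟩ }
  have hΩN : Ω ≤ N := fun x hx => hx.1
  have hΩn : Ω.Normal := by
    constructor
    rintro a ⟨ha, hap⟩ g
    refine ⟨‹N.Normal›.conj_mem a ha g, ?_⟩
    rw [conj_pow, hap, mul_one, mul_inv_cancel]
  have hΩne : Ω ≠ ⊥ := by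
    obtain ⟨x, hx⟩ := exists_prime_orderOf_dvd_card' p hpd
    intro h
    have hxΩ : (x : G) ∈ Ω := by
      refine ⟨x.2, ?_⟩
      have := pow_orderOf_eq_one x
      rw [hx] at this
      exact congrArg Subtype.val this
    rw [h, Subgroup.mem_bot] at hxΩ
    have : x = 1 := Subtype.ext hxΩ
    rw [this, orderOf_one] at hx
    exact hp.one_lt.ne hx
  rcases hmin Ω hΩn hΩN with h | h
  · exact absurd h hΩne
  · intro x hx
    rw [← h] at hx
    exact hx.2

/-- A nontrivial finite solvable group has a nontrivial normal elementary abelian `p`-subgroup. -/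
theorem exists_normal_pgroup_of_solvable [Group.IsSolvable G] [Nontrivial G] :
    ∃ (p : ℕ) (N : Subgroup G), p.Prime ∧ N.Normal ∧ N ≠ ⊥ ∧ IsPGroup p N ∧ IsMulCommutative N ∧
      ∀ x ∈ N, x ^ p = 1 := by
  let S : Set (Subgroup G) := {N | N.Normal ∧ N ≠ ⊥}
  have hS : S.Nonempty := ⟨⊤, inferInstance, top_ne_bot⟩
  obtain ⟨N, ⟨hNn, hNne⟩, hNmin⟩ := wellFounded_lt.has_min S hS
  haveI := hNn
  have hmin : ∀ M : Subgroup G, M.Normal → M ≤ N → M = ⊥ ∨ M = N := by
    intro M hMn hMN
    by_cases hM : M = ⊥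
    · exact Or.inl hM
    · right
      by_contra hne
      exact hNmin M ⟨hMn, hM⟩ (lt_of_le_of_ne hMN hne)
  obtain ⟨hc, p, hp, hexp⟩ := minNormal_elementary N hNne inferInstance hmin
  refine ⟨p, N, hp, hNn, hNne, ?_, hc, hexp⟩
  intro x
  refine ⟨1, ?_⟩
  rw [pow_one]
  exact Subtype.ext (hexp x x.2)

end

end Cfsg.Agent.Helper1
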