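import Mathlib
import Cfsg.Agent.Helper1.FrobGroup
import Cfsg.Agent.Helper1.MinNormal

/-!
Solvable groups with disconnected prime graph (Gruenberg–Kegel, solvable case):
such a group is Frobenius or 2-Frobenius.
-/

set_option autoImplicit false
set_option linter.style.haveILetI false

namespace Cfsg.Agent.Helper1.PrimeGraph

open Pointwise Cfsg Cfsg.Agent.Helper1

/-- no element of order `r * s` with `r ∈ B`, `s ∉ B` primes -/
def NoAB (B : Set ℕ) (X : Type*) [Group X] : Prop :=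
  ∀ r s : ℕ, r.Prime → s.Prime → r ∈ B → s ∉ B → ¬ ∃ g : X, orderOf g = r * s

/-- all prime divisors of the order lie in `B` -/
def PiGroup (B : Set ℕ) (X : Type*) [Group X] : Prop :=
  ∀ r : ℕ, r.Prime → r ∣ Nat.card X → r ∈ B

section basics

variable {X : Type*} [Group X] {B : Set ℕ}

theorem NoAB.compl (h : NoAB B X) : NoAB Bᶜ X := by
  intro r s hr hs hrB hsB ⟨g, hg⟩
  have hsB' : s ∈ B := by
    by_contra hcon
    exact hsB hcon
  exact h s r hs hr hsB' hrB ⟨g, by rw [hg, mul_comm]⟩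

theorem NoAB.of_surjective [Finite X] {Y : Type*} [Group Y] (h : NoAB B X) (f : X →* Y)
    (hf : Function.Surjective f) : NoAB B Y := by
  intro r s hr hs hrB hsB ⟨g, hg⟩
  obtain ⟨g', hg'⟩ := FrobGroup.exists_orderOf_eq_of_surjective f hf g
  exact h r s hr hs hrB hsB ⟨g', by rw [hg', hg]⟩

theorem NoAB.of_injective {Y : Type*} [Group Y] (h : NoAB B X) (f : Y →* X)
    (hf : Function.Injective f) : NoAB B Y := by
  intro r s hr hs hrB hsB ⟨g, hg⟩
  exact h r s hr hs hrB hsB ⟨f g, by rw [orderOf_injective f hf, hg]⟩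

/-- commuting elements whose orders are divisible by `r ∈ B` and `s ∉ B` cannot exist -/
theorem NoAB.commute [Finite X] (h : NoAB B X) {x y : X} (hxy : x * y = y * x) {r s : ℕ}
    (hr : r.Prime) (hs : s.Prime) (hrB : r ∈ B) (hsB : s ∉ B) (hrx : r ∣ orderOf x)
    (hsy : s ∣ orderOf y) : False := by
  have h1 : orderOf (x ^ (orderOf x / r)) = r :=
    orderOf_pow_orderOf_div (orderOf_pos x).ne' hrx
  have h2 : orderOf (y ^ (orderOf y / s)) = s :=
    orderOf_pow_orderOf_div (orderOf_pos y).ne' hsy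
  have hc : Commute (x ^ (orderOf x / r)) (y ^ (orderOf y / s)) :=
    Commute.pow_pow (show Commute x y from hxy) _ _
  have hne : r ≠ s := fun e => hsB (e ▸ hrB)
  apply h r s hr hs hrB hsB
  refine ⟨x ^ (orderOf x / r) * y ^ (orderOf y / s), ?_⟩
  rw [hc.orderOf_mul_eq_mul_orderOf_of_coprime (by rw [h1, h2]; exact (Nat.coprime_primes hr hs).mpr hne),
    h1, h2]

theorem PiGroup.of_dvd {Y : Type*} [Group Y] (h : PiGroup B X) (hd : Nat.card Y ∣ Nat.card X) :
    PiGroup B Y := fun r hr hrY => h r hr (hrY.trans hd)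

theorem PiGroup.of_card_eq_mul {Y Z : Type*} [Group Y] [Group Z] (hY : PiGroup B Y)
    (hZ : PiGroup B Z) (hcard : Nat.card X = Nat.card Y * Nat.card Z) : PiGroup B X := by
  intro r hr hrX
  rw [hcard] at hrX
  rcases (Nat.Prime.dvd_mul hr).mp hrX with h | h
  · exact hY r hr h
  · exact hZ r hr h

/-- a `B`-group and a `Bᶜ`-group have coprime orders -/
theorem PiGroup.coprime {Y : Type*} [Group Y] (hX : PiGroup B X) (hY : PiGroup Bᶜ Y) :
    (Nat.card X).Coprime (Nat.card Y) := by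
  apply Nat.coprime_of_dvd
  intro k hk hkX hkY
  exact hY k hk hkY (hX k hk hkX)

theorem PiGroup.orderOf_mem [Finite X] (hX : PiGroup B X) (x : X) {r : ℕ} (hr : r.Prime)
    (hrx : r ∣ orderOf x) : r ∈ B :=
  hX r hr (hrx.trans (orderOf_dvd_natCard x))

theorem exists_prime_dvd_orderOf {x : X} [Finite X] (hx : x ≠ 1) : ∃ r : ℕ, r.Prime ∧ r ∣ orderOf x := by
  apply Nat.exists_prime_and_dvd
  intro h
  exact hx (orderOf_eq_one_iff.mp h)

/-- in a group without mixed elements, a `B`-subgroup and a `Bᶜ`-subgroup act fixed-point-freely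
on each other -/
theorem fpf_of_noAB [Finite X] (h : NoAB B X) {N C : Subgroup X} (hN : PiGroup B N)
    (hC : PiGroup Bᶜ C) : ∀ c ∈ C, c ≠ 1 → ∀ n ∈ N, c * n = n * c → n = 1 := by
  intro c hc hc1 n hn hcn
  by_contra hn1
  obtain ⟨r, hr, hrn⟩ := exists_prime_dvd_orderOf hn1
  obtain ⟨s, hs, hsc⟩ := exists_prime_dvd_orderOf hc1
  have hrB : r ∈ B := hN.orderOf_mem ⟨n, hn⟩ hr (by rw [Subgroup.orderOf_mk]; exact hrn)
  have hsB : s ∉ B := hC.orderOf_mem ⟨c, hc⟩ hs (by rw [Subgroup.orderOf_mk]; exact hsc)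
  exact h.commute hcn.symm hr hs hrB hsB hrn hsc

end basics

section cards

variable {X : Type*} [Group X] [Finite X]

theorem card_map_mk_mul (H N : Subgroup X) [H.Normal] (hle : H ≤ N) :
    Nat.card (N.map (QuotientGroup.mk' H)) * Nat.card H = Nat.card N := by
  have h1 : (N.map (QuotientGroup.mk' H)).index = N.index :=
    Subgroup.index_map_eq N (QuotientGroup.mk'_surjective H) (by rw [QuotientGroup.ker_mk']; exact hle)
  have h2 := (N.map (QuotientGroup.mk' H)).card_mul_index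
  have h3 := N.card_mul_index
  have h4 := Subgroup.card_eq_card_quotient_mul_card_subgroup H
  rw [h1] at h2
  have hpos : 0 < N.index := Nat.pos_of_ne_zero (Subgroup.index_ne_zero_of_finite)
  have h5 : Nat.card (N.map (QuotientGroup.mk' H)) * Nat.card H * N.index = Nat.card N * N.index := by
    rw [h3, h4, ← h2]; ring
  exact Nat.eq_of_mul_eq_mul_right hpos h5

theorem card_comap_mk (H : Subgroup X) [H.Normal] (N : Subgroup (X ⧸ H)) :
    Nat.card (N.comap (QuotientGroup.mk' H)) = Nat.card N * Nat.card H := by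
  have hle : H ≤ N.comap (QuotientGroup.mk' H) := by
    intro x hx
    rw [Subgroup.mem_comap, QuotientGroup.mk'_apply, (QuotientGroup.eq_one_iff x).mpr hx]
    exact N.one_mem
  rw [← card_map_mk_mul H _ hle, Subgroup.map_comap_eq_self_of_surjective (QuotientGroup.mk'_surjective H)]

end cards

section keylemma

variable {X : Type*} [Group X] [Finite X]

/-- a semidirect product `N ⋊ C` in which `C` acts fixed-point-freely on `N` is a Frobenius group
with complement `C` and kernel `N` -/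
theorem frobenius_of_fpf (N C : Subgroup X) [hNn : N.Normal] (hcomp : Subgroup.IsComplement' N C)
    (hN : N ≠ ⊥) (hC : C ≠ ⊥)
    (hfpf : ∀ c ∈ C, c ≠ 1 → ∀ n ∈ N, c * n = n * c → n = 1) :
    IsFrobeniusComplement C ∧ frobeniusKernel C = (N : Set X) := by
  have hdisj : ∀ x, x ∈ N → x ∈ C → x = 1 := by
    intro x hxN hxC
    have := hcomp.disjoint
    rw [Subgroup.disjoint_def] at this
    exact this hxN hxC
  have hfrob : IsFrobeniusComplement C := by
    refine ⟨hC, ?_, ?_⟩
    · intro h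
      apply hN
      rw [eq_bot_iff]
      intro x hx
      rw [Subgroup.mem_bot]
      exact hdisj x hx (by rw [h]; exact Subgroup.mem_top x)
    · intro g hg
      rw [eq_bot_iff]
      intro z hz
      rw [Subgroup.mem_bot]
      obtain ⟨hzC, hzg⟩ := Subgroup.mem_inf.mp hz
      rw [mem_conj_smul_iff] at hzg
      -- `g = n * c`
      obtain ⟨⟨n, c⟩, hnc, -⟩ := hcomp.existsUnique g
      have hg' : g = (n : X) * (c : X) := hnc.symm
      have hn1 : (n : X) ≠ 1 := by
        intro h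
        apply hg
        rw [hg', h, one_mul]; exact c.2
      -- `w' = c * (g⁻¹ z g) * c⁻¹ ∈ C`, and `z = n w' n⁻¹`
      set w' : X := (c : X) * (g⁻¹ * z * g) * (c : X)⁻¹ with hw'
      have hw'C : w' ∈ C := C.mul_mem (C.mul_mem c.2 hzg) (C.inv_mem c.2)
      have hz' : z = (n : X) * w' * (n : X)⁻¹ := by
        rw [hw', hg']; group
      have h1 : z * w'⁻¹ ∈ N := by
        have e : z * w'⁻¹ = (n : X) * (w' * (n : X)⁻¹ * w'⁻¹) := by rw [hz']; group
        rw [e]
        exact N.mul_mem n.2 (hNn.conj_mem _ (N.inv_mem n.2) w')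
      have h2 : z * w'⁻¹ ∈ C := C.mul_mem hzC (C.inv_mem hw'C)
      have h3 : z = w' := by
        have := hdisj _ h1 h2
        exact mul_inv_eq_one.mp this
      by_contra hz1
      have hw1 : w' ≠ 1 := fun h => hz1 (h3.trans h)
      apply hn1
      apply hfpf w' hw'C hw1 n n.2
      have h4 : w' = (n : X) * w' * (n : X)⁻¹ := by
        rw [← h3] at hz' ⊢; exact hz'
      have h5 : (n : X) * w' = w' * n := by
        calc (n : X) * w' = ((n : X) * w' * (n : X)⁻¹) * n := by group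
          _ = w' * n := by rw [← h4]
      exact h5.symm
  refine ⟨hfrob, ?_⟩
  -- the kernel
  have hsub : (N : Set X) ⊆ frobeniusKernel C := by
    intro n hn
    rw [mem_frobeniusKernel_iff]
    by_cases h1 : n = 1
    · exact Or.inl h1
    · right
      intro g hg
      apply h1
      have h2 : g * n * g⁻¹ ∈ N := hNn.conj_mem n hn g
      have h3 := hdisj _ h2 hg
      have e : n = g⁻¹ * (g * n * g⁻¹) * g := by group
      rw [e, h3]; group
  have hcard : Nat.card (frobeniusKernel C) = Nat.card N := by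
    rw [frob_card_kernel hfrob]
    have h1 := hcomp.card_mul_card
    have h2 := C.card_mul_index
    have hpos : 0 < Nat.card C := Nat.card_pos
    rw [← h2, mul_comm] at h1
    exact (Nat.eq_of_mul_eq_mul_left hpos h1).symm
  symm
  apply Set.eq_of_subset_of_ncard_le hsub _ (Set.toFinite _)
  rw [← Nat.card_coe_set_eq, ← Nat.card_coe_set_eq, hcard]
  exact le_of_eq rfl

/-- Schur–Zassenhaus plus `frobenius_of_fpf` -/
theorem frob_of_pi_split {B : Set ℕ} (hno : NoAB B X) (N : Subgroup X) [hNn : N.Normal]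
    (hN : N ≠ ⊥) (hN' : N ≠ ⊤) (hNpi : PiGroup B N) (hQ : PiGroup Bᶜ (X ⧸ N)) :
    ∃ C : Subgroup X, IsFrobeniusComplement C ∧ frobeniusKernel C = (N : Set X) ∧
      Subgroup.IsComplement' N C := by
  have hcop : (Nat.card N).Coprime N.index := by
    rw [Subgroup.index_eq_card]
    exact hNpi.coprime hQ
  obtain ⟨C, hC⟩ := Subgroup.exists_right_complement'_of_coprime hcop
  have hcardC : Nat.card C = Nat.card (X ⧸ N) := by
    have h1 := hC.card_mul_card
    have h2 := Subgroup.card_eq_card_quotient_mul_card_subgroup N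
    rw [h2, mul_comm] at h1
    exact Nat.eq_of_mul_eq_mul_right Nat.card_pos h1
  have hCpi : PiGroup Bᶜ C := hQ.of_dvd (by rw [hcardC])
  have hCbot : C ≠ ⊥ := by
    intro h
    apply hN'
    rw [h, Subgroup.card_bot] at hcardC
    rw [← Subgroup.index_eq_one, Subgroup.index_eq_card, ← hcardC]
  obtain ⟨h1, h2⟩ := frobenius_of_fpf N C hC hN hCbot (fpf_of_noAB hno hNpi hCpi)
  exact ⟨C, h1, h2, hC⟩

end keylemma

section maximal

variable {X : Type*} [Group X] [Finite X] {B : Set ℕ}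

theorem PiGroup.of_isPGroup {p : ℕ} (hp : p.Prime) (hpB : p ∈ B) {N : Subgroup X}
    (hN : IsPGroup p N) : PiGroup B N := by
  haveI : Fact p.Prime := ⟨hp⟩
  intro r hr hrN
  obtain ⟨k, hk⟩ := IsPGroup.iff_card.mp hN
  rw [hk] at hrN
  have := (Nat.prime_dvd_prime_iff_eq hr hp).mp (hr.dvd_of_dvd_pow hrN)
  rw [this]; exact hpB

theorem exists_maximal_normal_pi (H₀ : Subgroup X) (hn : H₀.Normal) (hpi : PiGroup B H₀) :
    ∃ H : Subgroup X, H₀ ≤ H ∧ H.Normal ∧ PiGroup B H ∧
      ∀ H' : Subgroup X, H'.Normal → PiGroup B H' → H ≤ H' → H' = H := by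
  have hfin : {H : Subgroup X | H.Normal ∧ PiGroup B H}.Finite := Set.toFinite _
  obtain ⟨H, hle, hmax⟩ := hfin.exists_le_maximal (a := H₀) ⟨hn, hpi⟩
  exact ⟨H, hle, hmax.prop.1, hmax.prop.2, fun H' hn' hpi' hle' =>
    le_antisymm (hmax.le_of_ge ⟨hn', hpi'⟩ hle') hle'⟩

theorem quotient_no_normal_pi (H : Subgroup X) [H.Normal] (hpi : PiGroup B H)
    (hmax : ∀ H' : Subgroup X, H'.Normal → PiGroup B H' → H ≤ H' → H' = H)
    (N : Subgroup (X ⧸ H)) (hN : N.Normal) (hNpi : PiGroup B N) : N = ⊥ := by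
  have h1 : (N.comap (QuotientGroup.mk' H)).Normal := hN.comap _
  have h2 : PiGroup B (N.comap (QuotientGroup.mk' H)) :=
    PiGroup.of_card_eq_mul hNpi hpi (card_comap_mk H N)
  have h3 : H ≤ N.comap (QuotientGroup.mk' H) := by
    intro x hx
    rw [Subgroup.mem_comap, QuotientGroup.mk'_apply, (QuotientGroup.eq_one_iff x).mpr hx]
    exact N.one_mem
  have h4 := hmax _ h1 h2 h3
  rw [← Subgroup.map_comap_eq_self_of_surjective (QuotientGroup.mk'_surjective H) N, h4,
    QuotientGroup.map_mk'_self]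

theorem exists_normal_compl_pgroup [Group.IsSolvable X] [Nontrivial X]
    (hno : ∀ N : Subgroup X, N.Normal → PiGroup B N → N = ⊥) :
    ∃ (p : ℕ) (M : Subgroup X), p.Prime ∧ p ∉ B ∧ M.Normal ∧ M ≠ ⊥ ∧ IsPGroup p M := by
  obtain ⟨p, N, hp, hNn, hNbot, hNp, -, -⟩ := exists_normal_pgroup_of_solvable (G := X)
  refine ⟨p, N, hp, ?_, hNn, hNbot, hNp⟩
  intro hpB
  exact hNbot (hno N hNn (PiGroup.of_isPGroup hp hpB hNp))

end maximal

section kernelcyclic

/-- a group which is both (isomorphic to) a Frobenius complement and a Frobenius kernel is cyclic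
of odd order -/
theorem kernel_cyclic {K L : Type*} [Group K] [Group L] [Finite K] [Finite L]
    {C₁ N₁ : Subgroup K} (hC₁ : IsFrobeniusComplement C₁)
    (hN₁ : (N₁ : Set K) = frobeniusKernel C₁)
    {C₂ N₂ : Subgroup L} (hC₂ : IsFrobeniusComplement C₂)
    (hN₂ : (N₂ : Set L) = frobeniusKernel C₂)
    (e : C₁ ≃* N₂) : IsCyclic N₂ := by
  classical
  haveI hN₁n : N₁.Normal := FrobGroup.normal hC₁ hN₁
  haveI hN₂n : N₂.Normal := FrobGroup.normal hC₂ hN₂
  set nB := Nat.card C₁ with hnB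
  have hodd : Odd nB := by
    rw [← Nat.not_even_iff_odd]
    intro heven
    haveI : Fact (Nat.Prime 2) := ⟨Nat.prime_two⟩
    obtain ⟨t, ht⟩ := exists_prime_orderOf_dvd_card' (G := C₁) 2 heven.two_dvd
    have ht1 : t ≠ 1 := by
      intro h; rw [h, orderOf_one] at ht; norm_num at ht
    have ht2 : t * t = 1 := by
      rw [← pow_two, ← ht]; exact pow_orderOf_eq_one t
    set x : L := ((e t : N₂) : L) with hx
    have hxmem : x ∈ N₂ := (e t).2
    have hx1 : x ≠ 1 := by
      intro h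
      apply ht1
      apply e.injective
      rw [map_one]
      exact Subtype.ext h
    have hx2 : x * x = 1 := by
      have : e t * e t = 1 := by rw [← map_mul, ht2, map_one]
      exact congrArg Subtype.val this
    have hcent : ∀ y : L, y * x = x * y := by
      intro y
      have hymem : y * x * y⁻¹ ∈ N₂ := hN₂n.conj_mem x hxmem y
      set u : C₁ := e.symm ⟨y * x * y⁻¹, hymem⟩ with hu
      have heu : e u = ⟨y * x * y⁻¹, hymem⟩ := by rw [hu, MulEquiv.apply_symm_apply]
      have hu1 : u ≠ 1 := by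
        intro h
        rw [h, map_one] at heu
        have h1 : y * x * y⁻¹ = 1 := (congrArg Subtype.val heu).symm
        apply hx1
        have e1 : x = y⁻¹ * (y * x * y⁻¹) * y := by group
        rw [e1, h1]; group
      have hu2 : u * u = 1 := by
        apply e.injective
        rw [map_mul, heu, map_one]
        apply Subtype.ext
        change (y * x * y⁻¹) * (y * x * y⁻¹) = 1
        have e1 : (y * x * y⁻¹) * (y * x * y⁻¹) = y * (x * x) * y⁻¹ := by group
        rw [e1, hx2]; group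
      have hut : (u : K) = (t : K) :=
        FrobGroup.unique_involution hC₁ hN₁ u.2 t.2
          (fun h => hu1 (Subtype.ext h)) (fun h => ht1 (Subtype.ext h))
          (congrArg Subtype.val hu2) (congrArg Subtype.val ht2)
      have hut' : u = t := Subtype.ext hut
      rw [hut'] at heu
      have h1 : x = y * x * y⁻¹ := congrArg Subtype.val heu
      calc y * x = (y * x * y⁻¹) * y := by group
        _ = x * y := by rw [← h1]
    have htop : ∀ y : L, y ∈ N₂ := fun y =>
      FrobGroup.kernel_centralizer hC₂ hN₂ hxmem hx1 (hcent y)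
    apply hC₂.1
    rw [eq_bot_iff]
    intro c hc
    rw [Subgroup.mem_bot]
    exact FrobGroup.disjoint hN₂ (htop c) hc
  have hN₁bot : N₁ ≠ ⊥ := FrobGroup.kernel_ne_bot hC₁ hN₁
  haveI hZ₁ : IsZGroup C₁ := by
    refine ⟨fun p hp P => ?_⟩
    haveI : Fact p.Prime := ⟨hp⟩
    have hinj : Function.Injective C₁.subtype := C₁.subtype_injective
    have hPp : IsPGroup p ((P : Subgroup C₁).map C₁.subtype) := P.isPGroup'.map _
    have hPle : (P : Subgroup C₁).map C₁.subtype ≤ C₁ := Subgroup.map_subtype_le _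
    rcases fpf_pgroup_cyclic_or_quaternion hN₁bot
        ((P : Subgroup C₁).map C₁.subtype) hPp
        (fun a ha a1 => FrobGroup.fpf_form hC₁ hN₁ a (hPle ha) a1)
      with hcyc | ⟨rfl, n, ⟨f⟩⟩
    · have e' := (P : Subgroup C₁).equivMapOfInjective C₁.subtype hinj
      exact isCyclic_of_surjective e'.symm.toMonoidHom e'.symm.surjective
    · exfalso
      have h1 : Nat.card ((P : Subgroup C₁).map C₁.subtype) = 4 * 2 ^ n := by
        haveI : NeZero (2 ^ n) := ⟨by positivity⟩
        rw [Nat.card_congr f.toEquiv, Nat.card_eq_fintype_card, QuaternionGroup.card]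
      have h2 : Nat.card ((P : Subgroup C₁).map C₁.subtype) ∣ nB := by
        rw [Subgroup.card_map_of_injective hinj]
        exact Subgroup.card_subgroup_dvd_card _
      rw [h1] at h2
      have : 2 ∣ nB := Dvd.dvd.trans ⟨2 * 2 ^ n, by ring⟩ h2
      rw [← Nat.not_even_iff_odd] at hodd
      exact hodd (even_iff_two_dvd.mpr this)
  haveI hZN : IsZGroup N₂ := IsZGroup.of_surjective (f := e.toMonoidHom) e.surjective
  haveI hnil : Group.IsNilpotent N₂ := FrobGroup.nilpotent hC₂ hN₂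
  infer_instance

end kernelcyclic

section pair

variable {X : Type*} [Group X] [Finite X] {B : Set ℕ}

/-- `frob_of_pi_split` for a pair of subgroups `N ≤ M` of `X` -/
theorem frob_of_pi_pair (hno : NoAB B X) (N M : Subgroup X) [N.Normal] (hle : N ≤ M)
    (hN : N ≠ ⊥) (hNM : N ≠ M) (hNpi : PiGroup B N)
    (hMN : PiGroup Bᶜ (M.map (QuotientGroup.mk' N))) :
    ∃ C : Subgroup ↥M, IsFrobeniusComplement C ∧
      frobeniusKernel C = (N.subgroupOf M : Set ↥M) ∧
      Subgroup.IsComplement' (N.subgroupOf M) C := by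
  have hcardN : Nat.card (N.subgroupOf M) = Nat.card N :=
    Nat.card_congr (Subgroup.subgroupOfEquivOfLe hle).toEquiv
  have h1 : N.subgroupOf M ≠ ⊥ := by
    rw [Ne, Subgroup.subgroupOf_eq_bot, disjoint_iff, inf_of_le_left hle]
    exact hN
  have h2 : N.subgroupOf M ≠ ⊤ := by
    rw [Ne, Subgroup.subgroupOf_eq_top]
    intro h
    exact hNM (le_antisymm hle h)
  have h3 : PiGroup B (N.subgroupOf M) := hNpi.of_dvd (by rw [hcardN])
  have h4 : PiGroup Bᶜ (↥M ⧸ N.subgroupOf M) := by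
    apply hMN.of_dvd
    have e1 := Subgroup.card_eq_card_quotient_mul_card_subgroup (N.subgroupOf M)
    have e2 := card_map_mk_mul N M hle
    rw [hcardN, ← e2] at e1
    rw [Nat.eq_of_mul_eq_mul_right Nat.card_pos e1]
  exact frob_of_pi_split (hno.of_injective M.subtype M.subtype_injective) (N.subgroupOf M) h1 h2 h3 h4

/-- a complement of `N` in `M` is isomorphic to `M/N` -/
theorem exists_complEquivMap {X : Type*} [Group X] (N M : Subgroup X) [N.Normal] (C : Subgroup ↥M)
    (hcomp : Subgroup.IsComplement' (N.subgroupOf M) C) :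
    Nonempty (C ≃* (M.map (QuotientGroup.mk' N) : Subgroup (X ⧸ N))) := by
  have hdisj : ∀ c : M, c ∈ C → (c : X) ∈ N → c = 1 := by
    intro c hc hcN
    have := hcomp.disjoint
    rw [Subgroup.disjoint_def] at this
    exact this (Subgroup.mem_subgroupOf.mpr hcN) hc
  let ψ₀ : C →* X ⧸ N := (QuotientGroup.mk' N).comp (M.subtype.comp C.subtype)
  have hψ₀ : ∀ c : C, ψ₀ c ∈ M.map (QuotientGroup.mk' N) := fun c =>
    Subgroup.mem_map_of_mem _ c.1.2
  let ψ : C →* (M.map (QuotientGroup.mk' N) : Subgroup (X ⧸ N)) := ψ₀.codRestrict _ hψ₀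
  have hψval : ∀ c : C, ((ψ c : M.map (QuotientGroup.mk' N)) : X ⧸ N) =
      QuotientGroup.mk' N ((c : M) : X) := fun c => rfl
  have hψinj : Function.Injective ψ := by
    rw [injective_iff_map_eq_one]
    intro c hc
    have h1 : QuotientGroup.mk' N ((c : M) : X) = 1 := by
      rw [← hψval, hc]; rfl
    rw [QuotientGroup.mk'_apply, QuotientGroup.eq_one_iff] at h1
    exact Subtype.ext (hdisj c.1 c.2 h1)
  have hψsurj : Function.Surjective ψ := by
    rintro ⟨y, hy⟩
    obtain ⟨k, hk, rfl⟩ := Subgroup.mem_map.mp hy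
    obtain ⟨⟨n, c⟩, hnc, -⟩ := hcomp.existsUnique ⟨k, hk⟩
    refine ⟨c, ?_⟩
    apply Subtype.ext
    rw [hψval]
    have h1 : k = ((n : M) : X) * ((c : M) : X) := by
      have := congrArg Subtype.val hnc
      simpa using this.symm
    have h2 : ((n : M) : X) ∈ N := Subgroup.mem_subgroupOf.mp n.2
    change ((((c : M) : X) : X ⧸ N)) = ((k : X) : X ⧸ N)
    rw [h1, QuotientGroup.mk_mul, (QuotientGroup.eq_one_iff _).mpr h2, one_mul]
  exact ⟨MulEquiv.ofBijective ψ ⟨hψinj, hψsurj⟩⟩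

end pair

section core

theorem core {G : Type*} [Group G] [Finite G] (hsol : Group.IsSolvable G) (B : Set ℕ)
    (hno : NoAB B G) (hb : ∃ b, b ∉ B ∧ b.Prime ∧ b ∣ Nat.card G)
    (H₀ : Subgroup G) (hH₀n : H₀.Normal) (hH₀bot : H₀ ≠ ⊥) (hH₀pi : PiGroup B H₀) :
    (∃ C : Subgroup G, IsFrobeniusComplement C) ∨
    (∃ (H K : Subgroup G) (_ : H.Normal), K.Normal ∧ H < K ∧
      (∃ C : Subgroup ↥K, IsFrobeniusComplement C ∧
        frobeniusKernel C = (H.subgroupOf K : Set ↥K)) ∧
      (∃ C : Subgroup (G ⧸ H), IsFrobeniusComplement C ∧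
        frobeniusKernel C = (K.map (QuotientGroup.mk' H) : Set (G ⧸ H)))) := by
  classical
  -- Step 1: `H = O_π(G)`
  obtain ⟨H, hH₀H, hHn, hHpi, hHmax⟩ := exists_maximal_normal_pi H₀ hH₀n hH₀pi
  haveI := hHn
  have hHbot : H ≠ ⊥ := fun h => hH₀bot (le_bot_iff.mp (h ▸ hH₀H))
  have hnoQ : NoAB B (G ⧸ H) := hno.of_surjective _ (QuotientGroup.mk'_surjective H)
  haveI hsolQ : Group.IsSolvable (G ⧸ H) := inferInstance
  have hOpi := quotient_no_normal_pi H hHpi hHmax
  obtain ⟨b, hbB, hbp, hbG⟩ := hb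
  have hbQ : b ∣ Nat.card (G ⧸ H) := by
    rw [Subgroup.card_eq_card_quotient_mul_card_subgroup H] at hbG
    rcases (Nat.Prime.dvd_mul hbp).mp hbG with h | h
    · exact h
    · exact absurd (hHpi b hbp h) hbB
  haveI hQnt : Nontrivial (G ⧸ H) := by
    rw [← Finite.one_lt_card_iff_nontrivial]
    exact lt_of_lt_of_le hbp.one_lt (Nat.le_of_dvd Nat.card_pos hbQ)
  have hHtop : H ≠ ⊤ := by
    intro h
    have : Nat.card (G ⧸ H) = 1 := by
      rw [← Subgroup.index_eq_card, h, Subgroup.index_top]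
    rw [this] at hbQ
    exact hbp.one_lt.ne' (Nat.dvd_one.mp hbQ)
  -- Step 2: `K̄ = O_{π'}(G/H)`
  obtain ⟨p, M, hp, hpB, hMn, hMbot, hMp⟩ := exists_normal_compl_pgroup hOpi
  obtain ⟨Kb, hMKb, hKbn, hKbpi, hKbmax⟩ := exists_maximal_normal_pi (B := Bᶜ) M hMn
    (PiGroup.of_isPGroup hp hpB hMp)
  haveI := hKbn
  have hKbbot : Kb ≠ ⊥ := fun h => hMbot (le_bot_iff.mp (h ▸ hMKb))
  -- Step 3: `K`
  set K : Subgroup G := Kb.comap (QuotientGroup.mk' H) with hK
  haveI hKn : K.Normal := hKbn.comap _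
  have hHK : H ≤ K := by
    intro x hx
    rw [hK, Subgroup.mem_comap, QuotientGroup.mk'_apply, (QuotientGroup.eq_one_iff x).mpr hx]
    exact Kb.one_mem
  have hKmap : K.map (QuotientGroup.mk' H) = Kb :=
    Subgroup.map_comap_eq_self_of_surjective (QuotientGroup.mk'_surjective H) Kb
  have hHneK : H ≠ K := by
    intro h
    apply hKbbot
    rw [← hKmap, ← h, QuotientGroup.map_mk'_self]
  have hlt : H < K := lt_of_le_of_ne hHK hHneK
  obtain ⟨C₁, hC₁, hker₁, hcomp₁⟩ := frob_of_pi_pair hno H K hHK hHbot hHneK hHpi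
    (by rw [hKmap]; exact hKbpi)
  by_cases hKbtop : Kb = ⊤
  · -- `G/H` is a `π'`-group: `G` is a Frobenius group
    left
    have hQpi : PiGroup Bᶜ (G ⧸ H) := by
      apply hKbpi.of_dvd
      rw [hKbtop, Subgroup.card_top]
    obtain ⟨C, hC, -, -⟩ := frob_of_pi_split hno H hHbot hHtop hHpi hQpi
    exact ⟨C, hC⟩
  · right
    refine ⟨H, K, hHn, hKn, hlt, ⟨C₁, hC₁, hker₁⟩, ?_⟩
    rw [hKmap]
    -- it remains to show that `(G/H)/K̄` is a `π`-group
    have hnoQ' : NoAB Bᶜ (G ⧸ H) := hnoQ.compl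
    have hOpi' := quotient_no_normal_pi Kb hKbpi hKbmax
    haveI hQQnt : Nontrivial ((G ⧸ H) ⧸ Kb) := by
      rw [← Finite.one_lt_card_iff_nontrivial, ← Subgroup.index_eq_card]
      have h1 : Kb.index ≠ 1 := fun h => hKbtop (Subgroup.index_eq_one.mp h)
      have h2 : Kb.index ≠ 0 := Subgroup.index_ne_zero_of_finite
      omega
    haveI hsolQQ : Group.IsSolvable ((G ⧸ H) ⧸ Kb) := inferInstance
    obtain ⟨a, Lt, ha, haB, hLtn, hLtbot, hLtp⟩ := exists_normal_compl_pgroup (B := Bᶜ) hOpi'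
    have haB' : a ∈ B := by
      by_contra h
      exact haB h
    set Lb : Subgroup (G ⧸ H) := Lt.comap (QuotientGroup.mk' Kb) with hLb
    haveI hLbn : Lb.Normal := hLtn.comap _
    have hKL : Kb ≤ Lb := by
      intro x hx
      rw [hLb, Subgroup.mem_comap, QuotientGroup.mk'_apply, (QuotientGroup.eq_one_iff x).mpr hx]
      exact Lt.one_mem
    have hLmap : Lb.map (QuotientGroup.mk' Kb) = Lt :=
      Subgroup.map_comap_eq_self_of_surjective (QuotientGroup.mk'_surjective Kb) Lt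
    have hKneL : Kb ≠ Lb := by
      intro h
      apply hLtbot
      rw [← hLmap, ← h, QuotientGroup.map_mk'_self]
    obtain ⟨C₂, hC₂, hker₂, hcomp₂⟩ := frob_of_pi_pair hnoQ' Kb Lb hKL hKbbot hKneL hKbpi
      (by rw [hLmap, compl_compl]; exact PiGroup.of_isPGroup ha haB' hLtp)
    -- `K̄` is cyclic
    obtain ⟨e₁⟩ := exists_complEquivMap H K C₁ hcomp₁
    rw [hKmap] at e₁
    have e₂ : C₁ ≃* (Kb.subgroupOf Lb) := e₁.trans (Subgroup.subgroupOfEquivOfLe hKL).symm
    have hcyc' : IsCyclic (Kb.subgroupOf Lb) := kernel_cyclic hC₁ hker₁.symm hC₂ hker₂.symm e₂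
    have hcyc : IsCyclic Kb :=
      isCyclic_of_surjective (Subgroup.subgroupOfEquivOfLe hKL).toMonoidHom
        (Subgroup.subgroupOfEquivOfLe hKL).surjective
    -- Step 6: the centralizer of `K̄` is `K̄`
    have hKbcomm : IsMulCommutative Kb := IsCyclic.isMulCommutative
    have hKbC : Kb ≤ Subgroup.centralizer (Kb : Set (G ⧸ H)) :=
      Subgroup.le_centralizer_iff_isMulCommutative.mpr hKbcomm
    obtain ⟨s₀, hs₀, hs₀K⟩ : ∃ s₀ : ℕ, s₀.Prime ∧ s₀ ∣ Nat.card Kb := by
      apply Nat.exists_prime_and_dvd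
      intro h
      exact hKbbot (Subgroup.card_eq_one.mp h)
    have hs₀B : s₀ ∉ B := hKbpi s₀ hs₀ hs₀K
    haveI : Fact s₀.Prime := ⟨hs₀⟩
    obtain ⟨k₀, hk₀⟩ := exists_prime_orderOf_dvd_card' (G := Kb) s₀ hs₀K
    have hCpi : PiGroup Bᶜ (Subgroup.centralizer (Kb : Set (G ⧸ H))) := by
      intro r hr hrC hrB
      haveI : Fact r.Prime := ⟨hr⟩
      obtain ⟨c, hc⟩ := exists_prime_orderOf_dvd_card' (G := Subgroup.centralizer (Kb : Set (G ⧸ H))) r hrC
      have hcomm : (c : G ⧸ H) * (k₀ : G ⧸ H) = (k₀ : G ⧸ H) * (c : G ⧸ H) :=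
        (Subgroup.mem_centralizer_iff.mp c.2 k₀ k₀.2).symm
      exact hnoQ.commute hcomm hr hs₀ hrB hs₀B (by rw [Subgroup.orderOf_coe, hc])
        (by rw [Subgroup.orderOf_coe, hk₀])
    have hCeq : Subgroup.centralizer (Kb : Set (G ⧸ H)) = Kb :=
      hKbmax _ inferInstance hCpi hKbC
    -- Step 7: `(G/H)/K̄` is abelian
    obtain ⟨g, hg⟩ := hcyc.exists_generator
    set x : G ⧸ H := (g : G ⧸ H) with hx
    have hxmem : x ∈ Kb := g.2
    have hpow : ∀ y ∈ Kb, ∃ i : ℤ, x ^ i = y := by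
      intro y hy
      obtain ⟨i, hi⟩ := Subgroup.mem_zpowers_iff.mp (hg ⟨y, hy⟩)
      exact ⟨i, by rw [hx, ← Subgroup.coe_zpow, hi]⟩
    have hab : ∀ u v : G ⧸ H, (v * u)⁻¹ * (u * v) ∈ Kb := by
      intro u v
      obtain ⟨i, hi⟩ := hpow _ (hKbn.conj_mem x hxmem u)
      obtain ⟨j, hj⟩ := hpow _ (hKbn.conj_mem x hxmem v)
      have h1 : (u * v) * x * (u * v)⁻¹ = x ^ (i * j) := by
        have e1 : (u * v) * x * (u * v)⁻¹ = u * (v * x * v⁻¹) * u⁻¹ := by group
        rw [e1, ← hj, ← MulAut.conj_apply, map_zpow, MulAut.conj_apply, ← hi, ← zpow_mul]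
      have h2 : (v * u) * x * (v * u)⁻¹ = x ^ (i * j) := by
        have e1 : (v * u) * x * (v * u)⁻¹ = v * (u * x * u⁻¹) * v⁻¹ := by group
        rw [e1, ← hi, ← MulAut.conj_apply, map_zpow, MulAut.conj_apply, ← hj, ← zpow_mul, mul_comm]
      set c : G ⧸ H := (v * u)⁻¹ * (u * v) with hc
      have hcx : c * x = x * c := by
        have e1 : c * x = (v * u)⁻¹ * ((u * v) * x * (u * v)⁻¹) * (u * v) := by rw [hc]; group
        have e2 : x * c = (v * u)⁻¹ * ((v * u) * x * (v * u)⁻¹) * (u * v) := by rw [hc]; group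
        rw [e1, e2, h1, h2]
      rw [← hCeq, Subgroup.mem_centralizer_iff]
      intro y hy
      obtain ⟨i, rfl⟩ := hpow y hy
      exact ((Commute.zpow_right (show Commute c x from hcx) i).eq).symm
    have hcommQ : ∀ u v : (G ⧸ H) ⧸ Kb, u * v = v * u := by
      intro u v
      obtain ⟨u, rfl⟩ := QuotientGroup.mk'_surjective Kb u
      obtain ⟨v, rfl⟩ := QuotientGroup.mk'_surjective Kb v
      rw [← map_mul, ← map_mul, QuotientGroup.mk'_apply, QuotientGroup.mk'_apply, QuotientGroup.eq]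
      exact hab v u
    -- Step 8: `(G/H)/K̄` is a `π`-group
    have hQQpi : PiGroup B ((G ⧸ H) ⧸ Kb) := by
      intro s hs hsQ
      by_contra hsB
      haveI : Fact s.Prime := ⟨hs⟩
      obtain ⟨y, hy⟩ := exists_prime_orderOf_dvd_card' (G := (G ⧸ H) ⧸ Kb) s hsQ
      have hZn : (Subgroup.zpowers y).Normal := by
        refine ⟨fun z hz w => ?_⟩
        have : w * z * w⁻¹ = z := by rw [hcommQ w z]; group
        rw [this]; exact hz
      have hZpi : PiGroup Bᶜ (Subgroup.zpowers y) := by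
        intro r hr hrZ
        rw [Nat.card_zpowers, hy] at hrZ
        rw [(Nat.prime_dvd_prime_iff_eq hr hs).mp hrZ]
        exact hsB
      have := hOpi' _ hZn hZpi
      rw [Subgroup.zpowers_eq_bot] at this
      rw [this, orderOf_one] at hy
      exact hs.one_lt.ne hy
    obtain ⟨C, hC, hCker, -⟩ := frob_of_pi_split hnoQ' Kb hKbbot hKbtop hKbpi
      (by rw [compl_compl]; exact hQQpi)
    exact ⟨C, hC, hCker⟩

end core

end Cfsg.Agent.Helper1.PrimeGraph
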