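import Mathlib
import Cfsg.Agent.Helper5.TDDefs
import Cfsg.Agent.Helper29.TwoDegF
import Cfsg.Agent.Helper24.Monomial
import Cfsg.Agent.Helper24.Codegree

set_option autoImplicit false
set_option linter.style.haveILetI false
set_option linter.unusedVariables false
set_option linter.unusedSectionVars false

/-!
# S4460 piece DNIL: a nilpotent group with at most three character degrees has derived length ≤ 3
(Taketa's argument for monomial groups)
-/

open Cfsg Cfsg.Agent.Helper24 Cfsg.Agent.Helper29.TwoDeg Cfsg.Agent.Helper5.TD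
open scoped ComplexConjugate commutatorElement

universe u

namespace Cfsg.Agent.Helper1.TD

variable {G : Type u} [Group G] [Finite G]

/-- Taketa: in a group all of whose irreducible characters are monomial, the `n`-th derived
subgroup lies in the kernel of every irreducible character with at most `n` degrees below it. -/
theorem taketa_chain [Fintype G] [Fintype (IrrCharacter G)]
    (hM : ∀ χ : IrrCharacter G, ∃ (H : Subgroup G) (lam : H →* ℂˣ),
      (χ : G → ℂ) = indFun H (fun h => (lam h : ℂ))) :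
    ∀ (n : ℕ) (χ : IrrCharacter G),
      {d ∈ Cfsg.Agent.Helper29.BG.cdSet G | d ≤ irrDeg χ}.ncard ≤ n →
      ∀ g ∈ derivedSeries G n, (χ : G → ℂ) g = (χ : G → ℂ) 1 := by
  have hfin : (Cfsg.Agent.Helper29.BG.cdSet G).Finite := Cfsg.Agent.Helper29.BG.cdSet_finite
  have hmem : ∀ χ : IrrCharacter G, irrDeg χ ∈ Cfsg.Agent.Helper29.BG.cdSet G :=
    fun χ => ⟨χ, charDegree_irr χ⟩
  intro n
  induction n with
  | zero =>
    intro χ hχ
    exfalso
    have hfin' : {d ∈ Cfsg.Agent.Helper29.BG.cdSet G | d ≤ irrDeg χ}.Finite :=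
      hfin.subset (fun d hd => hd.1)
    have : irrDeg χ ∈ {d ∈ Cfsg.Agent.Helper29.BG.cdSet G | d ≤ irrDeg χ} := ⟨hmem χ, le_rfl⟩
    have h0 := Nat.le_zero.mp hχ
    rw [Set.ncard_eq_zero hfin'] at h0
    rw [h0] at this
    exact this
  | succ n ih =>
    intro χ hχ
    haveI : (derivedSeries G n).Normal := derivedSeries_normal G n
    rw [derivedSeries_succ]
    apply taketa_step χ (hM χ) (derivedSeries G n)
    intro θ hθ y hy
    apply ih θ _ y hy
    have hfin' : {d ∈ Cfsg.Agent.Helper29.BG.cdSet G | d ≤ irrDeg χ}.Finite :=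
      hfin.subset (fun d hd => hd.1)
    have hss : {d ∈ Cfsg.Agent.Helper29.BG.cdSet G | d ≤ irrDeg θ} ⊂
        {d ∈ Cfsg.Agent.Helper29.BG.cdSet G | d ≤ irrDeg χ} := by
      constructor
      · intro d hd
        exact ⟨hd.1, le_trans hd.2 hθ.le⟩
      · intro hsub
        have : irrDeg χ ∈ {d ∈ Cfsg.Agent.Helper29.BG.cdSet G | d ≤ irrDeg θ} :=
          hsub ⟨hmem χ, le_rfl⟩
        exact absurd this.2 (not_le.mpr hθ)
    have := Set.ncard_lt_ncard hss hfin'
    omega

theorem derived_of_nilpotent [Group.IsNilpotent G] (h : LeThree G) :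
    derivedSeries G 3 = ⊥ := by
  classical
  haveI : Fintype G := Fintype.ofFinite G
  haveI : Fintype (IrrCharacter G) := Fintype.ofFinite _
  have hM : ∀ χ : IrrCharacter G, ∃ (H : Subgroup G) (lam : H →* ℂˣ),
      (χ : G → ℂ) = indFun H (fun h => (lam h : ℂ)) :=
    fun χ => isMonomial_of_nilpotent_aux (Nat.card G) G rfl (χ : G → ℂ) χ.2
  have hfin : (Cfsg.Agent.Helper29.BG.cdSet G).Finite := Cfsg.Agent.Helper29.BG.cdSet_finite
  rw [Subgroup.eq_bot_iff_forall]
  intro g hg
  apply Cfsg.Agent.Helper29.TwoDeg.eq_one_of_forall_irr g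
  intro χ
  apply taketa_chain hM 3 χ _ g hg
  calc {d ∈ Cfsg.Agent.Helper29.BG.cdSet G | d ≤ irrDeg χ}.ncard
      ≤ (Cfsg.Agent.Helper29.BG.cdSet G).ncard := Set.ncard_le_ncard (fun d hd => hd.1) hfin
    _ ≤ 3 := h

end Cfsg.Agent.Helper1.TD
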