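import Mathlib
import Cfsg.Agent.Helper5.ABDefs

/-! S4463 piece B3 (driver helper5): Schur–Zassenhaus complement of `X'` in the Frobenius-like
case: partition and core-freeness. -/

set_option autoImplicit false

namespace Cfsg.Agent.Helper1.AB

open Cfsg Cfsg.Agent.Helper24 Cfsg.Agent.Helper29.TwoDeg Cfsg.Agent.Helper5.AB
open scoped ComplexConjugate commutatorElement

universe u

theorem caseB_complement {X : Type u} [Group X] [Finite X]
    (hfpf : ∀ g : X, g ∉ commutator X → ∀ x ∈ commutator X, g * x = x * g → x = 1)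
    (hcop : ((commutator X).index).Coprime (Nat.card (commutator X)))
    (hnt : 1 < Nat.card (commutator X)) :
    ∃ C : Subgroup X, C.index = Nat.card (commutator X) ∧
      (∀ x : X, x ∉ commutator X → ∃ g : X, g * x * g⁻¹ ∈ C) ∧
      (∀ c ∈ C, c ≠ 1 → ∃ g : X, g * c * g⁻¹ ∉ C) := by
  classical
  have hMn : (commutator X).Normal := inferInstance
  obtain ⟨C, hC⟩ := Subgroup.exists_left_complement'_of_coprime (N := commutator X) hcop.symm
  have hdisj : ∀ y : X, y ∈ C → y ∈ commutator X → y = 1 := by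
    intro y h1 h2
    have := hC.disjoint
    rw [Subgroup.disjoint_def] at this
    exact this h1 h2
  refine ⟨C, hC.symm.index_eq_card, ?_, ?_⟩
  · intro x hx
    obtain ⟨⟨⟨c, hc⟩, ⟨m, hm⟩⟩, hcm, -⟩ := (Subgroup.isComplement_iff_existsUnique.mp hC) x
    simp only at hcm
    have hcM : c⁻¹ ∉ commutator X := by
      intro h
      apply hx
      rw [← hcm]
      exact (commutator X).mul_mem (by simpa using (commutator X).inv_mem h) hm
    obtain ⟨y, hy, hym⟩ := fpf_surj (commutator X) c⁻¹ (hfpf c⁻¹ hcM) m hm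
    refine ⟨y⁻¹, ?_⟩
    have : y⁻¹ * x * y⁻¹⁻¹ = c := by
      rw [← hcm, ← hym]
      group
    rw [this]
    exact hc
  · intro c hc hc1
    have hcM : c ∉ commutator X := fun h => hc1 (hdisj c hc h)
    obtain ⟨m, hm1⟩ : ∃ m : commutator X, m ≠ 1 := by
      have : Nontrivial (commutator X) := by
        rw [← Finite.one_lt_card_iff_nontrivial]
        exact hnt
      exact exists_ne 1
    refine ⟨(m : X), ?_⟩
    intro hmem
    have h1 : c⁻¹ * ((m : X) * c * (m : X)⁻¹) ∈ C := C.mul_mem (C.inv_mem hc) hmem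
    have h2 : c⁻¹ * ((m : X) * c * (m : X)⁻¹) ∈ commutator X := by
      have : c⁻¹ * ((m : X) * c * (m : X)⁻¹) = (c⁻¹ * (m : X) * c⁻¹⁻¹) * (m : X)⁻¹ := by group
      rw [this]
      exact (commutator X).mul_mem (hMn.conj_mem _ m.2 _) ((commutator X).inv_mem m.2)
    have h3 := hdisj _ h1 h2
    have h4 : c * (m : X) = (m : X) * c := by
      have : (m : X) * c * (m : X)⁻¹ = c := by
        have := congrArg (fun t => c * t) h3
        simpa using this
      calc c * (m : X) = ((m : X) * c * (m : X)⁻¹) * (m : X) := by rw [this]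
        _ = (m : X) * c := by group
    have h5 := hfpf c hcM (m : X) m.2 h4
    exact hm1 (Subtype.ext h5)

end Cfsg.Agent.Helper1.AB
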