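import Mathlib
import Cfsg.Agent.Helper18.AIDefs
import Cfsg.Agent.Helper20.CTCNT

set_option autoImplicit false
set_option linter.style.haveILetI false
set_option linter.unusedVariables false
set_option linter.unusedSectionVars false

/-!
# S2202 piece CNT1: the first count for groups with abelian involution centralizers
-/

open Cfsg.Agent.Helper18.AI Cfsg.Agent.Helper18.CT Cfsg.Agent.Helper20.CT MulAction

namespace Cfsg.Agent.Helper1.AI

variable {G : Type*} [Group G]

theorem orderOf_conj_two {t : G} (ht : orderOf t = 2) (g : G) : orderOf (g * t * g⁻¹) = 2 := by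
  have := (MulAut.conj g).orderOf_eq t
  rw [MulAut.conj_apply] at this
  rw [this, ht]

/-- two involutions mapping `a` to `b` whose product lies in `K a` are equal -/
theorem Geo1.eq_of_mul_mem {Ω : Type*} [MulAction G Ω]
    {K : Ω → Subgroup G} {e : ℕ} (h : Geo1 Ω K e)
    (hINV : ∀ α β : Ω, α ≠ β → ∀ b w : G, b ∈ K α ⊓ K β → orderOf w = 2 →
      w * b * w⁻¹ = b⁻¹ → b = 1) {a b : Ω} (hab : a ≠ b) {u v : G} (hu : orderOf u = 2)
    (hua : u • a = b) (hv : orderOf v = 2) (hva : v • a = b) (huv : u * v ∈ K a) : u = v := by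
  have h1 : u * (u * v) * u⁻¹ ∈ K (u • a) := h.K_conj u a (u * v) huv
  rw [hua] at h1
  have h2 : u * (u * v) * u⁻¹ = (u * v)⁻¹ := by
    rw [mul_inv_rev, inv_inv_eq hu, inv_inv_eq hv, ← mul_assoc, inv_mul_self hu, one_mul]
  rw [h2] at h1
  have h3 : u * v ∈ K b := by
    have := (K b).inv_mem h1
    rwa [inv_inv] at this
  have h4 := hINV a b hab (u * v) u ⟨huv, h3⟩ hu h2
  calc u = v⁻¹ := eq_inv_of_mul_eq_one_left h4
    _ = v := inv_inv_eq hv

/-- if `g t₀ g⁻¹ = g' t₀ g'⁻¹` then `g'⁻¹ g` commutes with `t₀` -/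
theorem comm_of_conj_eq {g g' t : G} (hc : g * t * g⁻¹ = g' * t * g'⁻¹) :
    (g'⁻¹ * g) * t = t * (g'⁻¹ * g) := by
  have : g'⁻¹ * (g * t * g⁻¹) * g = g'⁻¹ * (g' * t * g'⁻¹) * g := by rw [hc]
  calc g'⁻¹ * g * t = g'⁻¹ * (g * t * g⁻¹) * g := by group
    _ = g'⁻¹ * (g' * t * g'⁻¹) * g := this
    _ = t * (g'⁻¹ * g) := by group

theorem Geo1.pairOK1 [Finite G] {Ω : Type*} [MulAction G Ω] [Finite Ω]
    {K : Ω → Subgroup G} {e : ℕ} (h : Geo1 Ω K e)
    (hINV : ∀ α β : Ω, α ≠ β → ∀ b w : G, b ∈ K α ⊓ K β → orderOf w = 2 →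
      w * b * w⁻¹ = b⁻¹ → b = 1) :
    (∀ α β : Ω, α ≠ β → PairOK1 Ω K e α β) ∧
    ∀ α : Ω, (K α).relIndex (stabilizer G α) = e := by
  classical
  have := Fintype.ofFinite G
  have := Fintype.ofFinite Ω
  set I : Finset G := Finset.univ.filter (fun u => orderOf u = 2) with hI
  let J : Ω → Ω → Finset G := fun a b => Finset.univ.filter (fun u => orderOf u = 2 ∧ u • a = b)
  have hmemI : ∀ u : G, u ∈ I ↔ orderOf u = 2 := by
    intro u; simp [hI]
  have hmemJ : ∀ (a b : Ω) (u : G), u ∈ J a b ↔ (orderOf u = 2 ∧ u • a = b) := by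
    intro a b u; simp [J]
  have huniq : ∀ u : G, orderOf u = 2 → ∀ γ δ : Ω, u • γ = γ → u • δ = δ → δ = γ := by
    intro u hu γ δ hγ hδ
    exact h.inv_fix_unique u hu δ γ hδ hγ
  have hJaa : ∀ a, (J a a).card = e := by
    intro a
    have := h.inv_card a
    rw [Nat.card_eq_fintype_card, Fintype.card_subtype] at this
    exact this
  have hIfilter : ∀ γ : Ω, I.filter (fun u => u • γ = γ) = J γ γ := by
    intro γ
    ext u
    simp [hI, J]
  -- an involution fixing a given point
  have hex : ∀ a : Ω, ∃ t : G, orderOf t = 2 ∧ t • a = a := by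
    intro a
    have hpos : 0 < (J a a).card := by rw [hJaa]; exact lt_of_lt_of_le (by norm_num) h.e_ge
    obtain ⟨t, ht⟩ := Finset.card_pos.1 hpos
    exact ⟨t, (hmemJ a a t).1 ht⟩
  -- the centralizer of an involution fixing `a` lies in `K a`
  have hcent : ∀ (a : Ω) (t : G), orderOf t = 2 → t • a = a → ∀ x : G, x * t = t * x → x ∈ K a :=
    fun a t ht hta x hx => h.K_cent a t ht (h.K_inv a t ht hta) x hx
  -- |I| = n e
  have hIcard : I.card = Fintype.card Ω * e := by
    have hdc := Finset.sum_card_bipartiteAbove_eq_sum_card_bipartiteBelow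
      (s := I) (t := (Finset.univ : Finset Ω)) (fun (u : G) (γ : Ω) => u • γ = γ)
    have hL : ∑ u ∈ I, ((Finset.univ : Finset Ω).bipartiteAbove
        (fun (u : G) (γ : Ω) => u • γ = γ) u).card = I.card := by
      rw [Finset.card_eq_sum_ones]
      apply Finset.sum_congr rfl
      intro u hu
      have hu2 := (hmemI u).1 hu
      obtain ⟨γ, hγ⟩ := h.inv_fix u hu2
      rw [Finset.card_eq_one]
      refine ⟨γ, ?_⟩
      ext δ
      simp only [Finset.bipartiteAbove, Finset.mem_filter, Finset.mem_univ, true_and,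
        Finset.mem_singleton]
      constructor
      · intro hδ; exact huniq u hu2 γ δ hγ hδ
      · rintro rfl; exact hγ
    have hR : ∑ γ ∈ (Finset.univ : Finset Ω), (I.bipartiteBelow
        (fun (u : G) (γ : Ω) => u • γ = γ) γ).card = Fintype.card Ω * e := by
      have : ∀ γ ∈ (Finset.univ : Finset Ω), (I.bipartiteBelow
          (fun (u : G) (γ : Ω) => u • γ = γ) γ).card = e := by
        intro γ _
        have : I.bipartiteBelow (fun (u : G) (γ : Ω) => u • γ = γ) γ = J γ γ := by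
          rw [← hIfilter γ]; rfl
        rw [this, hJaa]
      rw [Finset.sum_congr rfl this, Finset.sum_const, Finset.card_univ, smul_eq_mul]
    rw [← hL, hdc, hR]
  -- the conjugation map `v ↦ (u v) t (u v)⁻¹` from `J a b` to `J a a`
  have hmapsJ : ∀ (a b : Ω) (u t : G), orderOf u = 2 → u • a = b → orderOf t = 2 → t • a = a →
      ∀ v ∈ J a b, (u * v) * t * (u * v)⁻¹ ∈ J a a := by
    intro a b u t hu hua ht hta v hv
    obtain ⟨hv2, hva⟩ := (hmemJ a b v).1 hv
    have hub : u • b = a := inv_smul_swap hu hua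
    have huva : (u * v) • a = a := by rw [mul_smul, hva, hub]
    rw [hmemJ]
    refine ⟨orderOf_conj_two ht _, ?_⟩
    have h1 : (u * v)⁻¹ • a = a := by rw [inv_smul_eq_iff, huva]
    rw [mul_smul, mul_smul, h1, hta, huva]
  have hinjJ : ∀ (a b : Ω), a ≠ b → ∀ (u t : G), orderOf u = 2 → u • a = b → orderOf t = 2 →
      t • a = a → Set.InjOn (fun v => (u * v) * t * (u * v)⁻¹) (J a b : Set G) := by
    intro a b hab u t hu hua ht hta v hv v' hv' hvv'
    obtain ⟨hv2, hva⟩ := (hmemJ a b v).1 (Finset.mem_coe.1 hv)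
    obtain ⟨hv'2, hv'a⟩ := (hmemJ a b v').1 (Finset.mem_coe.1 hv')
    have h1 := comm_of_conj_eq hvv'
    have h2 : (u * v')⁻¹ * (u * v) = v' * v := by
      rw [mul_inv_rev, inv_inv_eq hv'2]; group
    rw [h2] at h1
    have h3 : v' * v ∈ K a := hcent a t ht hta _ h1
    exact (Geo1.eq_of_mul_mem h hINV hab hv'2 hv'a hv2 hva h3).symm
  -- bound
  have hJle : ∀ a b : Ω, a ≠ b → (J a b).card ≤ e := by
    intro a b hne
    by_cases hemp : J a b = ∅
    · rw [hemp]; simp
    · obtain ⟨u₀, hu₀⟩ := Finset.nonempty_iff_ne_empty.2 hemp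
      obtain ⟨hu₀2, hu₀a⟩ := (hmemJ a b u₀).1 hu₀
      obtain ⟨t₀, ht₀, ht₀a⟩ := hex a
      calc (J a b).card ≤ (J a a).card :=
            Finset.card_le_card_of_injOn _ (hmapsJ a b u₀ t₀ hu₀2 hu₀a ht₀ ht₀a)
              (hinjJ a b hne u₀ t₀ hu₀2 hu₀a ht₀ ht₀a)
        _ = e := hJaa a
  -- sum over b ≠ a
  have hsum : ∀ a : Ω, ∑ b ∈ (Finset.univ : Finset Ω).erase a, (J a b).card
      = (Fintype.card Ω - 1) * e := by
    intro a
    have hfib := Finset.card_eq_sum_card_fiberwise (f := fun u : G => u • a)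
      (s := I.filter (fun u => ¬ u • a = a)) (t := (Finset.univ : Finset Ω).erase a)
      (by
        intro u hu
        have hu' := Finset.mem_coe.1 hu
        rw [Finset.mem_filter] at hu'
        exact Finset.mem_coe.2 (Finset.mem_erase.2 ⟨hu'.2, Finset.mem_univ _⟩))
    have hfibeq : ∀ b ∈ (Finset.univ : Finset Ω).erase a,
        ((I.filter (fun u => ¬ u • a = a)).filter (fun u => u • a = b)).card = (J a b).card := by
      intro b hb
      have hba : b ≠ a := (Finset.mem_erase.1 hb).1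
      congr 1
      ext u
      simp only [Finset.mem_filter, hmemI, hmemJ]
      constructor
      · rintro ⟨⟨h1, _⟩, h3⟩; exact ⟨h1, h3⟩
      · rintro ⟨h1, h3⟩; exact ⟨⟨h1, by rw [h3]; exact hba⟩, h3⟩
    rw [Finset.sum_congr rfl hfibeq] at hfib
    rw [← hfib]
    have hsplit := Finset.card_filter_add_card_filter_not (s := I)
      (fun u => u • a = a)
    rw [hIfilter a, hJaa a, hIcard] at hsplit
    have : (I.filter (fun u => ¬ u • a = a)).card = Fintype.card Ω * e - e := by omega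
    rw [this, Nat.sub_mul, one_mul]
  -- every term equals e
  have hJeq : ∀ a b : Ω, a ≠ b → (J a b).card = e := by
    intro a b hne
    by_contra hlt
    have hlt' : (J a b).card < e := lt_of_le_of_ne (hJle a b hne) hlt
    have hbmem : b ∈ (Finset.univ : Finset Ω).erase a :=
      Finset.mem_erase.2 ⟨hne.symm, Finset.mem_univ _⟩
    have hs := Finset.sum_lt_sum (s := (Finset.univ : Finset Ω).erase a)
      (f := fun b => (J a b).card) (g := fun _ => e)
      (fun c hc => hJle a c (Finset.mem_erase.1 hc).1.symm) ⟨b, hbmem, hlt'⟩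
    rw [hsum a, Finset.sum_const, Finset.card_erase_of_mem (Finset.mem_univ a),
      Finset.card_univ, smul_eq_mul] at hs
    exact lt_irrefl _ hs
  -- decomposition of the stabilizer
  have hdecomp : ∀ a b : Ω, a ≠ b → ∀ u : G, orderOf u = 2 → u • a = b → ∀ x ∈ stabilizer G a,
      ∃ c ∈ K a, ∃ v : G, orderOf v = 2 ∧ v • a = b ∧ x = c * (u * v) := by
    intro a b hab u hu hua x hx
    obtain ⟨t₀, ht₀, ht₀a⟩ := hex a
    have himg_sub : (J a b).image (fun v => (u * v) * t₀ * (u * v)⁻¹) ⊆ J a a := by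
      intro y hy
      obtain ⟨v, hv, rfl⟩ := Finset.mem_image.1 hy
      exact hmapsJ a b u t₀ hu hua ht₀ ht₀a v hv
    have himg_card : ((J a b).image (fun v => (u * v) * t₀ * (u * v)⁻¹)).card = (J a b).card :=
      Finset.card_image_of_injOn (hinjJ a b hab u t₀ hu hua ht₀ ht₀a)
    have himg_eq : (J a b).image (fun v => (u * v) * t₀ * (u * v)⁻¹) = J a a := by
      apply Finset.eq_of_subset_of_card_le himg_sub
      rw [himg_card, hJeq a b hab, hJaa]
    have hxa : x • a = a := mem_stabilizer_iff.1 hx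
    have hxmem : x * t₀ * x⁻¹ ∈ J a a := by
      rw [hmemJ]
      refine ⟨orderOf_conj_two ht₀ _, ?_⟩
      have h1 : x⁻¹ • a = a := by rw [inv_smul_eq_iff, hxa]
      rw [mul_smul, mul_smul, h1, ht₀a, hxa]
    rw [← himg_eq] at hxmem
    obtain ⟨v, hv, hvx⟩ := Finset.mem_image.1 hxmem
    obtain ⟨hv2, hva⟩ := (hmemJ a b v).1 hv
    have hub : u • b = a := inv_smul_swap hu hua
    have huva : (u * v) • a = a := by rw [mul_smul, hva, hub]
    have h1 := comm_of_conj_eq hvx.symm
    have hk : (u * v)⁻¹ * x ∈ K a := hcent a t₀ ht₀ ht₀a _ h1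
    have hc : (u * v) * ((u * v)⁻¹ * x) * (u * v)⁻¹ ∈ K ((u * v) • a) :=
      h.K_conj (u * v) a _ hk
    rw [huva] at hc
    refine ⟨_, hc, v, hv2, hva, ?_⟩
    group
  -- injectivity of `(c, v) ↦ c (u v)`
  have hinj2 : ∀ a b : Ω, a ≠ b → ∀ u : G, orderOf u = 2 → u • a = b →
      ∀ c c' v v' : G, c ∈ K a → c' ∈ K a → orderOf v = 2 → v • a = b → orderOf v' = 2 →
      v' • a = b → c * (u * v) = c' * (u * v') → c = c' ∧ v = v' := by
    intro a b hab u hu hua c c' v v' hc hc' hv hva hv' hv'a heq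
    have hub : u • b = a := inv_smul_swap hu hua
    have hvb : v • b = a := inv_smul_swap hv hva
    have hv'b : v' • b = a := inv_smul_swap hv' hv'a
    have h1 : c'⁻¹ * c = u * (v' * v) * u⁻¹ := by
      have : c'⁻¹ * c = (u * v') * (u * v)⁻¹ := by
        have h2 : c = c' * (u * v') * (u * v)⁻¹ := by
          rw [← heq]; group
        rw [h2]; group
      rw [this, mul_inv_rev, inv_inv_eq hv]; group
    have h2 : u * (v' * v) * u⁻¹ ∈ K a := by
      rw [← h1]; exact (K a).mul_mem ((K a).inv_mem hc') hc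
    have h3 : u * (u * (v' * v) * u⁻¹) * u⁻¹ ∈ K (u • a) := h.K_conj u a _ h2
    have h4 : u * (u * (v' * v) * u⁻¹) * u⁻¹ = v' * v := by
      rw [inv_inv_eq hu]
      calc u * (u * (v' * v) * u) * u = (u * u) * (v' * v) * (u * u) := by group
        _ = v' * v := by rw [inv_mul_self hu, one_mul, mul_one]
    rw [h4, hua] at h3
    have hvv' : v' = v := Geo1.eq_of_mul_mem h hINV hab.symm hv' hv'b hv hvb h3
    subst hvv'
    exact ⟨mul_right_cancel heq, rfl⟩
  have hJcard : ∀ a b : Ω, a ≠ b → Nat.card {u : G // orderOf u = 2 ∧ u • a = b} = e := by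
    intro a b hab
    rw [Nat.card_eq_fintype_card, Fintype.card_subtype]
    exact hJeq a b hab
  constructor
  · intro α β hab
    refine ⟨hJcard α β hab, ?_, hdecomp α β hab, ?_, ?_⟩
    · intro u v hu hua hv hva huv
      exact Geo1.eq_of_mul_mem h hINV hab hu hua hv hva huv
    · -- every `u ∈ J` centralizes `K α ⊓ K β`
      intro u hu hua b hb
      have hub : u • β = α := inv_smul_swap hu hua
      have h1 : u * b * u⁻¹ ∈ K β := by
        have := h.K_conj u α b hb.1
        rwa [hua] at this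
      have h2 : u * b * u⁻¹ ∈ K α := by
        have := h.K_conj u β b hb.2
        rwa [hub] at this
      have hx : b⁻¹ * (u * b * u⁻¹) ∈ K α ⊓ K β :=
        ⟨(K α).mul_mem ((K α).inv_mem hb.1) h2, (K β).mul_mem ((K β).inv_mem hb.2) h1⟩
      have hinvx : u * (b⁻¹ * (u * b * u⁻¹)) * u⁻¹ = (b⁻¹ * (u * b * u⁻¹))⁻¹ := by
        rw [inv_inv_eq hu]
        calc u * (b⁻¹ * (u * b * u)) * u = u * b⁻¹ * (u * b * (u * u)) := by group
          _ = u * b⁻¹ * (u * b) := by rw [inv_mul_self hu, mul_one]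
          _ = (b⁻¹ * (u * b * u))⁻¹ := by
            rw [mul_inv_rev, mul_inv_rev, mul_inv_rev, inv_inv, inv_inv_eq hu]; group
      have hx1 := hINV α β hab _ u hx hu hinvx
      have : u * b * u⁻¹ = b := by
        have h5 := mul_eq_one_iff_eq_inv.mp hx1
        exact (inv_injective h5).symm
      calc u * b = (u * b * u⁻¹) * u := by group
        _ = b * u := by rw [this]
    · -- |D| = e |K α ⊓ G_β|
      obtain ⟨u, hu⟩ : ∃ u, u ∈ J α β := by
        apply Finset.card_pos.1
        rw [hJeq α β hab]; exact lt_of_lt_of_le (by norm_num) h.e_ge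
      obtain ⟨hu2, hua⟩ := (hmemJ α β u).1 hu
      have hub : u • β = α := inv_smul_swap hu2 hua
      rw [← hJcard α β hab, mul_comm, ← Nat.card_prod]
      symm
      apply Nat.card_congr
      refine Equiv.ofBijective (fun x => ⟨(x.1 : G) * (u * (x.2 : G)), ?_⟩) ⟨?_, ?_⟩
      · obtain ⟨⟨c, hc⟩, ⟨v, hv2, hva⟩⟩ := x
        have hvb : v • β = α := inv_smul_swap hv2 hva
        have hcα : c • α = α := mem_stabilizer_iff.1 (h.K_le α hc.1)
        have hcβ : c • β = β := mem_stabilizer_iff.1 hc.2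
        constructor
        · show c * (u * v) ∈ stabilizer G α
          rw [mem_stabilizer_iff, mul_smul, mul_smul, hva, hub, hcα]
        · show c * (u * v) ∈ stabilizer G β
          rw [mem_stabilizer_iff, mul_smul, mul_smul, hvb, hua, hcβ]
      · rintro ⟨⟨c, hc⟩, ⟨v, hv2, hva⟩⟩ ⟨⟨c', hc'⟩, ⟨v', hv'2, hv'a⟩⟩ heq
        have heq' : c * (u * v) = c' * (u * v') := congrArg Subtype.val heq
        obtain ⟨h1, h2⟩ := hinj2 α β hab u hu2 hua c c' v v' hc.1 hc'.1 hv2 hva hv'2 hv'a heq'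
        subst h1; subst h2; rfl
      · rintro ⟨x, hxα, hxβ⟩
        obtain ⟨c, hc, v, hv2, hva, hxeq⟩ := hdecomp α β hab u hu2 hua x hxα
        have hvb : v • β = α := inv_smul_swap hv2 hva
        have hcβ : c ∈ stabilizer G β := by
          have hc_eq : c = x * (u * v)⁻¹ := by rw [hxeq]; group
          have huvβ : (u * v) • β = β := by rw [mul_smul, hvb, hua]
          have h1 : (u * v)⁻¹ • β = β := by rw [inv_smul_eq_iff, huvβ]
          rw [mem_stabilizer_iff, hc_eq, mul_smul, h1]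
          exact mem_stabilizer_iff.1 hxβ
        refine ⟨⟨⟨c, hc, hcβ⟩, ⟨v, hv2, hva⟩⟩, ?_⟩
        apply Subtype.ext
        exact hxeq.symm
  · -- the index of `K α` in `G_α`
    intro α
    obtain ⟨β, hβ⟩ : ∃ β : Ω, α ≠ β := by
      by_contra hno
      push Not at hno
      have : Nat.card Ω ≤ 1 := by
        rw [Nat.card_eq_fintype_card]
        apply Fintype.card_le_one_iff.mpr
        intro x y
        rw [← hno x, ← hno y]
      have := h.two_le
      omega
    obtain ⟨u, hu⟩ : ∃ u, u ∈ J α β := by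
      apply Finset.card_pos.1
      rw [hJeq α β hβ]; exact lt_of_lt_of_le (by norm_num) h.e_ge
    obtain ⟨hu2, hua⟩ := (hmemJ α β u).1 hu
    have hub : u • β = α := inv_smul_swap hu2 hua
    have hcard : Nat.card ↥(stabilizer G α) = Nat.card ↥(K α) * e := by
      rw [← hJcard α β hβ, ← Nat.card_prod]
      symm
      apply Nat.card_congr
      refine Equiv.ofBijective (fun x => ⟨(x.1 : G) * (u * (x.2 : G)), ?_⟩) ⟨?_, ?_⟩
      · obtain ⟨⟨c, hc⟩, ⟨v, hv2, hva⟩⟩ := x
        have hcα : c • α = α := mem_stabilizer_iff.1 (h.K_le α hc)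
        show c * (u * v) ∈ stabilizer G α
        rw [mem_stabilizer_iff, mul_smul, mul_smul, hva, hub, hcα]
      · rintro ⟨⟨c, hc⟩, ⟨v, hv2, hva⟩⟩ ⟨⟨c', hc'⟩, ⟨v', hv'2, hv'a⟩⟩ heq
        have heq' : c * (u * v) = c' * (u * v') := congrArg Subtype.val heq
        obtain ⟨h1, h2⟩ := hinj2 α β hβ u hu2 hua c c' v v' hc hc' hv2 hva hv'2 hv'a heq'
        subst h1; subst h2; rfl
      · rintro ⟨x, hxα⟩
        obtain ⟨c, hc, v, hv2, hva, hxeq⟩ := hdecomp α β hβ u hu2 hua x hxα
        refine ⟨⟨⟨c, hc⟩, ⟨v, hv2, hva⟩⟩, ?_⟩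
        apply Subtype.ext
        exact hxeq.symm
    have h1 := Subgroup.card_mul_index ((K α).subgroupOf (stabilizer G α))
    rw [Nat.card_congr (Subgroup.subgroupOfEquivOfLe (h.K_le α)).toEquiv, hcard] at h1
    have hpos : 0 < Nat.card ↥(K α) := Nat.card_pos
    exact Nat.eq_of_mul_eq_mul_left hpos h1

end Cfsg.Agent.Helper1.AI
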