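import Mathlib
import Cfsg.Agent.Helper18.AIDefs

set_option autoImplicit false
set_option linter.style.haveILetI false
set_option linter.unusedVariables false
set_option linter.unusedSectionVars false

/-!
# S2202 piece INV: an element of `K α ∩ K β` (`α ≠ β`) inverted by an involution is trivial
-/

open Cfsg.Agent.Helper18.AI Cfsg.Agent.Helper18.CT MulAction

namespace Cfsg.Agent.Helper1.AI

variable {G : Type*} [Group G]

/-- an involutive self-map of a finite set: the number of fixed points has the parity of the set -/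
theorem card_modEq_card_fixed {X : Type*} [Finite X] (f : X → X) (hf : ∀ x, f (f x) = x) :
    Nat.card X ≡ Nat.card {x : X // f x = x} [MOD 2] := by
  classical
  haveI : Fintype X := Fintype.ofFinite X
  let F : Function.End X := f
  have h2 : F ^ 2 ^ 1 = 1 := by
    rw [pow_one, sq]
    funext x
    exact hf x
  have := Equiv.Perm.card_fixedPoints_modEq (f := F) (p := 2) (n := 1) h2
  rw [← Nat.card_eq_fintype_card, ← Nat.card_eq_fintype_card] at this
  exact this

/-- a finite group of even order has an odd number of involutions -/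
theorem odd_card_involutions {Z : Type*} [Group Z] [Finite Z] (heven : Even (Nat.card Z)) :
    Odd (Nat.card {z : Z // orderOf z = 2}) := by
  classical
  have h1 := card_modEq_card_fixed (fun z : Z => z⁻¹) (fun z => inv_inv z)
  -- fixed points of inversion = {1} ∪ involutions
  have h2 : Nat.card {z : Z // z⁻¹ = z} = Nat.card {z : Z // orderOf z = 2} + 1 := by
    haveI : Fintype Z := Fintype.ofFinite Z
    rw [Nat.card_eq_fintype_card, Nat.card_eq_fintype_card, Fintype.card_subtype,
      Fintype.card_subtype]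
    have : (Finset.univ.filter fun z : Z => z⁻¹ = z) =
        insert 1 (Finset.univ.filter fun z : Z => orderOf z = 2) := by
      ext z
      simp only [Finset.mem_filter, Finset.mem_univ, true_and, Finset.mem_insert]
      constructor
      · intro hz
        by_cases hz1 : z = 1
        · left; exact hz1
        · right
          have hz2 : z ^ 2 = 1 := by
            rw [sq]
            nth_rewrite 1 [← hz]
            exact inv_mul_cancel z
          exact orderOf_eq_prime hz2 hz1
      · rintro (rfl | hz)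
        · simp
        · have : z ^ 2 = 1 := by rw [← hz]; exact pow_orderOf_eq_one z
          rw [sq] at this
          exact inv_eq_of_mul_eq_one_left this
    rw [this, Finset.card_insert_of_notMem]
    simp
  rw [h2] at h1
  have h3 : (Nat.card {z : Z // orderOf z = 2} + 1) % 2 = 0 := by
    rw [← h1]
    exact Nat.even_iff.mp heven
  rw [Nat.odd_iff]
  omega

theorem Geo1.eq_one_of_inverted [Finite G] {Ω : Type*} [MulAction G Ω] [Finite Ω]
    {K : Ω → Subgroup G} {e : ℕ} (h : Geo1 Ω K e) {α β : Ω} (hab : α ≠ β) {b w : G}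
    (hb : b ∈ K α ⊓ K β) (hw : orderOf w = 2) (hinv : w * b * w⁻¹ = b⁻¹) : b = 1 := by
  classical
  -- the set `Γ` of points `δ` with `b ∈ K δ`
  set Γ : Set Ω := {δ | b ∈ K δ} with hΓ
  have hαΓ : α ∈ Γ := hb.1
  -- `Γ` is `w`-invariant
  have hwΓ : ∀ δ ∈ Γ, w • δ ∈ Γ := by
    intro δ hδ
    have h1 := h.K_conj w δ b hδ
    rw [hinv] at h1
    have := (K (w • δ)).inv_mem h1
    rwa [inv_inv] at this
  have hw2 : w * w = 1 := by
    have := pow_orderOf_eq_one w
    rwa [hw, sq] at this
  -- the centralizer of `b`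
  set Z : Subgroup G := Subgroup.centralizer ({b} : Set G) with hZ
  -- involutions of `Z` correspond to pairs (δ ∈ Γ, involution fixing δ)
  have hfixΓ : ∀ t : G, orderOf t = 2 → t * b = b * t → ∀ γ : Ω, t • γ = γ → γ ∈ Γ := by
    intro t ht htb γ hγ
    have h1 : t ∈ K γ := h.K_inv γ t ht hγ
    exact h.K_cent γ t ht h1 b htb.symm
  have hcommΓ : ∀ δ ∈ Γ, ∀ u : G, orderOf u = 2 → u • δ = δ → u * b = b * u := by
    intro δ hδ u hu hfix
    exact h.K_comm δ u (h.K_inv δ u hu hfix) b hδ
  have hmemZ : ∀ t : G, t ∈ Z ↔ t * b = b * t := by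
    intro t
    rw [hZ, Subgroup.mem_centralizer_singleton_iff]
  let S := {t : G // orderOf t = 2 ∧ t * b = b * t}
  let T := Σ δ : Γ, {u : G // orderOf u = 2 ∧ u • (δ : Ω) = δ}
  let eZS : {z : Z // orderOf z = 2} ≃ S :=
    { toFun := fun z => ⟨(z.1 : G), by rw [Subgroup.orderOf_coe]; exact z.2, (hmemZ _).mp z.1.2⟩
      invFun := fun t => ⟨⟨t.1, (hmemZ _).mpr t.2.2⟩,
        (Subgroup.orderOf_mk _ _).trans t.2.1⟩
      left_inv := fun z => rfl
      right_inv := fun t => rfl }
  let eST : T ≃ S :=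
    { toFun := fun x => ⟨x.2.1, x.2.2.1, hcommΓ x.1 x.1.2 x.2.1 x.2.2.1 x.2.2.2⟩
      invFun := fun t =>
        ⟨⟨(h.inv_fix t.1 t.2.1).choose, hfixΓ t.1 t.2.1 t.2.2 _
          (h.inv_fix t.1 t.2.1).choose_spec⟩, ⟨t.1, t.2.1, (h.inv_fix t.1 t.2.1).choose_spec⟩⟩
      left_inv := by
        rintro ⟨⟨δ, hδ⟩, ⟨u, hu2, hufix⟩⟩
        apply Sigma.subtype_ext
        · apply Subtype.ext
          exact h.inv_fix_unique u hu2 _ _ (h.inv_fix u hu2).choose_spec hufix
        · rfl
      right_inv := by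
        rintro ⟨t, ht2, htb⟩
        rfl }
  have hcardT : Nat.card T = Nat.card Γ * e := by
    haveI : Fintype Γ := Fintype.ofFinite _
    rw [Nat.card_sigma]
    simp only [h.inv_card]
    rw [Finset.sum_const, Finset.card_univ, smul_eq_mul, Nat.card_eq_fintype_card]
  -- `Z` has even order
  have hZeven : Even (Nat.card Z) := by
    have he : 0 < e := by have := h.e_ge; omega
    rw [← h.inv_card α] at he
    obtain ⟨⟨u, hu2, hufix⟩⟩ := (Nat.card_pos_iff.mp he).1
    have huZ : u ∈ Z := (hmemZ u).mpr (hcommΓ α hαΓ u hu2 hufix)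
    have h2 : orderOf (⟨u, huZ⟩ : Z) = 2 := by rw [← hu2]; exact Subgroup.orderOf_mk _ _
    have h3 : (2 : ℕ) ∣ Nat.card Z := by rw [← h2]; exact orderOf_dvd_natCard _
    exact even_iff_two_dvd.mpr h3
  have hodd := odd_card_involutions hZeven
  rw [Nat.card_congr eZS, ← Nat.card_congr eST, hcardT] at hodd
  have hΓodd : Odd (Nat.card Γ) := (Nat.odd_mul.mp hodd).1
  -- `w` has a fixed point in `Γ`
  have hwfix : ∃ δ ∈ Γ, w • δ = δ := by
    have h1 := card_modEq_card_fixed (fun δ : Γ => (⟨w • (δ : Ω), hwΓ δ δ.2⟩ : Γ)) (by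
      intro δ
      apply Subtype.ext
      simp only
      rw [smul_smul, hw2, one_smul])
    have h2 : Nat.card {x : Γ // (⟨w • (x : Ω), hwΓ x x.2⟩ : Γ) = x} ≠ 0 := by
      intro h0
      rw [h0] at h1
      have := Nat.odd_iff.mp hΓodd
      rw [Nat.ModEq] at h1
      omega
    have h3 : 0 < Nat.card {x : Γ // (⟨w • (x : Ω), hwΓ x x.2⟩ : Γ) = x} := Nat.pos_of_ne_zero h2
    obtain ⟨⟨δ, hδ⟩⟩ := (Nat.card_pos_iff.mp h3).1
    exact ⟨δ, δ.2, congrArg Subtype.val hδ⟩
  obtain ⟨δ, hδΓ, hδfix⟩ := hwfix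
  have hwb : w * b = b * w := hcommΓ δ hδΓ w hw hδfix
  have hb2 : b * b = 1 := by
    have : w * b * w⁻¹ = b := by rw [hwb, mul_inv_cancel_right]
    rw [hinv] at this
    calc b * b = b⁻¹ * b := by rw [this]
      _ = 1 := inv_mul_cancel b
  by_contra hb1
  have hbo : orderOf b = 2 := orderOf_eq_prime (by rw [sq]; exact hb2) hb1
  have hbα : b • α = α := mem_stabilizer_iff.mp (h.K_le α hb.1)
  have hbβ : b • β = β := mem_stabilizer_iff.mp (h.K_le β hb.2)
  exact hab (h.inv_fix_unique b hbo α β hbα hbβ)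

end Cfsg.Agent.Helper1.AI
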