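import Mathlib

/-! # Small facts on `p`-th powers in abelian groups and on Frattini subgroups

* `card_ker_pow_mul_card_range_pow` : in a finite commutative group, `|Ω₁| · |℧¹| = |A|`;
* `card_omega_mul_card_agemo` : the same for a commutative subgroup of a finite group;
* `frattini_map_equiv` : Frattini subgroups are transported by isomorphisms;
* `commutator_le_frattini`, `pow_mem_frattini` : in a finite `p`-group, `Φ ≥ Q' Q^p`;
* `comm_and_exp_of_frattini_eq_bot`.
-/

set_option autoImplicit false

namespace Cfsg.Agent.Helper1.AbPow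

open scoped commutatorElement

/-- In a finite commutative group, `|ker (x ↦ x^p)| · |range (x ↦ x^p)| = |A|`. -/
theorem card_ker_pow_mul_card_range_pow {A : Type*} [CommGroup A] [Finite A] (p : ℕ) :
    Nat.card ↥(powMonoidHom p : A →* A).ker * Nat.card ↥(powMonoidHom p : A →* A).range =
      Nat.card A := by
  rw [← Subgroup.index_ker]
  exact Subgroup.card_mul_index _

/-- Set version for a finite commutative group. -/
theorem card_pow_eq_one_mul_card_range {A : Type*} [CommGroup A] [Finite A] (p : ℕ) :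
    Nat.card {x : A // x ^ p = 1} * Nat.card ↥(Set.range fun x : A => x ^ p) = Nat.card A := by
  rw [← card_ker_pow_mul_card_range_pow (A := A) p]
  congr 1

/-- For a commutative subgroup `A` of a finite group: `|Ω₁(A)| · |℧¹(A)| = |A|`, as sets of
elements of the ambient group. -/
theorem card_omega_mul_card_agemo {P : Type*} [Group P] [Finite P] (A : Subgroup P)
    (hA : ∀ a ∈ A, ∀ b ∈ A, a * b = b * a) (p : ℕ) :
    Nat.card {x : P // x ∈ A ∧ x ^ p = 1} * Nat.card ↥((fun x : P => x ^ p) '' (A : Set P)) =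
      Nat.card ↥A := by
  let _ : CommGroup ↥A :=
    { (inferInstance : Group ↥A) with
      mul_comm := fun a b => Subtype.ext (hA a a.2 b b.2) }
  rw [← card_pow_eq_one_mul_card_range (A := ↥A) p]
  congr 1
  · refine Nat.card_congr
      { toFun := fun x => ⟨⟨x.1, x.2.1⟩, Subtype.ext (by simpa using x.2.2)⟩
        invFun := fun x => ⟨x.1.1, x.1.2, by simpa using congrArg Subtype.val x.2⟩
        left_inv := fun x => rfl
        right_inv := fun x => rfl }
  · refine Nat.card_congr
      { toFun := fun y => ⟨⟨y.1, ?_⟩, ?_⟩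
        invFun := fun y => ⟨y.1.1, ?_⟩
        left_inv := fun y => rfl
        right_inv := fun y => rfl }
    · obtain ⟨a, ha, hay⟩ := y.2
      rw [← hay]
      exact A.pow_mem ha p
    · obtain ⟨a, ha, hay⟩ := y.2
      exact ⟨⟨a, ha⟩, Subtype.ext (by simpa using hay)⟩
    · obtain ⟨a, hay⟩ := y.2
      exact ⟨a.1, a.2, by simpa using congrArg Subtype.val hay⟩

/-- Frattini subgroups are transported by isomorphisms. -/
theorem frattini_map_equiv {A B : Type*} [Group A] [Group B] (e : A ≃* B) :
    (frattini A).map e.toMonoidHom = frattini B := by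
  apply le_antisymm
  · rw [Subgroup.map_le_iff_le_comap]
    exact frattini_le_comap_frattini_of_surjective e.surjective
  · have h := frattini_le_comap_frattini_of_surjective (φ := e.symm.toMonoidHom) e.symm.surjective
    intro b hb
    refine ⟨e.symm b, h hb, by simp⟩

/-- In a finite `p`-group every coatom of the subgroup lattice is normal of index `p`. -/
theorem coatom_normal_index {Q : Type*} [Group Q] [Finite Q] {p : ℕ} [Fact p.Prime]
    (hQ : IsPGroup p Q) {M : Subgroup Q} (hM : IsCoatom M) : M.Normal ∧ M.index = p := by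
  have hp : p.Prime := Fact.out
  have hnil : Group.IsNilpotent Q := hQ.isNilpotent
  have hnorm : M.Normal :=
    Subgroup.NormalizerCondition.normal_of_coatom M
      (Group.normalizerCondition_of_isNilpotent (G := Q)) hM
  refine ⟨hnorm, ?_⟩
  have hQM : IsPGroup p (Q ⧸ M) := hQ.to_quotient M
  have hidx1 : M.index ≠ 1 := fun h => hM.1 (Subgroup.index_eq_one.mp h)
  have hdvd : p ∣ Nat.card (Q ⧸ M) := by
    obtain ⟨n, hn⟩ := hQM.exists_card_eq
    have hn0 : n ≠ 0 := by
      rintro rfl
      rw [pow_zero, ← Subgroup.index_eq_card] at hn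
      exact hidx1 hn
    rw [hn]
    exact dvd_pow_self p hn0
  obtain ⟨g, hg⟩ := exists_prime_orderOf_dvd_card' (G := Q ⧸ M) p hdvd
  have hg1 : g ≠ 1 := by
    rintro rfl
    rw [orderOf_one] at hg
    exact hp.one_lt.ne hg
  -- the preimage of ⟨g⟩ strictly contains M, hence is ⊤
  have hcomap : (Subgroup.zpowers g).comap (QuotientGroup.mk' M) = ⊤ := by
    apply hM.2
    refine lt_of_le_of_ne ?_ ?_
    · intro x hx
      rw [Subgroup.mem_comap]
      have : (QuotientGroup.mk' M x) = 1 := (QuotientGroup.eq_one_iff x).mpr hx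
      rw [this]
      exact Subgroup.one_mem _
    · intro heq
      obtain ⟨x, rfl⟩ := QuotientGroup.mk'_surjective M g
      have hx : x ∈ (Subgroup.zpowers (QuotientGroup.mk' M x)).comap (QuotientGroup.mk' M) := by
        rw [Subgroup.mem_comap]
        exact Subgroup.mem_zpowers _
      rw [← heq] at hx
      exact hg1 ((QuotientGroup.eq_one_iff x).mpr hx)
  have htop : Subgroup.zpowers g = ⊤ := by
    rw [eq_top_iff]
    intro y _
    obtain ⟨x, rfl⟩ := QuotientGroup.mk'_surjective M y
    have : x ∈ (Subgroup.zpowers g).comap (QuotientGroup.mk' M) := by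
      rw [hcomap]; trivial
    exact this
  rw [Subgroup.index_eq_card, ← hg, ← Nat.card_zpowers, htop, Subgroup.card_top]

/-- In a finite `p`-group, the derived subgroup lies in the Frattini subgroup. -/
theorem commutator_le_frattini {Q : Type*} [Group Q] [Finite Q] {p : ℕ} [Fact p.Prime]
    (hQ : IsPGroup p Q) : commutator Q ≤ frattini Q := by
  unfold frattini Order.radical
  refine le_iInf₂ fun M hM => ?_
  obtain ⟨hn, hi⟩ := coatom_normal_index hQ hM
  have hp : p.Prime := Fact.out
  have hcard : Nat.card (Q ⧸ (M : Subgroup Q)) = p := by rw [← Subgroup.index_eq_card, hi]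
  have : IsCyclic (Q ⧸ (M : Subgroup Q)) := isCyclic_of_prime_card hcard
  have hab : ∀ a b : Q ⧸ (M : Subgroup Q), a * b = b * a := fun a b =>
    (IsCyclic.commGroup (α := Q ⧸ (M : Subgroup Q))).mul_comm a b
  rw [commutator_eq_closure, Subgroup.closure_le]
  rintro _ ⟨a, b, rfl⟩
  have : ((⁅a, b⁆ : Q) : Q ⧸ (M : Subgroup Q)) = 1 := by
    rw [commutatorElement_def]
    simp only [QuotientGroup.mk_mul, QuotientGroup.mk_inv]
    rw [hab (a : Q ⧸ (M : Subgroup Q)) b]
    group
  exact (QuotientGroup.eq_one_iff _).mp this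

/-- In a finite `p`-group, `p`-th powers lie in the Frattini subgroup. -/
theorem pow_mem_frattini {Q : Type*} [Group Q] [Finite Q] {p : ℕ} [Fact p.Prime]
    (hQ : IsPGroup p Q) (x : Q) : x ^ p ∈ frattini Q := by
  unfold frattini Order.radical
  simp only [Subgroup.mem_iInf]
  intro M hM
  obtain ⟨hn, hi⟩ := coatom_normal_index hQ hM
  have hcard : Nat.card (Q ⧸ (M : Subgroup Q)) = p := by rw [← Subgroup.index_eq_card, hi]
  have : ((x ^ p : Q) : Q ⧸ (M : Subgroup Q)) = 1 := by
    rw [QuotientGroup.mk_pow, ← hcard]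
    exact pow_card_eq_one'
  exact (QuotientGroup.eq_one_iff _).mp this

/-- A finite `p`-group with trivial Frattini subgroup is elementary abelian. -/
theorem comm_and_exp_of_frattini_eq_bot {Q : Type*} [Group Q] [Finite Q] {p : ℕ} [Fact p.Prime]
    (hQ : IsPGroup p Q) (h : frattini Q = ⊥) :
    (∀ a b : Q, a * b = b * a) ∧ ∀ x : Q, x ^ p = 1 := by
  constructor
  · intro a b
    have h1 : ⁅a, b⁆ ∈ commutator Q := by
      rw [commutator_eq_closure]
      exact Subgroup.subset_closure ⟨a, b, rfl⟩
    have h2 := commutator_le_frattini hQ h1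
    rw [h, Subgroup.mem_bot] at h2
    exact commutatorElement_eq_one_iff_mul_comm.mp h2
  · intro x
    have h2 := pow_mem_frattini hQ x
    rwa [h, Subgroup.mem_bot] at h2

/-- Subgroup form: if `Q ≤ S` is a `p`-subgroup (finite) with `Φ(Q) = 1` then `Q` is commutative
of exponent dividing `p`. -/
theorem comm_and_exp_of_frattini_subgroup_eq_bot {S : Type*} [Group S] [Finite S] {p : ℕ}
    [Fact p.Prime] (Q : Subgroup S) (hQ : IsPGroup p ↥Q)
    (h : (frattini ↥Q).map Q.subtype = ⊥) :
    IsMulCommutative ↥Q ∧ ∀ a ∈ Q, a ^ p = 1 := by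
  have h' : frattini ↥Q = ⊥ := by
    rw [eq_bot_iff]
    intro x hx
    have : Q.subtype x ∈ (frattini ↥Q).map Q.subtype := ⟨x, hx, rfl⟩
    rw [h, Subgroup.mem_bot] at this
    rw [Subgroup.mem_bot]
    exact Subtype.ext this
  obtain ⟨h1, h2⟩ := comm_and_exp_of_frattini_eq_bot hQ h'
  refine ⟨⟨⟨h1⟩⟩, fun a ha => ?_⟩
  have := h2 ⟨a, ha⟩
  exact congrArg Subtype.val this

end Cfsg.Agent.Helper1.AbPow
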