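import Mathlib
import Cfsg.Agent.Helper1.AbelianIndexP

set_option autoImplicit false

/-! `|A| = |C_A(b)| * |G'|` for an abelian normal subgroup of prime index. -/

namespace Cfsg.Agent.Helper1.AbIdxP

open Subgroup
open scoped commutatorElement

variable {G : Type*} [Group G]

/-- General count: `|A| = |C_A(b)| * |G'|` for an abelian normal subgroup `A` of prime index and
any `b ∉ A` (no non-commutativity hypothesis). -/
theorem card_eq_card_inf_centralizer_mul_card_commutator [Finite G] {A : Subgroup G}
    (hA : IsMulCommutative A) [hAn : A.Normal] {p : ℕ} (hp : p.Prime) (hAi : A.index = p)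
    (b : G) (hbA : b ∉ A) :
    Nat.card A = Nat.card (A ⊓ centralizer {b} : Subgroup G) * Nat.card (commutator G) := by
  have hsup : A ⊔ zpowers b = ⊤ :=
    sup_eq_top_of_index_prime hp hAi (by rw [zpowers_le]; exact hbA)
  have hconj : ∀ x ∈ A, b * x * b⁻¹ ∈ A := fun x hx => hAn.conj_mem x hx b
  have hconj' : ∀ x ∈ A, b⁻¹ * x * b ∈ A := fun x hx => by
    have := hAn.conj_mem x hx b⁻¹
    rwa [inv_inv] at this
  -- the commutator homomorphism
  let φ : A →* A := MonoidHom.mk'
    (fun x => ⟨x * (b * (x : G)⁻¹ * b⁻¹), A.mul_mem x.2 (hconj _ (A.inv_mem x.2))⟩) (by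
      intro x y
      apply Subtype.ext
      have hu : b * (x : G)⁻¹ * b⁻¹ ∈ A := hconj _ (A.inv_mem x.2)
      have hv : b * (y : G)⁻¹ * b⁻¹ ∈ A := hconj _ (A.inv_mem y.2)
      have h1 := comm_of_isMulCommutative hA hv hu
      have h2 := comm_of_isMulCommutative hA y.2 hu
      show (x : G) * y * (b * ((x : G) * y)⁻¹ * b⁻¹)
        = x * (b * (x : G)⁻¹ * b⁻¹) * (y * (b * (y : G)⁻¹ * b⁻¹))
      have e : b * ((x : G) * y)⁻¹ * b⁻¹ = (b * (y : G)⁻¹ * b⁻¹) * (b * (x : G)⁻¹ * b⁻¹) := by
        group
      rw [e, h1]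
      generalize b * (x : G)⁻¹ * b⁻¹ = u at *
      generalize b * (y : G)⁻¹ * b⁻¹ = v at *
      calc (x : G) * y * (u * v) = x * (y * u) * v := by group
        _ = x * (u * y) * v := by rw [h2]
        _ = x * u * (y * v) := by group)
  have hφ : ∀ x : A, ((φ x : A) : G) = x * (b * (x : G)⁻¹ * b⁻¹) := fun x => rfl
  -- kernel
  have hker : φ.ker = (A ⊓ centralizer {b}).subgroupOf A := by
    ext x
    rw [MonoidHom.mem_ker, mem_subgroupOf, Subtype.ext_iff, hφ, coe_one, mem_inf,
      mem_centralizer_singleton_iff]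
    constructor
    · intro h
      refine ⟨x.2, ?_⟩
      have : (x : G) * (b * (x : G)⁻¹ * b⁻¹) * (b * x) = b * x := by rw [h, one_mul]
      rw [← this]; group
    · rintro ⟨-, h⟩
      calc (x : G) * (b * (x : G)⁻¹ * b⁻¹) = (x * b) * (x : G)⁻¹ * b⁻¹ := by group
        _ = (b * x) * (x : G)⁻¹ * b⁻¹ := by rw [h]
        _ = 1 := by group
  -- range
  set R : Subgroup G := φ.range.map A.subtype with hR
  have hRA : R ≤ A := map_subtype_le _
  have hRmem : ∀ x ∈ A, x * (b * x⁻¹ * b⁻¹) ∈ R := by
    intro x hx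
    exact ⟨φ ⟨x, hx⟩, ⟨⟨x, hx⟩, rfl⟩, rfl⟩
  have hRmem' : ∀ r ∈ R, ∃ x ∈ A, r = x * (b * x⁻¹ * b⁻¹) := by
    rintro r ⟨y, ⟨x, rfl⟩, rfl⟩
    exact ⟨x, x.2, rfl⟩
  have hRle : R ≤ commutator G := by
    intro r hr
    obtain ⟨x, -, rfl⟩ := hRmem' r hr
    rw [commutator_def]
    have : x * (b * x⁻¹ * b⁻¹) = ⁅x, b⁆ := by rw [commutatorElement_def]; group
    rw [this]
    exact commutator_mem_commutator (mem_top x) (mem_top b)
  have hRn : R.Normal := by
    rw [← normalizer_eq_top_iff, eq_top_iff, ← hsup, sup_le_iff]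
    constructor
    · intro a ha
      rw [mem_normalizer_iff]
      intro h
      constructor
      · intro hh
        have : a * h * a⁻¹ = h := by
          rw [comm_of_isMulCommutative hA ha (hRA hh)]; group
        rwa [this]
      · intro hh
        have hhA : h ∈ A := by
          have : h = a⁻¹ * (a * h * a⁻¹) * a := by group
          rw [this]
          exact A.mul_mem (A.mul_mem (A.inv_mem ha) (hRA hh)) ha
        have : a * h * a⁻¹ = h := by
          rw [comm_of_isMulCommutative hA ha hhA]; group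
        rwa [this] at hh
    · rw [zpowers_le, mem_normalizer_iff]
      intro h
      constructor
      · intro hh
        obtain ⟨x, hx, rfl⟩ := hRmem' h hh
        have := hRmem (b * x * b⁻¹) (hconj x hx)
        have e : b * (x * (b * x⁻¹ * b⁻¹)) * b⁻¹ = b * x * b⁻¹ * (b * (b * x * b⁻¹)⁻¹ * b⁻¹) := by
          group
        rwa [e]
      · intro hh
        obtain ⟨x, hx, hxe⟩ := hRmem' _ hh
        have := hRmem (b⁻¹ * x * b) (hconj' x hx)
        have e : h = b⁻¹ * x * b * (b * (b⁻¹ * x * b)⁻¹ * b⁻¹) := by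
          have : h = b⁻¹ * (b * h * b⁻¹) * b := by group
          rw [this, hxe]; group
        rwa [e]
  have hcommle : commutator G ≤ R := by
    rw [← Subgroup.Normal.quotient_commutative_iff_commutator_le]
    have hAq : IsMulCommutative (A.map (QuotientGroup.mk' R)) := inferInstance
    have hcen := center_eq_top_of_sup_zpowers (A.map (QuotientGroup.mk' R)) hAq
      (QuotientGroup.mk' R b) (by
        rintro _ ⟨x, hx, rfl⟩
        rw [← commutatorElement_eq_one_iff_mul_comm, ← map_commutatorElement,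
          QuotientGroup.mk'_apply, QuotientGroup.eq_one_iff]
        have : ⁅x, b⁆ = x * (b * x⁻¹ * b⁻¹) := by rw [commutatorElement_def]; group
        rw [this]
        exact hRmem x hx) (by
        rw [← MonoidHom.map_zpowers, ← Subgroup.map_sup, hsup, ← MonoidHom.range_eq_map,
          MonoidHom.range_eq_top]
        exact QuotientGroup.mk'_surjective R)
    exact ⟨⟨fun x y => comm_of_center_eq_top hcen x y⟩⟩
  have hReq : R = commutator G := le_antisymm hRle hcommle
  -- counting
  have h1 : Nat.card φ.ker * Nat.card φ.range = Nat.card A := by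
    rw [← Subgroup.index_ker, Subgroup.card_mul_index]
  have h2 : Nat.card φ.ker = Nat.card (A ⊓ centralizer {b} : Subgroup G) := by
    rw [hker]
    exact Nat.card_congr (subgroupOfEquivOfLe inf_le_left).toEquiv
  have h3 : Nat.card φ.range = Nat.card (commutator G) := by
    rw [← hReq, hR, Subgroup.card_subtype]
  rw [← h1, h2, h3]



/-- `[G : G'] = p * |C_A(b)|`. -/
theorem index_commutator_eq [Finite G] {A : Subgroup G}
    (hA : IsMulCommutative A) [hAn : A.Normal] {p : ℕ} (hp : p.Prime) (hAi : A.index = p)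
    (b : G) (hbA : b ∉ A) :
    (commutator G).index = p * Nat.card (A ⊓ centralizer {b} : Subgroup G) := by
  have h1 := card_eq_card_inf_centralizer_mul_card_commutator hA hp hAi b hbA
  have h2 := A.card_mul_index
  have h3 := (commutator G).card_mul_index
  rw [hAi, h1] at h2
  have hpos : 0 < Nat.card (commutator G) := Nat.card_pos
  have : Nat.card (commutator G) * (commutator G).index
      = Nat.card (commutator G) * (p * Nat.card (A ⊓ centralizer {b} : Subgroup G)) := by
    rw [h3, ← h2]; ring
  exact Nat.eq_of_mul_eq_mul_left hpos this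

end Cfsg.Agent.Helper1.AbIdxP
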