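import Mathlib
import Cfsg.Prelude.Def_Solvable
import Cfsg.Agent.Helper7.PPrimeCore
import Cfsg.Agent.Helper14.PCore
import Cfsg.Agent.Helper19.Cores
import Cfsg.Agent.Helper1.PGroup
import Cfsg.Agent.Helper23.AlpA5
import Cfsg.Agent.Helper18.AlpA7a

/-!
S3782 (Alperin's theorem), piece A7b: the solvable reduction.
-/

set_option autoImplicit false
set_option linter.style.haveILetI false
set_option linter.unusedSectionVars false

namespace Cfsg.Agent.Helper1.Alp

open Cfsg
open scoped commutatorElement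

section aut

variable {G : Type*} [Group G]

/-- restriction of an automorphism to an invariant subgroup -/
def resAut (α : MulAut G) (N : Subgroup G) (hN : ∀ x, x ∈ N ↔ α x ∈ N) : MulAut ↥N where
  toFun x := ⟨α x, (hN x).mp x.2⟩
  invFun x := ⟨α.symm x, (hN _).mpr (by rw [MulEquiv.apply_symm_apply]; exact x.2)⟩
  left_inv x := Subtype.ext (by simp)
  right_inv x := Subtype.ext (by simp)
  map_mul' x y := Subtype.ext (by simp)

theorem coe_resAut (α : MulAut G) (N : Subgroup G) (hN : ∀ x, x ∈ N ↔ α x ∈ N) (x : ↥N) :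
    ((resAut α N hN x : ↥N) : G) = α (x : G) := rfl

theorem coe_resAut_pow (α : MulAut G) (N : Subgroup G) (hN : ∀ x, x ∈ N ↔ α x ∈ N) (k : ℕ)
    (x : ↥N) : (((resAut α N hN ^ k) x : ↥N) : G) = (α ^ k) (x : G) := by
  induction k generalizing x with
  | zero => simp
  | succ k ih =>
    rw [pow_succ, pow_succ, MulAut.mul_apply, MulAut.mul_apply, ih, coe_resAut]

theorem resAut_pow_eq_one (α : MulAut G) (N : Subgroup G) (hN : ∀ x, x ∈ N ↔ α x ∈ N) {k : ℕ}
    (h : α ^ k = 1) : resAut α N hN ^ k = 1 := by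
  ext x
  rw [coe_resAut_pow, h]
  rfl

theorem mem_iff_of_characteristic (α : MulAut G) (N : Subgroup G) [hN : N.Characteristic] (x : G) :
    x ∈ N ↔ α x ∈ N := by
  have h := Subgroup.characteristic_iff_comap_eq.mp hN α
  conv_lhs => rw [← h]
  rfl

theorem map_eq_of_characteristic (α : MulAut G) (N : Subgroup G) [hN : N.Characteristic] :
    N.map (α : G →* G) = N :=
  Subgroup.characteristic_iff_map_eq.mp hN α

/-- the automorphism induced on the quotient by an invariant normal subgroup -/
def quotAut (α : MulAut G) (N : Subgroup G) [N.Normal] (hN : N.map (α : G →* G) = N) :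
    MulAut (G ⧸ N) := QuotientGroup.congr N N α hN

theorem quotAut_mk (α : MulAut G) (N : Subgroup G) [N.Normal] (hN : N.map (α : G →* G) = N)
    (g : G) : quotAut α N hN (g : G ⧸ N) = ((α g : G) : G ⧸ N) :=
  QuotientGroup.congr_mk N N α hN g

theorem quotAut_pow_mk (α : MulAut G) (N : Subgroup G) [N.Normal] (hN : N.map (α : G →* G) = N)
    (k : ℕ) (g : G) : (quotAut α N hN ^ k) (g : G ⧸ N) = (((α ^ k) g : G) : G ⧸ N) := by
  induction k generalizing g with
  | zero => simp
  | succ k ih =>
    rw [pow_succ, pow_succ, MulAut.mul_apply, MulAut.mul_apply, quotAut_mk, ih]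

theorem quotAut_pow_eq_one (α : MulAut G) (N : Subgroup G) [N.Normal]
    (hN : N.map (α : G →* G) = N) {k : ℕ} (h : α ^ k = 1) : quotAut α N hN ^ k = 1 := by
  ext x
  induction x using QuotientGroup.induction_on with
  | H g =>
    rw [quotAut_pow_mk, h]
    rfl

end aut

section counting

variable {G : Type*} [Group G] [Finite G]

/-- (A1) the twisted fixed points -/
theorem twisted_card_le (φ : MulAut G) (N : Subgroup G) :
    Nat.card {g : G // (φ g)⁻¹ * g ∈ N} ≤ Nat.card N * Nat.card {g : G // φ g = g} := by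
  classical
  set rep : ↥N → G := fun n => if h : ∃ g : G, (φ g)⁻¹ * g = (n : G) then h.choose else 1
    with hrep
  have hrep_spec : ∀ g : G, ∀ hg : (φ g)⁻¹ * g ∈ N,
      (φ (rep ⟨_, hg⟩))⁻¹ * rep ⟨_, hg⟩ = (φ g)⁻¹ * g := by
    intro g hg
    have hex : ∃ g' : G, (φ g')⁻¹ * g' = ((⟨(φ g)⁻¹ * g, hg⟩ : ↥N) : G) := ⟨g, rfl⟩
    rw [hrep]
    simp only
    rw [dif_pos hex]
    exact hex.choose_spec
  have hfix : ∀ g : G, ∀ hg : (φ g)⁻¹ * g ∈ N,
      φ (g * (rep ⟨_, hg⟩)⁻¹) = g * (rep ⟨_, hg⟩)⁻¹ := by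
    intro g hg
    have h1 := hrep_spec g hg
    set r := rep ⟨_, hg⟩
    rw [map_mul, map_inv]
    -- (φ r)⁻¹ r = (φ g)⁻¹ g
    have h2 : φ g = g * r⁻¹ * φ r := by
      have : (φ g)⁻¹ = (φ r)⁻¹ * r * g⁻¹ := by
        rw [h1]; group
      have h3 := congrArg (fun t => t⁻¹) this
      simp only [inv_inv] at h3
      rw [h3]; group
    rw [h2]; group
  let f : {g : G // (φ g)⁻¹ * g ∈ N} → ↥N × {g : G // φ g = g} :=
    fun g => (⟨_, g.2⟩, ⟨g.1 * (rep ⟨_, g.2⟩)⁻¹, hfix g.1 g.2⟩)
  have hf : Function.Injective f := by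
    intro g h hgh
    have h1 : (⟨_, g.2⟩ : ↥N) = ⟨_, h.2⟩ := congrArg Prod.fst hgh
    have h2 : g.1 * (rep ⟨_, g.2⟩)⁻¹ = h.1 * (rep ⟨_, h.2⟩)⁻¹ :=
      congrArg Subtype.val (congrArg Prod.snd hgh)
    rw [h1] at h2
    exact Subtype.ext (mul_right_cancel h2)
  calc Nat.card {g : G // (φ g)⁻¹ * g ∈ N}
      ≤ Nat.card (↥N × {g : G // φ g = g}) := Nat.card_le_card_of_injective f hf
    _ = Nat.card N * Nat.card {g : G // φ g = g} := Nat.card_prod _ _

/-- the induced automorphism of a quotient has at most as many fixed points -/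
theorem card_fix_quotAut_le (α : MulAut G) (N : Subgroup G) [N.Normal]
    (hN : N.map (α : G →* G) = N) :
    Nat.card {x : G ⧸ N // quotAut α N hN x = x} ≤ Nat.card {g : G // α g = g} := by
  have h1 := QuotientGroup.card_preimage_mk N {x : G ⧸ N | quotAut α N hN x = x}
  have h2 : Nat.card ↑(QuotientGroup.mk ⁻¹' {x : G ⧸ N | quotAut α N hN x = x})
      = Nat.card {g : G // (α g)⁻¹ * g ∈ N} := by
    apply Nat.card_congr
    apply Equiv.subtypeEquivRight
    intro g
    simp only [Set.mem_preimage, Set.mem_ofPred_eq]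
    rw [quotAut_mk, QuotientGroup.eq]
  have h3 := twisted_card_le α N
  rw [← h2, h1] at h3
  have hpos : 0 < Nat.card N := Nat.card_pos
  exact Nat.le_of_mul_le_mul_left h3 hpos

/-- the restriction of an automorphism has at most as many fixed points -/
theorem card_fix_resAut_le (α : MulAut G) (N : Subgroup G) (hN : ∀ x, x ∈ N ↔ α x ∈ N) :
    Nat.card {x : ↥N // resAut α N hN x = x} ≤ Nat.card {g : G // α g = g} := by
  apply Nat.card_le_card_of_injective
    (fun x : {x : ↥N // resAut α N hN x = x} =>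
      (⟨(x.1 : G), congrArg Subtype.val x.2⟩ : {g : G // α g = g}))
  intro x y hxy
  have : (x.1 : G) = (y.1 : G) := by
    have h := congrArg Subtype.val hxy
    exact h
  exact Subtype.ext (Subtype.ext this)

end counting

section derived

variable {G : Type*} [Group G]

/-- derived lengths add up along a normal subgroup -/
theorem derivedSeries_add_eq_bot (N : Subgroup G) [N.Normal] (a b : ℕ)
    (ha : derivedSeries (G ⧸ N) a = ⊥) (hb : derivedSeries ↥N b = ⊥) :
    derivedSeries G (a + b) = ⊥ := by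
  have h1 : derivedSeries G a ≤ N := by
    have := map_derivedSeries_eq (QuotientGroup.mk'_surjective N) a
    rw [ha] at this
    rw [← QuotientGroup.ker_mk' N]
    exact (Subgroup.map_eq_bot_iff _).mp this
  have h2 : ∀ k, derivedSeries G (a + k) ≤ (derivedSeries ↥N k).map N.subtype := by
    intro k
    induction k with
    | zero =>
      rw [derivedSeries_zero, ← MonoidHom.range_eq_map, Subgroup.range_subtype]
      exact h1
    | succ k ih =>
      rw [← add_assoc, derivedSeries_succ, derivedSeries_succ, Subgroup.map_commutator]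
      exact Subgroup.commutator_mono ih ih
  have h3 := h2 b
  rw [hb, Subgroup.map_bot] at h3
  exact le_bot_iff.mp h3

/-- a solvable group of order at most `B` has derived length at most `B` -/
theorem derivedSeries_eq_bot_of_card_le [Finite G] (hs : Group.IsSolvable G) (B : ℕ)
    (hB : Nat.card G ≤ B) : derivedSeries G B = ⊥ := by
  have key : ∀ k, derivedSeries G k = ⊥ ∨ Nat.card (derivedSeries G k) + k ≤ Nat.card G := by
    intro k
    induction k with
    | zero =>
      right
      rw [derivedSeries_zero, Subgroup.card_top]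
      exact le_refl _
    | succ k ih =>
      rcases ih with h | h
      · left
        rw [derivedSeries_succ, h]
        exact Subgroup.commutator_bot_left ⊥
      · by_cases hk : derivedSeries G k = ⊥
        · left
          rw [derivedSeries_succ, hk]
          exact Subgroup.commutator_bot_left ⊥
        · right
          have hlt := Group.IsSolvable.commutator_lt_of_ne_bot hk
          rw [← derivedSeries_succ] at hlt
          have hcard : Nat.card (derivedSeries G (k + 1)) < Nat.card (derivedSeries G k) := by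
            by_contra hcon
            push Not at hcon
            exact hlt.ne (Subgroup.eq_of_le_of_card_ge hlt.le hcon)
          omega
  rcases key B with h | h
  · exact h
  · exfalso
    have : 0 < Nat.card (derivedSeries G B) := Nat.card_pos
    omega

end derived

section main

/-- the Frattini quotient of a `p`-group with an automorphism of order dividing `p` having at most
`p ^ n` fixed points has order at most `p ^ (p * n)`; here (A5) is a hypothesis -/
theorem card_frattini_quotient_le_of {p : ℕ} [Fact p.Prime]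
    (hA5 : ∀ {V : Type} [AddCommGroup V] [Finite V] (f : V →+ V), (∀ v, (f^[p]) v = v) →
      ∀ n e : ℕ, Nat.card {v : V // f v = v} ≤ p ^ n → (∀ v : V, (p ^ e) • v = 0) →
      Nat.card V ≤ p ^ (e * (p * n)))
    {P : Type} [Group P] [Finite P] (hP : IsPGroup p P) (φ : MulAut P) (hφ : φ ^ p = 1) (n : ℕ)
    (hfix : Nat.card {g : P // φ g = g} ≤ p ^ n) :
    Nat.card (P ⧸ frattini P) ≤ p ^ (p * n) := by
  have hmap : (frattini P).map (φ : P →* P) = frattini P := map_eq_of_characteristic φ _
  set ψ : MulAut (P ⧸ frattini P) := quotAut φ (frattini P) hmap with hψ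
  have hψp : ψ ^ p = 1 := quotAut_pow_eq_one φ _ hmap hφ
  have hψfix : Nat.card {x : P ⧸ frattini P // ψ x = x} ≤ p ^ n :=
    (card_fix_quotAut_le φ _ hmap).trans hfix
  have hcomm : ∀ a b : P ⧸ frattini P, a * b = b * a := by
    intro a b
    induction a using QuotientGroup.induction_on with
    | H x =>
      induction b using QuotientGroup.induction_on with
      | H y =>
        rw [← QuotientGroup.mk_mul, ← QuotientGroup.mk_mul, QuotientGroup.eq]
        apply Cfsg.Agent.Helper1.IsPGroup.commutator_le_frattini hP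
        have h1 : (x * y)⁻¹ * (y * x) = ⁅y⁻¹, x⁻¹⁆ := by
          rw [commutatorElement_def]
          group
        rw [h1, commutator_def]
        exact Subgroup.commutator_mem_commutator (Subgroup.mem_top _) (Subgroup.mem_top _)
  have hexp : ∀ t : P ⧸ frattini P, t ^ p = 1 := by
    intro t
    induction t using QuotientGroup.induction_on with
    | H x =>
      rw [← QuotientGroup.mk_pow, QuotientGroup.eq_one_iff]
      exact Cfsg.Agent.Helper1.IsPGroup.pow_mem_frattini hP x
  letI inst : CommGroup (P ⧸ frattini P) :=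
    { (inferInstance : Group (P ⧸ frattini P)) with mul_comm := hcomm }
  let f : Additive (P ⧸ frattini P) →+ Additive (P ⧸ frattini P) :=
    MonoidHom.toAdditive (ψ : (P ⧸ frattini P) →* (P ⧸ frattini P))
  have hf_apply : ∀ v : Additive (P ⧸ frattini P), f v = Additive.ofMul (ψ (Additive.toMul v)) :=
    fun v => rfl
  have hf_iter : ∀ (k : ℕ) (v : Additive (P ⧸ frattini P)),
      (f^[k]) v = Additive.ofMul ((ψ ^ k) (Additive.toMul v)) := by
    intro k
    induction k with
    | zero => intro v; simp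
    | succ k ih =>
      intro v
      rw [Function.iterate_succ_apply', ih, hf_apply, pow_succ', MulAut.mul_apply]
      rfl
  have h1 : ∀ v, (f^[p]) v = v := by
    intro v
    rw [hf_iter, hψp]
    rfl
  have h2 : Nat.card {v : Additive (P ⧸ frattini P) // f v = v} ≤ p ^ n := by
    refine le_trans (le_of_eq ?_) hψfix
    apply Nat.card_congr
    exact
      { toFun := fun v => ⟨Additive.toMul v.1, by
          have := v.2
          rw [hf_apply] at this
          exact congrArg Additive.toMul this⟩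
        invFun := fun x => ⟨Additive.ofMul x.1, by
          rw [hf_apply]
          exact congrArg Additive.ofMul x.2⟩
        left_inv := fun v => rfl
        right_inv := fun x => rfl }
  have h3 : ∀ v : Additive (P ⧸ frattini P), (p ^ 1) • v = 0 := by
    intro v
    rw [pow_one]
    have := hexp (Additive.toMul v)
    exact congrArg Additive.ofMul this
  have h4 := hA5 f h1 n 1 h2 h3
  rw [one_mul] at h4
  exact h4

/-- (A7b) the solvable reduction, with the pieces (A5) and (A7a) as hypotheses -/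
theorem solvable_bound_of {p : ℕ} [Fact p.Prime]
    (hA5 : ∀ {V : Type} [AddCommGroup V] [Finite V] (f : V →+ V), (∀ v, (f^[p]) v = v) →
      ∀ n e : ℕ, Nat.card {v : V // f v = v} ≤ p ^ n → (∀ v : V, (p ^ e) • v = 0) →
      Nat.card V ≤ p ^ (e * (p * n)))
    (hA7a : ∀ {X : Type} [Group X] [Finite X], Group.IsSolvable X → Cfsg.pPrimeCore p X = ⊥ →
      ∀ M : ℕ, Nat.card (↥(Cfsg.pCore p X) ⧸ frattini ↥(Cfsg.pCore p X)) ≤ M →
      (Cfsg.pCore p X).index ≤ M ^ M)
    (n d1 d2 : ℕ)
    (h1 : ∀ (N : Type) [Group N] [Finite N], (Nat.card N).Coprime p → ∀ φ : MulAut N, φ ^ p = 1 →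
      (∀ g, φ g = g → g = 1) → derivedSeries N d1 = ⊥)
    (h2 : ∀ (P : Type) [Group P] [Finite P], IsPGroup p P → ∀ φ : MulAut P, φ ^ p = 1 →
      Nat.card {g : P // φ g = g} ≤ p ^ n → derivedSeries P d2 = ⊥)
    (G : Type) [Group G] [Finite G] (hsolv : Group.IsSolvable G) (α : MulAut G) (hα : α ^ p = 1)
    (hfix : Nat.card {g : G // α g = g} = p ^ n) :
    derivedSeries G (d1 + (p ^ (p * n)) ^ (p ^ (p * n)) + d2) = ⊥ := by
  have hp : p.Prime := Fact.out
  -- the `p'`-core
  set N : Subgroup G := Cfsg.pPrimeCore p G with hNdef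
  haveI hNchar : N.Characteristic := Cfsg.Agent.Helper7.pPrimeCore_characteristic p G
  have hNcop : (Nat.card N).Coprime p := Cfsg.Agent.Helper19.pPrimeCore_coprime p
  have hNinv : ∀ x, x ∈ N ↔ α x ∈ N := mem_iff_of_characteristic α N
  -- the subgroup of fixed points
  let F : Subgroup G := (α : G →* G).eqLocus (MonoidHom.id G)
  have hFcard : Nat.card F = p ^ n := by
    rw [← hfix]
    apply Nat.card_congr
    exact Equiv.subtypeEquivRight (fun g => Iff.rfl)
  have hd1 : derivedSeries ↥N d1 = ⊥ := by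
    apply h1 ↥N hNcop (resAut α N hNinv) (resAut_pow_eq_one α N hNinv hα)
    intro g hg
    have hgF : (g : G) ∈ F := congrArg Subtype.val hg
    have ho1 : orderOf (g : G) ∣ p ^ n := by
      rw [← hFcard]
      have := orderOf_dvd_natCard (⟨(g : G), hgF⟩ : F)
      rwa [Subgroup.orderOf_mk] at this
    have ho2 : orderOf (g : G) ∣ Nat.card N := by
      rw [Subgroup.orderOf_coe g]
      exact orderOf_dvd_natCard g
    have hcop : (Nat.card N).Coprime (p ^ n) := Nat.Coprime.pow_right n hNcop
    have ho3 : orderOf (g : G) = 1 := Nat.eq_one_of_dvd_coprimes hcop ho2 ho1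
    exact Subtype.ext (orderOf_eq_one_iff.mp ho3)
  -- the quotient
  have hmapN : N.map (α : G →* G) = N := map_eq_of_characteristic α N
  set αq : MulAut (G ⧸ N) := quotAut α N hmapN with hαq
  have hαqp : αq ^ p = 1 := quotAut_pow_eq_one α N hmapN hα
  have hαqfix : Nat.card {x : G ⧸ N // αq x = x} ≤ p ^ n :=
    (card_fix_quotAut_le α N hmapN).trans (le_of_eq hfix)
  haveI : Group.IsSolvable G := hsolv
  have hqsolv : Group.IsSolvable (G ⧸ N) := inferInstance
  have hO : Cfsg.pPrimeCore p (G ⧸ N) = ⊥ := Cfsg.Agent.Helper7.pPrimeCore_quotient_eq_bot p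
  set P : Subgroup (G ⧸ N) := Cfsg.pCore p (G ⧸ N) with hPdef
  haveI hPchar : P.Characteristic := Cfsg.Agent.Helper14.pCore_characteristic p
  haveI hPnormal : P.Normal := Cfsg.pCore_normal p (G ⧸ N)
  have hPp : IsPGroup p ↥P := Cfsg.Agent.Helper14.pCore_isPGroup p
  have hPinv : ∀ x, x ∈ P ↔ αq x ∈ P := mem_iff_of_characteristic αq P
  have hφPfix : Nat.card {x : ↥P // resAut αq P hPinv x = x} ≤ p ^ n :=
    (card_fix_resAut_le αq P hPinv).trans hαqfix
  have hd2 : derivedSeries ↥P d2 = ⊥ :=
    h2 ↥P hPp (resAut αq P hPinv) (resAut_pow_eq_one αq P hPinv hαqp) hφPfix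
  -- the Frattini quotient
  have hV : Nat.card (↥P ⧸ frattini ↥P) ≤ p ^ (p * n) :=
    card_frattini_quotient_le_of hA5 hPp (resAut αq P hPinv) (resAut_pow_eq_one αq P hPinv hαqp) n
      hφPfix
  have hidx : P.index ≤ (p ^ (p * n)) ^ (p ^ (p * n)) := hA7a hqsolv hO _ hV
  have hd3 : derivedSeries ((G ⧸ N) ⧸ P) ((p ^ (p * n)) ^ (p ^ (p * n))) = ⊥ := by
    apply derivedSeries_eq_bot_of_card_le inferInstance
    rw [← Subgroup.index_eq_card]
    exact hidx
  have hd4 : derivedSeries (G ⧸ N) ((p ^ (p * n)) ^ (p ^ (p * n)) + d2) = ⊥ :=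
    derivedSeries_add_eq_bot P _ _ hd3 hd2
  have hd5 := derivedSeries_add_eq_bot N _ _ hd4 hd1
  have he : d1 + (p ^ (p * n)) ^ (p ^ (p * n)) + d2
      = (p ^ (p * n)) ^ (p ^ (p * n)) + d2 + d1 := by ring
  rw [he]
  exact hd5

/-- **(A7b)** the solvable reduction -/
theorem solvable_bound {p : ℕ} [Fact p.Prime] (n d1 d2 : ℕ)
    (h1 : ∀ (N : Type) [Group N] [Finite N], (Nat.card N).Coprime p → ∀ φ : MulAut N, φ ^ p = 1 →
      (∀ g, φ g = g → g = 1) → derivedSeries N d1 = ⊥)
    (h2 : ∀ (P : Type) [Group P] [Finite P], IsPGroup p P → ∀ φ : MulAut P, φ ^ p = 1 →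
      Nat.card {g : P // φ g = g} ≤ p ^ n → derivedSeries P d2 = ⊥)
    (G : Type) [Group G] [Finite G] (hsolv : Group.IsSolvable G) (α : MulAut G) (hα : α ^ p = 1)
    (hfix : Nat.card {g : G // α g = g} = p ^ n) :
    derivedSeries G (d1 + (p ^ (p * n)) ^ (p ^ (p * n)) + d2) = ⊥ :=
  solvable_bound_of
    (fun f hfp n e hfix hexp => Cfsg.Agent.Helper23.Alp.card_le_of_fixed f hfp n e hfix hexp)
    (fun hs hO M hM => Cfsg.Agent.Helper18.Alp.index_pCore_le hs hO M hM)
    n d1 d2 h1 h2 G hsolv α hα hfix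

end main

end Cfsg.Agent.Helper1.Alp
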