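import Mathlib

/-!
# A solvable group acting transitively on the nonidentity elements of an elementary abelian
`2`-group contains an element of odd order acting without fixed points.
-/

set_option autoImplicit false

namespace Cfsg.Agent.Helper1.Ambi

open Subgroup
open scoped commutatorElement

section Abstract

variable {Γ E : Type*} [Group Γ] [Group E]

/-- in a solvable group, for a proper subgroup `C` there is a normal subgroup `D ≰ C` with
`[D, D] ≤ C` -/
theorem exists_normal_comm_not_le [hs : Group.IsSolvable Γ] (C : Subgroup Γ) (hC : C ≠ ⊤) :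
    ∃ D : Subgroup Γ, D.Normal ∧ ¬ D ≤ C ∧ ⁅D, D⁆ ≤ C := by
  classical
  obtain ⟨n, hn⟩ := hs.solvable
  have hex : ∃ n, derivedSeries Γ n ≤ C := ⟨n, by rw [hn]; exact bot_le⟩
  have hm0 : Nat.find hex ≠ 0 := by
    intro h0
    have := Nat.find_spec hex
    rw [h0, derivedSeries_zero] at this
    exact hC (top_le_iff.mp this)
  obtain ⟨k, hk⟩ := Nat.exists_eq_succ_of_ne_zero hm0
  refine ⟨derivedSeries Γ k, inferInstance, ?_, ?_⟩
  · exact Nat.find_min hex (by omega)
  · have := Nat.find_spec hex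
    rw [hk] at this
    exact this

theorem inv_eq_self_of_exp (hexp : ∀ e : E, e * e = 1) (e : E) : e⁻¹ = e :=
  inv_eq_of_mul_eq_one_left (hexp e)

theorem comm_of_exp (hexp : ∀ e : E, e * e = 1) (a b : E) : a * b = b * a := by
  have h : a * b = (a * b)⁻¹ := (inv_eq_self_of_exp hexp _).symm
  rw [h, mul_inv_rev, inv_eq_self_of_exp hexp, inv_eq_self_of_exp hexp]

/-- an automorphism of odd order whose square fixes `v` fixes `v` -/
theorem fix_of_sq_fix (φ : Γ →* MulAut E) {k : Γ} (hodd : Odd (orderOf k)) {v : E}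
    (h : φ k (φ k v) = v) : φ k v = v := by
  obtain ⟨j, hj⟩ := hodd
  have h2 : ∀ i : ℕ, (φ k ^ (2 * i)) v = v := by
    intro i
    induction i with
    | zero => simp
    | succ i ih =>
      have : φ k ^ (2 * (i + 1)) = φ k ^ (2 * i) * (φ k * φ k) := by
        rw [← pow_two, ← pow_add, Nat.mul_succ]
      rw [this, MulAut.mul_apply, MulAut.mul_apply, h, ih]
  have h3 : φ k ^ (2 * j + 1) = 1 := by
    rw [← map_pow, ← hj, pow_orderOf_eq_one, map_one]
  have h4 : (φ k ^ (2 * j + 1)) v = φ k v := by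
    rw [pow_succ', MulAut.mul_apply, h2]
  rw [← h4, h3]; rfl

/-- the stabilizer of a point -/
def stab (φ : Γ →* MulAut E) (v : E) : Subgroup Γ where
  carrier := {m | φ m v = v}
  mul_mem' := by
    intro a b ha hb
    show φ (a * b) v = v
    rw [map_mul, MulAut.mul_apply, show φ b v = v from hb, show φ a v = v from ha]
  one_mem' := by
    show φ 1 v = v
    rw [map_one]; rfl
  inv_mem' := by
    intro a ha
    show φ a⁻¹ v = v
    have h1 : φ a v = v := ha
    calc φ a⁻¹ v = φ a⁻¹ (φ a v) := by rw [h1]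
      _ = v := by rw [← MulAut.mul_apply, ← map_mul, inv_mul_cancel, map_one]; rfl

theorem mem_stab (φ : Γ →* MulAut E) (v : E) (m : Γ) : m ∈ stab φ v ↔ φ m v = v := Iff.rfl

theorem card_inf_stab_le [Finite Γ] (φ : Γ →* MulAut E) (D : Subgroup Γ) [hD : D.Normal]
    {v v' : E} (g : Γ) (hg : φ g v = v') :
    Nat.card ↥(D ⊓ stab φ v) ≤ Nat.card ↥(D ⊓ stab φ v') := by
  have hle : (D ⊓ stab φ v).map (MulAut.conj g).toMonoidHom ≤ D ⊓ stab φ v' := by
    rintro _ ⟨m, ⟨hmD, hmv⟩, rfl⟩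
    have hmv' : φ m v = v := hmv
    refine ⟨?_, ?_⟩
    · show g * m * g⁻¹ ∈ D
      exact hD.conj_mem m hmD g
    · show φ (g * m * g⁻¹) v' = v'
      have h1 : φ g⁻¹ v' = v := by
        rw [← hg, ← MulAut.mul_apply, ← map_mul, inv_mul_cancel, map_one]; rfl
      rw [map_mul, map_mul, MulAut.mul_apply, MulAut.mul_apply, h1, hmv', hg]
  calc Nat.card ↥(D ⊓ stab φ v)
      = Nat.card ↥((D ⊓ stab φ v).map (MulAut.conj g).toMonoidHom) :=
        (Subgroup.card_map_of_injective (MulAut.conj g).injective).symm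
    _ ≤ _ := Subgroup.card_le_of_le hle

/-- semiregularity: an element of odd order of `D` fixing a nonidentity point acts trivially -/
theorem semireg [Finite Γ] (φ : Γ →* MulAut E)
    (hexp : ∀ e : E, e * e = 1)
    (htrans : ∀ e f : E, e ≠ 1 → f ≠ 1 → ∃ g : Γ, φ g e = f)
    (D : Subgroup Γ) [hD : D.Normal]
    (hDD : ∀ a ∈ D, ∀ b ∈ D, φ (a * b) = φ (b * a))
    {k : Γ} (hkD : k ∈ D) (hodd : Odd (orderOf k)) {w : E} (hw1 : w ≠ 1) (hkw : φ k w = w) :
    φ k = 1 := by
  classical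
  by_contra hne
  have hcomm := comm_of_exp hexp
  obtain ⟨u0, hu0⟩ : ∃ u0 : E, φ k u0 ≠ u0 := by
    by_contra hall
    push Not at hall
    exact hne (MulEquiv.ext hall)
  have hτmul : ∀ a b : E, (a * b) * φ k (a * b) = (a * φ k a) * (b * φ k b) := by
    intro a b
    rw [map_mul]
    calc a * b * (φ k a * φ k b) = a * (b * φ k a) * φ k b := by simp only [mul_assoc]
      _ = a * (φ k a * b) * φ k b := by rw [hcomm b (φ k a)]
      _ = a * φ k a * (b * φ k b) := by simp only [mul_assoc]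
  have hτfix : ∀ v : E, φ k (v * φ k v) = v * φ k v → φ k v = v := by
    intro v hv
    rw [map_mul] at hv
    have h1 : φ k (φ k v) = v := by
      have : φ k v * φ k (φ k v) = φ k v * v := by rw [hv, hcomm]
      exact mul_left_cancel this
    exact fix_of_sq_fix φ hodd h1
  have hτone : ∀ v : E, φ k (v * φ k v) = v * φ k v → v * φ k v = 1 := by
    intro v hv
    rw [hτfix v hv, hexp]
  set u : E := u0 * φ k u0 with hu
  have hku : φ k u ≠ u := fun h => hu0 (hτfix u0 h)
  have hwu : w * u ≠ 1 := by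
    intro h
    have h1 : u = w := by
      have : u = w⁻¹ := eq_inv_of_mul_eq_one_right h
      rw [this, inv_eq_self_of_exp hexp]
    exact hku (by rw [h1, hkw])
  have hcard : ∀ v v' : E, v ≠ 1 → v' ≠ 1 →
      Nat.card ↥(D ⊓ stab φ v) = Nat.card ↥(D ⊓ stab φ v') := by
    intro v v' hv hv'
    obtain ⟨g, hg⟩ := htrans v v' hv hv'
    obtain ⟨g', hg'⟩ := htrans v' v hv' hv
    exact le_antisymm (card_inf_stab_le φ D g hg) (card_inf_stab_le φ D g' hg')
  have key : D ⊓ stab φ (w * u) ≤ D ⊓ stab φ w := by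
    rintro m ⟨hmD, hm⟩
    refine ⟨hmD, ?_⟩
    show φ m w = w
    have hm' : φ m w * φ m u = w * u := by rw [← map_mul]; exact hm
    have hkm : ∀ e : E, φ k (φ m e) = φ m (φ k e) := by
      intro e
      rw [← MulAut.mul_apply, ← map_mul, hDD k hkD m hmD, map_mul, MulAut.mul_apply]
    have h1 : φ k (φ m w) = φ m w := by rw [hkm, hkw]
    have h2 : φ m u = φ m u0 * φ k (φ m u0) := by
      rw [hu, map_mul, hkm]
    have h3 : φ m w * w = (u0 * φ m u0) * φ k (u0 * φ m u0) := by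
      rw [hτmul, ← h2, ← hu]
      calc φ m w * w = (φ m w * φ m u) * (φ m u * w) := by
            rw [mul_assoc, ← mul_assoc (φ m u), hexp, one_mul]
        _ = (w * u) * (φ m u * w) := by rw [hm']
        _ = (w * u) * (w * φ m u) := by rw [hcomm (φ m u) w]
        _ = (u * w) * (w * φ m u) := by rw [hcomm w u]
        _ = u * φ m u := by rw [mul_assoc, ← mul_assoc w, hexp, one_mul]
    have h4 : φ k ((u0 * φ m u0) * φ k (u0 * φ m u0)) = (u0 * φ m u0) * φ k (u0 * φ m u0) := by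
      rw [← h3, map_mul, h1, hkw]
    have h5 := hτone _ h4
    rw [h5] at h3
    calc φ m w = (φ m w * w) * w := by rw [mul_assoc, hexp, mul_one]
      _ = w := by rw [h3, one_mul]
  have hk1 : k ∈ D ⊓ stab φ w := ⟨hkD, hkw⟩
  have hk2 : k ∉ D ⊓ stab φ (w * u) := by
    intro h
    have h1 : φ k (w * u) = w * u := h.2
    rw [map_mul, hkw] at h1
    exact hku (mul_left_cancel h1)
  have heq : D ⊓ stab φ (w * u) = D ⊓ stab φ w :=
    Subgroup.eq_of_le_of_card_ge key (hcard _ _ hw1 hwu).le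
  exact hk2 (heq ▸ hk1)

/-- if `D` acts nontrivially then some element of odd order of `D` acts nontrivially -/
theorem exists_odd_nontrivial [Finite Γ] [Finite E] (φ : Γ →* MulAut E)
    (hexp : ∀ e : E, e * e = 1)
    (htrans : ∀ e f : E, e ≠ 1 → f ≠ 1 → ∃ g : Γ, φ g e = f)
    (D : Subgroup Γ) [hD : D.Normal]
    (hDne : ∃ d ∈ D, φ d ≠ 1) : ∃ k ∈ D, Odd (orderOf k) ∧ φ k ≠ 1 := by
  classical
  by_contra hall
  push Not at hall
  obtain ⟨d, hdD, hd⟩ := hDne
  obtain ⟨e0, he0⟩ : ∃ e0 : E, φ d e0 ≠ e0 := by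
    by_contra h
    push Not at h
    exact hd (MulEquiv.ext h)
  have he01 : e0 ≠ 1 := by
    rintro rfl
    exact he0 (map_one _)
  have h2dvd : 2 ∣ Nat.card E := by
    have h1 : orderOf e0 = 2 := by
      apply orderOf_eq_prime
      · rw [pow_two]; exact hexp e0
      · exact he01
    rw [← h1]; exact orderOf_dvd_natCard e0
  -- the image of `D` is a `2`-group
  have hA : IsPGroup 2 ↥(D.map φ) := by
    rintro ⟨a, x, hxD, rfl⟩
    obtain ⟨s, t, htodd, hst⟩ := Nat.exists_eq_two_pow_mul_odd (orderOf_pos x).ne'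
    refine ⟨s, ?_⟩
    apply Subtype.ext
    rw [Subgroup.coe_pow, Subgroup.coe_one]
    show φ x ^ 2 ^ s = 1
    rw [← map_pow]
    apply hall _ (D.pow_mem hxD _)
    have hdvd : orderOf (x ^ 2 ^ s) ∣ t := by
      apply orderOf_dvd_of_pow_eq_one
      rw [← pow_mul, ← hst, pow_orderOf_eq_one]
    exact Odd.of_dvd_nat htodd hdvd
  have : Fact (Nat.Prime 2) := ⟨Nat.prime_two⟩
  have h1fix : (1 : E) ∈ MulAction.fixedPoints ↥(D.map φ) E := by
    intro a
    show (a : MulAut E) • (1 : E) = 1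
    rw [MulAut.smul_def, map_one]
  obtain ⟨w0, hw0, hw01⟩ := hA.exists_fixed_point_of_prime_dvd_card_of_fixed_point E h2dvd h1fix
  have hDw0 : ∀ x ∈ D, φ x w0 = w0 := by
    intro x hx
    have := hw0 ⟨φ x, x, hx, rfl⟩
    exact this
  have hDall : ∀ x ∈ D, ∀ e : E, φ x e = e := by
    intro x hx e
    by_cases he : e = 1
    · rw [he, map_one]
    · obtain ⟨g, hg⟩ := htrans w0 e (Ne.symm hw01) he
      have h1 : g⁻¹ * x * g ∈ D := by
        have := hD.conj_mem x hx g⁻¹
        rwa [inv_inv] at this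
      have h2 : x * g = g * (g⁻¹ * x * g) := by group
      rw [← hg, ← MulAut.mul_apply, ← map_mul, h2, map_mul, MulAut.mul_apply, hDw0 _ h1]
  exact hd (MulEquiv.ext (hDall d hdD))

/-- **Main abstract statement.** -/
theorem exists_fpf_odd [Finite Γ] [Finite E] [hs : Group.IsSolvable Γ] (φ : Γ →* MulAut E)
    (hexp : ∀ e : E, e * e = 1)
    (htrans : ∀ e f : E, e ≠ 1 → f ≠ 1 → ∃ g : Γ, φ g e = f)
    (hne : ∃ g : Γ, φ g ≠ 1) :
    ∃ k : Γ, Odd (orderOf k) ∧ ∀ w : E, φ k w = w → w = 1 := by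
  have hC : φ.ker ≠ ⊤ := by
    intro h
    obtain ⟨g, hg⟩ := hne
    apply hg
    have : g ∈ φ.ker := by rw [h]; exact mem_top g
    exact this
  obtain ⟨D, hDn, hDC, hDD⟩ := exists_normal_comm_not_le φ.ker hC
  have hDD' : ∀ a ∈ D, ∀ b ∈ D, φ (a * b) = φ (b * a) := by
    intro a ha b hb
    have h1 : ⁅a, b⁆ ∈ φ.ker := hDD (Subgroup.commutator_mem_commutator ha hb)
    rw [MonoidHom.mem_ker, commutatorElement_def] at h1
    have h2 : a * b = (a * b * a⁻¹ * b⁻¹) * (b * a) := by group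
    rw [h2, map_mul, h1, one_mul]
  have hDne : ∃ d ∈ D, φ d ≠ 1 := by
    obtain ⟨d, hdD, hdC⟩ := SetLike.not_le_iff_exists.mp hDC
    exact ⟨d, hdD, fun h => hdC h⟩
  obtain ⟨k, hkD, hkodd, hk1⟩ := exists_odd_nontrivial φ hexp htrans D hDne
  refine ⟨k, hkodd, ?_⟩
  intro w hw
  by_contra hw1
  exact hk1 (semireg φ hexp htrans D hDD' hkD hkodd hw1 hw)

end Abstract

end Cfsg.Agent.Helper1.Ambi
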