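import Mathlib
import Cfsg.Agent.Helper1.Ambi1

/-!
# Solvable ambivalent groups with one class of involutions and `O(H) = 1` have a unique
involution.
-/

set_option autoImplicit false

namespace Cfsg.Agent.Helper1.Ambi

open Subgroup
open scoped commutatorElement

variable {H : Type*} [Group H]

theorem pow_four_eq (d : H) : d ^ 4 = (d * d) * (d * d) := by
  rw [show (4 : ℕ) = 2 + 2 from rfl, pow_add, pow_two]

theorem commute_sq_of_inv {g d : H} (hg : g * d * g⁻¹ = d⁻¹) : Commute (g ^ 2) d := by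
  have h3 : g * d⁻¹ * g⁻¹ = d := by
    have : g * d⁻¹ * g⁻¹ = (g * d * g⁻¹)⁻¹ := by group
    rw [this, hg, inv_inv]
  have h5 : g ^ 2 * d * (g ^ 2)⁻¹ = d := by
    calc g ^ 2 * d * (g ^ 2)⁻¹ = g * (g * d * g⁻¹) * g⁻¹ := by rw [pow_two]; group
      _ = d := by rw [hg, h3]
  have h4 : g ^ 2 * d = d * g ^ 2 := by
    calc g ^ 2 * d = (g ^ 2 * d * (g ^ 2)⁻¹) * g ^ 2 := by
          rw [inv_mul_cancel_right]
      _ = d * g ^ 2 := by rw [h5]
  exact h4

/-- if `g` inverts `d` then odd powers of `g` invert `d` -/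
theorem conj_pow_odd {g d : H} (hg : g * d * g⁻¹ = d⁻¹) {n : ℕ} (hn : Odd n) :
    g ^ n * d * (g ^ n)⁻¹ = d⁻¹ := by
  have h2 : Commute (g ^ 2) d := commute_sq_of_inv hg
  obtain ⟨j, rfl⟩ := hn
  have h5 : Commute ((g ^ 2) ^ j) d⁻¹ := (h2.pow_left j).inv_right
  have h6 : g ^ (2 * j + 1) = (g ^ 2) ^ j * g := by rw [pow_succ, pow_mul]
  rw [h6]
  calc (g ^ 2) ^ j * g * d * ((g ^ 2) ^ j * g)⁻¹
      = (g ^ 2) ^ j * (g * d * g⁻¹) * ((g ^ 2) ^ j)⁻¹ := by group
    _ = (g ^ 2) ^ j * d⁻¹ * ((g ^ 2) ^ j)⁻¹ := by rw [hg]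
    _ = d⁻¹ := by rw [h5.eq]; group

/-- an element of odd order with `d ^ 4 = 1` is trivial -/
theorem eq_one_of_odd_of_pow_four {d : H} (hodd : Odd (orderOf d)) (h : d ^ 4 = 1) : d = 1 := by
  have h1 : orderOf d ∣ 2 ^ 2 := orderOf_dvd_of_pow_eq_one (by norm_num; exact h)
  have h2 : (orderOf d).Coprime (2 ^ 2) := (Nat.Coprime.pow_right 2 hodd.coprime_two_right)
  exact orderOf_eq_one_iff.mp (Nat.Coprime.eq_one_of_dvd h2 h1)

/-- **Unique involution.** -/
theorem unique_involution [Finite H] [hsol : Group.IsSolvable H]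
    (hamb : ∀ x : H, IsConj x x⁻¹)
    (hone : ∀ s t : H, orderOf s = 2 → orderOf t = 2 → IsConj s t)
    (hO : ∀ N : Subgroup H, N.Normal → Odd (Nat.card N) → N = ⊥) :
    ∀ s t : H, orderOf s = 2 → orderOf t = 2 → s = t := by
  classical
  intro s t hs ht
  by_contra hst
  have hs1 : s ≠ 1 := by
    rintro rfl
    rw [orderOf_one] at hs; omega
  have ht1 : t ≠ 1 := by
    rintro rfl
    rw [orderOf_one] at ht; omega
  -- abelian normal subgroup
  obtain ⟨A, hAn, hAbot, hAA⟩ := exists_normal_comm_not_le (⊥ : Subgroup H) (by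
    intro h
    have : s ∈ (⊥ : Subgroup H) := by rw [h]; exact mem_top s
    exact hs1 (mem_bot.mp this))
  have hAcomm : ∀ a ∈ A, ∀ b ∈ A, a * b = b * a := by
    intro a ha b hb
    have h1 : ⁅a, b⁆ ∈ (⊥ : Subgroup H) := hAA (Subgroup.commutator_mem_commutator ha hb)
    rw [mem_bot, commutatorElement_def] at h1
    have h2 : a * b = (a * b * a⁻¹ * b⁻¹) * (b * a) := by group
    rw [h2, h1, one_mul]
  let E : Subgroup H :=
    { carrier := {a | a ∈ A ∧ a * a = 1}
      mul_mem' := by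
        rintro a b ⟨haA, ha⟩ ⟨hbA, hb⟩
        refine ⟨A.mul_mem haA hbA, ?_⟩
        calc a * b * (a * b) = a * (b * a) * b := by group
          _ = a * (a * b) * b := by rw [hAcomm b hbA a haA]
          _ = (a * a) * (b * b) := by group
          _ = 1 := by rw [ha, hb, one_mul]
      one_mem' := ⟨A.one_mem, one_mul 1⟩
      inv_mem' := by
        rintro a ⟨haA, ha⟩
        refine ⟨A.inv_mem haA, ?_⟩
        have : a⁻¹ = a := inv_eq_of_mul_eq_one_left ha
        rw [this, ha] }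
  have hEn : E.Normal := by
    constructor
    rintro a ⟨haA, ha2⟩ g
    refine ⟨hAn.conj_mem a haA g, ?_⟩
    calc g * a * g⁻¹ * (g * a * g⁻¹) = g * (a * a) * g⁻¹ := by group
      _ = 1 := by rw [ha2]; group
  -- `E` contains an involution
  obtain ⟨z0, hz0E, hz0⟩ : ∃ z0 ∈ E, orderOf z0 = 2 := by
    by_contra hno
    push Not at hno
    apply hAbot
    have hodd : Odd (Nat.card A) := by
      rw [← Nat.not_even_iff_odd, even_iff_two_dvd]
      intro h2
      have : Fact (Nat.Prime 2) := ⟨Nat.prime_two⟩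
      obtain ⟨a, ha⟩ := exists_prime_orderOf_dvd_card' 2 h2
      have ha' : orderOf (a : H) = 2 := by rw [Subgroup.orderOf_coe]; exact ha
      apply hno (a : H) _ ha'
      refine ⟨a.2, ?_⟩
      have := pow_orderOf_eq_one (a : H)
      rw [ha', pow_two] at this
      exact this
    rw [hO A hAn hodd]
  have hinvE : ∀ x : H, orderOf x = 2 → x ∈ E := by
    intro x hx
    obtain ⟨c, hc⟩ := isConj_iff.mp (hone z0 x hz0 hx)
    rw [← hc]; exact hEn.conj_mem z0 hz0E c
  have hEexp : ∀ e : ↥E, e * e = 1 := fun e => Subtype.ext e.2.2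
  have hEord : ∀ e : ↥E, e ≠ 1 → orderOf (e : H) = 2 := by
    intro e he
    apply orderOf_eq_prime
    · rw [pow_two]; exact e.2.2
    · intro h; exact he (Subtype.ext h)
  let φ : H →* MulAut ↥E := MulAut.conjNormal
  have hφ : ∀ (g : H) (e : ↥E), ((φ g e : ↥E) : H) = g * e * g⁻¹ :=
    fun g e => MulAut.conjNormal_apply g e
  have htrans : ∀ e f : ↥E, e ≠ 1 → f ≠ 1 → ∃ g : H, φ g e = f := by
    intro e f he hf
    obtain ⟨c, hc⟩ := isConj_iff.mp (hone e f (hEord e he) (hEord f hf))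
    exact ⟨c, Subtype.ext (by rw [hφ]; exact hc)⟩
  have hne : ∃ g : H, φ g ≠ 1 := by
    have hsE := hinvE s hs
    have htE := hinvE t ht
    obtain ⟨g, hg⟩ := htrans ⟨s, hsE⟩ ⟨t, htE⟩
      (by intro h; exact hs1 (congrArg Subtype.val h))
      (by intro h; exact ht1 (congrArg Subtype.val h))
    refine ⟨g, ?_⟩
    intro h
    rw [h] at hg
    exact hst (congrArg Subtype.val hg)
  obtain ⟨d, hdodd, hdfpf⟩ := exists_fpf_odd φ hEexp htrans hne
  have hdfpf' : ∀ w ∈ E, d * w * d⁻¹ = w → w = 1 := by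
    intro w hw hdw
    have := hdfpf ⟨w, hw⟩ (Subtype.ext (by rw [hφ]; exact hdw))
    exact congrArg Subtype.val this
  have hd1 : d ≠ 1 := by
    rintro rfl
    have := hdfpf' z0 hz0E (by group)
    rw [this, orderOf_one] at hz0; omega
  obtain ⟨g, hg⟩ := isConj_iff.mp (hamb d)
  obtain ⟨a, t', ht'odd, hat⟩ := Nat.exists_eq_two_pow_mul_odd (orderOf_pos g).ne'
  set h := g ^ t' with hh
  have hhd : h * d * h⁻¹ = d⁻¹ := conj_pow_odd hg ht'odd
  have hhpow : h ^ 2 ^ a = 1 := by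
    rw [hh, ← pow_mul, mul_comm, ← hat, pow_orderOf_eq_one]
  obtain ⟨j, hja, hj⟩ : ∃ j ≤ a, orderOf h = 2 ^ j :=
    (Nat.dvd_prime_pow Nat.prime_two).mp (orderOf_dvd_of_pow_eq_one hhpow)
  have hh1 : h ≠ 1 := by
    intro h1
    rw [h1] at hhd
    have hdd : d = d⁻¹ := by simpa using hhd
    have hd2 : d * d = 1 := mul_eq_one_iff_eq_inv.mpr hdd
    have hd4 : d ^ 4 = 1 := by
      calc d ^ 4 = (d * d) * (d * d) := pow_four_eq d
        _ = 1 := by rw [hd2, one_mul]
    exact hd1 (eq_one_of_odd_of_pow_four hdodd hd4)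
  have hj0 : j ≠ 0 := by
    rintro rfl
    rw [pow_zero, orderOf_eq_one_iff] at hj
    exact hh1 hj
  obtain ⟨i, rfl⟩ := Nat.exists_eq_succ_of_ne_zero hj0
  set z := h ^ 2 ^ i with hz
  have hzord : orderOf z = 2 := by
    apply orderOf_eq_prime
    · rw [hz, ← pow_mul, ← pow_succ, ← hj, pow_orderOf_eq_one]
    · rw [hz]
      apply pow_ne_one_of_lt_orderOf (by positivity)
      rw [hj]; exact Nat.pow_lt_pow_right (by norm_num) (Nat.lt_succ_self i)
  have hzE : z ∈ E := hinvE z hzord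
  rcases Nat.eq_zero_or_pos i with hi | hi
  · have hzh : z = h := by rw [hz, hi, pow_zero, pow_one]
    rw [hzh] at hzE
    have h1 : d * h * d⁻¹ ∈ E := hEn.conj_mem h hzE d
    have h2 : d * d = (d * h * d⁻¹) * h⁻¹ := by
      have h3 : h * d⁻¹ * h⁻¹ = d := by
        have : h * d⁻¹ * h⁻¹ = (h * d * h⁻¹)⁻¹ := by group
        rw [this, hhd, inv_inv]
      calc d * d = d * (h * d⁻¹ * h⁻¹) := by rw [h3]
        _ = _ := by group
    have h3 : d * d ∈ E := by rw [h2]; exact E.mul_mem h1 (E.inv_mem hzE)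
    have h4 : d ^ 4 = 1 := by
      have := h3.2
      calc d ^ 4 = (d * d) * (d * d) := pow_four_eq d
        _ = 1 := this
    exact hd1 (eq_one_of_odd_of_pow_four hdodd h4)
  · obtain ⟨i', rfl⟩ := Nat.exists_eq_succ_of_ne_zero hi.ne'
    have hc : Commute (h ^ 2) d := commute_sq_of_inv hhd
    have hz' : z = (h ^ 2) ^ 2 ^ i' := by rw [hz, pow_succ, pow_mul']
    have hcz : Commute z d := by rw [hz']; exact hc.pow_left _
    have hz1 : z = 1 := hdfpf' z hzE (by rw [← hcz.eq]; group)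
    rw [hz1, orderOf_one] at hzord; omega

end Cfsg.Agent.Helper1.Ambi
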