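import Mathlib
import Cfsg.Prelude.Def_CaseTheorems
import Cfsg.Agent.Helper1.Ambi2
import Cfsg.Agent.Helper7.PPrimeCore
import Cfsg.Agent.Helper19.Cores
import Cfsg.Agent.Helper16.RankLift

/-!
# Solvable ambivalent groups with one class of involutions: a Sylow `2`-subgroup has a unique
involution.
-/

set_option autoImplicit false

namespace Cfsg.Agent.Helper1.Ambi

open Subgroup

variable {G : Type*} [Group G]

/-- lifting involutions modulo a normal subgroup of odd order -/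
theorem lift_involution [Finite G] (K : Subgroup G) [K.Normal] (hK : Odd (Nat.card K))
    (x : G ⧸ K) (hx : orderOf x = 2) : ∃ s : G, orderOf s = 2 ∧ (s : G ⧸ K) = x := by
  obtain ⟨g, rfl⟩ := QuotientGroup.mk_surjective x
  obtain ⟨a, t, htodd, hat⟩ := Nat.exists_eq_two_pow_mul_odd (orderOf_pos g).ne'
  have h2 : (g : G ⧸ K) ^ 2 = 1 := by rw [← hx]; exact pow_orderOf_eq_one _
  have h1 : ((g ^ t : G) : G ⧸ K) = (g : G ⧸ K) := by
    rw [QuotientGroup.mk_pow]
    obtain ⟨j, rfl⟩ := htodd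
    rw [pow_succ, pow_mul, h2, one_pow, one_mul]
  refine ⟨g ^ t, ?_, h1⟩
  have hne : g ^ t ≠ 1 := by
    intro h
    rw [h, QuotientGroup.mk_one] at h1
    rw [← h1, orderOf_one] at hx; omega
  have hsq : (g ^ t) ^ 2 ∈ K := by
    rw [← QuotientGroup.eq_one_iff, QuotientGroup.mk_pow, h1, h2]
  have hpow : (g ^ t) ^ 2 ^ a = 1 := by rw [← pow_mul, mul_comm, ← hat, pow_orderOf_eq_one]
  have hsq1 : (g ^ t) ^ 2 = 1 := by
    have h3 : orderOf ((g ^ t) ^ 2) ∣ 2 ^ a :=
      orderOf_dvd_of_pow_eq_one (by rw [← pow_mul, mul_comm, pow_mul, hpow, one_pow])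
    have h4 : orderOf ((g ^ t) ^ 2) ∣ Nat.card K := by
      have := orderOf_dvd_natCard (⟨(g ^ t) ^ 2, hsq⟩ : K)
      rwa [← Subgroup.orderOf_coe] at this
    have h5 : (2 ^ a).Coprime (Nat.card K) := Nat.Coprime.pow_left a hK.coprime_two_left
    exact orderOf_eq_one_iff.mp (Nat.eq_one_of_dvd_coprimes h5 h3 h4)
  exact orderOf_eq_prime hsq1 hne

theorem oddCore_odd [Finite G] : Odd (Nat.card (Cfsg.oddCore G)) :=
  (Cfsg.Agent.Helper19.pPrimeCore_coprime (G := G) 2).odd_of_right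

/-- In a solvable ambivalent group with one class of involutions, a Sylow `2`-subgroup has at
most one involution. -/
theorem sylow_unique_involution [Finite G] [Group.IsSolvable G]
    (hamb : ∀ x : G, IsConj x x⁻¹)
    (hone : ∀ s t : G, orderOf s = 2 → orderOf t = 2 → IsConj s t) (S : Sylow 2 G) :
    ∀ s ∈ S, ∀ t ∈ S, orderOf s = 2 → orderOf t = 2 → s = t := by
  have hKodd : Odd (Nat.card (Cfsg.oddCore G)) := oddCore_odd
  have hamb' : ∀ x : G ⧸ Cfsg.oddCore G, IsConj x x⁻¹ := by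
    intro x
    obtain ⟨g, rfl⟩ := QuotientGroup.mk_surjective x
    obtain ⟨c, hc⟩ := isConj_iff.mp (hamb g)
    refine isConj_iff.mpr ⟨(c : G ⧸ Cfsg.oddCore G), ?_⟩
    rw [← QuotientGroup.mk_inv, ← QuotientGroup.mk_mul, ← QuotientGroup.mk_inv,
      ← QuotientGroup.mk_mul, hc]
  have hone' : ∀ s t : G ⧸ Cfsg.oddCore G, orderOf s = 2 → orderOf t = 2 → IsConj s t := by
    intro s t hs ht
    obtain ⟨s0, hs0, rfl⟩ := lift_involution _ hKodd s hs
    obtain ⟨t0, ht0, rfl⟩ := lift_involution _ hKodd t ht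
    obtain ⟨c, hc⟩ := isConj_iff.mp (hone s0 t0 hs0 ht0)
    refine isConj_iff.mpr ⟨(c : G ⧸ Cfsg.oddCore G), ?_⟩
    rw [← QuotientGroup.mk_inv, ← QuotientGroup.mk_mul, ← QuotientGroup.mk_mul, hc]
  have hO : ∀ N : Subgroup (G ⧸ Cfsg.oddCore G), N.Normal → Odd (Nat.card N) → N = ⊥ := by
    intro N hN hodd
    have h1 : N ≤ Cfsg.pPrimeCore 2 (G ⧸ Cfsg.pPrimeCore 2 G) :=
      Cfsg.Agent.Helper7.le_pPrimeCore hN hodd.coprime_two_right
    rw [Cfsg.Agent.Helper7.pPrimeCore_quotient_eq_bot] at h1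
    exact le_bot_iff.mp h1
  have huniq := unique_involution hamb' hone' hO
  intro s hs t ht hs2 ht2
  have hmk : ∀ x ∈ S, orderOf x = 2 → orderOf (x : G ⧸ Cfsg.oddCore G) = 2 := by
    intro x hx hx2
    have hxx : x ^ 2 = 1 := by
      have := pow_orderOf_eq_one x
      rwa [hx2] at this
    apply orderOf_eq_prime
    · rw [← QuotientGroup.mk_pow, hxx, QuotientGroup.mk_one]
    · intro h
      rw [QuotientGroup.eq_one_iff] at h
      have := Cfsg.Agent.Helper16.RankLift.eq_one_of_mem_oddCore S.2 hx h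
      rw [this, orderOf_one] at hx2; omega
  have h1 := huniq _ _ (hmk s hs hs2) (hmk t ht ht2)
  have h2 : s * t⁻¹ ∈ Cfsg.oddCore G := by
    rw [← QuotientGroup.eq_one_iff, QuotientGroup.mk_mul, QuotientGroup.mk_inv, h1,
      mul_inv_cancel]
  have h3 := Cfsg.Agent.Helper16.RankLift.eq_one_of_mem_oddCore S.2
    ((S : Subgroup G).mul_mem hs ((S : Subgroup G).inv_mem ht)) h2
  exact mul_inv_eq_one.mp h3

end Cfsg.Agent.Helper1.Ambi
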