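import Mathlib
import Cfsg.Prelude.Def_CaseTheorems
import Cfsg.Agent.Helper1.Ambi3
import Cfsg.Agent.Helper15.ExtClosed2
import Cfsg.Agent.Helper6.QuatSquare
import Cfsg.Agent.Helper20.QuatQuotA
import Cfsg.Agent.Helper1.UniqueOrderP

/-!
# Solvable ambivalent groups with one class of involutions: structure of the Sylow
`2`-subgroup, and the case of Sylow `2`-subgroups of order `2`.
-/

set_option autoImplicit false

namespace Cfsg.Agent.Helper1.Ambi

open Subgroup
open scoped commutatorElement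

variable {G : Type*} [Group G]

/-- an element of odd order inverted by an element of odd order is trivial -/
theorem eq_one_of_odd_inverts {k c : G} (hk : Odd (orderOf k)) (hc : Odd (orderOf c))
    (h : k * c * k⁻¹ = c⁻¹) : c = 1 := by
  have h2 : Commute (k ^ 2) c := commute_sq_of_inv h
  obtain ⟨j, hj⟩ := hk
  have h3 : k = (k ^ 2) ^ (j + 1) := by
    rw [← pow_mul, show 2 * (j + 1) = (2 * j + 1) + 1 by ring, ← hj, pow_succ,
      pow_orderOf_eq_one, one_mul]
  have h4 : Commute k c := by rw [h3]; exact h2.pow_left _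
  have h5 : c = c⁻¹ := by
    rw [← h, h4.eq]; group
  have h6 : c * c = 1 := mul_eq_one_iff_eq_inv.mpr h5
  apply eq_one_of_odd_of_pow_four hc
  rw [pow_four_eq, h6, one_mul]

/-- a cyclic Sylow `2`-subgroup of an ambivalent group has order at most `2` -/
theorem card_le_two_of_cyclic [Finite G] (hamb : ∀ x : G, IsConj x x⁻¹) (S : Sylow 2 G)
    (hcyc : IsCyclic ↥(S : Subgroup G)) : Nat.card ↥(S : Subgroup G) ∣ 2 := by
  obtain ⟨s0, hs0⟩ := hcyc.exists_generator
  set x0 : G := (s0 : G) with hx0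
  have hgen : ∀ y ∈ S, ∃ n : ℤ, x0 ^ n = y := by
    intro y hy
    obtain ⟨n, hn⟩ := Subgroup.mem_zpowers_iff.mp (hs0 ⟨y, hy⟩)
    refine ⟨n, ?_⟩
    have := congrArg Subtype.val hn
    rwa [Subgroup.coe_zpow] at this
  obtain ⟨c, hc⟩ := isConj_iff.mp (hamb x0)
  obtain ⟨a, t, htodd, hat⟩ := Nat.exists_eq_two_pow_mul_odd (orderOf_pos c).ne'
  set h := c ^ t with hh
  have hhx : h * x0 * h⁻¹ = x0⁻¹ := conj_pow_odd hc htodd
  have hhpow : h ^ 2 ^ a = 1 := by
    rw [hh, ← pow_mul, mul_comm, ← hat, pow_orderOf_eq_one]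
  -- `h` normalizes `S`
  have hconj : ∀ n : ℤ, h * x0 ^ n * h⁻¹ = (x0 ^ n)⁻¹ := by
    intro n
    have : h * x0 ^ n * h⁻¹ = (h * x0 * h⁻¹) ^ n := by
      rw [← MulAut.conj_apply, ← MulAut.conj_apply, map_zpow]
    rw [this, hhx, inv_zpow]
  have hnorm : zpowers h ≤ normalizer ((S : Subgroup G) : Set G) := by
    rw [zpowers_le]
    rw [mem_normalizer_iff]
    intro y
    constructor
    · intro hy
      obtain ⟨n, rfl⟩ := hgen y hy
      rw [hconj]
      exact (S : Subgroup G).inv_mem hy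
    · intro hy
      obtain ⟨n, hn⟩ := hgen _ hy
      have h1 : y = h⁻¹ * (h * y * h⁻¹) * h := by group
      have h2 : h⁻¹ * x0 ^ n * h = (x0 ^ n)⁻¹ := by
        have h3 : h * (x0 ^ n)⁻¹ * h⁻¹ = x0 ^ n := by
          have h5 := hconj n
          calc h * (x0 ^ n)⁻¹ * h⁻¹ = (h * x0 ^ n * h⁻¹)⁻¹ := by group
            _ = x0 ^ n := by rw [h5, inv_inv]
        calc h⁻¹ * x0 ^ n * h = h⁻¹ * (h * (x0 ^ n)⁻¹ * h⁻¹) * h := by rw [h3]
          _ = (x0 ^ n)⁻¹ := by group
      rw [h1, ← hn, h2]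
      have : x0 ^ n ∈ S := by
        rw [hn]; exact hy
      exact (S : Subgroup G).inv_mem this
  have hhp : IsPGroup 2 ↥(zpowers h) := by
    obtain ⟨j, _, hj⟩ := (Nat.dvd_prime_pow Nat.prime_two).mp (orderOf_dvd_of_pow_eq_one hhpow)
    apply IsPGroup.of_card (n := j)
    rw [Nat.card_zpowers, hj]
  have hsup : IsPGroup 2 ↥((S : Subgroup G) ⊔ zpowers h) :=
    IsPGroup.to_sup_of_normal_left' S.2 hhp hnorm
  have hSeq : (S : Subgroup G) ⊔ zpowers h = S := S.is_maximal' hsup le_sup_left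
  have hhS : h ∈ S := by
    have h1 : h ∈ (S : Subgroup G) ⊔ zpowers h :=
      (le_sup_right : zpowers h ≤ _) (mem_zpowers h)
    rw [hSeq] at h1
    exact h1
  -- `h` commutes with `x0`
  obtain ⟨m, hm⟩ := hgen h hhS
  have hcomm : h * x0 = x0 * h := by
    rw [← hm]
    exact ((Commute.refl x0).zpow_left m).eq
  have hx0sq : x0 * x0 = 1 := by
    have : x0 = x0⁻¹ := by
      rw [← hhx, hcomm]; group
    exact mul_eq_one_iff_eq_inv.mpr this
  rw [← orderOf_eq_card_of_forall_mem_zpowers hs0]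
  apply orderOf_dvd_of_pow_eq_one
  apply Subtype.ext
  rw [Subgroup.coe_pow, pow_two]
  exact hx0sq

/-- the case of a Sylow `2`-subgroup of order `2` -/
theorem order_two_case [Finite G] (hamb : ∀ x : G, IsConj x x⁻¹) (S : Sylow 2 G)
    (hcard : Nat.card ↥(S : Subgroup G) = 2) :
    (S : Subgroup G).IsComplement' (Cfsg.oddCore G) ∧ Cfsg.oddCore G = commutator G ∧
      ∀ t : G, t ∈ S → t ≠ 1 → ∀ x : G, x ∈ Cfsg.oddCore G → t * x * t⁻¹ = x⁻¹ := by
  obtain ⟨t0, ht0, huniq⟩ := (Nat.card_eq_two_iff' (1 : ↥(S : Subgroup G))).mp hcard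
  have ht01 : (t0 : G) ≠ 1 := fun h => ht0 (Subtype.ext h)
  have hS2 : ∀ x ∈ S, x ≠ 1 → x = (t0 : G) := by
    intro x hx hx1
    have := huniq ⟨x, hx⟩ (fun h => hx1 (congrArg Subtype.val h))
    exact congrArg Subtype.val this
  have ht0sq : (t0 : G) * t0 = 1 := by
    by_contra h
    have h1 := hS2 _ ((S : Subgroup G).mul_mem t0.2 t0.2) h
    exact ht01 (by simpa using h1)
  have ht0inv : (t0 : G)⁻¹ = t0 := inv_eq_of_mul_eq_one_left ht0sq
  -- `N(S) ≤ C(S)`
  have hNC : normalizer ((S : Subgroup G) : Set G) ≤ centralizer ((S : Subgroup G) : Set G) := by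
    intro n hn
    rw [mem_centralizer_iff]
    intro x hx
    by_cases hx1 : x = 1
    · rw [hx1, one_mul, mul_one]
    · have hxt := hS2 x hx hx1
      have h1 : n * x * n⁻¹ ∈ S := (mem_normalizer_iff.mp hn x).mp hx
      have h2 : n * x * n⁻¹ ≠ 1 := by
        intro h
        apply hx1
        calc x = n⁻¹ * (n * x * n⁻¹) * n := by group
          _ = 1 := by rw [h]; group
      have h3 := hS2 _ h1 h2
      rw [← hxt] at h3
      calc x * n = (n * x * n⁻¹) * n := by rw [h3]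
        _ = n * x := by group
  have hK : Cfsg.oddCore G = (MonoidHom.transferSylow S hNC).ker :=
    Cfsg.Agent.Helper15.pPrimeCore_eq_ker_transferSylow S hNC
  have hcompl : IsComplement' (Cfsg.oddCore G) (S : Subgroup G) := by
    rw [hK]; exact MonoidHom.ker_transferSylow_isComplement' S hNC
  have hKodd : Odd (Nat.card (Cfsg.oddCore G)) := oddCore_odd
  have hKord : ∀ k ∈ Cfsg.oddCore G, Odd (orderOf k) := by
    intro k hk
    have h1 : orderOf k ∣ Nat.card (Cfsg.oddCore G) := by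
      have := orderOf_dvd_natCard (⟨k, hk⟩ : Cfsg.oddCore G)
      rwa [← Subgroup.orderOf_coe] at this
    exact Odd.of_dvd_nat hKodd h1
  -- fixed-point-freeness
  have hfpf : ∀ c ∈ Cfsg.oddCore G, (t0 : G) * c = c * t0 → c = 1 := by
    intro c hc hcomm
    obtain ⟨g, hg⟩ := isConj_iff.mp (hamb c)
    obtain ⟨⟨k', s'⟩, hks, -⟩ := (isComplement'_def.mp hcompl).existsUnique g
    have hks' : (k' : G) * (s' : G) = g := hks
    have hsc : (s' : G) * c * (s' : G)⁻¹ = c := by
      by_cases hs1 : (s' : G) = 1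
      · rw [hs1]; group
      · rw [hS2 _ s'.2 hs1, hcomm]; group
    have hkc : (k' : G) * c * (k' : G)⁻¹ = c⁻¹ := by
      rw [← hg, ← hks']
      calc (k' : G) * c * (k' : G)⁻¹ = (k' : G) * ((s' : G) * c * (s' : G)⁻¹) * (k' : G)⁻¹ := by
            rw [hsc]
        _ = (k' : G) * (s' : G) * c * ((k' : G) * (s' : G))⁻¹ := by group
    exact eq_one_of_odd_inverts (hKord _ k'.2) (hKord c hc) hkc
  have hinv : ∀ n ∈ Cfsg.oddCore G, (t0 : G) * n * (t0 : G)⁻¹ = n⁻¹ :=
    Cfsg.Agent.Helper6.QuatSquare.conj_eq_inv_of_fpf' (Cfsg.oddCore G) ht0sq hfpf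
  refine ⟨hcompl.symm, ?_, ?_⟩
  · apply le_antisymm
    · intro x hx
      obtain ⟨j, hj⟩ := hKord x hx
      set y := x ^ (j + 1) with hy
      have hyK : y ∈ Cfsg.oddCore G := (Cfsg.oddCore G).pow_mem hx _
      have hyy : y * y = x := by
        rw [hy, ← pow_add, show j + 1 + (j + 1) = (2 * j + 1) + 1 by ring, ← hj, pow_succ,
          pow_orderOf_eq_one, one_mul]
      have h1 : ⁅y, (t0 : G)⁆ = x := by
        rw [commutatorElement_def]
        have h2 := hinv y⁻¹ ((Cfsg.oddCore G).inv_mem hyK)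
        rw [inv_inv] at h2
        calc y * (t0 : G) * y⁻¹ * (t0 : G)⁻¹ = y * ((t0 : G) * y⁻¹ * (t0 : G)⁻¹) := by group
          _ = x := by rw [h2, hyy]
      rw [commutator_def, ← h1]
      exact Subgroup.commutator_mem_commutator (mem_top y) (mem_top _)
    · have hidx : (Cfsg.oddCore G).index = 2 := by
        rw [hcompl.symm.index_eq_card, hcard]
      rw [commutator_def, Subgroup.commutator_le]
      intro a _ b _
      rw [commutatorElement_def, mul_assoc (a * b), mul_mem_iff_of_index_two hidx,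
        mul_mem_iff_of_index_two hidx, mul_mem_iff_of_index_two hidx, inv_mem_iff, inv_mem_iff]
  · intro t ht ht1 x hx
    rw [hS2 t ht ht1]
    exact hinv x hx

/-- the structure of the Sylow `2`-subgroup -/
theorem sylow_structure [Finite G] [Group.IsSolvable G]
    (hamb : ∀ x : G, IsConj x x⁻¹) (heven : 2 ∣ Nat.card G)
    (hone : ∀ s t : G, orderOf s = 2 → orderOf t = 2 → IsConj s t) (S : Sylow 2 G) :
    Nat.card S = 2 ∨ ∃ n : ℕ, Nonempty ((S : Subgroup G) ≃* QuaternionGroup (2 ^ (n + 1))) := by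
  have : Fact (Nat.Prime 2) := ⟨Nat.prime_two⟩
  have hu := sylow_unique_involution hamb hone S
  have h2S : 2 ∣ Nat.card ↥(S : Subgroup G) := S.dvd_card_of_dvd_card heven
  have hu' : ∃! x : ↥(S : Subgroup G), orderOf x = 2 := by
    obtain ⟨x, hx⟩ := exists_prime_orderOf_dvd_card' 2 h2S
    refine ⟨x, hx, ?_⟩
    intro y hy
    apply Subtype.ext
    apply hu _ y.2 _ x.2
    · rw [Subgroup.orderOf_coe]; exact hy
    · rw [Subgroup.orderOf_coe]; exact hx
  by_cases hc : IsMulCommutative ↥(S : Subgroup G)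
  · left
    have hcyc : IsCyclic ↥(S : Subgroup G) :=
      Cfsg.Agent.Helper1.UniqP.isCyclic_of_isMulCommutative S.2
        (Cfsg.Agent.Helper20.subgroup_card_two_unique hu')
    have h1 := card_le_two_of_cyclic hamb S hcyc
    exact Nat.dvd_antisymm h1 h2S
  · right
    obtain ⟨k, hk, ⟨e⟩⟩ := Cfsg.Agent.Helper20.exists_quat_iso S.2 hc hu'
    obtain ⟨n, rfl⟩ := Nat.exists_eq_succ_of_ne_zero (by omega : k ≠ 0)
    exact ⟨n, ⟨e⟩⟩

end Cfsg.Agent.Helper1.Ambi
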