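import Mathlib
import Cfsg.Prelude.Def_Local
import Cfsg.Agent.Lead.PLength
import Cfsg.Agent.Helper14.PCore
import Cfsg.Agent.Helper19.Cores

set_option autoImplicit false
set_option linter.unusedSectionVars false
set_option linter.style.haveILetI false

/-! # `p`-length via arbitrary `p`-series

`Cfsg.PLengthLE p k G` is defined through the upper `p`-series.  We show that the upper `p`-series
dominates every normal series with factors alternately `p'` and `p`, and deduce that `p`-length is
monotone under surjections and subgroups, subadditive in extensions, etc. -/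

namespace Cfsg.Agent.Helper1.PLen

open Subgroup Cfsg Cfsg.Agent.Lead

variable {G : Type*} [Group G]

/-- A `p`-series of `G`: an ascending chain of normal subgroups starting at `⊥` whose factors are
alternately `p'`-groups (even positions) and `p`-groups (odd positions). -/
structure IsPSeries (p : ℕ) (N : ℕ → Subgroup G) : Prop where
  zero : N 0 = ⊥
  normal : ∀ i, (N i).Normal
  mono : ∀ i, N i ≤ N (i + 1)
  even : ∀ i, Even i → ((N i).relIndex (N (i + 1))).Coprime p
  odd : ∀ i, ¬ Even i → ∃ e, (N i).relIndex (N (i + 1)) = p ^ e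

/-! ### divisibility of relative indices -/

theorem relIndex_sup_dvd {H K M : Subgroup G} [hH : H.Normal] [hM : M.Normal] (hHK : H ≤ K) :
    (H ⊔ M).relIndex (K ⊔ M) ∣ H.relIndex K := by
  have h1 : K ⊔ M = K ⊔ (H ⊔ M) := by
    rw [← sup_assoc, sup_eq_left.2 hHK]
  have h2 : (H ⊔ M).relIndex (K ⊔ (H ⊔ M)) = (H ⊔ M).relIndex K := relIndex_sup_right K (H ⊔ M)
  rw [h1, h2]
  exact relIndex_dvd_of_le_left K le_sup_left

theorem relIndex_dvd_of_le_right {H K' K : Subgroup G} [hH : H.Normal] (hHK : H ≤ K)
    (hK : K' ≤ K) : H.relIndex K' ∣ H.relIndex K := by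
  have h1 : H.relIndex (K' ⊔ H) = H.relIndex K' := relIndex_sup_right K' H
  have h2 := relIndex_mul_relIndex H (K' ⊔ H) K le_sup_right (sup_le hK hHK)
  rw [← h1, ← h2]
  exact dvd_mul_right _ _

theorem relIndex_inf_dvd {H K : Subgroup G} [hH : H.Normal] (hHK : H ≤ K) (L : Subgroup G) :
    (H ⊓ L).relIndex (K ⊓ L) ∣ H.relIndex K := by
  have h1 : H ⊓ L = H ⊓ (K ⊓ L) := by
    rw [← inf_assoc, inf_eq_left.2 hHK]
  rw [h1, inf_relIndex_right]
  exact relIndex_dvd_of_le_right hHK inf_le_left

theorem relIndex_comap_mk' (N : Subgroup G) [N.Normal] (C : Subgroup (G ⧸ N)) :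
    N.relIndex (C.comap (QuotientGroup.mk' N)) = Nat.card C := by
  have := relIndex_ker (QuotientGroup.mk' N) (K := C.comap (QuotientGroup.mk' N))
  rw [QuotientGroup.ker_mk',
    map_comap_eq_self_of_surjective (QuotientGroup.mk'_surjective N)] at this
  exact this

theorem exists_pow_of_dvd_pow {p : ℕ} (hp : p.Prime) {m e : ℕ} (h : m ∣ p ^ e) :
    ∃ e', m = p ^ e' := by
  obtain ⟨e', _, he'⟩ := (Nat.dvd_prime_pow hp).1 h
  exact ⟨e', he'⟩

/-! ### the upper series dominates -/

section Finite

variable [Finite G] {p : ℕ} [hp : Fact p.Prime]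

theorem IsPSeries.le_upper {N : ℕ → Subgroup G} (h : IsPSeries p N) :
    ∀ i, N i ≤ (upperPSeries p G i).1
  | 0 => by rw [h.zero]; exact bot_le
  | i + 1 => by
    have ih := IsPSeries.le_upper h i
    have hdvd : (upperPSeries p G i).1.relIndex (N (i + 1)) ∣ (N i).relIndex (N (i + 1)) :=
      relIndex_dvd_of_le_left (N (i + 1)) ih
    have hcard : Nat.card ((N (i + 1)).map (QuotientGroup.mk' (upperPSeries p G i).1)) =
        (upperPSeries p G i).1.relIndex (N (i + 1)) := by
      rw [← relIndex_ker, QuotientGroup.ker_mk']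
    have hn : ((N (i + 1)).map (QuotientGroup.mk' (upperPSeries p G i).1)).Normal :=
      (h.normal (i + 1)).map _ (QuotientGroup.mk'_surjective _)
    by_cases he : Even i
    · rw [upperPSeries_succ_of_even p G he, ← map_le_iff_le_comap]
      apply le_sSup
      refine ⟨hn, ?_⟩
      rw [hcard]
      exact Nat.Coprime.coprime_dvd_left hdvd (h.even i he)
    · rw [upperPSeries_succ_of_not_even p G he, ← map_le_iff_le_comap]
      apply le_sSup
      refine ⟨hn, ?_⟩
      obtain ⟨e, he'⟩ := h.odd i he
      rw [he'] at hdvd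
      obtain ⟨e', he''⟩ := exists_pow_of_dvd_pow hp.out hdvd
      exact IsPGroup.of_card (hcard.trans he'')

theorem pLengthLE_of_series {N : ℕ → Subgroup G} (h : IsPSeries p N) {k : ℕ}
    (hk : N (2 * k + 1) = ⊤) : PLengthLE p k G := by
  unfold PLengthLE
  rw [eq_top_iff, ← hk]
  exact h.le_upper _

theorem isPSeries_upper : IsPSeries p (fun i => (upperPSeries p G i).1) where
  zero := upperPSeries_zero p G
  normal := fun i => (upperPSeries p G i).2
  mono := fun i => upperPSeries_le_succ p G i
  even := by
    intro i he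
    have h1 : (upperPSeries p G i).1.relIndex (upperPSeries p G (i + 1)).1 =
        Nat.card (pPrimeCore p (G ⧸ (upperPSeries p G i).1)) := by
      rw [upperPSeries_succ_of_even p G he]
      exact relIndex_comap_mk' _ _
    rw [h1]
    exact Cfsg.Agent.Helper19.pPrimeCore_coprime p
  odd := by
    intro i he
    have h1 : (upperPSeries p G i).1.relIndex (upperPSeries p G (i + 1)).1 =
        Nat.card (pCore p (G ⧸ (upperPSeries p G i).1)) := by
      rw [upperPSeries_succ_of_not_even p G he]
      exact relIndex_comap_mk' _ _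
    rw [h1]
    exact IsPGroup.iff_card.1 (Cfsg.Agent.Helper14.pCore_isPGroup p)

theorem pLengthLE_iff {k : ℕ} :
    PLengthLE p k G ↔ ∃ N : ℕ → Subgroup G, IsPSeries p N ∧ N (2 * k + 1) = ⊤ :=
  ⟨fun h => ⟨_, isPSeries_upper, h⟩, fun ⟨_, h, hk⟩ => pLengthLE_of_series h hk⟩

end Finite

/-! ### images and restrictions of `p`-series -/

theorem IsPSeries.map {p : ℕ} {Q : Type*} [Group Q] {N : ℕ → Subgroup G} (h : IsPSeries p N)
    (f : G →* Q) (hf : Function.Surjective f) (hp : p.Prime) :
    IsPSeries p (fun i => (N i).map f) where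
  zero := by simp only [h.zero, Subgroup.map_bot]
  normal := fun i => (h.normal i).map f hf
  mono := fun i => Subgroup.map_mono (h.mono i)
  even := by
    intro i he
    haveI := h.normal i
    rw [relIndex_map_map]
    exact Nat.Coprime.coprime_dvd_left (relIndex_sup_dvd (h.mono i)) (h.even i he)
  odd := by
    intro i he
    haveI := h.normal i
    rw [relIndex_map_map]
    obtain ⟨e, he'⟩ := h.odd i he
    have := relIndex_sup_dvd (M := f.ker) (h.mono i)
    rw [he'] at this
    exact exists_pow_of_dvd_pow hp this

theorem IsPSeries.subgroupOf {p : ℕ} {N : ℕ → Subgroup G} (h : IsPSeries p N) (H : Subgroup G)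
    (hp : p.Prime) : IsPSeries p (fun i => (N i).subgroupOf H) where
  zero := by simp only [h.zero, bot_subgroupOf]
  normal := fun i => (h.normal i).subgroupOf H
  mono := by
    intro i x hx
    rw [mem_subgroupOf] at hx ⊢
    exact h.mono i hx
  even := by
    intro i he
    haveI := h.normal i
    rw [← relIndex_map_map_of_injective _ _ (subtype_injective H), subgroupOf_map_subtype,
      subgroupOf_map_subtype]
    exact Nat.Coprime.coprime_dvd_left (relIndex_inf_dvd (h.mono i) H) (h.even i he)
  odd := by
    intro i he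
    haveI := h.normal i
    rw [← relIndex_map_map_of_injective _ _ (subtype_injective H), subgroupOf_map_subtype,
      subgroupOf_map_subtype]
    obtain ⟨e, he'⟩ := h.odd i he
    have := relIndex_inf_dvd (h.mono i) H
    rw [he'] at this
    exact exists_pow_of_dvd_pow hp this

section Finite2

variable [Finite G] {p : ℕ} [hp : Fact p.Prime]

/-- `p`-length does not increase under surjections. -/
theorem pLengthLE_of_surjective {Q : Type*} [Group Q] [Finite Q] {k : ℕ} (h : PLengthLE p k G)
    (f : G →* Q) (hf : Function.Surjective f) : PLengthLE p k Q := by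
  apply pLengthLE_of_series ((isPSeries_upper (G := G) (p := p)).map f hf hp.out)
  show ((upperPSeries p G (2 * k + 1)).1).map f = ⊤
  rw [show (upperPSeries p G (2 * k + 1)).1 = ⊤ from h, map_top_of_surjective f hf]

theorem pLengthLE_of_mulEquiv {Q : Type*} [Group Q] [Finite Q] {k : ℕ} (h : PLengthLE p k G)
    (e : G ≃* Q) : PLengthLE p k Q :=
  pLengthLE_of_surjective h e.toMonoidHom e.surjective

/-- `p`-length does not increase on subgroups. -/
theorem pLengthLE_subgroup {k : ℕ} (h : PLengthLE p k G) (H : Subgroup G) : PLengthLE p k ↥H := by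
  apply pLengthLE_of_series ((isPSeries_upper (G := G) (p := p)).subgroupOf H hp.out)
  show ((upperPSeries p G (2 * k + 1)).1).subgroupOf H = ⊤
  rw [show (upperPSeries p G (2 * k + 1)).1 = ⊤ from h, top_subgroupOf]

theorem pLengthLE_quotient {k : ℕ} (h : PLengthLE p k G) (M : Subgroup G) [M.Normal] :
    PLengthLE p k (G ⧸ M) :=
  pLengthLE_of_surjective h (QuotientGroup.mk' M) (QuotientGroup.mk'_surjective M)

/-- The terms of the upper `p`-series are characteristic. -/
theorem upperPSeries_characteristic (i : ℕ) : (upperPSeries p G i).1.Characteristic := by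
  rw [characteristic_iff_map_le]
  intro φ
  exact ((isPSeries_upper (G := G) (p := p)).map φ.toMonoidHom φ.surjective hp.out).le_upper i

theorem pLengthLE_zero_of_coprime (h : (Nat.card G).Coprime p) : PLengthLE p 0 G := by
  apply pLengthLE_of_series (N := fun i => if i = 0 then ⊥ else ⊤) _ (by simp)
  refine ⟨by simp, ?_, ?_, ?_, ?_⟩
  · intro i; by_cases hi : i = 0 <;> simp only [hi, if_true, if_false] <;> infer_instance
  · intro i; by_cases hi : i = 0 <;> simp [hi]
  · intro i _
    by_cases hi : i = 0
    · subst hi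
      simp only [if_true, zero_add, one_ne_zero, if_false, relIndex_bot_left]
      rw [Nat.card_congr (Subgroup.topEquiv (G := G)).toEquiv]
      exact h
    · simp [hi]
  · intro i _
    by_cases hi : i = 0
    · subst hi; exact absurd (by decide : Even 0) ‹_›
    · exact ⟨0, by simp [hi]⟩

theorem pLengthLE_one_of_isPGroup (h : IsPGroup p G) : PLengthLE p 1 G := by
  apply pLengthLE_of_series (N := fun i => if i ≤ 1 then ⊥ else ⊤) _ (by simp)
  refine ⟨by simp, ?_, ?_, ?_, ?_⟩
  · intro i; by_cases hi : i ≤ 1 <;> simp only [hi, if_true, if_false] <;> infer_instance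
  · intro i
    by_cases hi : i + 1 ≤ 1
    · have : i ≤ 1 := by omega
      simp [hi, this]
    · simp [hi]
  · intro i hev
    by_cases hi : i = 0
    · subst hi; simp
    · have h2 : ¬ i ≤ 1 := by
        intro hle
        have : i = 1 := by omega
        subst this
        exact absurd hev (by decide)
      have h3 : ¬ i + 1 ≤ 1 := by omega
      simp [h2, h3]
  · intro i hodd
    by_cases hi : i = 1
    · subst hi
      obtain ⟨e, he⟩ := IsPGroup.iff_card.1 h
      refine ⟨e, ?_⟩
      simp only [le_refl, if_true, Nat.reduceAdd, Nat.not_ofNat_le_one, if_false,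
        relIndex_bot_left]
      rw [Nat.card_congr (Subgroup.topEquiv (G := G)).toEquiv]
      exact he
    · by_cases h0 : i = 0
      · subst h0; exact absurd (by decide : Even 0) hodd
      · have h2 : ¬ i ≤ 1 := by omega
        have h3 : ¬ i + 1 ≤ 1 := by omega
        exact ⟨0, by simp [h2, h3]⟩

end Finite2


/-! ### extensions -/

section Extension

variable [Finite G] {p : ℕ} [hp : Fact p.Prime]

theorem relIndex_comap_comap {Q : Type*} [Group Q] (f : G →* Q) (hf : Function.Surjective f)
    (H K : Subgroup Q) : (H.comap f).relIndex (K.comap f) = H.relIndex K := by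
  rw [relIndex_comap, map_comap_eq_self_of_surjective hf]

/-- `p`-length is subadditive in extensions. -/
theorem pLengthLE_of_extension (M : Subgroup G) [hM : M.Normal] {a b : ℕ}
    (ha : PLengthLE p a ↥M) (hb : PLengthLE p b (G ⧸ M)) : PLengthLE p (a + b) G := by
  classical
  set A : ℕ → Subgroup G := fun i => ((upperPSeries p ↥M i).1).map M.subtype with hA
  set B : ℕ → Subgroup G :=
    fun j => ((upperPSeries p (G ⧸ M) j).1).comap (QuotientGroup.mk' M) with hB
  have hUA := isPSeries_upper (G := ↥M) (p := p)
  have hUB := isPSeries_upper (G := G ⧸ M) (p := p)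
  have hAri : ∀ i, (A i).relIndex (A (i + 1)) =
      (upperPSeries p ↥M i).1.relIndex (upperPSeries p ↥M (i + 1)).1 := fun i =>
    relIndex_map_map_of_injective _ _ (subtype_injective M)
  have hBri : ∀ j, (B j).relIndex (B (j + 1)) =
      (upperPSeries p (G ⧸ M) j).1.relIndex (upperPSeries p (G ⧸ M) (j + 1)).1 := fun j =>
    relIndex_comap_comap _ (QuotientGroup.mk'_surjective M) _ _
  have hAM : ∀ i, A i ≤ M := fun i => map_subtype_le _
  have hMB : ∀ j, M ≤ B j := fun j => le_comap_mk'_self M _
  have hAtop : A (2 * a + 1) = M := by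
    show ((upperPSeries p ↥M (2 * a + 1)).1).map M.subtype = M
    rw [show (upperPSeries p ↥M (2 * a + 1)).1 = ⊤ from ha, ← MonoidHom.range_eq_map,
      range_subtype]
  have hB0 : B 0 = M := by
    show ((upperPSeries p (G ⧸ M) 0).1).comap (QuotientGroup.mk' M) = M
    rw [upperPSeries_zero, MonoidHom.comap_bot, QuotientGroup.ker_mk']
  have hBtop : B (2 * b + 1) = ⊤ := by
    show ((upperPSeries p (G ⧸ M) (2 * b + 1)).1).comap (QuotientGroup.mk' M) = ⊤
    rw [show (upperPSeries p (G ⧸ M) (2 * b + 1)).1 = ⊤ from hb, comap_top]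
  have hAn : ∀ i, (A i).Normal := by
    intro i
    haveI := upperPSeries_characteristic (G := ↥M) (p := p) i
    exact ConjAct.normal_of_characteristic_of_normal
  have hBn : ∀ j, (B j).Normal := fun j => (upperPSeries p (G ⧸ M) j).2.comap _
  have hAmono : ∀ i, A i ≤ A (i + 1) := fun i => Subgroup.map_mono (hUA.mono i)
  have hBmono : ∀ j, B j ≤ B (j + 1) := fun j => Subgroup.comap_mono (hUB.mono j)
  set N : ℕ → Subgroup G := fun i => if i ≤ 2 * a then A i else B (i - 2 * a) with hN
  have hNle : ∀ i, i ≤ 2 * a → N i = A i := fun i hi => by simp only [hN, hi, if_true]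
  have hNgt : ∀ i, ¬ i ≤ 2 * a → N i = B (i - 2 * a) := fun i hi => by
    simp only [hN, hi, if_false]
  have hsucc : ∀ i, ¬ i ≤ 2 * a → i + 1 - 2 * a = (i - 2 * a) + 1 := fun i hi => by omega
  have hser : IsPSeries p N := by
    refine ⟨?_, ?_, ?_, ?_, ?_⟩
    · rw [hNle 0 (Nat.zero_le _)]
      show ((upperPSeries p ↥M 0).1).map M.subtype = ⊥
      rw [upperPSeries_zero, Subgroup.map_bot]
    · intro i
      by_cases hi : i ≤ 2 * a
      · rw [hNle i hi]; exact hAn i
      · rw [hNgt i hi]; exact hBn _
    · intro i
      by_cases hi : i + 1 ≤ 2 * a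
      · rw [hNle i (by omega), hNle (i + 1) hi]; exact hAmono i
      · by_cases hi2 : i ≤ 2 * a
        · rw [hNle i hi2, hNgt (i + 1) hi]
          exact (hAM i).trans (hMB _)
        · rw [hNgt i hi2, hNgt (i + 1) hi, hsucc i hi2]
          exact hBmono _
    · intro i hev
      by_cases hi : i + 1 ≤ 2 * a
      · rw [hNle i (by omega), hNle (i + 1) hi, hAri]
        exact hUA.even i hev
      · by_cases hi2 : i ≤ 2 * a
        · have hia : i = 2 * a := by omega
          rw [hNle i hi2, hNgt (i + 1) hi]
          have e1 : i + 1 - 2 * a = 0 + 1 := by omega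
          rw [e1, ← relIndex_mul_relIndex (A i) M (B (0 + 1)) (hAM i) (hMB _)]
          apply Nat.Coprime.mul_left
          · have := hUA.even i hev
            rw [← hAri, hia, hAtop] at this
            rw [hia]; exact this
          · have := hUB.even 0 (by decide)
            rw [← hBri, hB0] at this
            exact this
        · rw [hNgt i hi2, hNgt (i + 1) hi, hsucc i hi2, hBri]
          apply hUB.even
          have h2a : Even (2 * a) := even_two_mul a
          exact (Nat.even_sub (by omega)).2 ⟨fun _ => h2a, fun _ => hev⟩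
    · intro i hodd
      by_cases hi : i + 1 ≤ 2 * a
      · rw [hNle i (by omega), hNle (i + 1) hi, hAri]
        exact hUA.odd i hodd
      · by_cases hi2 : i ≤ 2 * a
        · exfalso
          have hia : i = 2 * a := by omega
          exact hodd (hia ▸ even_two_mul a)
        · rw [hNgt i hi2, hNgt (i + 1) hi, hsucc i hi2, hBri]
          apply hUB.odd
          intro hev
          apply hodd
          have h2a : Even (2 * a) := even_two_mul a
          exact ((Nat.even_sub (by omega)).1 hev).2 h2a
  apply pLengthLE_of_series hser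
  have hgt : ¬ 2 * (a + b) + 1 ≤ 2 * a := by omega
  rw [hNgt _ hgt]
  have : 2 * (a + b) + 1 - 2 * a = 2 * b + 1 := by omega
  rw [this, hBtop]

end Extension

end Cfsg.Agent.Helper1.PLen
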