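import Mathlib
import Cfsg.Agent.Helper26.Basic
import Cfsg.Agent.Lead.Compl

set_option autoImplicit false
set_option linter.style.haveILetI false

namespace Cfsg.Agent.Helper1

open Pointwise

section
variable {G : Type*} [Group G]

/-- cardinality of a preimage under the quotient map -/
theorem card_comap_mk' [Finite G] (N : Subgroup G) [N.Normal] (H' : Subgroup (G ⧸ N)) :
    Nat.card (H'.comap (QuotientGroup.mk' N)) = Nat.card H' * Nat.card N := by
  have h1 : (H'.comap (QuotientGroup.mk' N)).index = H'.index :=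
    Subgroup.index_comap_of_surjective H' (QuotientGroup.mk'_surjective N)
  have h2 := (H'.comap (QuotientGroup.mk' N)).card_mul_index
  have h3 := H'.card_mul_index
  have h4 := N.card_mul_index
  rw [Subgroup.index_eq_card N] at h4
  rw [h1] at h2
  have hpos : 0 < H'.index := Nat.pos_of_ne_zero Subgroup.index_ne_zero_of_finite
  apply Nat.eq_of_mul_eq_mul_right hpos
  rw [h2, ← h4, ← h3]; ring

theorem card_quotient_mul_card [Finite G] (N : Subgroup G) [N.Normal] :
    Nat.card (G ⧸ N) * Nat.card N = Nat.card G := by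
  have h4 := N.card_mul_index
  rw [Subgroup.index_eq_card N] at h4
  rw [← h4]; ring

theorem comap_map_mk' (N : Subgroup G) [N.Normal] (H : Subgroup G) :
    (H.map (QuotientGroup.mk' N)).comap (QuotientGroup.mk' N) = H ⊔ N := by
  rw [Subgroup.comap_map_eq, QuotientGroup.ker_mk']

/-- A normal `p`-subgroup is contained in every subgroup of index prime to `p`. -/
theorem normal_pgroup_le_of_index [Finite G] {p : ℕ} [Fact p.Prime] (N : Subgroup G) [hN : N.Normal]
    (hp : IsPGroup p N) (H : Subgroup G) (hH : ¬ p ∣ H.index) : N ≤ H := by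
  have hcard : ¬ p ∣ Nat.card (G ⧸ H) := by rwa [← Subgroup.index_eq_card]
  obtain ⟨q, hq⟩ := hp.nonempty_fixed_point_of_prime_not_dvd_card (G ⧸ H) hcard
  obtain ⟨g, rfl⟩ := QuotientGroup.mk_surjective q
  intro y hy
  have hx : g * y * g⁻¹ ∈ N := hN.conj_mem y hy g
  have := hq ⟨g * y * g⁻¹, hx⟩
  have h2 : (⟨g * y * g⁻¹, hx⟩ : N) • (g : G ⧸ H) = ((g * y * g⁻¹ * g : G) : G ⧸ H) := rfl
  rw [h2, QuotientGroup.eq] at this
  have h3 : (g * y * g⁻¹ * g)⁻¹ * g = y⁻¹ := by group
  rw [h3] at this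
  exact (Subgroup.inv_mem_iff H).mp this

theorem card_conj_smul' (g : G) (H : Subgroup G) :
    Nat.card (MulAut.conj g • H : Subgroup G) = Nat.card H :=
  Cfsg.Agent.Lead.card_conj_smul g H

/-- Dedekind: if `N ≤ U ≤ N ⊔ H` with `N` normal then `N ⊔ (H ⊓ U) = U`. -/
theorem dedekind_normal (N H U : Subgroup G) [N.Normal] (hNU : N ≤ U) (hU : U ≤ N ⊔ H) :
    N ⊔ (H ⊓ U) = U := by
  apply SetLike.coe_injective
  rw [Subgroup.normal_mul, Subgroup.mul_inf_assoc N H U hNU, ← Subgroup.normal_mul]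
  exact Set.inter_eq_right.mpr hU

end

end Cfsg.Agent.Helper1
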