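import Mathlib

/-!
# 2-groups with a cyclic subgroup of index 2

* `sq_modEq_one_two_pow`: the square roots of `1` modulo `2 ^ (m + 1)` are `±1`, `±1 + 2 ^ m`.
* `structure_of_sq_mem`: if `a` has order `2 ^ (m + 1)`, `x` normalizes but does not centralize
  `⟨a⟩`, and `x ^ 2 ∈ ⟨a⟩`, then some `b = x * a ^ j` satisfies the dihedral, quaternion, modular
  or semidihedral relations with `a`.
* `cyclic_index_two_classification` (= S0646).
-/

set_option autoImplicit false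

namespace Cfsg.Agent.Helper1.CyclicMax2

theorem isCoprime_two_pow_of_odd (n : ℕ) (t : ℤ) (ht : Odd t) : IsCoprime ((2 : ℤ) ^ n) t := by
  apply IsCoprime.pow_left
  obtain ⟨s, hs⟩ := ht
  exact ⟨-s, 1, by rw [hs]; ring⟩

/-- square roots of `1` modulo `2 ^ (m + 1)` -/
theorem sq_modEq_one_two_pow (m : ℕ) (k : ℤ) (h : k * k ≡ 1 [ZMOD 2 ^ (m + 1)]) :
    k ≡ 1 [ZMOD 2 ^ (m + 1)] ∨ k ≡ -1 [ZMOD 2 ^ (m + 1)] ∨
      k ≡ 1 + 2 ^ m [ZMOD 2 ^ (m + 1)] ∨ k ≡ -1 + 2 ^ m [ZMOD 2 ^ (m + 1)] := by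
  have hdvd : (2 : ℤ) ^ (m + 1) ∣ k * k - 1 := (Int.modEq_iff_dvd.mp h.symm)
  have hodd : Odd k := by
    by_contra hk
    rw [Int.not_odd_iff_even] at hk
    obtain ⟨s, hs⟩ := hk
    have h2 : (2 : ℤ) ∣ k * k - 1 := dvd_trans (dvd_pow_self 2 (Nat.succ_ne_zero m)) hdvd
    have h3 : (2 : ℤ) ∣ k * k := Dvd.dvd.mul_right ⟨s, by rw [hs]; ring⟩ k
    have h4 : (2 : ℤ) ∣ k * k - (k * k - 1) := dvd_sub h3 h2
    rw [sub_sub_cancel] at h4
    norm_num at h4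
  obtain ⟨t, ht⟩ := hodd
  have hfac : k * k - 1 = 2 * (2 * (t * (t + 1))) := by rw [ht]; ring
  rw [hfac, pow_succ, mul_comm ((2:ℤ) ^ m) 2] at hdvd
  have hdvd2 : (2 : ℤ) ^ m ∣ 2 * (t * (t + 1)) := Int.dvd_of_mul_dvd_mul_left (by norm_num) hdvd
  have hkey : (2 : ℤ) ^ m ∣ k - 1 ∨ (2 : ℤ) ^ m ∣ k + 1 := by
    rcases Int.even_or_odd t with hte | hto
    · left
      have hco : IsCoprime ((2 : ℤ) ^ m) (t + 1) := isCoprime_two_pow_of_odd m _ hte.add_one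
      have : (2 : ℤ) ^ m ∣ (2 * t) * (t + 1) := by
        have e : 2 * (t * (t + 1)) = (2 * t) * (t + 1) := by ring
        rw [← e]; exact hdvd2
      have := hco.dvd_of_dvd_mul_right this
      have e2 : k - 1 = 2 * t := by rw [ht]; ring
      rw [e2]; exact this
    · right
      have hco : IsCoprime ((2 : ℤ) ^ m) t := isCoprime_two_pow_of_odd m _ hto
      have : (2 : ℤ) ^ m ∣ (2 * (t + 1)) * t := by
        have e : 2 * (t * (t + 1)) = (2 * (t + 1)) * t := by ring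
        rw [← e]; exact hdvd2
      have := hco.dvd_of_dvd_mul_right this
      have e2 : k + 1 = 2 * (t + 1) := by rw [ht]; ring
      rw [e2]; exact this
  have hsplit : ∀ c : ℤ, (2 : ℤ) ^ m ∣ k - c →
      k ≡ c [ZMOD 2 ^ (m + 1)] ∨ k ≡ c + 2 ^ m [ZMOD 2 ^ (m + 1)] := by
    intro c ⟨s, hs⟩
    rcases Int.even_or_odd' s with ⟨s', hs' | hs'⟩
    · left
      apply Int.ModEq.symm
      apply Int.modEq_iff_dvd.mpr
      exact ⟨s', by rw [hs, hs', pow_succ]; ring⟩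
    · right
      apply Int.ModEq.symm
      apply Int.modEq_iff_dvd.mpr
      refine ⟨s', ?_⟩
      have : k - (c + 2 ^ m) = (k - c) - 2 ^ m := by ring
      rw [this, hs, hs', pow_succ]; ring
  rcases hkey with h1 | h1
  · rcases hsplit 1 h1 with h2 | h2
    · exact Or.inl h2
    · exact Or.inr (Or.inr (Or.inl h2))
  · have h1' : (2 : ℤ) ^ m ∣ k - (-1) := by rw [sub_neg_eq_add]; exact h1
    rcases hsplit (-1) h1' with h2 | h2
    · exact Or.inr (Or.inl h2)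
    · exact Or.inr (Or.inr (Or.inr h2))

variable {G : Type*} [Group G]

theorem conj_zpow_of_conj (x a : G) (k t : ℤ) (h : x * a * x⁻¹ = a ^ k) :
    x * a ^ t * x⁻¹ = a ^ (k * t) := by
  rw [← conj_zpow, h, zpow_mul]

theorem conj_mul_zpow (x a : G) (j : ℤ) : (x * a ^ j) * a * (x * a ^ j)⁻¹ = x * a * x⁻¹ := by
  have : a ^ j * a * (a ^ j)⁻¹ = a := by
    rw [← zpow_add_one, ← zpow_neg, ← zpow_add]; simp
  calc (x * a ^ j) * a * (x * a ^ j)⁻¹ = x * (a ^ j * a * (a ^ j)⁻¹) * x⁻¹ := by group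
    _ = x * a * x⁻¹ := by rw [this]

/-- the structure lemma -/
theorem structure_of_sq_mem (a x : G) (m : ℕ) (hm : 1 ≤ m) (ha : orderOf a = 2 ^ (m + 1))
    (hx2 : x ^ 2 ∈ Subgroup.zpowers a) (hnorm : x * a * x⁻¹ ∈ Subgroup.zpowers a)
    (hnc : x * a * x⁻¹ ≠ a) :
    ∃ j : ℤ,
      ((x * a ^ j) ^ 2 = 1 ∧ x * a * x⁻¹ = a⁻¹) ∨
      ((x * a ^ j) ^ 2 = a ^ (2 ^ m) ∧ x * a * x⁻¹ = a⁻¹) ∨
      (2 ≤ m ∧ (x * a ^ j) ^ 2 = 1 ∧ x * a * x⁻¹ = a ^ (1 + 2 ^ m)) ∨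
      (2 ≤ m ∧ (x * a ^ j) ^ 2 = 1 ∧ x * a * x⁻¹ = a ^ (2 ^ m - 1)) := by
  obtain ⟨k, hk⟩ := Subgroup.mem_zpowers_iff.mp hnorm
  obtain ⟨i, hi⟩ := Subgroup.mem_zpowers_iff.mp hx2
  have hk' : x * a * x⁻¹ = a ^ k := hk.symm
  set N : ℤ := 2 ^ (m + 1) with hN
  have hNM : N = 2 * 2 ^ m := by rw [hN, pow_succ]; ring
  have hord : ((orderOf a : ℕ) : ℤ) = N := by rw [ha, hN]; push_cast; rfl
  have hiff : ∀ e f : ℤ, a ^ e = a ^ f ↔ N ∣ f - e := by
    intro e f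
    rw [zpow_eq_zpow_iff_modEq, hord, Int.modEq_iff_dvd]
  have hone : ∀ e : ℤ, a ^ e = 1 ↔ N ∣ e := by
    intro e
    rw [zpow_eq_one_iff_modEq, hord, Int.modEq_zero_iff_dvd]
  have hconj : ∀ t : ℤ, x * a ^ t * x⁻¹ = a ^ (k * t) := fun t => conj_zpow_of_conj x a k t hk'
  -- `k * k ≡ 1`
  have hkk : N ∣ k * k - 1 := by
    have h1 : x ^ 2 * a * (x ^ 2)⁻¹ = a ^ (k * k) := by
      calc x ^ 2 * a * (x ^ 2)⁻¹ = x * (x * a * x⁻¹) * x⁻¹ := by rw [pow_two]; group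
        _ = x * a ^ k * x⁻¹ := by rw [hk']
        _ = a ^ (k * k) := hconj k
    have h2 : x ^ 2 * a * (x ^ 2)⁻¹ = a ^ (1 : ℤ) := by
      rw [← hi, ← zpow_add_one, ← zpow_neg, ← zpow_add]; congr 1; ring
    rw [h1] at h2
    have := (hiff _ _).mp h2
    have e : k * k - 1 = -(1 - k * k) := by ring
    rw [e]; exact (dvd_neg).mpr this
  -- `k * i ≡ i`
  have hki : N ∣ k * i - i := by
    have h1 : x * x ^ 2 * x⁻¹ = x ^ 2 := by rw [pow_two]; group
    rw [← hi, hconj i] at h1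
    have := (hiff _ _).mp h1
    have e : k * i - i = -(i - k * i) := by ring
    rw [e]; exact (dvd_neg).mpr this
  -- squares of `x * a ^ j`
  have hsq : ∀ j : ℤ, (x * a ^ j) ^ 2 = a ^ (k * j + i + j) := by
    intro j
    calc (x * a ^ j) ^ 2 = (x * a ^ j * x⁻¹) * x ^ 2 * a ^ j := by rw [pow_two, pow_two]; group
      _ = a ^ (k * j) * a ^ i * a ^ j := by rw [hconj j, hi]
      _ = a ^ (k * j + i + j) := by rw [← zpow_add, ← zpow_add]
  -- the four cases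
  have hcases := sq_modEq_one_two_pow m k (by
    apply Int.ModEq.symm
    apply Int.modEq_iff_dvd.mpr
    exact hkk)
  have hk1 : ¬ N ∣ k - 1 := by
    intro h
    apply hnc
    rw [hk']
    have : a ^ k = a ^ (1 : ℤ) := (hiff _ _).mpr (by
      have e : (1 : ℤ) - k = -(k - 1) := by ring
      rw [e]; exact (dvd_neg).mpr h)
    rw [this, zpow_one]
  -- normalize the cases
  have hcases' : N ∣ k + 1 ∨ (2 ≤ m ∧ N ∣ k - (1 + 2 ^ m)) ∨ (2 ≤ m ∧ N ∣ k - (-1 + 2 ^ m)) := by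
    rcases hcases with h | h | h | h
    · exfalso; exact hk1 (Int.modEq_iff_dvd.mp h.symm)
    · left
      have := Int.modEq_iff_dvd.mp h.symm
      rwa [sub_neg_eq_add] at this
    · have h' : N ∣ k - (1 + 2 ^ m) := Int.modEq_iff_dvd.mp h.symm
      by_cases hm2 : 2 ≤ m
      · exact Or.inr (Or.inl ⟨hm2, h'⟩)
      · left
        have hm1 : m = 1 := by omega
        subst hm1
        obtain ⟨s, hs⟩ := h'
        exact ⟨s + 1, by rw [hN] at hs ⊢; norm_num at hs ⊢; linarith⟩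
    · have h' : N ∣ k - (-1 + 2 ^ m) := Int.modEq_iff_dvd.mp h.symm
      by_cases hm2 : 2 ≤ m
      · exact Or.inr (Or.inr ⟨hm2, h'⟩)
      · exfalso
        have hm1 : m = 1 := by omega
        subst hm1
        apply hk1
        obtain ⟨s, hs⟩ := h'
        exact ⟨s, by rw [hN] at hs ⊢; norm_num at hs ⊢; linarith⟩
  rcases hcases' with h | ⟨hm2, h⟩ | ⟨hm2, h⟩
  · -- inversion
    have hinv : x * a * x⁻¹ = a⁻¹ := by
      rw [hk', ← zpow_neg_one]
      apply (hiff _ _).mpr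
      have e : (-1 : ℤ) - k = -(k + 1) := by ring
      rw [e]; exact (dvd_neg).mpr h
    -- `2 i ≡ 0`
    have h2i : (2 : ℤ) ^ m ∣ i := by
      obtain ⟨s, hs⟩ := h
      obtain ⟨u, hu⟩ := hki
      have hk_eq : k = N * s - 1 := by linarith
      rw [hk_eq] at hu
      have h3 : 2 * i = N * (s * i - u) := by linarith
      rw [hNM] at h3
      have h4 : i = 2 ^ m * (s * i - u) := by linarith
      exact ⟨_, h4⟩
    obtain ⟨v, hv⟩ := h2i
    refine ⟨0, ?_⟩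
    have hsq0 := hsq 0
    rw [mul_zero, zero_add, add_zero] at hsq0
    rcases Int.even_or_odd' v with ⟨v', hv' | hv'⟩
    · left
      refine ⟨?_, hinv⟩
      rw [hsq0]
      apply (hone _).mpr
      exact ⟨v', by rw [hv, hv', hNM]; ring⟩
    · right; left
      refine ⟨?_, hinv⟩
      rw [hsq0, ← zpow_natCast]
      apply (hiff _ _).mpr
      refine ⟨-v', ?_⟩
      push_cast
      rw [hv, hv', hNM]; ring
  · -- modular
    have hmod : x * a * x⁻¹ = a ^ (1 + 2 ^ m) := by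
      rw [hk', ← zpow_natCast]
      apply (hiff _ _).mpr
      obtain ⟨s, hs⟩ := h
      refine ⟨-s, ?_⟩
      push_cast
      linarith
    obtain ⟨s, hs⟩ := h
    have hk_eq : k = 1 + 2 ^ m + N * s := by linarith
    -- `i` is even
    have hi2 : (2 : ℤ) ∣ i := by
      obtain ⟨u, hu⟩ := hki
      rw [hk_eq] at hu
      have h3 : 2 ^ m * i = N * (u - s * i) := by linarith
      rw [hNM] at h3
      have h4 : (2 : ℤ) ^ m * i = 2 ^ m * (2 * (u - s * i)) := by linarith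
      have h5 : i = 2 * (u - s * i) := mul_left_cancel₀ (by positivity) h4
      exact ⟨_, h5⟩
    obtain ⟨i', hi'⟩ := hi2
    obtain ⟨m', rfl⟩ : ∃ m', m = m' + 1 := ⟨m - 1, by omega⟩
    have hm'1 : 1 ≤ m' := by omega
    set c : ℤ := 1 + 2 ^ m' with hc
    have hcodd : Odd c := by
      rw [hc]
      obtain ⟨m'', rfl⟩ : ∃ m'', m' = m'' + 1 := ⟨m' - 1, by omega⟩
      exact ⟨2 ^ m'', by rw [pow_succ]; ring⟩
    obtain ⟨u, v, huv⟩ := isCoprime_two_pow_of_odd (m' + 1) c hcodd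
    refine ⟨-i' * v, ?_⟩
    right; right; left
    refine ⟨hm2, ?_, hmod⟩
    rw [hsq]
    apply (hone _).mpr
    refine ⟨s * (-i' * v) + i' * u, ?_⟩
    rw [hk_eq, hi', hNM]
    have e1 : (2 : ℤ) ^ (m' + 1) = 2 * 2 ^ m' := by rw [pow_succ]; ring
    have hvc : v * c = 1 - u * 2 ^ (m' + 1) := by linarith
    have e2 : (1 + 2 ^ (m' + 1) + 2 * 2 ^ (m' + 1) * s) * (-i' * v) + 2 * i' + -i' * v =
        2 * i' * (1 - v * c) + 2 * 2 ^ (m' + 1) * (s * (-i' * v)) := by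
      rw [hc, e1]; ring
    rw [e2, hvc]; ring
  · -- semidihedral
    have hsd : x * a * x⁻¹ = a ^ (2 ^ m - 1) := by
      rw [hk', ← zpow_natCast]
      apply (hiff _ _).mpr
      obtain ⟨s, hs⟩ := h
      refine ⟨-s, ?_⟩
      have : ((2 ^ m - 1 : ℕ) : ℤ) = 2 ^ m - 1 := by
        rw [Nat.cast_sub Nat.one_le_two_pow]; push_cast; ring
      rw [this]
      linarith
    obtain ⟨s, hs⟩ := h
    have hk_eq : k = -1 + 2 ^ m + N * s := by linarith
    obtain ⟨m', rfl⟩ : ∃ m', m = m' + 1 := ⟨m - 1, by omega⟩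
    have hm'1 : 1 ≤ m' := by omega
    -- `2 ^ m ∣ i`
    have hi2 : (2 : ℤ) ^ (m' + 1) ∣ i := by
      obtain ⟨u, hu⟩ := hki
      rw [hk_eq] at hu
      have e1 : (2 : ℤ) ^ (m' + 1) = 2 * 2 ^ m' := by rw [pow_succ]; ring
      have h3 : (2 ^ (m' + 1) - 2) * i = N * (u - s * i) := by linarith
      rw [hNM, e1] at h3
      have h4 : (2 ^ m' - 1) * i = 2 ^ (m' + 1) * (u - s * i) := by
        rw [e1]; linarith
      have hcodd : Odd ((2 : ℤ) ^ m' - 1) := by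
        obtain ⟨m'', rfl⟩ : ∃ m'', m' = m'' + 1 := ⟨m' - 1, by omega⟩
        exact ⟨2 ^ m'' - 1, by rw [pow_succ]; ring⟩
      have hco := isCoprime_two_pow_of_odd (m' + 1) _ hcodd
      have hd : (2 : ℤ) ^ (m' + 1) ∣ i * (2 ^ m' - 1) := ⟨u - s * i, by linarith⟩
      exact hco.dvd_of_dvd_mul_right hd
    obtain ⟨v, hv⟩ := hi2
    rcases Int.even_or_odd' v with ⟨v', hv' | hv'⟩
    · refine ⟨0, ?_⟩
      right; right; right
      refine ⟨hm2, ?_, hsd⟩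
      rw [hsq, mul_zero, zero_add, add_zero]
      apply (hone _).mpr
      exact ⟨v', by rw [hv, hv', hNM]; ring⟩
    · refine ⟨1, ?_⟩
      right; right; right
      refine ⟨hm2, ?_, hsd⟩
      rw [hsq]
      apply (hone _).mpr
      refine ⟨s + v' + 1, ?_⟩
      rw [hk_eq, hv, hv', hNM]; ring

end Cfsg.Agent.Helper1.CyclicMax2
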