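import Mathlib
import Cfsg.Agent.Helper1.CyclicMax2
import Cfsg.Agent.Helper1.UniqueOrderP

/-!
# `p`-groups (`p` odd) with a cyclic subgroup of index `p`

* `modEq_one_of_pow_prime`: `u ^ p ≡ 1 mod p ^ (m + 1)` implies `u ≡ 1 mod p ^ m` and mod `p`.
* `conj_eq_mul_central`: an element `x` normalizing `⟨a⟩` (`a` of order `p ^ (m + 1)`) with
  `x ^ p` centralizing `a` conjugates `a` to `a * z ^ s`, `z = a ^ (p ^ m)`.
-/

set_option autoImplicit false
set_option linter.unusedSectionVars false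

namespace Cfsg.Agent.Helper1.CyclicMaxOdd

open Cfsg.Agent.Helper1.CyclicMax2 Cfsg.Agent.Helper1

/-- lifting the exponent: `p`-th roots of unity modulo `p ^ (m + 1)` -/
theorem modEq_one_of_pow_prime (p : ℕ) (hp : p.Prime) (hp2 : p ≠ 2) (m : ℕ) (u : ℤ)
    (h : u ^ p ≡ 1 [ZMOD (p : ℤ) ^ (m + 1)]) :
    u ≡ 1 [ZMOD (p : ℤ) ^ m] ∧ u ≡ 1 [ZMOD (p : ℤ)] := by
  have : Fact p.Prime := ⟨hp⟩
  have hodd : Odd p := hp.eq_two_or_odd'.resolve_left hp2
  have hdvd : (p : ℤ) ^ (m + 1) ∣ u ^ p - 1 := Int.modEq_iff_dvd.mp h.symm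
  have hp_dvd : (p : ℤ) ∣ u ^ p - 1 := dvd_trans (dvd_pow_self _ (Nat.succ_ne_zero m)) hdvd
  have h1 : (p : ℤ) ∣ u - 1 := by
    have hz : ((u ^ p - 1 : ℤ) : ZMod p) = 0 := (ZMod.intCast_zmod_eq_zero_iff_dvd _ p).mpr hp_dvd
    push_cast at hz
    rw [ZMod.pow_card] at hz
    have : ((u - 1 : ℤ) : ZMod p) = 0 := by push_cast; exact hz
    exact (ZMod.intCast_zmod_eq_zero_iff_dvd _ p).mp this
  have h2 : ¬ (p : ℤ) ∣ u := by
    intro hu
    have h3 : (p : ℤ) ∣ u ^ p := dvd_pow hu hp.ne_zero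
    have h4 : (p : ℤ) ∣ u ^ p - (u ^ p - 1) := dvd_sub h3 hp_dvd
    rw [sub_sub_cancel] at h4
    have := Int.eq_one_of_dvd_one (by positivity) h4
    have : p = 1 := by exact_mod_cast this
    exact hp.one_lt.ne' this
  have hlte := Int.emultiplicity_pow_sub_pow hp hodd (x := u) (y := 1) h1 h2 p
  rw [one_pow] at hlte
  have h5 : emultiplicity p p = 1 := by
    rw [Nat.Prime.emultiplicity_self hp]
  rw [h5] at hlte
  have h6 : ((m + 1 : ℕ) : ℕ∞) ≤ emultiplicity (p : ℤ) (u ^ p - 1) :=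
    le_emultiplicity_of_pow_dvd hdvd
  rw [hlte] at h6
  have h7 : (m : ℕ∞) ≤ emultiplicity (p : ℤ) (u - 1) := by
    push_cast at h6
    exact (ENat.add_le_add_iff_right (by simp)).mp h6
  have h8 : (p : ℤ) ^ m ∣ u - 1 := pow_dvd_of_le_emultiplicity h7
  exact ⟨(Int.modEq_iff_dvd.mpr h8).symm, (Int.modEq_iff_dvd.mpr h1).symm⟩

variable {G : Type*} [Group G]

theorem conj_pow_of_conj (x a : G) (u : ℤ) (h : x * a * x⁻¹ = a ^ u) (n : ℕ) :
    x ^ n * a * (x ^ n)⁻¹ = a ^ (u ^ n) := by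
  induction n with
  | zero => simp
  | succ n ih =>
    calc x ^ (n + 1) * a * (x ^ (n + 1))⁻¹ = x * (x ^ n * a * (x ^ n)⁻¹) * x⁻¹ := by
          rw [pow_succ']; group
      _ = x * a ^ (u ^ n) * x⁻¹ := by rw [ih]
      _ = a ^ (u * u ^ n) := conj_zpow_of_conj x a u _ h
      _ = a ^ (u ^ (n + 1)) := by rw [pow_succ']

section action

variable {p : ℕ} [hp : Fact p.Prime] (hp2 : p ≠ 2) (a x : G) (m : ℕ)
  (ha : orderOf a = p ^ (m + 1))
  (hnorm : x * a * x⁻¹ ∈ Subgroup.zpowers a) (hxp : x ^ p * a = a * x ^ p)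

include hp2 ha hnorm hxp in
/-- `x` conjugates `a` to `a * z ^ s`, where `z = a ^ (p ^ m)` -/
theorem conj_eq_mul_central : ∃ s : ℤ, x * a * x⁻¹ = a * (a ^ p ^ m) ^ s ∧
    x * a ^ p ^ m * x⁻¹ = a ^ p ^ m := by
  obtain ⟨u, hu⟩ := Subgroup.mem_zpowers_iff.mp hnorm
  have hu' : x * a * x⁻¹ = a ^ u := hu.symm
  have hord : ((orderOf a : ℕ) : ℤ) = (p : ℤ) ^ (m + 1) := by rw [ha]; push_cast; rfl
  have h1 : a ^ (u ^ p) = a ^ (1 : ℤ) := by
    rw [← conj_pow_of_conj x a u hu' p, zpow_one, hxp]; group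
  rw [zpow_eq_zpow_iff_modEq, hord] at h1
  obtain ⟨h2, h3⟩ := modEq_one_of_pow_prime p hp.out hp2 m u h1
  obtain ⟨s, hs⟩ := Int.modEq_iff_add_fac.mp h2.symm
  refine ⟨s, ?_, ?_⟩
  · rw [hu', hs, zpow_add, zpow_one, ← zpow_natCast, ← zpow_mul]
    push_cast; rfl
  · rw [← zpow_natCast, conj_zpow_of_conj x a u _ hu', zpow_eq_zpow_iff_modEq, hord]
    obtain ⟨t, ht⟩ := Int.modEq_iff_add_fac.mp h3.symm
    apply Int.ModEq.symm
    apply Int.modEq_iff_dvd.mpr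
    refine ⟨t, ?_⟩
    rw [ht]; push_cast; rw [pow_succ]; ring

end action

section classTwo

variable {p : ℕ} [hp : Fact p.Prime] (a x₀ z : G)
  (hgen : ∀ g : G, ∃ i j : ℕ, g = a ^ i * x₀ ^ j)
  (hza : z * a = a * z) (hzx : z * x₀ = x₀ * z) (hzp : z ^ p = 1)
  (hconj : ∃ s : ℤ, x₀ * a * x₀⁻¹ = a * z ^ s)

include hgen hza hzx in
theorem z_central (g : G) : z * g = g * z := by
  obtain ⟨i, j, rfl⟩ := hgen g
  have h1 : Commute z (a ^ i) := Commute.pow_right hza i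
  have h2 : Commute z (x₀ ^ j) := Commute.pow_right hzx j
  exact (h1.mul_right h2).eq

include hgen hza hzx hzp in
theorem zpowers_central {c : G} (hc : c ∈ Subgroup.zpowers z) :
    (∀ g : G, Commute c g) ∧ c ^ p = 1 := by
  obtain ⟨t, rfl⟩ := hc
  refine ⟨fun g => ?_, ?_⟩
  · exact Commute.zpow_left (z_central a x₀ z hgen hza hzx g) t
  · show (z ^ t) ^ p = 1
    rw [← zpow_natCast, ← zpow_mul, mul_comm, zpow_mul, zpow_natCast, hzp, one_zpow]

include hgen hza hzx hzp hconj in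
/-- any two elements commute up to a central element of order dividing `p` -/
theorem comm_form (g h : G) : ∃ c ∈ Subgroup.zpowers z, h * g = g * h * c := by
  obtain ⟨s, hs⟩ := hconj
  set w : G := z ^ s with hw
  have hwZ : w ∈ Subgroup.zpowers z := ⟨s, rfl⟩
  have hwc : ∀ y : G, Commute w y := (zpowers_central a x₀ z hgen hza hzx hzp hwZ).1
  -- `x₀ * a = a * x₀ * w`
  have h0 : x₀ * a = a * x₀ * w := by
    calc x₀ * a = (x₀ * a * x₀⁻¹) * x₀ := by group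
      _ = a * w * x₀ := by rw [hs]
      _ = a * (w * x₀) := by group
      _ = a * (x₀ * w) := by rw [(hwc x₀).eq]
      _ = a * x₀ * w := by group
  -- `x₀ ^ j * a = a * x₀ ^ j * w ^ j`
  have h1 : ∀ j : ℕ, x₀ ^ j * a = a * x₀ ^ j * w ^ j := fun j =>
    pow_mul_of_central a x₀ w h0 (hwc x₀) j
  -- `x₀ ^ j * a ^ k = a ^ k * x₀ ^ j * (w ^ j) ^ k`
  have h2 : ∀ j k : ℕ, x₀ ^ j * a ^ k = a ^ k * x₀ ^ j * (w ^ j) ^ k := by
    intro j k
    have hwj : ∀ y : G, Commute (w ^ j) y := fun y => Commute.pow_left (hwc y) j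
    have h3 : a * x₀ ^ j = x₀ ^ j * a * (w ^ j)⁻¹ := by
      rw [h1 j]; group
    have h4 := pow_mul_of_central (x₀ ^ j) a (w ^ j)⁻¹ h3 (Commute.inv_left (hwj a)) k
    have hc : ∀ y : G, Commute (((w ^ j)⁻¹) ^ k) y :=
      fun y => Commute.pow_left (Commute.inv_left (hwj y)) k
    calc x₀ ^ j * a ^ k = x₀ ^ j * a ^ k * ((w ^ j)⁻¹) ^ k * (((w ^ j)⁻¹) ^ k)⁻¹ := by group
      _ = a ^ k * x₀ ^ j * (((w ^ j)⁻¹) ^ k)⁻¹ := by rw [← h4]
      _ = a ^ k * x₀ ^ j * (w ^ j) ^ k := by rw [inv_pow, inv_inv]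
  obtain ⟨i, j, rfl⟩ := hgen g
  obtain ⟨k, l, rfl⟩ := hgen h
  have hW : ∀ j k : ℕ, (w ^ j) ^ k ∈ Subgroup.zpowers z := fun j k =>
    (Subgroup.zpowers z).pow_mem ((Subgroup.zpowers z).pow_mem hwZ j) k
  have hWc : ∀ (j k : ℕ) (y : G), Commute ((w ^ j) ^ k) y := fun j k y =>
    (zpowers_central a x₀ z hgen hza hzx hzp (hW j k)).1 y
  refine ⟨((w ^ j) ^ k)⁻¹ * (w ^ l) ^ i,
    (Subgroup.zpowers z).mul_mem ((Subgroup.zpowers z).inv_mem (hW j k)) (hW l i), ?_⟩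
  have e1 : a ^ i * x₀ ^ j * (a ^ k * x₀ ^ l) = a ^ (i + k) * x₀ ^ (j + l) * (w ^ j) ^ k := by
    calc a ^ i * x₀ ^ j * (a ^ k * x₀ ^ l) = a ^ i * (x₀ ^ j * a ^ k) * x₀ ^ l := by group
      _ = a ^ i * (a ^ k * x₀ ^ j * (w ^ j) ^ k) * x₀ ^ l := by rw [h2 j k]
      _ = a ^ i * a ^ k * x₀ ^ j * ((w ^ j) ^ k * x₀ ^ l) := by group
      _ = a ^ i * a ^ k * x₀ ^ j * (x₀ ^ l * (w ^ j) ^ k) := by rw [(hWc j k (x₀ ^ l)).eq]
      _ = (a ^ i * a ^ k) * (x₀ ^ j * x₀ ^ l) * (w ^ j) ^ k := by group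
      _ = a ^ (i + k) * x₀ ^ (j + l) * (w ^ j) ^ k := by rw [← pow_add, ← pow_add]
  have e2 : a ^ k * x₀ ^ l * (a ^ i * x₀ ^ j) = a ^ (i + k) * x₀ ^ (j + l) * (w ^ l) ^ i := by
    calc a ^ k * x₀ ^ l * (a ^ i * x₀ ^ j) = a ^ k * (x₀ ^ l * a ^ i) * x₀ ^ j := by group
      _ = a ^ k * (a ^ i * x₀ ^ l * (w ^ l) ^ i) * x₀ ^ j := by rw [h2 l i]
      _ = a ^ k * a ^ i * x₀ ^ l * ((w ^ l) ^ i * x₀ ^ j) := by group
      _ = a ^ k * a ^ i * x₀ ^ l * (x₀ ^ j * (w ^ l) ^ i) := by rw [(hWc l i (x₀ ^ j)).eq]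
      _ = (a ^ k * a ^ i) * (x₀ ^ l * x₀ ^ j) * (w ^ l) ^ i := by group
      _ = a ^ (i + k) * x₀ ^ (j + l) * (w ^ l) ^ i := by
          rw [← pow_add, ← pow_add, add_comm k i, add_comm l j]
  rw [e1, e2]; group

include hgen hza hzx hzp hconj in
/-- for odd `p`, the `p`-th power map is multiplicative -/
theorem mul_pow_prime (hp2 : p ≠ 2) (g h : G) : (g * h) ^ p = g ^ p * h ^ p := by
  obtain ⟨c, hcZ, hc⟩ := comm_form a x₀ z hgen hza hzx hzp hconj g h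
  obtain ⟨hcc, hcp⟩ := zpowers_central a x₀ z hgen hza hzx hzp hcZ
  rw [mul_pow_of_central g h c hc (hcc g) (hcc h) p]
  have hpodd : p ∣ p * (p - 1) / 2 := by
    have hodd : Odd p := hp.out.eq_two_or_odd'.resolve_left hp2
    obtain ⟨k, hk⟩ := hodd
    have : p * (p - 1) / 2 = p * k := by
      rw [hk, Nat.add_sub_cancel, ← mul_assoc, mul_comm _ 2, mul_assoc,
        Nat.mul_div_cancel_left _ (by norm_num)]
    rw [this]; exact dvd_mul_right p k
  obtain ⟨t, ht⟩ := hpodd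
  rw [ht, pow_mul, hcp, one_pow, mul_one]

end classTwo

section setup

variable {p : ℕ} [hp : Fact p.Prime] [Finite G]

/-- the basic configuration: a noncyclic `p`-group with a cyclic subgroup of index `p`. -/
theorem setup (hp2 : p ≠ 2) (hR : IsPGroup p G) (hnc : ¬ IsCyclic G) (C : Subgroup G)
    (hC : IsCyclic C) (hCi : C.index = p) :
    ∃ (a x₀ : G) (m : ℕ), C = Subgroup.zpowers a ∧ orderOf a = p ^ (m + 1) ∧
      Nat.card G = p ^ (m + 2) ∧ x₀ ∉ Subgroup.zpowers a ∧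
      (∀ g : G, ∃ i j : ℕ, g = a ^ i * x₀ ^ j) ∧
      (a ^ p ^ m) * x₀ = x₀ * (a ^ p ^ m) ∧ (a ^ p ^ m) ^ p = 1 ∧
      (∃ s : ℤ, x₀ * a * x₀⁻¹ = a * (a ^ p ^ m) ^ s) ∧ x₀ ^ p ∈ Subgroup.zpowers a := by
  obtain ⟨k, hk⟩ := IsPGroup.iff_card.mp hR
  obtain ⟨⟨a, haC⟩, hgena⟩ := hC.exists_generator
  have hCa : C = Subgroup.zpowers a := by
    apply le_antisymm
    · intro c hc
      obtain ⟨t, ht⟩ := hgena ⟨c, hc⟩
      refine ⟨t, ?_⟩
      have := congrArg Subtype.val ht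
      simpa using this
    · exact (Subgroup.zpowers_le).mpr haC
  have hcard : Nat.card C * p = p ^ k := by
    have := Subgroup.card_mul_index C
    rw [hCi, hk] at this; exact this
  have hk1 : k ≠ 0 := by
    rintro rfl
    rw [pow_zero] at hcard
    have : p ∣ 1 := ⟨Nat.card C, by rw [← hcard, mul_comm]⟩
    exact hp.out.one_lt.ne' (Nat.dvd_one.mp this)
  have hk2 : k ≠ 1 := by
    rintro rfl
    rw [pow_one] at hk
    exact hnc (isCyclic_of_prime_card hk)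
  obtain ⟨m, rfl⟩ : ∃ m, k = m + 2 := ⟨k - 2, by omega⟩
  have hcardC : Nat.card C = p ^ (m + 1) := by
    have : Nat.card C * p = p ^ (m + 1) * p := by rw [hcard]; ring
    exact Nat.eq_of_mul_eq_mul_right hp.out.pos this
  have hord : orderOf a = p ^ (m + 1) := by
    rw [← hcardC, hCa, Nat.card_zpowers]
  have hCn : C.Normal := by
    apply Subgroup.normal_of_index_eq_minFac_card
    rw [hCi, hk, Nat.Prime.pow_minFac hp.out (by omega)]
  have hCtop : C ≠ ⊤ := by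
    intro h
    rw [h, Subgroup.index_top] at hCi
    exact hp.out.one_lt.ne hCi
  obtain ⟨x₀, hx₀⟩ : ∃ x₀ : G, x₀ ∉ C := by
    by_contra hcon
    exact hCtop (eq_top_iff.mpr fun x _ => by_contra fun hx => hcon ⟨x, hx⟩)
  have hQcard : Nat.card (G ⧸ C) = p := by rw [← Subgroup.index_eq_card, hCi]
  have hx₀Q : (x₀ : G ⧸ C) ≠ 1 := by
    intro h
    exact hx₀ ((QuotientGroup.eq_one_iff x₀).mp h)
  have hQtop : Subgroup.zpowers (x₀ : G ⧸ C) = ⊤ := zpowers_eq_top_of_prime_card hQcard hx₀Q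
  have hgen : ∀ g : G, ∃ i j : ℕ, g = a ^ i * x₀ ^ j := by
    intro g
    have h1 : (g : G ⧸ C) ∈ Subgroup.zpowers (x₀ : G ⧸ C) := by rw [hQtop]; trivial
    rw [← mem_powers_iff_mem_zpowers] at h1
    obtain ⟨j, hj⟩ := h1
    have h2 : g * (x₀ ^ j)⁻¹ ∈ C := by
      apply (QuotientGroup.eq_one_iff _).mp
      rw [QuotientGroup.mk_mul, QuotientGroup.mk_inv, QuotientGroup.mk_pow]
      rw [show (x₀ : G ⧸ C) ^ j = (g : G ⧸ C) from hj]
      exact mul_inv_cancel _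
    rw [hCa, ← mem_powers_iff_mem_zpowers] at h2
    obtain ⟨i, hi⟩ := h2
    refine ⟨i, j, ?_⟩
    rw [show a ^ i = g * (x₀ ^ j)⁻¹ from hi]; group
  have hxp : x₀ ^ p ∈ C := by
    apply (QuotientGroup.eq_one_iff _).mp
    rw [QuotientGroup.mk_pow, ← hQcard]
    exact pow_card_eq_one'
  have hxpa : x₀ ^ p * a = a * x₀ ^ p := by
    rw [hCa] at hxp
    obtain ⟨t, ht⟩ := Subgroup.mem_zpowers_iff.mp hxp
    rw [← ht]
    exact ((Commute.refl a).zpow_left t).eq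
  have hnorm : x₀ * a * x₀⁻¹ ∈ Subgroup.zpowers a := by
    rw [← hCa]; exact hCn.conj_mem a haC x₀
  obtain ⟨s, hs1, hs2⟩ := conj_eq_mul_central hp2 a x₀ m hord hnorm hxpa
  refine ⟨a, x₀, m, hCa, hord, hk, by rwa [← hCa], hgen, ?_, ?_, ⟨s, hs1⟩, by rwa [← hCa]⟩
  · calc a ^ p ^ m * x₀ = (x₀ * a ^ p ^ m * x₀⁻¹)⁻¹⁻¹ * x₀ := by rw [hs2, inv_inv]
      _ = x₀ * a ^ p ^ m := by rw [inv_inv]; group
  · rw [← pow_mul, ← pow_succ, ← hord, pow_orderOf_eq_one]

end setup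

section kernel

variable {p : ℕ} [hp : Fact p.Prime] [Finite G]

/-- the `p`-power endomorphism in the class-two situation -/
noncomputable def powHom (hp2 : p ≠ 2) (a x₀ z : G)
    (hgen : ∀ g : G, ∃ i j : ℕ, g = a ^ i * x₀ ^ j)
    (hza : z * a = a * z) (hzx : z * x₀ = x₀ * z) (hzp : z ^ p = 1)
    (hconj : ∃ s : ℤ, x₀ * a * x₀⁻¹ = a * z ^ s) : G →* G :=
  MonoidHom.mk' (fun g => g ^ p) (mul_pow_prime a x₀ z hgen hza hzx hzp hconj hp2)

/-- In the basic configuration, all `p`-th powers lie in `⟨a ^ p⟩`. -/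
theorem pow_mem_zpowers_pow (hnc : ¬ IsCyclic G) (a x₀ : G) (m : ℕ)
    (hord : orderOf a = p ^ (m + 1))
    (hgen : ∀ g : G, ∃ i j : ℕ, g = a ^ i * x₀ ^ j)
    (hmul : ∀ g h : G, (g * h) ^ p = g ^ p * h ^ p)
    (hxp : x₀ ^ p ∈ Subgroup.zpowers a) (g : G) : g ^ p ∈ Subgroup.zpowers (a ^ p) := by
  have hxp' : x₀ ^ p ∈ Subgroup.zpowers (a ^ p) := by
    rw [← mem_powers_iff_mem_zpowers] at hxp
    obtain ⟨k, hk⟩ := hxp
    have hk : a ^ k = x₀ ^ p := hk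
    by_cases hpk : p ∣ k
    · obtain ⟨t, rfl⟩ := hpk
      rw [← hk, pow_mul]
      exact (Subgroup.zpowers (a ^ p)).pow_mem (Subgroup.mem_zpowers _) t
    · exfalso
      have hcop : Nat.Coprime (orderOf a) k := by
        rw [hord]
        exact Nat.Coprime.pow_left _ ((Nat.Prime.coprime_iff_not_dvd hp.out).mpr hpk)
      have h1 : orderOf (a ^ k) = orderOf a := hcop.orderOf_pow
      have h2 : Subgroup.zpowers (a ^ k) = Subgroup.zpowers a := by
        apply Subgroup.eq_of_le_of_card_ge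
        · exact Subgroup.zpowers_le.mpr ((Subgroup.zpowers a).pow_mem (Subgroup.mem_zpowers a) k)
        · rw [Nat.card_zpowers, Nat.card_zpowers, h1]
      have h3 : a ∈ Subgroup.zpowers x₀ := by
        have : a ∈ Subgroup.zpowers (a ^ k) := by rw [h2]; exact Subgroup.mem_zpowers a
        rw [hk] at this
        exact (Subgroup.zpowers_le.mpr ((Subgroup.zpowers x₀).pow_mem
          (Subgroup.mem_zpowers x₀) p)) this
      apply hnc
      rw [isCyclic_iff_exists_zpowers_eq_top]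
      refine ⟨x₀, eq_top_iff.mpr fun g _ => ?_⟩
      obtain ⟨i, j, rfl⟩ := hgen g
      exact (Subgroup.zpowers x₀).mul_mem ((Subgroup.zpowers x₀).pow_mem h3 i)
        ((Subgroup.zpowers x₀).pow_mem (Subgroup.mem_zpowers x₀) j)
  obtain ⟨i, j, rfl⟩ := hgen g
  rw [hmul, pow_right_comm a i p, pow_right_comm x₀ j p]
  exact (Subgroup.zpowers (a ^ p)).mul_mem
    ((Subgroup.zpowers (a ^ p)).pow_mem (Subgroup.mem_zpowers _) i)
    ((Subgroup.zpowers (a ^ p)).pow_mem hxp' j)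

/-- In a noncyclic `p`-group (`p` odd) with a cyclic subgroup of index `p`, the elements of order
dividing `p` form a subgroup of order `p ^ 2`, and the `p`-th power map is an endomorphism. -/
theorem exists_omega (hp2 : p ≠ 2) (hR : IsPGroup p G) (hnc : ¬ IsCyclic G) (C : Subgroup G)
    (hC : IsCyclic C) (hCi : C.index = p) :
    ∃ (K : Subgroup G), (∀ g : G, g ∈ K ↔ g ^ p = 1) ∧ Nat.card K = p ^ 2 ∧
      (∀ g h : G, (g * h) ^ p = g ^ p * h ^ p) := by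
  obtain ⟨a, x₀, m, hCa, hord, hcard, hx₀, hgen, hzx, hzp, hconj, hxp⟩ :=
    setup hp2 hR hnc C hC hCi
  set z : G := a ^ p ^ m with hz
  have hza : z * a = a * z := ((Commute.refl a).pow_left (p ^ m)).eq
  have hmul := mul_pow_prime a x₀ z hgen hza hzx hzp hconj hp2
  let f : G →* G := MonoidHom.mk' (fun g => g ^ p) hmul
  have hf : ∀ g, f g = g ^ p := fun g => rfl
  refine ⟨f.ker, fun g => by rw [MonoidHom.mem_ker, hf], ?_, hmul⟩
  have hrange : f.range = Subgroup.zpowers (a ^ p) := by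
    apply le_antisymm
    · rintro _ ⟨g, rfl⟩
      exact pow_mem_zpowers_pow hnc a x₀ m hord hgen hmul hxp g
    · exact Subgroup.zpowers_le.mpr ⟨a, rfl⟩
  have hcr : Nat.card f.range = p ^ m := by
    rw [hrange, Nat.card_zpowers, orderOf_pow_of_dvd hp.out.ne_zero (by rw [hord]; exact dvd_pow_self p (Nat.succ_ne_zero m)), hord, pow_succ, Nat.mul_div_cancel _ hp.out.pos]
  have hprod : Nat.card f.ker * Nat.card f.range = Nat.card G := by
    rw [← Subgroup.index_ker, mul_comm, Subgroup.index_mul_card]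
  rw [hcr, hcard] at hprod
  have : Nat.card f.ker * p ^ m = p ^ 2 * p ^ m := by rw [hprod]; ring
  exact Nat.eq_of_mul_eq_mul_right (pow_pos hp.out.pos m) this

/-- odd `p`, nonabelian: generators `a`, `b` with `b ^ p = 1`, `b a b⁻¹ = a ^ (1 + p ^ m)`. -/
theorem exists_presentation (hp2 : p ≠ 2) (hR : IsPGroup p G) (C : Subgroup G)
    (hC : IsCyclic C) (hCi : C.index = p) (hna : ∃ x y : G, x * y ≠ y * x) :
    ∃ (a b : G) (m : ℕ), C = Subgroup.zpowers a ∧ Nat.card G = p ^ (m + 2) ∧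
      orderOf a = p ^ (m + 1) ∧ orderOf b = p ∧ b ∉ Subgroup.zpowers a ∧
      b * a * b⁻¹ = a ^ (1 + p ^ m) := by
  have hnc : ¬ IsCyclic G := by
    intro hcyc
    obtain ⟨x, y, hxy⟩ := hna
    have := hcyc.isMulCommutative
    exact hxy (mul_comm' x y)
  obtain ⟨a, x₀, m, hCa, hord, hcard, hx₀, hgen, hzx, hzp, hconj, hxp⟩ :=
    setup hp2 hR hnc C hC hCi
  set z : G := a ^ p ^ m with hz
  have hza : z * a = a * z := ((Commute.refl a).pow_left (p ^ m)).eq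
  have hmul := mul_pow_prime a x₀ z hgen hza hzx hzp hconj hp2
  have hzc : ∀ g : G, Commute z g := fun g => z_central a x₀ z hgen hza hzx g
  have hz1 : z ≠ 1 := by
    intro h
    have h1 : orderOf a ∣ p ^ m := orderOf_dvd_of_pow_eq_one h
    rw [hord] at h1
    have := Nat.le_of_dvd (pow_pos hp.out.pos m) h1
    exact absurd this (not_le.mpr (Nat.pow_lt_pow_right hp.out.one_lt (Nat.lt_succ_self m)))
  have hzord : orderOf z = p := orderOf_eq_prime hzp hz1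
  obtain ⟨s, hs⟩ := hconj
  -- `z ^ s ≠ 1` since `G` is not abelian
  have hps : ¬ (p : ℤ) ∣ s := by
    intro hdvd
    have hw : z ^ s = 1 := by
      obtain ⟨t, rfl⟩ := hdvd
      rw [zpow_mul, zpow_natCast, hzp, one_zpow]
    rw [hw, mul_one] at hs
    have hcomm : Commute x₀ a := by
      show x₀ * a = a * x₀
      calc x₀ * a = (x₀ * a * x₀⁻¹) * x₀ := by group
        _ = a * x₀ := by rw [hs]
    obtain ⟨x, y, hxy⟩ := hna
    apply hxy
    obtain ⟨i, j, rfl⟩ := hgen x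
    obtain ⟨k, l, rfl⟩ := hgen y
    have h1 : Commute (a ^ i) (a ^ k) := (Commute.refl a).pow_pow i k
    have h2 : Commute (a ^ i) (x₀ ^ l) := (hcomm.symm).pow_pow i l
    have h3 : Commute (x₀ ^ j) (a ^ k) := hcomm.pow_pow j k
    have h4 : Commute (x₀ ^ j) (x₀ ^ l) := (Commute.refl x₀).pow_pow j l
    exact ((h1.mul_right h2).mul_left (h3.mul_right h4)).eq
  -- choose `t` with `s * t ≡ 1 mod p`
  have hcop : IsCoprime s (p : ℤ) :=
    ((Nat.prime_iff_prime_int.mp hp.out).coprime_iff_not_dvd.mpr hps).symm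
  obtain ⟨u, v, huv⟩ := hcop
  -- `u * s + v * p = 1`; take `t = u mod p` as a natural number
  set t : ℕ := (u % (p : ℤ)).toNat with ht
  have hpz : (p : ℤ) ≠ 0 := by exact_mod_cast hp.out.ne_zero
  have htu : (t : ℤ) = u % (p : ℤ) := Int.toNat_of_nonneg (Int.emod_nonneg u hpz)
  have hst : z ^ (s * (t : ℤ)) = z := by
    have : z ^ (s * (t : ℤ)) = z ^ (1 : ℤ) := by
      rw [zpow_eq_zpow_iff_modEq, hzord, htu]
      have h1 : s * (u % (p : ℤ)) ≡ s * u [ZMOD (p : ℤ)] := (Int.mod_modEq u p).mul_left s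
      have h2 : s * u ≡ 1 [ZMOD (p : ℤ)] := by
        apply Int.modEq_iff_dvd.mpr
        refine ⟨v, ?_⟩
        rw [← huv]; ring
      exact h1.trans h2
    rwa [zpow_one] at this
  set w : G := z ^ s with hw
  have hwc : ∀ g : G, Commute w g := fun g => (hzc g).zpow_left s
  have h0 : x₀ * a = a * x₀ * w := by
    calc x₀ * a = (x₀ * a * x₀⁻¹) * x₀ := by group
      _ = a * w * x₀ := by rw [hs]
      _ = a * (w * x₀) := by group
      _ = a * (x₀ * w) := by rw [(hwc x₀).eq]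
      _ = a * x₀ * w := by group
  have h1 : x₀ ^ t * a = a * x₀ ^ t * w ^ t := pow_mul_of_central a x₀ w h0 (hwc x₀) t
  have hwt : w ^ t = z := by
    rw [hw, ← zpow_natCast, ← zpow_mul]; exact hst
  rw [hwt] at h1
  set x₁ : G := x₀ ^ t with hx₁
  have hx₁a : x₁ * a * x₁⁻¹ = a * z := by
    rw [h1]
    calc a * x₁ * z * x₁⁻¹ = a * (x₁ * z) * x₁⁻¹ := by group
      _ = a * (z * x₁) * x₁⁻¹ := by rw [(hzc x₁).eq]
      _ = a * z := by group
  -- correct `x₁` to an element of order `p`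
  have hx₁p : x₁ ^ p ∈ Subgroup.zpowers (a ^ p) :=
    pow_mem_zpowers_pow hnc a x₀ m hord hgen hmul hxp x₁
  obtain ⟨k, hk⟩ := Subgroup.mem_zpowers_iff.mp hx₁p
  set b : G := x₁ * a ^ (-k) with hb
  have hbp : b ^ p = 1 := by
    rw [hb, hmul, ← hk, ← zpow_natCast (a ^ (-k)) p, ← zpow_mul, ← zpow_natCast a p, ← zpow_mul,
      ← zpow_add]
    have : (p : ℤ) * k + -k * (p : ℤ) = 0 := by ring
    rw [this, zpow_zero]
  have hba : b * a * b⁻¹ = a ^ (1 + p ^ m) := by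
    rw [hb, conj_mul_zpow x₁ a (-k), hx₁a, pow_add, pow_one]
  have hbC : b ∉ Subgroup.zpowers a := by
    intro hmem
    obtain ⟨j, hj⟩ := Subgroup.mem_zpowers_iff.mp hmem
    have hcomm : Commute b a := by rw [← hj]; exact (Commute.refl a).zpow_left j
    have : b * a * b⁻¹ = a := by rw [hcomm.eq]; group
    rw [hba, pow_add, pow_one] at this
    exact hz1 (mul_eq_left.mp this)
  have hb1 : b ≠ 1 := by
    intro h
    exact hbC (h ▸ (Subgroup.zpowers a).one_mem)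
  exact ⟨a, b, m, hCa, hcard, hord, orderOf_eq_prime hbp hb1, hbC, hba⟩

end kernel

end Cfsg.Agent.Helper1.CyclicMaxOdd
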