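import Mathlib
import Cfsg.Prelude.Def_OddOrderLocal
import Cfsg.Agent.Helper1.CyclicMaxOdd
import Cfsg.Agent.Helper9.NormalElemAb

/-!
# Metacyclic `p`-groups, `p` odd

* `isMetacyclic_subgroup`: subgroups of metacyclic groups are metacyclic.
* `metacyclic_omega`: in a noncyclic metacyclic `p`-group (`p` odd) the elements of order
  dividing `p` form a subgroup of order `p ^ 2`.
-/

set_option autoImplicit false

namespace Cfsg.Agent.Helper1.Metacyclic

universe u

theorem card_le_of_isCyclic_of_pow {Q : Type*} [Group Q] [Finite Q] (hQ : IsCyclic Q) {p : ℕ}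
    (hp : 0 < p) (h : ∀ q : Q, q ^ p = 1) : Nat.card Q ≤ p := by
  obtain ⟨g, hg⟩ := hQ.exists_generator
  rw [← orderOf_eq_card_of_forall_mem_zpowers hg]
  exact Nat.le_of_dvd hp (orderOf_dvd_of_pow_eq_one (h g))

theorem isMetacyclic_subgroup {R : Type u} [Group R] (hm : Cfsg.IsMetacyclic R)
    (H : Subgroup R) : Cfsg.IsMetacyclic H := by
  obtain ⟨N, hNn, hNc, hQc⟩ := hm
  let φ : H →* R ⧸ N := (QuotientGroup.mk' N).comp H.subtype
  refine ⟨φ.ker, inferInstance, ?_, ?_⟩
  · have hmem : ∀ k : φ.ker, (k.1.1 : R) ∈ N := by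
      intro k
      have := k.2
      rw [MonoidHom.mem_ker] at this
      exact (QuotientGroup.eq_one_iff _).mp this
    let f : φ.ker →* N := (H.subtype.comp φ.ker.subtype).codRestrict N hmem
    have hinj : Function.Injective f := by
      intro a b hab
      have := congrArg Subtype.val hab
      exact Subtype.ext (Subtype.ext this)
    exact isCyclic_of_injective f hinj
  · exact isCyclic_of_injective (QuotientGroup.kerLift φ) (QuotientGroup.kerLift_injective φ)

theorem metacyclic_omega_aux {p : ℕ} [hp : Fact p.Prime] (hp2 : p ≠ 2) :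
    ∀ (n : ℕ) (R : Type u) [Group R] [Finite R], Nat.card R = n → IsPGroup p R →
      Cfsg.IsMetacyclic R → ¬ IsCyclic R →
      ∃ K : Subgroup R, (∀ g : R, g ∈ K ↔ g ^ p = 1) ∧ Nat.card K = p ^ 2 := by
  intro n
  induction n using Nat.strong_induction_on with
  | _ n ih =>
  intro R _ _ hcard hR hm hnc
  have hm' := hm
  obtain ⟨N, hNn, hNc, hQc⟩ := hm
  have hQcomm : IsMulCommutative (R ⧸ N) := hQc.isMulCommutative
  by_cases hpair : ∃ x y : R, x ^ p = 1 ∧ y ^ p = 1 ∧ Subgroup.closure {x, y} = ⊤
  · obtain ⟨x, y, hx, hy, hxy⟩ := hpair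
    have hall : ∀ r : R, (r : R ⧸ N) ^ p = 1 := by
      intro r
      have hr : r ∈ Subgroup.closure {x, y} := by rw [hxy]; trivial
      induction hr using Subgroup.closure_induction with
      | mem g hg =>
        rcases hg with rfl | rfl
        · rw [← QuotientGroup.mk_pow, hx]; rfl
        · rw [← QuotientGroup.mk_pow, hy]; rfl
      | one => exact one_pow p
      | mul a b _ _ iha ihb =>
        rw [QuotientGroup.mk_mul, (show Commute (a : R ⧸ N) (b : R ⧸ N) from mul_comm' _ _).mul_pow,
          iha, ihb, one_mul]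
      | inv a _ iha => rw [QuotientGroup.mk_inv, inv_pow, iha, inv_one]
    have hall' : ∀ q : R ⧸ N, q ^ p = 1 := by
      intro q
      obtain ⟨r, rfl⟩ := QuotientGroup.mk_surjective q
      exact hall r
    have hle : N.index ≤ p := by
      rw [Subgroup.index_eq_card]
      exact card_le_of_isCyclic_of_pow hQc hp.out.pos hall'
    obtain ⟨k, hk⟩ := IsPGroup.iff_card.mp hR
    have hdvd : N.index ∣ p ^ k := by rw [← hk]; exact Subgroup.index_dvd_card N
    obtain ⟨i, -, hi⟩ := (Nat.dvd_prime_pow hp.out).mp hdvd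
    have hNi : N.index = p := by
      rcases Nat.eq_zero_or_pos i with rfl | hipos
      · exfalso
        rw [pow_zero, Subgroup.index_eq_one] at hi
        apply hnc
        have e : N ≃* R := hi ▸ Subgroup.topEquiv
        exact isCyclic_of_surjective e e.surjective
      · rcases Nat.lt_or_ge 1 i with h1 | h1
        · exfalso
          have : p ^ 2 ≤ p ^ i := Nat.pow_le_pow_right hp.out.pos h1
          rw [← hi] at this
          have h2 : p < p ^ 2 := by
            calc p = p ^ 1 := (pow_one p).symm
              _ < p ^ 2 := Nat.pow_lt_pow_right hp.out.one_lt (by norm_num)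
          omega
        · have : i = 1 := by omega
          rw [hi, this, pow_one]
    obtain ⟨K, hK, hKc, -⟩ := CyclicMaxOdd.exists_omega hp2 hR hnc N hNc hNi
    exact ⟨K, hK, hKc⟩
  · have hT : ∀ x y : R, x ^ p = 1 → y ^ p = 1 → x * y = y * x ∧ (x * y) ^ p = 1 := by
      intro x y hx hy
      set H : Subgroup R := Subgroup.closure {x, y} with hH
      have hHtop : H ≠ ⊤ := fun h => hpair ⟨x, y, hx, hy, h⟩
      have hxH : x ∈ H := Subgroup.subset_closure (by simp)
      have hyH : y ∈ H := Subgroup.subset_closure (by simp)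
      have hlt : Nat.card H < n := by
        rw [← hcard]
        refine lt_of_le_of_ne (Subgroup.card_le_card_group H) ?_
        intro h
        exact hHtop (Subgroup.card_eq_iff_eq_top H |>.mp h)
      by_cases hHc : IsCyclic H
      · have hcomm : IsMulCommutative H := hHc.isMulCommutative
        have h1 : (⟨x, hxH⟩ : H) * ⟨y, hyH⟩ = ⟨y, hyH⟩ * ⟨x, hxH⟩ := mul_comm' _ _
        have h2 : x * y = y * x := congrArg Subtype.val h1
        exact ⟨h2, by rw [(show Commute x y from h2).mul_pow, hx, hy, one_mul]⟩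
      · obtain ⟨K, hK, hKc⟩ := ih (Nat.card H) hlt H rfl (hR.to_subgroup H)
          (isMetacyclic_subgroup hm' H) hHc
        have hxK : (⟨x, hxH⟩ : H) ∈ K := (hK _).mpr (Subtype.ext (by simpa using hx))
        have hyK : (⟨y, hyH⟩ : H) ∈ K := (hK _).mpr (Subtype.ext (by simpa using hy))
        have hKcomm : IsMulCommutative K := IsPGroup.isMulCommutative_of_card_eq_prime_sq hKc
        have h1 : (⟨⟨x, hxH⟩, hxK⟩ : K) * ⟨⟨y, hyH⟩, hyK⟩ = ⟨⟨y, hyH⟩, hyK⟩ * ⟨⟨x, hxH⟩, hxK⟩ :=
          mul_comm' _ _
        have h2 : x * y = y * x := congrArg (fun k : K => ((k : H) : R)) h1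
        exact ⟨h2, by rw [(show Commute x y from h2).mul_pow, hx, hy, one_mul]⟩
    let K : Subgroup R :=
      { carrier := {g | g ^ p = 1}
        mul_mem' := fun {a b} ha hb => (hT a b ha hb).2
        one_mem' := one_pow p
        inv_mem' := fun {a} ha => by
          show a⁻¹ ^ p = 1
          rw [inv_pow, show a ^ p = 1 from ha, inv_one] }
    have hKmem : ∀ g : R, g ∈ K ↔ g ^ p = 1 := fun g => Iff.rfl
    refine ⟨K, hKmem, ?_⟩
    -- lower bound
    obtain ⟨A, -, hAe, hAc⟩ := Cfsg.Agent.Helper9.exists_normal_elemAb_sq hp2 hR hnc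
    have hAK : A ≤ K := fun a ha => hAe.2 a ha
    have hlow : p ^ 2 ≤ Nat.card K := by
      rw [← hAc]; exact Subgroup.card_le_of_le hAK
    -- upper bound
    let φ : K →* R ⧸ N := (QuotientGroup.mk' N).comp K.subtype
    have hker : Nat.card φ.ker ≤ p := by
      have hmem : ∀ k : φ.ker, (k.1.1 : R) ∈ N := by
        intro k
        have := k.2
        rw [MonoidHom.mem_ker] at this
        exact (QuotientGroup.eq_one_iff _).mp this
      let f : φ.ker →* N := (K.subtype.comp φ.ker.subtype).codRestrict N hmem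
      have hinj : Function.Injective f := by
        intro a b hab
        have := congrArg Subtype.val hab
        exact Subtype.ext (Subtype.ext this)
      have hcyc : IsCyclic φ.ker := isCyclic_of_injective f hinj
      apply card_le_of_isCyclic_of_pow hcyc hp.out.pos
      intro k
      apply Subtype.ext
      apply Subtype.ext
      have : (k.1.1 : R) ^ p = 1 := k.1.2
      simpa using this
    have hrange : Nat.card φ.range ≤ p := by
      have hcyc : IsCyclic φ.range := inferInstance
      apply card_le_of_isCyclic_of_pow hcyc hp.out.pos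
      rintro ⟨_, k, rfl⟩
      apply Subtype.ext
      have hk : k ^ p = 1 := Subtype.ext (by
        have : (k : R) ^ p = 1 := k.2
        simpa using this)
      show (φ k) ^ p = 1
      rw [← map_pow, hk, map_one]
    have hprod : Nat.card φ.ker * Nat.card φ.range = Nat.card K := by
      rw [← Subgroup.index_ker, mul_comm, Subgroup.index_mul_card]
    have hup : Nat.card K ≤ p ^ 2 := by
      rw [← hprod, pow_two]
      exact Nat.mul_le_mul hker hrange
    exact le_antisymm hup hlow

/-- In a noncyclic metacyclic `p`-group, `p` odd, the elements of order dividing `p` form a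
subgroup of order `p ^ 2`. -/
theorem metacyclic_omega {p : ℕ} [Fact p.Prime] (hp2 : p ≠ 2) {R : Type u} [Group R] [Finite R]
    (hR : IsPGroup p R) (hm : Cfsg.IsMetacyclic R) (hnc : ¬ IsCyclic R) :
    ∃ K : Subgroup R, (∀ g : R, g ∈ K ↔ g ^ p = 1) ∧ Nat.card K = p ^ 2 :=
  metacyclic_omega_aux hp2 _ R rfl hR hm hnc

end Cfsg.Agent.Helper1.Metacyclic
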