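import Mathlib
import Cfsg.Agent.Helper1.CyclicMax2
import Cfsg.Agent.Helper1.CyclicMaxOdd
import Cfsg.Agent.Helper23.Cyclic

/-!
# `2`-groups in which every normal abelian subgroup is cyclic

Tools for Gorenstein 5.4.10(ii): if `A = ⟨a⟩` is a self-centralizing normal cyclic subgroup of
such a group, no element outside `A` acts on `A` as a unit `≡ 1 mod 4`; hence `|P : A| = 2`.
-/

set_option autoImplicit false
set_option linter.unusedSectionVars false

namespace Cfsg.Agent.Helper1.NAC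

open Cfsg.Agent.Helper1.CyclicMax2 Cfsg.Agent.Helper1.CyclicMaxOdd

variable {P : Type*} [Group P]

theorem zpow_of_mul_self_eq_one {z : P} (hz : z * z = 1) (v : ℤ) : z ^ v = 1 ∨ z ^ v = z := by
  rcases Int.even_or_odd v with ⟨t, rfl⟩ | ⟨t, rfl⟩
  · left
    rw [← two_mul, zpow_mul, zpow_two, hz, one_zpow]
  · right
    rw [zpow_add, zpow_one, zpow_mul, zpow_two, hz, one_zpow, one_mul]

/-- two distinct involutions cannot both lie in a cyclic subgroup -/
theorem false_of_two_involutions [Finite P] (W : Subgroup P) (hW : IsCyclic W) {z b : P}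
    (hz : z ∈ W) (hb : b ∈ W) (hz2 : z * z = 1) (hb2 : b * b = 1) (hz1 : z ≠ 1) (hb1 : b ≠ 1)
    (hne : z ≠ b) : False := by
  have hzo : orderOf z = 2 := orderOf_eq_prime (by rw [pow_two, hz2]) hz1
  have hbo : orderOf b = 2 := orderOf_eq_prime (by rw [pow_two, hb2]) hb1
  have := Cfsg.Agent.Helper23.eq_of_card_eq_of_isCyclic W hW (Subgroup.zpowers z)
    (Subgroup.zpowers b) (Subgroup.zpowers_le.mpr hz) (Subgroup.zpowers_le.mpr hb)
    (by rw [Nat.card_zpowers, Nat.card_zpowers, hzo, hbo])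
  have hbz : b ∈ Subgroup.zpowers z := this ▸ Subgroup.mem_zpowers b
  obtain ⟨k, hk⟩ := Subgroup.mem_zpowers_iff.mp hbz
  rcases zpow_of_mul_self_eq_one hz2 k with h | h
  · exact hb1 (by rw [← hk, h])
  · exact hne (by rw [← hk, h])

section modular

variable (a : P) (m : ℕ) (ha : orderOf a = 2 ^ (m + 1))
  (hAn : (Subgroup.zpowers a).Normal)

include ha in
theorem z_mul_self : a ^ 2 ^ m * a ^ 2 ^ m = 1 := by
  rw [← pow_add, ← two_mul, ← pow_succ', ← ha, pow_orderOf_eq_one]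

include ha in
theorem z_ne_one : a ^ 2 ^ m ≠ 1 := by
  intro h
  have h1 : orderOf a ∣ 2 ^ m := orderOf_dvd_of_pow_eq_one h
  rw [ha] at h1
  have := Nat.le_of_dvd (by positivity) h1
  exact absurd this (not_le.mpr (Nat.pow_lt_pow_right (by norm_num) (Nat.lt_succ_self m)))

include ha hAn in
/-- the involution of `⟨a⟩` is central -/
theorem z_conj (g : P) : g * a ^ 2 ^ m * g⁻¹ = a ^ 2 ^ m := by
  set z : P := a ^ 2 ^ m with hz
  have h1 : g * a * g⁻¹ ∈ Subgroup.zpowers a := hAn.conj_mem a (Subgroup.mem_zpowers a) g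
  obtain ⟨v, hv⟩ := Subgroup.mem_zpowers_iff.mp h1
  have h2 : g * z * g⁻¹ = z ^ v := by
    rw [hz, ← conj_pow, ← hv, ← zpow_natCast, ← zpow_natCast, ← zpow_mul, ← zpow_mul, mul_comm]
  rcases zpow_of_mul_self_eq_one (z_mul_self a m ha) v with h | h
  · exfalso
    rw [h] at h2
    apply z_ne_one a m ha
    calc z = g⁻¹ * (g * z * g⁻¹) * g := by group
      _ = 1 := by rw [h2]; group
  · rw [h2, h]

variable (hm : 2 ≤ m) (b : P) (hb2 : b * b = 1) (hba : b * a * b⁻¹ = a ^ (1 + 2 ^ m))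

include ha hm hb2 hba in
/-- involutions in the coset `b ⟨a⟩` of the modular group -/
theorem modular_sq (i : ℤ) (h : (b * a ^ i) * (b * a ^ i) = 1) :
    a ^ i = 1 ∨ a ^ i = a ^ 2 ^ m := by
  set z : P := a ^ 2 ^ m with hz
  set K : ℤ := ((1 + 2 ^ m : ℕ) : ℤ) with hK
  have hba' : b * a * b⁻¹ = a ^ K := by rw [hK, zpow_natCast]; exact hba
  have h7 : a ^ (K * i + i) = 1 := by
    have : (b * a ^ i) * (b * a ^ i) = (b * a ^ i * b⁻¹) * (b * b) * a ^ i := by group
    rw [this, conj_zpow_of_conj b a K i hba', hb2, mul_one, ← zpow_add] at h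
    exact h
  rw [← orderOf_dvd_iff_zpow_eq_one, ha] at h7
  have hm1 : m = (m - 1) + 1 := by omega
  have h8 : (2 : ℤ) ^ m ∣ i := by
    have hodd : Odd ((1 : ℤ) + 2 ^ (m - 1)) := by
      have : Even ((2 : ℤ) ^ (m - 1)) := (Int.even_pow' (by omega)).mpr (by norm_num)
      exact Even.one_add this
    have hcop := isCoprime_two_pow_of_odd m ((1 : ℤ) + 2 ^ (m - 1)) hodd
    apply hcop.dvd_of_dvd_mul_left
    have h9 : K * i + i = 2 * (((1 : ℤ) + 2 ^ (m - 1)) * i) := by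
      rw [hK]; push_cast
      have : (2 : ℤ) ^ m = 2 * 2 ^ (m - 1) := by
        conv_lhs => rw [hm1]
        rw [pow_succ]; ring
      rw [this]; ring
    rw [h9] at h7
    push_cast at h7
    rw [pow_succ, mul_comm ((2 : ℤ) ^ m) 2] at h7
    exact (mul_dvd_mul_iff_left (by norm_num : (2 : ℤ) ≠ 0)).mp h7
  obtain ⟨k, hk⟩ := h8
  have h10 : a ^ i = z ^ k := by
    rw [hk, hz, zpow_mul, ← zpow_natCast a (2 ^ m)]; push_cast; rfl
  rw [h10]
  exact zpow_of_mul_self_eq_one (z_mul_self a m ha) k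

variable (hcent : ∀ g : P, g * a = a * g → g ∈ Subgroup.zpowers a)

include ha hAn hcent hm hb2 hba in
/-- conjugates of `b` -/
theorem b_conj (g : P) : g * b * g⁻¹ = b ∨ g * b * g⁻¹ = b * a ^ 2 ^ m := by
  set z : P := a ^ 2 ^ m with hz
  set K : ℤ := ((1 + 2 ^ m : ℕ) : ℤ) with hK
  have hba' : b * a * b⁻¹ = a ^ K := by rw [hK, zpow_natCast]; exact hba
  set h' : P := g * b * g⁻¹ with hh'
  have h1 : g⁻¹ * a * g ∈ Subgroup.zpowers a := by
    have := hAn.conj_mem a (Subgroup.mem_zpowers a) g⁻¹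
    rwa [inv_inv] at this
  obtain ⟨w, hw⟩ := Subgroup.mem_zpowers_iff.mp h1
  have h2 : b * (g⁻¹ * a * g) * b⁻¹ = (g⁻¹ * a * g) ^ K := by
    rw [← hw, conj_zpow_of_conj b a K w hba', ← zpow_mul, mul_comm]
  have h3 : h' * a * h'⁻¹ = a ^ K := by
    calc h' * a * h'⁻¹ = g * (b * (g⁻¹ * a * g) * b⁻¹) * g⁻¹ := by rw [hh']; group
      _ = g * (g⁻¹ * a * g) ^ K * g⁻¹ := by rw [h2]
      _ = (g * (g⁻¹ * a * g) * g⁻¹) ^ K := by rw [conj_zpow]
      _ = a ^ K := by congr 1; group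
  have h4 : (b⁻¹ * h') * a = a * (b⁻¹ * h') := by
    have : h' * a * h'⁻¹ = b * a * b⁻¹ := by rw [h3, hba']
    calc (b⁻¹ * h') * a = b⁻¹ * (h' * a * h'⁻¹) * h' := by group
      _ = b⁻¹ * (b * a * b⁻¹) * h' := by rw [this]
      _ = a * (b⁻¹ * h') := by group
  obtain ⟨i, hi⟩ := Subgroup.mem_zpowers_iff.mp (hcent _ h4)
  have h5 : h' = b * a ^ i := by rw [hi]; group
  have h6 : h' * h' = 1 := by
    calc h' * h' = g * (b * b) * g⁻¹ := by rw [hh']; group
      _ = 1 := by rw [hb2]; group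
  rw [h5] at h6
  rcases modular_sq a m ha hm b hb2 hba i h6 with h | h
  · left; rw [h5, h, mul_one]
  · right; rw [h5, h]

end modular

section core

variable [Finite P] (hn : ∀ A : Subgroup P, A.Normal → IsMulCommutative A → IsCyclic A)
  (a : P) (m : ℕ) (ha : orderOf a = 2 ^ (m + 1))
  (hAn : (Subgroup.zpowers a).Normal)
  (hcent : ∀ g : P, g * a = a * g → g ∈ Subgroup.zpowers a)

include hn ha hAn hcent in
/-- no involution acts on `A` as `1 + 2 ^ m` -/
theorem no_modular (hm : 2 ≤ m) (b : P) (hb2 : b * b = 1)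
    (hba : b * a * b⁻¹ = a ^ (1 + 2 ^ m)) : False := by
  set z : P := a ^ 2 ^ m with hz
  have hz2 : z * z = 1 := z_mul_self a m ha
  have hz1 : z ≠ 1 := z_ne_one a m ha
  have hbaz : b * a * b⁻¹ = a * z := by rw [hba, pow_add, pow_one]
  have haz : Commute a z := (Commute.refl a).pow_right _
  have hzconj : ∀ g : P, g * z * g⁻¹ = z := z_conj a m ha hAn
  have hbz : b * z = z * b := by
    calc b * z = (b * z * b⁻¹) * b := by group
      _ = z * b := by rw [hzconj b]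
  have hb1 : b ≠ 1 := by
    intro h
    rw [h] at hbaz
    apply hz1
    have : a = a * z := by simpa using hbaz
    exact (mul_eq_left.mp this.symm)
  have hzb : z ≠ b := by
    intro h
    rw [← h] at hbaz
    apply hz1
    have h3 : z * a * z⁻¹ = a := by rw [← haz.eq]; group
    rw [h3] at hbaz
    exact (mul_eq_left.mp hbaz.symm)
  have hconjb : ∀ g : P, g * b * g⁻¹ = b ∨ g * b * g⁻¹ = b * z :=
    b_conj a m ha hAn hm b hb2 hba hcent
  -- the four-group
  set W : Subgroup P := Subgroup.closure {z, b} with hW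
  have hzW : z ∈ W := Subgroup.subset_closure (by simp)
  have hbW : b ∈ W := Subgroup.subset_closure (by simp)
  have hWc : IsMulCommutative W := by
    apply Subgroup.isMulCommutative_closure
    rintro x (rfl | rfl) y (rfl | rfl)
    · rfl
    · exact hbz.symm
    · exact hbz
    · rfl
  have hWn : W.Normal := by
    refine ⟨fun n hn' g => ?_⟩
    induction hn' using Subgroup.closure_induction with
    | mem x hx =>
      rcases hx with rfl | rfl
      · rw [hzconj g]; exact hzW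
      · rcases hconjb g with h | h
        · rw [h]; exact hbW
        · rw [h]; exact W.mul_mem hbW hzW
    | one => simp
    | mul x y _ _ ihx ihy =>
      have : g * (x * y) * g⁻¹ = (g * x * g⁻¹) * (g * y * g⁻¹) := by group
      rw [this]; exact W.mul_mem ihx ihy
    | inv x _ ihx =>
      have : g * x⁻¹ * g⁻¹ = (g * x * g⁻¹)⁻¹ := by group
      rw [this]; exact W.inv_mem ihx
  exact false_of_two_involutions W (hn W hWn hWc) hzW hbW hz2 hb2 hz1 hb1 hzb

include ha hAn hcent in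
/-- an element outside `A` acting as a unit `≡ 1 mod 4` produces a modular involution -/
theorem exists_modular (hP : IsPGroup 2 P) (hm : 1 ≤ m) (x : P)
    (hx : x ∉ Subgroup.zpowers a) (u : ℤ) (hu : x * a * x⁻¹ = a ^ u) (h4 : u ≡ 1 [ZMOD 4]) :
    ∃ b : P, 2 ≤ m ∧ b * b = 1 ∧ b * a * b⁻¹ = a ^ (1 + 2 ^ m) := by
  classical
  have hex : ∃ k : ℕ, x ^ 2 ^ k ∈ Subgroup.zpowers a := by
    obtain ⟨k, hk⟩ := hP x
    exact ⟨k, by rw [hk]; exact one_mem _⟩
  set j₀ := Nat.find hex with hj₀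
  have hj₀spec : x ^ 2 ^ j₀ ∈ Subgroup.zpowers a := Nat.find_spec hex
  have hj₀pos : j₀ ≠ 0 := by
    intro h
    rw [h, pow_zero, pow_one] at hj₀spec
    exact hx hj₀spec
  obtain ⟨j, hj⟩ : ∃ j, j₀ = j + 1 := ⟨j₀ - 1, by omega⟩
  set x' : P := x ^ 2 ^ j with hx'
  have hx'A : x' ∉ Subgroup.zpowers a := Nat.find_min hex (by omega : j < j₀)
  have hx'2 : x' ^ 2 ∈ Subgroup.zpowers a := by
    rw [hx', ← pow_mul, ← pow_succ, ← hj]; exact hj₀spec
  set u' : ℤ := u ^ 2 ^ j with hu'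
  have hu'4 : u' ≡ 1 [ZMOD 4] := by
    have := h4.pow (2 ^ j)
    rwa [one_pow] at this
  have hx'a : x' * a * x'⁻¹ = a ^ u' := conj_pow_of_conj x a u hu (2 ^ j)
  have hnorm : x' * a * x'⁻¹ ∈ Subgroup.zpowers a := hAn.conj_mem a (Subgroup.mem_zpowers a) x'
  have hnc : x' * a * x'⁻¹ ≠ a := by
    intro h
    apply hx'A
    apply hcent
    calc x' * a = (x' * a * x'⁻¹) * x' := by group
      _ = a * x' := by rw [h]
  have hord : ((orderOf a : ℕ) : ℤ) = 2 ^ (m + 1) := by rw [ha]; push_cast; rfl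
  have h4dvd : (4 : ℤ) ∣ 2 ^ (m + 1) := by
    obtain ⟨m', rfl⟩ : ∃ m', m = m' + 1 := ⟨m - 1, by omega⟩
    exact ⟨2 ^ m', by rw [pow_succ, pow_succ]; ring⟩
  have hneg : ¬ ((-1 : ℤ) ≡ 1 [ZMOD 4]) := by decide
  obtain ⟨j', hc⟩ := structure_of_sq_mem a x' m hm ha hx'2 hnorm hnc
  have hinv : x' * a * x'⁻¹ = a⁻¹ → False := by
    intro h
    rw [hx'a, ← zpow_neg_one, zpow_eq_zpow_iff_modEq, hord] at h
    exact hneg ((h.of_dvd h4dvd).symm.trans hu'4)
  rcases hc with ⟨-, h⟩ | ⟨-, h⟩ | ⟨hm2, hb2, h⟩ | ⟨hm2, -, h⟩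
  · exact (hinv h).elim
  · exact (hinv h).elim
  · -- the modular case
    refine ⟨x' * a ^ j', hm2, by rw [← pow_two]; exact hb2, ?_⟩
    rw [conj_mul_zpow x' a j', h]
  · exfalso
    rw [hx'a, ← zpow_natCast, zpow_eq_zpow_iff_modEq, hord] at h
    have h5 := (h.of_dvd h4dvd)
    have h6 : (((2 ^ m - 1 : ℕ)) : ℤ) ≡ -1 [ZMOD 4] := by
      have h1le : 1 ≤ 2 ^ m := Nat.one_le_two_pow
      rw [Nat.cast_sub h1le]
      push_cast
      obtain ⟨m', rfl⟩ : ∃ m', m = m' + 2 := ⟨m - 2, by omega⟩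
      apply Int.modEq_iff_dvd.mpr
      refine ⟨-(2 ^ m'), ?_⟩
      rw [pow_add]; ring
    exact hneg ((h6.symm.trans h5.symm).trans hu'4)

include hn ha hAn hcent in
/-- no element outside `A` acts on `A` as a unit congruent to `1` modulo `4` -/
theorem not_modEq_one_four (hP : IsPGroup 2 P) (hm : 1 ≤ m) (x : P)
    (hx : x ∉ Subgroup.zpowers a) (u : ℤ) (hu : x * a * x⁻¹ = a ^ u) : ¬ u ≡ 1 [ZMOD 4] := by
  intro h4
  obtain ⟨b, hm2, hbb, hba⟩ := exists_modular a m ha hAn hcent hP hm x hx u hu h4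
  exact no_modular hn a m ha hAn hcent hm2 b hbb hba

include ha in
/-- the exponent of a conjugate of `a` is odd -/
theorem odd_of_conj (g : P) (u : ℤ) (hu : g * a * g⁻¹ = a ^ u) : Odd u := by
  by_contra heven
  rw [Int.not_odd_iff_even] at heven
  obtain ⟨t, ht⟩ := heven
  apply z_ne_one a m ha
  have h2 : g * a ^ 2 ^ m * g⁻¹ = 1 := by
    rw [← conj_pow, hu, ht, ← zpow_natCast, ← zpow_mul]
    have : (t + t) * ((2 ^ m : ℕ) : ℤ) = ((2 ^ (m + 1) : ℕ) : ℤ) * t := by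
      push_cast; rw [pow_succ]; ring
    rw [this, zpow_mul, zpow_natCast, ← ha, pow_orderOf_eq_one, one_zpow]
  calc a ^ 2 ^ m = g⁻¹ * (g * a ^ 2 ^ m * g⁻¹) * g := by group
    _ = 1 := by rw [h2]; group

include ha hAn hcent in
/-- if all outside elements act as units `≡ 3 mod 4`, then `A` has index two -/
theorem index_two_of_three (x : P) (hx : x ∉ Subgroup.zpowers a)
    (hthree : ∀ g : P, g ∉ Subgroup.zpowers a → ∀ u : ℤ, g * a * g⁻¹ = a ^ u → u ≡ 3 [ZMOD 4]) :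
    (Subgroup.zpowers a).index = 2 := by
  have hnormg : ∀ g : P, g * a * g⁻¹ ∈ Subgroup.zpowers a := fun g =>
    hAn.conj_mem a (Subgroup.mem_zpowers a) g
  rw [Subgroup.index_eq_two_iff_exists_notMem_and]
  refine ⟨x, hx, fun g => ?_⟩
  by_cases hg : g ∈ Subgroup.zpowers a
  · exact Or.inr hg
  · left
    by_contra hgx
    obtain ⟨u, hu⟩ := Subgroup.mem_zpowers_iff.mp (hnormg x)
    obtain ⟨v, hv⟩ := Subgroup.mem_zpowers_iff.mp (hnormg g)
    have hu3 := hthree x hx u hu.symm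
    have hv3 := hthree g hg v hv.symm
    have h1 : (g * x) * a * (g * x)⁻¹ = a ^ (v * u) := by
      calc (g * x) * a * (g * x)⁻¹ = g * (x * a * x⁻¹) * g⁻¹ := by group
        _ = g * a ^ u * g⁻¹ := by rw [hu]
        _ = a ^ (v * u) := conj_zpow_of_conj g a v u hv.symm
    have h2 := hthree (g * x) hgx (v * u) h1
    have h3 : v * u ≡ 3 * 3 [ZMOD 4] := hv3.mul hu3
    have h4 : ¬ ((3 : ℤ) * 3 ≡ 3 [ZMOD 4]) := by decide
    exact h4 (h3.symm.trans h2)

end core

end Cfsg.Agent.Helper1.NAC
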