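import Mathlib
import Cfsg.Agent.Helper1.SylowBasic
import Cfsg.Agent.Helper3.SubnormalJoin

/-!
Relative subnormality `SubnIn A H` (`A` is a subnormal subgroup of `H`, both subgroups of `G`),
with transitivity, restriction, conjugation, joins (Wielandt, via helper3).
-/

set_option autoImplicit false

namespace Cfsg.Agent.Helper1

open Pointwise

variable {G : Type*} [Group G]

/-- `A` is a subnormal subgroup of `H`. -/
def SubnIn (A H : Subgroup G) : Prop := A ≤ H ∧ (A.subgroupOf H).IsSubnormal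

theorem SubnIn.le {A H : Subgroup G} (h : SubnIn A H) : A ≤ H := h.1

theorem SubnIn.refl (H : Subgroup G) : SubnIn H H :=
  ⟨le_rfl, by rw [Subgroup.subgroupOf_self]; exact Subgroup.IsSubnormal.top⟩

theorem SubnIn.of_normal {A H : Subgroup G} (hA : A ≤ H)
    (hN : H ≤ Subgroup.normalizer (A : Set G)) : SubnIn A H :=
  ⟨hA, (Subgroup.normal_subgroupOf_of_le_normalizer hN).isSubnormal⟩

/-- the plumbing lemma: for `A ≤ H ≤ K`, subnormality of `A` in `H` can be computed inside `K`. -/
theorem subgroupOf_subgroupOf_isSubnormal_iff {A H K : Subgroup G} (hHK : H ≤ K) :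
    ((A.subgroupOf K).subgroupOf (H.subgroupOf K)).IsSubnormal ↔ (A.subgroupOf H).IsSubnormal := by
  let e := Subgroup.subgroupOfEquivOfLe hHK
  have hcomap : (A.subgroupOf H).comap e.toMonoidHom = (A.subgroupOf K).subgroupOf (H.subgroupOf K) := by
    ext x
    rfl
  constructor
  · intro h
    have h2 := h.map (f := e.toMonoidHom) e.surjective
    rw [← hcomap, Subgroup.map_comap_eq_self_of_surjective e.surjective] at h2
    exact h2
  · intro h
    rw [← hcomap]
    exact h.comap _

theorem SubnIn.trans {A H K : Subgroup G} (h1 : SubnIn A H) (h2 : SubnIn H K) : SubnIn A K := by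
  refine ⟨h1.1.trans h2.1, ?_⟩
  have hle : A.subgroupOf K ≤ H.subgroupOf K := Subgroup.subgroupOf_mono K h1.1
  exact Subgroup.IsSubnormal.trans hle ((subgroupOf_subgroupOf_isSubnormal_iff h2.1).mpr h1.2) h2.2

theorem SubnIn.mono {A H K : Subgroup G} (h1 : SubnIn A H) (hAK : A ≤ K) (hKH : K ≤ H) :
    SubnIn A K := by
  refine ⟨hAK, ?_⟩
  have := h1.2.subgroupOf (K := K.subgroupOf H)
  exact (subgroupOf_subgroupOf_isSubnormal_iff hKH).mp this

theorem subnIn_top_iff (A : Subgroup G) : SubnIn A ⊤ ↔ A.IsSubnormal := by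
  constructor
  · intro h
    have h2 := h.2.map (f := (⊤ : Subgroup G).subtype)
      (fun g => ⟨⟨g, Subgroup.mem_top g⟩, rfl⟩)
    rw [Subgroup.subgroupOf_map_subtype, inf_top_eq] at h2
    exact h2
  · intro h
    exact ⟨le_top, h.subgroupOf⟩

theorem SubnIn.sup [Finite G] {A B H : Subgroup G} (hA : SubnIn A H) (hB : SubnIn B H) :
    SubnIn (A ⊔ B) H := by
  refine ⟨sup_le hA.1 hB.1, ?_⟩
  rw [Subgroup.subgroupOf_sup hA.1 hB.1]
  exact Cfsg.Agent.Helper3.subnormal_sup hA.2 hB.2

theorem SubnIn.conj {A H : Subgroup G} (h : SubnIn A H) (g : G) :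
    SubnIn (MulAut.conj g • A) (MulAut.conj g • H) := by
  refine ⟨Subgroup.pointwise_smul_le_pointwise_smul_iff.mpr h.1, ?_⟩
  let e := Subgroup.equivSMul (MulAut.conj g) H
  have h2 := h.2.map (f := e.toMonoidHom) e.surjective
  have heq : (A.subgroupOf H).map e.toMonoidHom =
      (MulAut.conj g • A).subgroupOf (MulAut.conj g • H) := by
    ext y
    rw [Subgroup.mem_map, Subgroup.mem_subgroupOf, mem_conj_smul_iff]
    constructor
    · rintro ⟨x, hx, rfl⟩
      rw [Subgroup.mem_subgroupOf] at hx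
      have : ((e.toMonoidHom x : (MulAut.conj g • H : Subgroup G)) : G) = g * x * g⁻¹ := rfl
      rw [this]
      have h3 : g⁻¹ * (g * (x : G) * g⁻¹) * g = x := by group
      rw [h3]; exact hx
    · intro hy
      have hyH : g⁻¹ * (y : G) * g ∈ H := (mem_conj_smul_iff H g y).mp y.2
      refine ⟨⟨g⁻¹ * y * g, hyH⟩, Subgroup.mem_subgroupOf.mpr hy, ?_⟩
      apply Subtype.ext
      have : ((e.toMonoidHom ⟨g⁻¹ * y * g, hyH⟩ : (MulAut.conj g • H : Subgroup G)) : G) =
          g * (g⁻¹ * y * g) * g⁻¹ := rfl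
      rw [this]; group
  rw [heq] at h2
  exact h2

/-- from a subnormal chain: a subnormal, non-normal subgroup has a conjugate, different from it,
inside its normalizer. -/
theorem exists_conj_le_normalizer {A : Subgroup G} (hA : A.IsSubnormal) (hn : ¬ A.Normal) :
    ∃ x : G, x ∉ Subgroup.normalizer (A : Set G) ∧
      MulAut.conj x • A ≤ Subgroup.normalizer (A : Set G) := by
  obtain ⟨n, f, hmono, hnorm, h0, hn'⟩ := hA.exists_chain
  have hP0 : f 0 ≤ Subgroup.normalizer (A : Set G) := by rw [h0]; exact Subgroup.le_normalizer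
  have hPn : ¬ f n ≤ Subgroup.normalizer (A : Set G) := by
    rw [hn', top_le_iff, Subgroup.normalizer_eq_top_iff]; exact hn
  -- find the step
  have hstep : ∃ i, f i ≤ Subgroup.normalizer (A : Set G) ∧
      ¬ f (i + 1) ≤ Subgroup.normalizer (A : Set G) := by
    by_contra hcon
    push Not at hcon
    have : ∀ i, f i ≤ Subgroup.normalizer (A : Set G) := by
      intro i
      induction i with
      | zero => exact hP0
      | succ i ih => exact hcon i ih
    exact hPn (this n)
  obtain ⟨i, hi, hi'⟩ := hstep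
  obtain ⟨x, hx, hxN⟩ := SetLike.not_le_iff_exists.mp hi'
  refine ⟨x, hxN, ?_⟩
  have hAi : A ≤ f i := by rw [← h0]; exact hmono (Nat.zero_le i)
  have hle : f i ≤ f (i + 1) := hmono (Nat.le_succ i)
  refine le_trans ?_ hi
  intro y hy
  rw [mem_conj_smul_iff] at hy
  -- y = x (x⁻¹ y x) x⁻¹ with x⁻¹ y x ∈ A ≤ f i
  have h1 : x⁻¹ * y * x ∈ f i := hAi hy
  have h2 := (hnorm i).conj_mem ⟨x⁻¹ * y * x, hle h1⟩ (Subgroup.mem_subgroupOf.mpr h1) ⟨x, hx⟩
  rw [Subgroup.mem_subgroupOf] at h2
  have h3 : ((⟨x, hx⟩ * ⟨x⁻¹ * y * x, hle h1⟩ * (⟨x, hx⟩ : f (i + 1))⁻¹ : f (i + 1)) : G) = y := by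
    simp only [Subgroup.coe_mul, Subgroup.coe_inv]
    group
  rw [h3] at h2
  exact h2

/-- relative version of `exists_conj_le_normalizer`. -/
theorem SubnIn.exists_conj_le_normalizer [Finite G] {A M : Subgroup G} (h : SubnIn A M)
    (hn : ¬ M ≤ Subgroup.normalizer (A : Set G)) :
    ∃ x ∈ M, x ∉ Subgroup.normalizer (A : Set G) ∧
      MulAut.conj x • A ≤ Subgroup.normalizer (A : Set G) := by
  have hn' : ¬ (A.subgroupOf M).Normal := by
    rw [Subgroup.normal_subgroupOf_iff_le_normalizer h.1]; exact hn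
  obtain ⟨x, hx1, hx2⟩ := Cfsg.Agent.Helper1.exists_conj_le_normalizer h.2 hn'
  -- membership in the normalizer of a finite subgroup: `y • A ≤ A` suffices
  have hnorm_of : ∀ y : G, (∀ a ∈ A, y * a * y⁻¹ ∈ A) → y ∈ Subgroup.normalizer (A : Set G) := by
    intro y hy
    rw [← conj_smul_eq_self_iff]
    apply Cfsg.Agent.Helper3.conj_smul_le_eq
    intro z hz
    rw [mem_conj_smul_iff] at hz
    have := hy _ hz
    have e : y * (y⁻¹ * z * y) * y⁻¹ = z := by group
    rwa [e] at this
  refine ⟨x, x.2, ?_, ?_⟩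
  · intro hxN
    apply hx1
    rw [Subgroup.mem_normalizer_iff]
    intro m
    rw [Subgroup.mem_subgroupOf, Subgroup.mem_subgroupOf]
    exact Subgroup.mem_normalizer_iff.mp hxN m
  · intro y hy
    rw [mem_conj_smul_iff] at hy
    -- y' = x⁻¹ y x ∈ A; then y ∈ conj x • A' ≤ N(A')
    have hyM : y ∈ M := by
      have : y = (x : G) * ((x : G)⁻¹ * y * x) * (x : G)⁻¹ := by group
      rw [this]
      exact M.mul_mem (M.mul_mem x.2 (h.1 hy)) (M.inv_mem x.2)
    have hy' : (⟨y, hyM⟩ : M) ∈ MulAut.conj x • A.subgroupOf M := by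
      rw [mem_conj_smul_iff, Subgroup.mem_subgroupOf]
      simpa using hy
    have hyN := hx2 hy'
    rw [Subgroup.mem_normalizer_iff] at hyN
    apply hnorm_of
    intro a ha
    have := (hyN ⟨a, h.1 ha⟩).mp (Subgroup.mem_subgroupOf.mpr ha)
    rw [Subgroup.mem_subgroupOf] at this
    simpa using this

end Cfsg.Agent.Helper1
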