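import Mathlib
import Cfsg.Agent.Helper1.SubnIn

/-!
Wielandt's zipper lemma and subnormality criterion.
-/

set_option autoImplicit false

namespace Cfsg.Agent.Helper1

open Pointwise

variable {G : Type*} [Group G]

/-- `M` is a maximal subgroup of `H`. -/
def MaxIn (M H : Subgroup G) : Prop := M < H ∧ ∀ K : Subgroup G, M < K → K ≤ H → K = H

theorem card_lt_of_lt' [Finite G] {A B : Subgroup G} (h : A < B) : Nat.card A < Nat.card B := by
  have h1 : (A : Set G) ⊂ (B : Set G) := SetLike.coe_ssubset_coe.mpr h
  have h2 := Set.ncard_lt_ncard h1 (Set.toFinite _)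
  exact h2

theorem exists_maxIn [Finite G] {H : Subgroup G} :
    ∀ (n : ℕ) (A : Subgroup G), A < H → Nat.card H - Nat.card A = n → ∃ M, MaxIn M H ∧ A ≤ M := by
  intro n
  induction n using Nat.strong_induction_on with
  | _ n ih =>
  intro A hA hn
  by_cases hmax : ∀ K : Subgroup G, A < K → K ≤ H → K = H
  · exact ⟨A, ⟨hA, hmax⟩, le_rfl⟩
  · push Not at hmax
    obtain ⟨K, hAK, hKH, hne⟩ := hmax
    have hKlt : K < H := lt_of_le_of_ne hKH hne
    have h1 := card_lt_of_lt' hAK
    have h2 := card_lt_of_lt' hKlt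
    obtain ⟨M, hM, hKM⟩ := ih (Nat.card H - Nat.card K) (by omega) K hKlt rfl
    exact ⟨M, hM, hAK.le.trans hKM⟩

theorem conj_smul_lt_of_mem [Finite G] {K H : Subgroup G} (hK : K < H) {x : G} (hx : x ∈ H) :
    MulAut.conj x • K < H := by
  have hle : MulAut.conj x • K ≤ H := by
    intro y hy
    rw [mem_conj_smul_iff] at hy
    have : y = x * (x⁻¹ * y * x) * x⁻¹ := by group
    rw [this]
    exact H.mul_mem (H.mul_mem hx (hK.le hy)) (H.inv_mem hx)
  refine lt_of_le_of_ne hle ?_
  intro heq
  have h1 := card_lt_of_lt' hK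
  have h2 : Nat.card (MulAut.conj x • K : Subgroup G) = Nat.card K :=
    Cfsg.Agent.Helper3.card_conj_smul x K
  rw [heq] at h2
  omega

/-- **Zipper lemma** (Wielandt), relative form. -/
theorem zipper [Finite G] {H : Subgroup G} :
    ∀ (n : ℕ) (A : Subgroup G), A ≤ H → Nat.card H - Nat.card A = n →
      (∀ K : Subgroup G, A ≤ K → K < H → SubnIn A K) → ¬ SubnIn A H →
      ∀ M₁ M₂ : Subgroup G, MaxIn M₁ H → MaxIn M₂ H → A ≤ M₁ → A ≤ M₂ → M₁ = M₂ := by
  intro n
  induction n using Nat.strong_induction_on with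
  | _ n ih =>
  intro A hAH hn hi hii
  -- A is not normal in H
  have hnn : ¬ H ≤ Subgroup.normalizer (A : Set G) := fun h => hii (SubnIn.of_normal hAH h)
  have hNlt : Subgroup.normalizer (A : Set G) ⊓ H < H := by
    refine lt_of_le_of_ne inf_le_right ?_
    intro heq
    apply hnn
    rw [← heq]; exact inf_le_left
  obtain ⟨M₀, hM₀, hNM₀⟩ := exists_maxIn _ _ hNlt rfl
  -- every maximal subgroup containing A equals M₀
  have key : ∀ M : Subgroup G, MaxIn M H → A ≤ M → M = M₀ := by
    intro M hM hAM
    have hsn : SubnIn A M := hi M hAM hM.1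
    by_cases hnorm : M ≤ Subgroup.normalizer (A : Set G)
    · have hle : M ≤ M₀ := (le_inf hnorm hM.1.le).trans hNM₀
      by_contra hne
      have := hM.2 M₀ (lt_of_le_of_ne hle hne) hM₀.1.le
      exact hM₀.1.ne this
    · obtain ⟨x, hxM, hxN, hxA⟩ := hsn.exists_conj_le_normalizer hnorm
      set B := A ⊔ MulAut.conj x • A with hB
      have hxAM : MulAut.conj x • A ≤ M := by
        intro y hy
        rw [mem_conj_smul_iff] at hy
        have : y = x * (x⁻¹ * y * x) * x⁻¹ := by group
        rw [this]
        exact M.mul_mem (M.mul_mem hxM (hAM hy)) (M.inv_mem hxM)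
      have hBM : B ≤ M := sup_le hAM hxAM
      have hBN : B ≤ Subgroup.normalizer (A : Set G) := sup_le Subgroup.le_normalizer hxA
      have hBM₀ : B ≤ M₀ := (le_inf hBN (hBM.trans hM.1.le)).trans hNM₀
      have hAB : A < B := by
        refine lt_of_le_of_ne le_sup_left ?_
        intro heq
        apply hxN
        rw [← conj_smul_eq_self_iff]
        apply Cfsg.Agent.Helper3.conj_smul_le_eq
        exact le_sup_right.trans heq.ge
      have hBH : B ≤ H := hBM.trans hM.1.le
      have hcard := card_lt_of_lt' hAB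
      have hcard2 : Nat.card B ≤ Nat.card H := Subgroup.card_le_of_le hBH
      have hxH : x ∈ H := hM.1.le hxM
      -- hypotheses for B
      have hiB : ∀ K : Subgroup G, B ≤ K → K < H → SubnIn B K := by
        intro K hBK hKH
        have h1 : SubnIn A K := hi K (le_sup_left.trans hBK) hKH
        have h2 : SubnIn (MulAut.conj x • A) K := by
          -- A ≤ x⁻¹ • K < H
          have hlt : MulAut.conj x⁻¹ • K < H := conj_smul_lt_of_mem hKH (H.inv_mem hxH)
          have hle : A ≤ MulAut.conj x⁻¹ • K := by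
            intro a ha
            rw [mem_conj_smul_iff]
            have : MulAut.conj x • A ≤ K := le_sup_right.trans hBK
            apply this
            rw [mem_conj_smul_iff]
            have e : x⁻¹ * (x⁻¹⁻¹ * a * x⁻¹) * x = a := by group
            rw [e]; exact ha
          have h3 := (hi _ hle hlt).conj x
          have e : MulAut.conj x • MulAut.conj x⁻¹ • K = K := by
            rw [map_inv, smul_inv_smul]
          rwa [e] at h3
        exact h1.sup h2
      have hiiB : ¬ SubnIn B H := by
        intro h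
        exact hii ((SubnIn.of_normal hAB.le hBN).trans h)
      exact ih (Nat.card H - Nat.card B) (by omega) B hBH rfl hiB hiiB M M₀ hM hM₀ hBM hBM₀
  intro M₁ M₂ h₁ h₂ hA₁ hA₂
  rw [key M₁ h₁ hA₁, key M₂ h₂ hA₂]

/-- **Wielandt's subnormality criterion**, relative form. -/
theorem wielandt_rel [Finite G] :
    ∀ (n : ℕ) (H A : Subgroup G), Nat.card H = n → A ≤ H →
      (∀ g ∈ H, SubnIn A (A ⊔ MulAut.conj g • A)) → SubnIn A H := by
  intro n
  induction n using Nat.strong_induction_on with
  | _ n ih =>
  intro H A hn hAH hyp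
  by_contra hii
  have hi : ∀ K : Subgroup G, A ≤ K → K < H → SubnIn A K := by
    intro K hAK hKH
    have hlt := card_lt_of_lt' hKH
    exact ih _ (by omega) K A rfl hAK (fun g hg => hyp g (hKH.le hg))
  have hAlt : A < H := by
    refine lt_of_le_of_ne hAH ?_
    rintro rfl
    exact hii (SubnIn.refl _)
  obtain ⟨M, hM, hAM⟩ := exists_maxIn _ _ hAlt rfl
  -- all conjugates of A under H lie in M
  have hconjM : ∀ g ∈ H, MulAut.conj g • A ≤ M := by
    intro g hg
    set J := A ⊔ MulAut.conj g • A with hJ
    have hgA : MulAut.conj g • A ≤ H := (conj_smul_lt_of_mem hAlt hg).le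
    have hJH : J ≤ H := sup_le hAH hgA
    have hJlt : J < H := by
      refine lt_of_le_of_ne hJH ?_
      intro heq
      apply hii
      have := hyp g hg
      rwa [← hJ, heq] at this
    obtain ⟨M', hM', hJM'⟩ := exists_maxIn _ _ hJlt rfl
    have := zipper _ A hAH rfl hi hii M' M hM' hM (le_sup_left.trans hJM') hAM
    rw [← this]
    exact le_sup_right.trans hJM'
  -- the normal closure of A in H
  set C : Subgroup G := ⨆ g : H, MulAut.conj (g : G) • A with hC
  have hCM : C ≤ M := iSup_le fun g => hconjM g g.2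
  have hAC : A ≤ C := by
    have := le_iSup (fun g : H => MulAut.conj (g : G) • A) 1
    simpa using this
  have hCH : C < H := lt_of_le_of_lt hCM hM.1
  have hCN : H ≤ Subgroup.normalizer (C : Set G) := by
    intro h hh
    rw [← conj_smul_eq_self_iff]
    apply Cfsg.Agent.Helper3.conj_smul_le_eq
    rw [hC, ← map_conj_eq_smul, Subgroup.map_iSup]
    apply iSup_le
    intro g
    have : (MulAut.conj (g : G) • A).map (MulAut.conj h).toMonoidHom = MulAut.conj (h * g) • A := by
      rw [map_conj_eq_smul, map_mul, mul_smul]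
    rw [this]
    exact le_iSup (fun g : H => MulAut.conj (g : G) • A) ⟨h * g, H.mul_mem hh g.2⟩
  exact hii ((hi C hAC hCH).trans (SubnIn.of_normal hCH.le hCN))

/-- **Wielandt's subnormality criterion**. -/
theorem wielandt_criterion [Finite G] (A : Subgroup G)
    (h : ∀ g : G, (A.subgroupOf (A ⊔ MulAut.conj g • A)).IsSubnormal) : A.IsSubnormal := by
  rw [← subnIn_top_iff]
  exact wielandt_rel _ ⊤ A rfl le_top (fun g _ => ⟨le_sup_left, h g⟩)

end Cfsg.Agent.Helper1
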