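import Mathlib

/-!
Parity counting with involutions: an involutive map on a set of odd size has a fixed point;
a finite group of even order has an odd number of involutions; an involution normalizing a
subgroup of even order centralizes one of its involutions.
-/

set_option autoImplicit false
set_option linter.style.haveILetI false

namespace Cfsg.Agent.Helper1.InvolCount

/-- an involutive map on a finite set of odd size has a fixed point -/
theorem exists_fixed_of_involutive_odd {α : Type*} [Finite α] (f : α → α)
    (hf : ∀ x, f (f x) = x) (hodd : Odd (Nat.card α)) : ∃ x, f x = x := by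
  classical
  haveI : Fintype α := Fintype.ofFinite α
  haveI : Fact (Nat.Prime 2) := ⟨Nat.prime_two⟩
  let F : Function.End α := f
  have h1 : F ^ 2 ^ 1 = 1 := by
    rw [pow_one, pow_two]
    funext x
    exact hf x
  have h2 := Equiv.Perm.card_fixedPoints_modEq (f := F) (p := 2) (n := 1) h1
  by_contra hcon
  push Not at hcon
  have h3 : IsEmpty (Function.fixedPoints f) := ⟨fun x => hcon x.1 x.2⟩
  have h4 : Fintype.card (Function.fixedPoints f) = 0 := Fintype.card_eq_zero
  rw [h4, ← Nat.card_eq_fintype_card] at h2
  rw [← Nat.not_even_iff_odd] at hodd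
  exact hodd (Nat.even_iff.mpr h2)

/-- a finite group of even order has an odd number of involutions -/
theorem card_involutions_odd {C : Type*} [Group C] [Finite C] (heven : Even (Nat.card C)) :
    Odd (Nat.card {w : C // w ≠ 1 ∧ w * w = 1}) := by
  classical
  haveI : Fintype C := Fintype.ofFinite C
  haveI : Fact (Nat.Prime 2) := ⟨Nat.prime_two⟩
  let f : Function.End C := fun g => g⁻¹
  have h1 : f ^ 2 ^ 1 = 1 := by
    rw [pow_one, pow_two]
    funext x
    exact inv_inv x
  have h2 := Equiv.Perm.card_fixedPoints_modEq (f := f) (p := 2) (n := 1) h1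
  -- fixed points = involutions plus the identity
  have e : Function.fixedPoints f ≃ Option {w : C // w ≠ 1 ∧ w * w = 1} :=
    { toFun := fun g => if h : (g : C) = 1 then none else some ⟨g, h, by
        have := g.2
        have h' : (g : C)⁻¹ = g := this
        calc (g : C) * g = (g : C)⁻¹ * g := by rw [h']
          _ = 1 := inv_mul_cancel _⟩
      invFun := fun o => match o with
        | none => ⟨1, inv_one⟩
        | some w => ⟨w, by
            change (w : C)⁻¹ = w
            exact inv_eq_of_mul_eq_one_right w.2.2⟩
      left_inv := by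
        intro g
        by_cases h : (g : C) = 1
        · simp only [h, dite_true]
          exact Subtype.ext h.symm
        · simp only [h, dite_false]
      right_inv := by
        intro o
        rcases o with _ | w
        · simp
        · have : (w : C) ≠ 1 := w.2.1
          simp [this] }
  have h3 : Fintype.card (Function.fixedPoints f) =
      Nat.card {w : C // w ≠ 1 ∧ w * w = 1} + 1 := by
    rw [← Nat.card_eq_fintype_card, Nat.card_congr e, Nat.card_eq_fintype_card,
      Fintype.card_option, ← Nat.card_eq_fintype_card]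
  rw [h3, ← Nat.card_eq_fintype_card] at h2
  have h4 : Nat.card C % 2 = 0 := Nat.even_iff.mp heven
  have h5 : (Nat.card {w : C // w ≠ 1 ∧ w * w = 1} + 1) % 2 = 0 := by
    rw [← h4]; exact h2.symm
  rw [Nat.odd_iff]
  omega

/-- an involution `u` normalizing a subgroup `C` of even order commutes with some involution of
`C` -/
theorem exists_invol_commute {G : Type*} [Group G] [Finite G] (C : Subgroup G)
    (heven : Even (Nat.card C)) {u : G} (hu2 : u * u = 1)
    (hnorm : ∀ c ∈ C, u * c * u⁻¹ ∈ C) :
    ∃ w ∈ C, w ≠ 1 ∧ w * w = 1 ∧ u * w = w * u := by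
  have huinv : u⁻¹ = u := inv_eq_of_mul_eq_one_right hu2
  let J := {w : C // w ≠ 1 ∧ w * w = 1}
  have hodd : Odd (Nat.card J) := card_involutions_odd heven
  let f : J → J := fun w => ⟨⟨u * (w.1 : G) * u⁻¹, hnorm _ w.1.2⟩, by
    constructor
    · intro h
      apply w.2.1
      have h1 : u * (w.1 : G) * u⁻¹ = 1 := congrArg Subtype.val h
      apply Subtype.ext
      have e1 : (w.1 : G) = u⁻¹ * (u * (w.1 : G) * u⁻¹) * u := by group
      rw [e1, h1]; simp
    · apply Subtype.ext
      have h1 : (w.1 : G) * (w.1 : G) = 1 := congrArg Subtype.val w.2.2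
      change u * (w.1 : G) * u⁻¹ * (u * (w.1 : G) * u⁻¹) = 1
      have e1 : u * (w.1 : G) * u⁻¹ * (u * (w.1 : G) * u⁻¹) = u * ((w.1 : G) * (w.1 : G)) * u⁻¹ := by
        group
      rw [e1, h1]; group⟩
  have hf : ∀ w, f (f w) = w := by
    intro w
    apply Subtype.ext
    apply Subtype.ext
    change u * (u * (w.1 : G) * u⁻¹) * u⁻¹ = (w.1 : G)
    rw [huinv]
    calc u * (u * (w.1 : G) * u) * u = (u * u) * (w.1 : G) * (u * u) := by group
      _ = (w.1 : G) := by rw [hu2, one_mul, mul_one]
  obtain ⟨w, hw⟩ := exists_fixed_of_involutive_odd f hf hodd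
  refine ⟨(w.1 : G), w.1.2, fun h => w.2.1 (Subtype.ext h), congrArg Subtype.val w.2.2, ?_⟩
  have h1 : u * (w.1 : G) * u⁻¹ = (w.1 : G) := congrArg (fun z : J => ((z.1 : C) : G)) hw
  calc u * (w.1 : G) = (u * (w.1 : G) * u⁻¹) * u := by group
    _ = (w.1 : G) * u := by rw [h1]

end Cfsg.Agent.Helper1.InvolCount
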