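import Mathlib
import Cfsg.Agent.Helper17.RankOne5
import Cfsg.Agent.Lead.Fpf5
import Cfsg.Agent.S0065
import Cfsg.Agent.Helper1.FrobGroup
import Cfsg.Agent.Helper1.InvolCount

/-!
Rank-one set-up (Suzuki): `Q` is nilpotent (via Thompson's theorem on fixed-point-free
automorphisms of prime order), and consequences.
-/

set_option autoImplicit false
set_option linter.style.haveILetI false
set_option linter.unusedSectionVars false

namespace Cfsg.Agent.Helper1.RankOneQ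

open MulAction Cfsg Cfsg.Agent.Helper17

universe u

/-- a finite subgroup `Q` normalized by an element `k` with `k ^ r = 1` (`r` prime) centralizing no
non-identity element of `Q` is nilpotent (Thompson) -/
theorem nilpotent_of_fpf_conj {G : Type u} [Group G] [Finite G] (Q : Subgroup G) {k : G} {r : ℕ}
    (hr : r.Prime) (hkN : k ∈ Subgroup.normalizer (Q : Set G)) (hkr : k ^ r = 1)
    (hfpf : Q ⊓ Subgroup.centralizer {k} = ⊥) : Group.IsNilpotent Q := by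
  set φ : Q ≃* Q := Q.normalizerMonoidHom ⟨k, hkN⟩ with hφ
  have hφval : ∀ x : Q, ((φ x : Q) : G) = k * x * k⁻¹ := fun x => rfl
  have h1 : ∀ x : Q, φ x = x → x = 1 := by
    intro x hx
    have h2 : k * (x : G) * k⁻¹ = x := by rw [← hφval, hx]
    have h3 : (x : G) ∈ Q ⊓ Subgroup.centralizer {k} := by
      refine Subgroup.mem_inf.mpr ⟨x.2, ?_⟩
      rw [Subgroup.mem_centralizer_singleton_iff]
      calc (x : G) * k = (k * (x : G) * k⁻¹) * k := by rw [h2]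
        _ = k * x := by group
    rw [hfpf, Subgroup.mem_bot] at h3
    exact Subtype.ext h3
  have h2 : ∀ x : Q, φ^[r] x = x := by
    intro x
    rw [← Cfsg.Agent.Lead.Fpf.mulAut_pow_apply, hφ, ← map_pow]
    have : (⟨k, hkN⟩ : Subgroup.normalizer (Q : Set G)) ^ r = 1 := Subtype.ext (by simpa using hkr)
    rw [this, map_one]
    rfl
  exact Cfsg.Agent.Lead.Fpf.nilpotent_of_fpfAut hr _ Q φ rfl ⟨h1, h2⟩

section setup

variable {G Ω : Type*} [Group G] [Finite G] [MulAction G Ω] {a : Ω} {t : G} {Q : Subgroup G}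

/-- powers of inverted elements are inverted -/
theorem inverted_pow {D : Subgroup G} {k : G} (hk : k ∈ Cfsg.invertedBy D t) (n : ℕ) :
    k ^ n ∈ Cfsg.invertedBy D t := by
  refine ⟨D.pow_mem hk.1 n, ?_⟩
  rw [← conj_pow, hk.2, inv_pow]

/-- two distinct involutions in `G_a` -/
theorem ro_two_invol (hS : Cfsg.IsRankOneSetup G Ω a t Q)
    (h2 : ∃ x y : G, x ≠ 1 ∧ y ≠ 1 ∧ x ≠ y ∧ x * x = 1 ∧ y * y = 1 ∧ x * y = y * x) :
    ∃ s s' : G, s ∈ Cfsg.involutionsIn (stabilizer G a : Set G) ∧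
      s' ∈ Cfsg.involutionsIn (stabilizer G a : Set G) ∧ s ≠ s' := by
  obtain ⟨x, y, hx1, hy1, hxy, hx2, hy2, hcomm⟩ := h2
  obtain ⟨c, hc, -⟩ := ro_invol_fix hS hx1 hx2
  have hyc : y • c = c := ro_comm_fix hS hx1 hx2 hcomm hc
  haveI := ro_pretrans hS
  obtain ⟨g, hg⟩ := MulAction.exists_smul_eq G c a
  have hginv : g⁻¹ • a = c := by rw [inv_smul_eq_iff, hg]
  refine ⟨g * x * g⁻¹, g * y * g⁻¹, ⟨?_, invol_conj_ne_one hx1 g, invol_conj_sq hx2 g⟩,
    ⟨?_, invol_conj_ne_one hy1 g, invol_conj_sq hy2 g⟩, ?_⟩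
  · change g * x * g⁻¹ ∈ stabilizer G a
    rw [mem_stabilizer_iff, mul_smul, mul_smul, hginv, hc, hg]
  · change g * y * g⁻¹ ∈ stabilizer G a
    rw [mem_stabilizer_iff, mul_smul, mul_smul, hginv, hyc, hg]
  · intro h
    apply hxy
    have e1 : x = g⁻¹ * (g * x * g⁻¹) * g := by group
    rw [e1, h]; group

/-- a nonidentity inverted element of prime order -/
theorem ro_exists_inverted_prime (hS : Cfsg.IsRankOneSetup G Ω a t Q)
    (h2 : ∃ x y : G, x ≠ 1 ∧ y ≠ 1 ∧ x ≠ y ∧ x * x = 1 ∧ y * y = 1 ∧ x * y = y * x) :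
    ∃ k ∈ Cfsg.invertedBy (stabilizer G a ⊓ stabilizer G (t • a)) t, (orderOf k).Prime := by
  obtain ⟨s, s', hs, hs', hne⟩ := ro_two_invol hS h2
  obtain ⟨k, hk, hks⟩ := ro_inverted_trans hS hs hs'
  have hk1 : k ≠ 1 := by
    intro h
    apply hne
    rw [← hks, h]; group
  obtain ⟨r, hr, hrk⟩ := Nat.exists_prime_and_dvd (fun h => hk1 (orderOf_eq_one_iff.mp h))
  refine ⟨k ^ (orderOf k / r), inverted_pow hk _, ?_⟩
  rw [orderOf_pow_orderOf_div (orderOf_pos k).ne' hrk]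
  exact hr

/-- `Q` is nilpotent -/
theorem ro_Q_nilpotent (hS : Cfsg.IsRankOneSetup G Ω a t Q)
    (h2 : ∃ x y : G, x ≠ 1 ∧ y ≠ 1 ∧ x ≠ y ∧ x * x = 1 ∧ y * y = 1 ∧ x * y = y * x) :
    Group.IsNilpotent Q := by
  obtain ⟨k, hk, hkp⟩ := ro_exists_inverted_prime hS h2
  have hk1 : k ≠ 1 := by
    intro h
    rw [h, orderOf_one] at hkp
    exact Nat.not_prime_one hkp
  exact nilpotent_of_fpf_conj Q hkp (ro_D_le_normalizer hS hk.1.1) (pow_orderOf_eq_one k)
    (ro_inverted_fpf hS hk hk1)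

end setup

section central

variable {G Ω : Type*} [Group G] [Finite G] [MulAction G Ω] {a : Ω} {t : G} {Q : Subgroup G}

/-- a central involution of `Q` -/
theorem ro_exists_central_invol (hS : Cfsg.IsRankOneSetup G Ω a t Q)
    (h2 : ∃ x y : G, x ≠ 1 ∧ y ≠ 1 ∧ x ≠ y ∧ x * x = 1 ∧ y * y = 1 ∧ x * y = y * x) :
    ∃ z ∈ Q, z ≠ 1 ∧ z * z = 1 ∧ ∀ x ∈ Q, z * x = x * z := by
  haveI : Group.IsNilpotent Q := ro_Q_nilpotent hS h2
  haveI : Fact (Nat.Prime 2) := ⟨Nat.prime_two⟩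
  obtain ⟨S⟩ : Nonempty (Sylow 2 Q) := inferInstance
  haveI hSn : (S : Subgroup Q).Normal := inferInstance
  have hSbot : (S : Subgroup Q) ≠ ⊥ := S.ne_bot_of_dvd_card hS.even_card.two_dvd
  have h1 := Cfsg.Agent.S0065.inf_center_ne_bot (S : Subgroup Q) hSbot
  obtain ⟨z', hz', hz'1⟩ : ∃ z' ∈ (S : Subgroup Q) ⊓ Subgroup.center Q, z' ≠ 1 := by
    by_contra hcon
    push Not at hcon
    apply h1
    rw [eq_bot_iff]
    intro x hx
    rw [Subgroup.mem_bot]; exact hcon x hx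
  obtain ⟨hz'S, hz'c⟩ := Subgroup.mem_inf.mp hz'
  obtain ⟨k, hk⟩ := S.isPGroup' ⟨z', hz'S⟩
  have hk' : z' ^ (2 ^ k) = 1 := by simpa using congrArg Subtype.val hk
  obtain ⟨i, hi⟩ := Cfsg.Agent.Helper1.FrobGroup.exists_pow_orderOf_eq_prime Nat.prime_two hz'1 hk'
  set z : Q := z' ^ i with hz
  have hzc : z ∈ Subgroup.center Q := (Subgroup.center Q).pow_mem hz'c i
  have hz1 : z ≠ 1 := by
    intro h
    rw [h, orderOf_one] at hi
    norm_num at hi
  have hz2 : z * z = 1 := by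
    rw [← pow_two, ← hi]; exact pow_orderOf_eq_one z
  refine ⟨(z : G), z.2, fun h => hz1 (Subtype.ext h), by simpa using congrArg Subtype.val hz2, ?_⟩
  intro x hx
  have := (Subgroup.mem_center_iff.mp hzc) ⟨x, hx⟩
  have h3 := congrArg Subtype.val this
  simpa using h3.symm

/-- every involution of `G_a` is central in `Q` -/
theorem ro_invol_central (hS : Cfsg.IsRankOneSetup G Ω a t Q)
    (h2 : ∃ x y : G, x ≠ 1 ∧ y ≠ 1 ∧ x ≠ y ∧ x * x = 1 ∧ y * y = 1 ∧ x * y = y * x)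
    {s : G} (hs : s ∈ Cfsg.involutionsIn (stabilizer G a : Set G)) :
    s ∈ Q ∧ ∀ x ∈ Q, s * x = x * s := by
  refine ⟨ro_invol_mem_Q hS hs.1 hs.2.2, ?_⟩
  obtain ⟨z, hzQ, hz1, hz2, hzc⟩ := ro_exists_central_invol hS h2
  have hzI : z ∈ Cfsg.involutionsIn (stabilizer G a : Set G) := ⟨hS.le hzQ, hz1, hz2⟩
  obtain ⟨k, hk, hks⟩ := ro_inverted_trans hS hzI hs
  intro x hx
  have hkx : k * x * k⁻¹ ∈ Q := hS.conj_mem k hk.1.1 x hx
  have h1 := hzc _ hkx
  rw [← hks]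
  calc k⁻¹ * z * k * x = k⁻¹ * (z * (k * x * k⁻¹)) * k := by group
    _ = k⁻¹ * ((k * x * k⁻¹) * z) * k := by rw [h1]
    _ = x * (k⁻¹ * z * k) := by group

/-- the involutions of `G_a` together with `1` are closed under multiplication -/
theorem ro_invol_mul (hS : Cfsg.IsRankOneSetup G Ω a t Q)
    (h2 : ∃ x y : G, x ≠ 1 ∧ y ≠ 1 ∧ x ≠ y ∧ x * x = 1 ∧ y * y = 1 ∧ x * y = y * x)
    {s s' : G} (hs : s ∈ Cfsg.involutionsIn (stabilizer G a : Set G))
    (hs' : s' ∈ Cfsg.involutionsIn (stabilizer G a : Set G)) :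
    s * s' = 1 ∨ s * s' ∈ Cfsg.involutionsIn (stabilizer G a : Set G) := by
  by_cases h : s * s' = 1
  · exact Or.inl h
  · right
    obtain ⟨hsQ, hsc⟩ := ro_invol_central hS h2 hs
    obtain ⟨hs'Q, -⟩ := ro_invol_central hS h2 hs'
    refine ⟨(stabilizer G a).mul_mem hs.1 hs'.1, h, ?_⟩
    have hc := hsc s' hs'Q
    calc s * s' * (s * s') = s * (s' * s) * s' := by group
      _ = s * (s * s') * s' := by rw [hc]
      _ = (s * s) * (s' * s') := by group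
      _ = 1 := by rw [hs.2.2, hs'.2.2, one_mul]

end central

section conjV

variable {G Ω : Type*} [Group G] [Finite G] [MulAction G Ω] {a : Ω} {t : G} {Q : Subgroup G}

/-- the fixed point of `t` -/
theorem ro_t_fix (hS : Cfsg.IsRankOneSetup G Ω a t Q) :
    ∃ e : Ω, t • e = e ∧ e ≠ a ∧ e ≠ t • a := by
  obtain ⟨e, he, -⟩ := ro_invol_fix hS hS.ne_one hS.mul_self
  refine ⟨e, he, ?_, ?_⟩
  · intro h
    rw [h] at he
    exact ro_ta_ne hS he
  · intro h
    have h1 : t • t • a = t • a := by rw [← h]; exact he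
    rw [ro_tt_smul hS] at h1
    exact ro_ta_ne hS h1.symm

/-- subsets of `V = C_D(t)` conjugate in `G` are conjugate in `V` -/
theorem ro_conj_in_V (hS : Cfsg.IsRankOneSetup G Ω a t Q)
    (X : Set G)
    (hX : X ⊆ (((stabilizer G a ⊓ stabilizer G (t • a)) ⊓ Subgroup.centralizer {t} : Subgroup G) :
      Set G)) (g : G)
    (hY : (fun x => g * x * g⁻¹) '' X ⊆
      (((stabilizer G a ⊓ stabilizer G (t • a)) ⊓ Subgroup.centralizer {t} : Subgroup G) : Set G)) :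
    ∃ v ∈ (stabilizer G a ⊓ stabilizer G (t • a)) ⊓ Subgroup.centralizer {t},
      ∀ x ∈ X, v * x * v⁻¹ = g * x * g⁻¹ := by
  obtain ⟨e, hte, hea, heta⟩ := ro_t_fix hS
  have ht2 : t * t = 1 := hS.mul_self
  have htinv : t⁻¹ = t := ro_t_inv hS
  set D : Subgroup G := stabilizer G a ⊓ stabilizer G (t • a) with hD
  set Y : Set G := (fun x => g * x * g⁻¹) '' X with hYdef
  have hYD : Y ⊆ (D : Set G) := fun y hy => (hY hy).1
  -- `Y` fixes `e`, `a`, `t • a`, `g • a`, `g • t • a`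
  have hYe : ∀ y ∈ Y, y • e = e := by
    intro y hy
    have hyt : t * y = y * t := ((Subgroup.mem_centralizer_iff.mp (hY hy).2) t rfl)
    exact ro_comm_fix hS hS.ne_one ht2 hyt hte
  have hYa : ∀ y ∈ Y, y • a = a := fun y hy => mem_stabilizer_iff.mp (hYD hy).1
  have hYta : ∀ y ∈ Y, y • t • a = t • a := fun y hy => mem_stabilizer_iff.mp (hYD hy).2
  have hYga : ∀ y ∈ Y, y • g • a = g • a := by
    rintro y ⟨x, hx, rfl⟩
    have hxa : x • a = a := mem_stabilizer_iff.mp (hX hx).1.1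
    change (g * x * g⁻¹) • g • a = g • a
    rw [mul_smul, mul_smul, inv_smul_smul, hxa]
  have hYgta : ∀ y ∈ Y, y • g • t • a = g • t • a := by
    rintro y ⟨x, hx, rfl⟩
    have hxa : x • t • a = t • a := mem_stabilizer_iff.mp (hX hx).1.2
    change (g * x * g⁻¹) • g • t • a = g • t • a
    rw [mul_smul, mul_smul, inv_smul_smul, hxa]
  have hne : g • a ≠ g • t • a := by
    intro h
    exact ro_ta_ne hS ((smul_left_cancel g h).symm)
  obtain ⟨c, hc, hca, hcta⟩ := ro_cent_two_trans hS hYD hea heta hYe hYga hYgta hYa hYta hne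
    (ro_ta_ne hS).symm
  -- `d = c * g ∈ D`
  set d : G := c * g with hd
  have hdD : d ∈ D := by
    refine Subgroup.mem_inf.mpr ⟨?_, ?_⟩
    · rw [mem_stabilizer_iff, hd, mul_smul, hca]
    · rw [mem_stabilizer_iff, hd, mul_smul, hcta]
  have hdx : ∀ x ∈ X, d * x * d⁻¹ = g * x * g⁻¹ := by
    intro x hx
    have hy : g * x * g⁻¹ ∈ Y := ⟨x, hx, rfl⟩
    have h1 := (Subgroup.mem_centralizer_iff.mp hc) _ hy
    calc d * x * d⁻¹ = c * (g * x * g⁻¹) * c⁻¹ := by rw [hd]; group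
      _ = (g * x * g⁻¹) * c * c⁻¹ := by rw [h1]
      _ = g * x * g⁻¹ := by group
  -- decompose `d = v * k`
  have hnorm : ∀ x ∈ D, t * x * t⁻¹ ∈ D := by
    intro x hx
    rw [htinv]
    exact ro_t_conj_D hS hx
  obtain ⟨v, hv, k, hk, hdvk⟩ := inverted_decomp_exists ht2 D hS.odd_card hnorm hdD
  refine ⟨v, hv, ?_⟩
  intro x hx
  rw [← hdx x hx]
  have hxt : t * x = x * t := (Subgroup.mem_centralizer_iff.mp (hX hx).2) t rfl
  have hvt : t * v = v * t := (Subgroup.mem_centralizer_iff.mp hv.2) t rfl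
  have hyt : t * (d * x * d⁻¹) = (d * x * d⁻¹) * t := by
    rw [hdx x hx]
    exact (Subgroup.mem_centralizer_iff.mp (hY ⟨x, hx, rfl⟩).2) t rfl
  have hkt : t * k * t⁻¹ = k⁻¹ := hk.2
  -- `k⁻¹ x k = k x k⁻¹`
  have h1 : t * (d * x * d⁻¹) * t⁻¹ = v * (k⁻¹ * x * k) * v⁻¹ := by
    have e1 : t * (d * x * d⁻¹) * t⁻¹ =
        (t * v * t⁻¹) * (t * k * t⁻¹) * (t * x * t⁻¹) * (t * k * t⁻¹)⁻¹ * (t * v * t⁻¹)⁻¹ := by
      rw [hdvk]; group
    have e2 : t * v * t⁻¹ = v := by rw [hvt]; group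
    have e3 : t * x * t⁻¹ = x := by rw [hxt]; group
    rw [e1, e2, e3, hkt]; group
  have h2 : t * (d * x * d⁻¹) * t⁻¹ = d * x * d⁻¹ := by rw [hyt]; group
  have h3 : v * (k⁻¹ * x * k) * v⁻¹ = v * (k * x * k⁻¹) * v⁻¹ := by
    rw [← h1, h2, hdvk]; group
  have h4 : k⁻¹ * x * k = k * x * k⁻¹ := by
    have := congrArg (fun z => v⁻¹ * z * v) h3
    simpa [mul_assoc] using this
  have h5 : (k * k) * x = x * (k * k) := by
    calc (k * k) * x = k * (k * x * k⁻¹) * k := by group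
      _ = k * (k⁻¹ * x * k) * k := by rw [h4]
      _ = x * (k * k) := by group
  -- `k` is a power of `k * k`
  have h6 : k * x = x * k := by
    obtain ⟨j, hj⟩ := hS.odd_card
    have h7 : k ^ (Nat.card D + 1) = k := pow_card_succ hk.1
    have h8 : k = (k * k) ^ (j + 1) := by
      rw [← pow_two, ← pow_mul, show 2 * (j + 1) = Nat.card D + 1 by rw [hj]; ring, h7]
    have h9 : Commute (k * k) x := h5
    rw [h8]
    exact (h9.pow_left (j + 1)).eq
  calc v * x * v⁻¹ = v * (k * x) * k⁻¹ * v⁻¹ := by rw [h6]; group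
    _ = d * x * d⁻¹ := by rw [hdvk]; group

end conjV

section conjsetup

variable {G Ω : Type*} [Group G] [MulAction G Ω] {a : Ω} {t : G} {Q : Subgroup G}

/-- the set-up transported by conjugation with `g₀` -/
theorem ro_conj_setup (hS : Cfsg.IsRankOneSetup G Ω a t Q) (g₀ : G) :
    Cfsg.IsRankOneSetup G Ω (g₀ • a) (g₀ * t * g₀⁻¹) (Q.map (MulAut.conj g₀).toMonoidHom) := by
  have hinj : Function.Injective (MulAut.conj g₀).toMonoidHom := (MulAut.conj g₀).injective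
  have hta : (g₀ * t * g₀⁻¹) • g₀ • a = g₀ • t • a := by
    rw [mul_smul, mul_smul, inv_smul_smul]
  have hst : ∀ b : Ω, stabilizer G (g₀ • b) = (stabilizer G b).map (MulAut.conj g₀).toMonoidHom :=
    fun b => stabilizer_smul_eq_stabilizer_map_conj g₀ b
  refine ⟨hS.two_transitive, ?_, ?_, ?_, ?_, ?_, ?_, ?_, ?_, ?_⟩
  · have : g₀ * t * g₀⁻¹ * (g₀ * t * g₀⁻¹) = g₀ * (t * t) * g₀⁻¹ := by group
    rw [this, hS.mul_self]; group
  · intro h
    apply hS.ne_one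
    have e : t = g₀⁻¹ * (g₀ * t * g₀⁻¹) * g₀ := by group
    rw [e, h]; group
  · rw [mem_stabilizer_iff, hta]
    intro h
    exact ro_ta_ne hS (smul_left_cancel g₀ h)
  · rw [hst]
    exact Subgroup.map_mono hS.le
  · intro h hh y hy
    rw [hst] at hh
    obtain ⟨h₀, hh₀, rfl⟩ := Subgroup.mem_map.mp hh
    obtain ⟨x, hx, rfl⟩ := Subgroup.mem_map.mp hy
    refine Subgroup.mem_map.mpr ⟨h₀ * x * h₀⁻¹, hS.conj_mem h₀ hh₀ x hx, ?_⟩
    simp only [map_mul, map_inv]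
  · rw [hta, hst, ← Subgroup.map_inf _ _ _ hinj, hS.inf_eq_bot, Subgroup.map_bot]
  · rw [hta, hst, hst, ← Subgroup.map_inf _ _ _ hinj, ← Subgroup.map_sup, hS.sup_eq]
  · rw [Subgroup.card_map_of_injective hinj]
    exact hS.even_card
  · rw [hta, hst, hst, ← Subgroup.map_inf _ _ _ hinj, Subgroup.card_map_of_injective hinj]
    exact hS.odd_card

end conjsetup

section prod

variable {G Ω : Type*} [Group G] [Finite G] [MulAction G Ω] {a : Ω} {t : G} {Q : Subgroup G}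

/-- two involutions with the same fixed point `e ≠ a` are conjugate under `G_a` -/
theorem ro_invol_conj_stab (hS : Cfsg.IsRankOneSetup G Ω a t Q) {e : Ω} (he : e ≠ a) {v w : G}
    (hv1 : v ≠ 1) (hv2 : v * v = 1) (hve : v • e = e) (hw1 : w ≠ 1) (hw2 : w * w = 1)
    (hwe : w • e = e) : ∃ h ∈ stabilizer G a, h * v * h⁻¹ = w := by
  obtain ⟨g₀, rfl, hg₀ta⟩ := ro_two_trans hS (ro_ta_ne hS).symm he
  have hS' := ro_conj_setup hS g₀
  have hta : (g₀ * t * g₀⁻¹) • g₀ • a = a := by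
    rw [mul_smul, mul_smul, inv_smul_smul, hg₀ta]
  have hvI : v ∈ Cfsg.involutionsIn (stabilizer G (g₀ • a) : Set G) :=
    ⟨mem_stabilizer_iff.mpr hve, hv1, hv2⟩
  have hwI : w ∈ Cfsg.involutionsIn (stabilizer G (g₀ • a) : Set G) :=
    ⟨mem_stabilizer_iff.mpr hwe, hw1, hw2⟩
  obtain ⟨k, hk, hkv⟩ := ro_inverted_trans hS' hvI hwI
  have hka : k ∈ stabilizer G a := by
    have := hk.1.2
    rwa [hta] at this
  exact ⟨k⁻¹, (stabilizer G a).inv_mem hka, by rw [inv_inv]; exact hkv⟩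

/-- if `(u v)² ≠ 1` then the involutions `u`, `v` have different fixed points -/
theorem ro_fix_ne (hS : Cfsg.IsRankOneSetup G Ω a t Q)
    (h2 : ∃ x y : G, x ≠ 1 ∧ y ≠ 1 ∧ x ≠ y ∧ x * x = 1 ∧ y * y = 1 ∧ x * y = y * x)
    {u v : G} (hu1 : u ≠ 1) (hu2 : u * u = 1) (hv1 : v ≠ 1) (hv2 : v * v = 1)
    (hx : (u * v) * (u * v) ≠ 1) {c : Ω} (hcu : u • c = c) (hcv : v • c = c) : False := by
  haveI := ro_pretrans hS
  obtain ⟨g, hg⟩ := MulAction.exists_smul_eq G c a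
  have hginv : g⁻¹ • a = c := by rw [inv_smul_eq_iff, hg]
  have hu₁ : g * u * g⁻¹ ∈ Cfsg.involutionsIn (stabilizer G a : Set G) := by
    refine ⟨?_, invol_conj_ne_one hu1 g, invol_conj_sq hu2 g⟩
    change g * u * g⁻¹ ∈ stabilizer G a
    rw [mem_stabilizer_iff, mul_smul, mul_smul, hginv, hcu, hg]
  have hv₁ : g * v * g⁻¹ ∈ Cfsg.involutionsIn (stabilizer G a : Set G) := by
    refine ⟨?_, invol_conj_ne_one hv1 g, invol_conj_sq hv2 g⟩
    change g * v * g⁻¹ ∈ stabilizer G a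
    rw [mem_stabilizer_iff, mul_smul, mul_smul, hginv, hcv, hg]
  have h3 : (g * u * g⁻¹) * (g * v * g⁻¹) * ((g * u * g⁻¹) * (g * v * g⁻¹)) = 1 := by
    rcases ro_invol_mul hS h2 hu₁ hv₁ with h | h
    · rw [h, one_mul]
    · exact h.2.2
  apply hx
  have e1 : (u * v) * (u * v) =
      g⁻¹ * ((g * u * g⁻¹) * (g * v * g⁻¹) * ((g * u * g⁻¹) * (g * v * g⁻¹))) * g := by group
  rw [e1, h3]; group

/-- a product of two involutions with `(u v)² ≠ 1` is conjugate to `u' t`, `u'` an involution of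
`G_a` -/
theorem ro_prod_conj (hS : Cfsg.IsRankOneSetup G Ω a t Q)
    (h2 : ∃ x y : G, x ≠ 1 ∧ y ≠ 1 ∧ x ≠ y ∧ x * x = 1 ∧ y * y = 1 ∧ x * y = y * x)
    {u v : G} (hu1 : u ≠ 1) (hu2 : u * u = 1) (hv1 : v ≠ 1) (hv2 : v * v = 1)
    (hx : (u * v) * (u * v) ≠ 1) :
    ∃ g : G, ∃ u' ∈ Cfsg.involutionsIn (stabilizer G a : Set G), g * (u * v) * g⁻¹ = u' * t := by
  obtain ⟨cu, hcu, -⟩ := ro_invol_fix hS hu1 hu2
  obtain ⟨cv, hcv, -⟩ := ro_invol_fix hS hv1 hv2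
  have hne : cu ≠ cv := by
    intro h
    rw [← h] at hcv
    exact ro_fix_ne hS h2 hu1 hu2 hv1 hv2 hx hcu hcv
  obtain ⟨e, hte, hea, -⟩ := ro_t_fix hS
  obtain ⟨g, hgu, hgv⟩ := ro_two_trans hS hne (Ne.symm hea)
  have hginvu : g⁻¹ • a = cu := by rw [inv_smul_eq_iff, hgu]
  have hginvv : g⁻¹ • e = cv := by rw [inv_smul_eq_iff, hgv]
  have hu₁ : g * u * g⁻¹ ∈ Cfsg.involutionsIn (stabilizer G a : Set G) := by
    refine ⟨?_, invol_conj_ne_one hu1 g, invol_conj_sq hu2 g⟩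
    change g * u * g⁻¹ ∈ stabilizer G a
    rw [mem_stabilizer_iff, mul_smul, mul_smul, hginvu, hcu, hgu]
  have hv₁e : (g * v * g⁻¹) • e = e := by
    rw [mul_smul, mul_smul, hginvv, hcv, hgv]
  obtain ⟨h, hh, hhv⟩ := ro_invol_conj_stab hS hea (invol_conj_ne_one hv1 g) (invol_conj_sq hv2 g)
    hv₁e hS.ne_one hS.mul_self hte
  refine ⟨h * g, h * (g * u * g⁻¹) * h⁻¹, ro_invol_conj_mem hS hu₁ hh, ?_⟩
  rw [← hhv]; group

/-- the centralizer of a product of two involutions with `(u v)² ≠ 1` has odd order -/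
theorem ro_prod_cent_odd (hS : Cfsg.IsRankOneSetup G Ω a t Q)
    (h2 : ∃ x y : G, x ≠ 1 ∧ y ≠ 1 ∧ x ≠ y ∧ x * x = 1 ∧ y * y = 1 ∧ x * y = y * x)
    {u v : G} (hu1 : u ≠ 1) (hu2 : u * u = 1) (hv1 : v ≠ 1) (hv2 : v * v = 1)
    (hx : (u * v) * (u * v) ≠ 1) : Odd (Nat.card ↥(Subgroup.centralizer {u * v})) := by
  rw [← Nat.not_even_iff_odd]
  intro heven
  have huinv : u⁻¹ = u := inv_eq_of_mul_eq_one_right hu2
  have hvinv : v⁻¹ = v := inv_eq_of_mul_eq_one_right hv2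
  have hinvx : u * (u * v) * u⁻¹ = (u * v)⁻¹ := by
    rw [mul_inv_rev, huinv, hvinv]
    calc u * (u * v) * u = (u * u) * v * u := by group
      _ = v * u := by rw [hu2, one_mul]
  have hnorm : ∀ c ∈ Subgroup.centralizer {u * v}, u * c * u⁻¹ ∈ Subgroup.centralizer {u * v} := by
    intro c hc
    rw [Subgroup.mem_centralizer_singleton_iff] at hc ⊢
    -- `c * x = x * c`; want `(u c u⁻¹) * x = x * (u c u⁻¹)`
    have h3 : c * (u * v)⁻¹ = (u * v)⁻¹ * c := by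
      calc c * (u * v)⁻¹ = (u * v)⁻¹ * ((u * v) * c) * (u * v)⁻¹ := by group
        _ = (u * v)⁻¹ * (c * (u * v)) * (u * v)⁻¹ := by rw [hc]
        _ = (u * v)⁻¹ * c := by group
    have hA : u⁻¹ * (u * v) * u = (u * v)⁻¹ := by
      have h4 := hinvx
      rw [huinv] at h4 ⊢
      exact h4
    have hB : u * (u * v)⁻¹ * u⁻¹ = u * v := by
      have : u * (u * v)⁻¹ * u⁻¹ = (u * (u * v) * u⁻¹)⁻¹ := by group
      rw [this, hinvx, inv_inv]
    calc u * c * u⁻¹ * (u * v) = u * c * (u⁻¹ * (u * v) * u) * u⁻¹ := by group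
      _ = u * c * (u * v)⁻¹ * u⁻¹ := by rw [hA]
      _ = u * (c * (u * v)⁻¹) * u⁻¹ := by group
      _ = u * ((u * v)⁻¹ * c) * u⁻¹ := by rw [h3]
      _ = (u * (u * v)⁻¹ * u⁻¹) * (u * c * u⁻¹) := by group
      _ = u * v * (u * c * u⁻¹) := by rw [hB]
  obtain ⟨w, hwC, hw1, hw2, huw⟩ :=
    Cfsg.Agent.Helper1.InvolCount.exists_invol_commute _ heven hu2 hnorm
  rw [Subgroup.mem_centralizer_singleton_iff] at hwC
  obtain ⟨c, hc, -⟩ := ro_invol_fix hS hw1 hw2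
  have hcu : u • c = c := ro_comm_fix hS hw1 hw2 huw.symm hc
  have hvw : w * v = v * w := by
    have e1 : v = u * (u * v) := by
      calc v = (u * u) * v := by rw [hu2, one_mul]
        _ = u * (u * v) := by group
    calc w * v = w * (u * (u * v)) := by rw [← e1]
      _ = (w * u) * (u * v) := by group
      _ = (u * w) * (u * v) := by rw [huw]
      _ = u * (w * (u * v)) := by group
      _ = u * ((u * v) * w) := by rw [hwC]
      _ = (u * (u * v)) * w := by group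
      _ = v * w := by rw [← e1]
  have hcv : v • c = c := ro_comm_fix hS hw1 hw2 hvw hc
  exact ro_fix_ne hS h2 hu1 hu2 hv1 hv2 hx hcu hcv

end prod

end Cfsg.Agent.Helper1.RankOneQ
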