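import Mathlib
import Cfsg.Agent.Lead.CoprimeAbelian
import Cfsg.Agent.Helper7.Hyperplane

/-!
# Hyperplane decomposition of a coprime abelian module (for B&G Theorem 3.6, S1444)

`V` an abelian `p`-group, `Q` an elementary abelian `q`-group (`q ≠ p`) normalizing `V` with
`C_V(Q) = 1`: then `|V| = ∏_{B hyperplane of Q} |C_V(B)|`.
-/

set_option autoImplicit false
set_option linter.unusedSectionVars false
open Subgroup

namespace Cfsg.Agent.Helper1.BG36L1

open Cfsg.Agent.Lead
open scoped IsMulCommutative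

variable {X : Type*} [Group X]

theorem conjEnd_traceMap_comm (V A : Subgroup X) [IsMulCommutative V] [Finite A]
    (hAV : A ≤ normalizer (V : Set X)) (c : normalizer (V : Set X))
    (hc : ∀ a : A, c * Subgroup.inclusion hAV a = Subgroup.inclusion hAV a * c) (v : V) :
    conjEnd V c (traceMap V A hAV v) = traceMap V A hAV (conjEnd V c v) := by
  have := Fintype.ofFinite A
  rw [traceMap_apply, traceMap_apply, map_prod]
  refine Finset.prod_congr rfl (fun a _ => ?_)
  rw [← conjEnd_mul, hc a, conjEnd_mul]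

/-- the trace over `A` of `v ∈ C_V(B)` is centralized by `A` and by `B` when `A`, `B` lie in an
abelian group `Q` normalizing `V`. -/
theorem traceMap_mem_centralizer (V Q A B : Subgroup X) [IsMulCommutative V] [Finite A]
    (Qcomm : ∀ a ∈ Q, ∀ b ∈ Q, a * b = b * a)
    (QV : Q ≤ normalizer (V : Set X)) (hAQ : A ≤ Q) (hBQ : B ≤ Q)
    (v : V) (hv : (v : X) ∈ centralizer (B : Set X)) :
    ((traceMap V A (hAQ.trans QV) v : V) : X) ∈ centralizer ((A ⊔ B : Subgroup X) : Set X) := by
  set t : V := traceMap V A (hAQ.trans QV) v with ht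
  -- every `c ∈ Q` with `conj_c v = v` or `c ∈ A` fixes `t`
  have key : ∀ c : X, c ∈ Q → (c ∈ A ∨ c ∈ B) → c * (t : X) = (t : X) * c := by
    intro c hcQ hcase
    have hcN : c ∈ normalizer (V : Set X) := QV hcQ
    have hc : ∀ a : A, (⟨c, hcN⟩ : normalizer (V : Set X)) * Subgroup.inclusion (hAQ.trans QV) a
        = Subgroup.inclusion (hAQ.trans QV) a * ⟨c, hcN⟩ := by
      intro a
      apply Subtype.ext
      exact Qcomm c hcQ a (hAQ a.2)
    have h1 := conjEnd_traceMap_comm V A (hAQ.trans QV) ⟨c, hcN⟩ hc v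
    have h2 : traceMap V A (hAQ.trans QV) (conjEnd V ⟨c, hcN⟩ v) = t := by
      rcases hcase with hcA | hcB
      · exact traceMap_conj V A (hAQ.trans QV) ⟨c, hcA⟩ v
      · have : conjEnd V ⟨c, hcN⟩ v = v := by
          apply Subtype.ext
          rw [conjEnd_apply]
          have := (mem_centralizer_iff.mp hv) c hcB
          change c * (v : X) * c⁻¹ = v
          rw [this]; group
        rw [this]
    rw [h2] at h1
    have h3 := congrArg (fun z : V => (z : X)) h1
    simp only [conjEnd_apply] at h3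
    -- h3 : c * t * c⁻¹ = t
    calc c * (t : X) = (c * (t : X) * c⁻¹) * c := by group
      _ = (t : X) * c := by rw [h3]
  have hle : A ⊔ B ≤ centralizer ({(t : X)} : Set X) := by
    refine sup_le ?_ ?_
    · intro c hc
      rw [mem_centralizer_singleton_iff]
      exact (key c (hAQ hc) (Or.inl hc))
    · intro c hc
      rw [mem_centralizer_singleton_iff]
      exact (key c (hBQ hc) (Or.inr hc))
  rw [mem_centralizer_iff]
  intro h hh
  have := hle hh
  rw [mem_centralizer_singleton_iff] at this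
  exact this

/-- two distinct subgroups of prime relative index in `Q` generate `Q`. -/
theorem sup_eq_of_relIndex_prime {Q B C : Subgroup X} {q : ℕ} (hq : q.Prime)
    (hBQ : B ≤ Q) (hCQ : C ≤ Q) (hB : B.relIndex Q = q) (hC : C.relIndex Q = q) (hne : B ≠ C) :
    B ⊔ C = Q := by
  have hJQ : B ⊔ C ≤ Q := sup_le hBQ hCQ
  have h1 := relIndex_mul_relIndex B (B ⊔ C) Q le_sup_left hJQ
  have h2 := relIndex_mul_relIndex C (B ⊔ C) Q le_sup_right hJQ
  rw [hB] at h1
  rw [hC] at h2
  have hdvd : (B ⊔ C).relIndex Q ∣ q := Dvd.intro_left _ h1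
  rcases (Nat.dvd_prime hq).mp hdvd with h | h
  · exact le_antisymm hJQ (relIndex_eq_one.mp h)
  · exfalso
    rw [h] at h1 h2
    have hq0 : 0 < q := hq.pos
    have h1' : B.relIndex (B ⊔ C) = 1 := by
      have : B.relIndex (B ⊔ C) * q = 1 * q := by rw [h1, one_mul]
      exact Nat.eq_of_mul_eq_mul_right hq0 this
    have h2' : C.relIndex (B ⊔ C) = 1 := by
      have : C.relIndex (B ⊔ C) * q = 1 * q := by rw [h2, one_mul]
      exact Nat.eq_of_mul_eq_mul_right hq0 this
    have hB' : B ⊔ C ≤ B := relIndex_eq_one.mp h1'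
    have hC' : B ⊔ C ≤ C := relIndex_eq_one.mp h2'
    exact hne (le_antisymm (le_sup_left.trans hC') (le_sup_right.trans hB'))

/-- **L1** (hyperplane decomposition): `|V| = ∏_{B hyperplane of Q} |C_V(B)|`. -/
theorem card_eq_prod_hyperplanes [Finite X] (V Q : Subgroup X) (p q : ℕ) [Fact p.Prime]
    [Fact q.Prime] (hpq : p ≠ q)
    (Vcomm : ∀ a ∈ V, ∀ b ∈ V, a * b = b * a) (hV : IsPGroup p V)
    (Qcomm : ∀ a ∈ Q, ∀ b ∈ Q, a * b = b * a) (Qexp : ∀ a ∈ Q, a ^ q = 1)
    (QV : Q ≤ normalizer (V : Set X)) (CVQ : V ⊓ centralizer (Q : Set X) = ⊥)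
    (S : Finset (Subgroup X)) (hS : ∀ B, B ∈ S ↔ B ≤ Q ∧ B.relIndex Q = q) :
    Nat.card V = ∏ B ∈ S, Nat.card ↥(V ⊓ centralizer (B : Set X)) := by
  classical
  have hpP : p.Prime := Fact.out
  have hqP : q.Prime := Fact.out
  have : IsMulCommutative V := ⟨⟨fun a b => Subtype.ext (Vcomm a a.2 b b.2)⟩⟩
  have hQel : Cfsg.IsElementaryAbelian q Q :=
    ⟨⟨⟨fun a b => Subtype.ext (Qcomm a a.2 b b.2)⟩⟩, Qexp⟩
  have hQp : IsPGroup q Q := Helper7.IsElementaryAbelian.isPGroup hQel
  have hqV : ¬ q ∣ Nat.card V := by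
    obtain ⟨k, hk⟩ := hV.exists_card_eq
    rw [hk]
    intro h
    exact hpq ((Nat.prime_dvd_prime_iff_eq hqP hpP).mp (hqP.dvd_of_dvd_pow h)).symm
  -- the family
  let H : S → Subgroup X := fun B => V ⊓ centralizer ((B : Subgroup X) : Set X)
  have hHV : ∀ i, H i ≤ V := fun i => inf_le_left
  have hcomm : Pairwise fun i j : S => ∀ x y : X, x ∈ H i → y ∈ H j → Commute x y := by
    intro i j _ x y hx hy
    exact Vcomm x (hHV i hx) y (hHV j hy)
  -- generation
  have hgen : V ≤ ⨆ i : S, H i := by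
    refine le_trans
      (Helper7.le_iSup_inf_centralizer_hyperplane q (Nat.card Q) Q V rfl hQel hqV QV) ?_
    refine iSup_le ?_
    rintro ⟨B, hBQ, hBi⟩
    obtain ⟨n, hn⟩ := hQp.index (B.subgroupOf Q)
    change B.relIndex Q = q ^ n at hn
    change V ⊓ centralizer (B : Set X) ≤ _
    rcases Nat.lt_or_ge n 1 with h0 | h1
    · have hn0 : n = 0 := by omega
      rw [hn0, pow_zero] at hn
      have hQB : Q ≤ B := relIndex_eq_one.mp hn
      have : V ⊓ centralizer (B : Set X) ≤ V ⊓ centralizer (Q : Set X) :=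
        inf_le_inf_left _ (centralizer_le hQB)
      rw [CVQ] at this
      exact this.trans bot_le
    · have hn1 : n = 1 := by
        by_contra hne
        have h2 : 2 ≤ n := by omega
        have : q ^ 2 ≤ q ^ n := Nat.pow_le_pow_right hqP.pos h2
        have hq2 : 2 ≤ q := hqP.two_le
        rw [hn] at hBi
        nlinarith
      rw [hn1, pow_one] at hn
      exact le_iSup H ⟨B, (hS B).mpr ⟨hBQ, hn⟩⟩
  -- independence
  have hind : iSupIndep H := by
    intro i
    rw [disjoint_iff, eq_bot_iff]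
    intro x hx
    obtain ⟨hxi, hxs⟩ := hx
    obtain ⟨hB0Q, hB0i⟩ := (hS i).mp i.2
    have hB0V : (i : Subgroup X) ≤ normalizer (V : Set X) := hB0Q.trans QV
    have hK : (⨆ (j : S) (_ : j ≠ i), H j) ≤ (traceMap V (i : Subgroup X) hB0V).ker.map V.subtype := by
      refine iSup₂_le ?_
      intro j hji y hy
      obtain ⟨hBjQ, hBji⟩ := (hS j).mp j.2
      have hyV : y ∈ V := hy.1
      have hyC : y ∈ centralizer ((j : Subgroup X) : Set X) := hy.2
      have h1 := traceMap_mem_centralizer V Q (i : Subgroup X) (j : Subgroup X) Qcomm QV hB0Q hBjQ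
        ⟨y, hyV⟩ hyC
      have hne : (i : Subgroup X) ≠ (j : Subgroup X) := fun h => hji (Subtype.ext h.symm)
      rw [sup_eq_of_relIndex_prime hqP hB0Q hBjQ hB0i hBji hne] at h1
      have h2 : ((traceMap V (i : Subgroup X) hB0V ⟨y, hyV⟩ : V) : X) ∈
          V ⊓ centralizer (Q : Set X) := ⟨(traceMap V (i : Subgroup X) hB0V ⟨y, hyV⟩).2, h1⟩
      rw [CVQ, mem_bot] at h2
      refine ⟨⟨y, hyV⟩, ?_, rfl⟩
      rw [SetLike.mem_coe, MonoidHom.mem_ker]
      exact Subtype.ext h2
    obtain ⟨w, hw, hwx⟩ := hK hxs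
    rw [SetLike.mem_coe, MonoidHom.mem_ker] at hw
    have hwC : (w : X) ∈ centralizer (((i : Subgroup X)) : Set X) := by
      have : (w : X) = x := hwx
      rw [this]; exact hxi.2
    rw [traceMap_of_mem_centralizer V (i : Subgroup X) hB0V w hwC] at hw
    have h3 : orderOf w ∣ Nat.card (i : Subgroup X) := orderOf_dvd_of_pow_eq_one hw
    have h4 : orderOf w ∣ Nat.card V := orderOf_dvd_natCard w
    have hcop : (Nat.card (i : Subgroup X)).Coprime (Nat.card V) := by
      obtain ⟨a, ha⟩ := (hQp.to_le hB0Q).exists_card_eq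
      obtain ⟨b, hb⟩ := hV.exists_card_eq
      rw [ha, hb]
      exact Nat.Coprime.pow _ _ ((Nat.coprime_primes hqP hpP).mpr (Ne.symm hpq))
    have h5 : orderOf w = 1 := Nat.eq_one_of_dvd_coprimes hcop h3 h4
    have hw1 : w = 1 := orderOf_eq_one_iff.mp h5
    rw [mem_bot]
    have : (w : X) = x := hwx
    rw [← this, hw1]; rfl
  have hinj := Subgroup.injective_noncommPiCoprod_of_iSupIndep (hcomm := hcomm) hind
  have hrange : (Subgroup.noncommPiCoprod hcomm).range = V := by
    rw [Subgroup.noncommPiCoprod_range]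
    exact le_antisymm (iSup_le hHV) hgen
  calc Nat.card V = Nat.card (Subgroup.noncommPiCoprod hcomm).range := by rw [hrange]
    _ = Nat.card (∀ i : S, H i) := (Nat.card_congr (MonoidHom.ofInjective hinj).toEquiv).symm
    _ = ∏ i : S, Nat.card (H i) := Nat.card_pi
    _ = ∏ B ∈ S, Nat.card ↥(V ⊓ centralizer (B : Set X)) :=
        Finset.prod_coe_sort S (fun B => Nat.card ↥(V ⊓ centralizer (B : Set X)))

end Cfsg.Agent.Helper1.BG36L1
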