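import Mathlib
import Cfsg.Prelude.Def_OddOrderLocal
import Cfsg.Agent.Helper29.BG14D
import Cfsg.Agent.Helper4.BG12T
import Cfsg.Agent.Helper27.BG15F
import Cfsg.Agent.Helper7.Layer

/-!
# B&G Theorem 14.7: the pair lemma

`M` maximal, `K ≠ 1` any Hall `κ(M)`-subgroup, `K* = C_{M_σ}(K)`, `Z = K K*`, `X ≤ K` of prime
order and `L` a maximal subgroup containing `N_G(X)`.
-/

set_option autoImplicit false
set_option linter.unusedSectionVars false
set_option linter.unusedVariables false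
set_option linter.style.haveILetI false

namespace Cfsg.Agent.Helper1.BG147

open Subgroup Cfsg
open Cfsg.Agent.Helper14 (IsSylowIn cj cj_apply map_cj_le_iff map_cj_mul map_cj_one map_cj_normalizer
  mem_normalizer_iff_map_cj map_cj_eq_self_of_mem le_normalizer_of_map_cj_le mem_map_cj
  exists_isSylowIn_ge exists_isSylowIn isSylowIn_of_sylow isSylowIn_iff map_cj_inv_map_cj
  map_cj_map_cj_inv)
open Cfsg.Agent.Helper29.BG14 (Hyp sigma_partition')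

universe u

variable {G : Type u} [Group G] [Finite G]

/-- `M` is maximal with a nontrivial Hall `κ(M)`-subgroup `K` -/
structure PT (M K : Subgroup G) : Prop where
  coatom : IsCoatom M
  hall : Cfsg.IsPiHallOf (Cfsg.kappa M) K M
  ne : K ≠ ⊥

section basic

variable {M K : Subgroup G}

theorem PT.K_le (P : PT M K) : K ≤ M := P.hall.1

theorem PT.not_sigma (P : PT M K) {p : ℕ} (hp : p.Prime) (hd : p ∣ Nat.card K) :
    p ∉ Cfsg.sigma M := (P.hall.2.1 p hp hd).2.2.1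

theorem PT.coprime (P : PT M K) : (Nat.card K).Coprime (Nat.card (Cfsg.sigmaCore M)) := by
  apply Nat.coprime_of_dvd
  intro k hk h1 h2
  exact P.not_sigma hk h1 (Cfsg.Agent.H9.BG12.mem_sigma_of_dvd_card_sigmaCore hk h2)

theorem PT.K_inf_sigmaCore (P : PT M K) : K ⊓ Cfsg.sigmaCore M = ⊥ := by
  rw [← disjoint_iff]
  exact Subgroup.disjoint_of_coprime_natCard P.coprime

theorem ks_le_sigmaCore : Cfsg.sigmaCore M ⊓ centralizer (K : Set G) ≤ Cfsg.sigmaCore M :=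
  inf_le_left

theorem ks_le (M K : Subgroup G) : Cfsg.sigmaCore M ⊓ centralizer (K : Set G) ≤ M :=
  inf_le_left.trans (Cfsg.Agent.H9.BG12.sigmaCore_le M)

theorem ks_comm {k s : G} (hk : k ∈ K)
    (hs : s ∈ Cfsg.sigmaCore M ⊓ centralizer (K : Set G)) : k * s = s * k :=
  (mem_centralizer_iff.mp hs.2) k hk

theorem ks_le_normalizer : Cfsg.sigmaCore M ⊓ centralizer (K : Set G) ≤ normalizer (K : Set G) :=
  inf_le_right.trans (centralizer_le_normalizer _)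

theorem mem_zz_iff {x : G} : x ∈ K ⊔ (Cfsg.sigmaCore M ⊓ centralizer (K : Set G)) ↔
    ∃ k ∈ K, ∃ s ∈ Cfsg.sigmaCore M ⊓ centralizer (K : Set G), k * s = x :=
  Cfsg.Agent.Helper7.mem_sup_of_le_normalizer ks_le_normalizer

theorem PT.zz_le (P : PT M K) : K ⊔ (Cfsg.sigmaCore M ⊓ centralizer (K : Set G)) ≤ M :=
  sup_le P.K_le (ks_le M K)

theorem PT.zz_inf_sigmaCore (P : PT M K) :
    (K ⊔ (Cfsg.sigmaCore M ⊓ centralizer (K : Set G))) ⊓ Cfsg.sigmaCore M =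
      Cfsg.sigmaCore M ⊓ centralizer (K : Set G) := by
  apply le_antisymm
  · rintro x ⟨hx1, hx2⟩
    obtain ⟨k, hk, s, hs, rfl⟩ := mem_zz_iff.mp hx1
    have hk' : k ∈ K ⊓ Cfsg.sigmaCore M := by
      refine ⟨hk, ?_⟩
      have : k = k * s * s⁻¹ := by group
      rw [this]
      exact (Cfsg.sigmaCore M).mul_mem hx2 ((Cfsg.sigmaCore M).inv_mem hs.1)
    rw [P.K_inf_sigmaCore, mem_bot] at hk'
    rw [hk', one_mul]
    exact hs
  · exact le_inf le_sup_right inf_le_left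

theorem PT.K_inf_ks (P : PT M K) : K ⊓ (Cfsg.sigmaCore M ⊓ centralizer (K : Set G)) = ⊥ := by
  apply le_antisymm _ bot_le
  rw [← P.K_inf_sigmaCore]
  exact inf_le_inf_left _ inf_le_left

theorem PT.card_zz (P : PT M K) :
    Nat.card ↥(K ⊔ (Cfsg.sigmaCore M ⊓ centralizer (K : Set G))) =
      Nat.card K * Nat.card ↥(Cfsg.sigmaCore M ⊓ centralizer (K : Set G)) := by
  have hc : Cfsg.IsComplIn K (Cfsg.sigmaCore M ⊓ centralizer (K : Set G))
      (K ⊔ (Cfsg.sigmaCore M ⊓ centralizer (K : Set G))) := by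
    refine ⟨le_sup_left, le_sup_right, P.K_inf_ks, ?_⟩
    intro m hm
    obtain ⟨k, hk, s, hs, rfl⟩ := mem_zz_iff.mp hm
    exact ⟨k, hk, s, hs, rfl⟩
  exact (Cfsg.Agent.H9.BG12.card_mul_of_isComplIn hc).symm

theorem conj_mem_core {L : Subgroup G} {m y : G} (hm : m ∈ L) (hy : y ∈ Cfsg.sigmaCore L) :
    m * y * m⁻¹ ∈ Cfsg.sigmaCore L :=
  (mem_normalizer_iff.mp (Cfsg.Agent.H9.BG12.le_normalizer_sigmaCore L hm) y).mp hy

theorem exists_ne_one_of_prime_card {X : Subgroup G} (hXp : (Nat.card X).Prime) :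
    ∃ x ∈ X, x ≠ 1 := by
  have h1 : X ≠ ⊥ := by
    intro h0
    rw [h0, Subgroup.card_bot] at hXp
    exact Nat.not_prime_one hXp
  obtain ⟨a, ha⟩ := (Subgroup.ne_bot_iff_exists_ne_one).mp h1
  exact ⟨a.1, a.2, fun h => ha (Subtype.ext h)⟩

/-- a `π`-subgroup `B ≤ M` normalized by a Hall `π`-subgroup `H` of `M` lies in `H` -/
theorem le_of_hall_of_le_normalizer {π : Set ℕ} {H M B : Subgroup G}
    (hH : Cfsg.IsPiHallOf π H M) (hB : B ≤ M)
    (hBπ : ∀ p : ℕ, p.Prime → p ∣ Nat.card B → p ∈ π)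
    (hn : H ≤ normalizer (B : Set G)) : B ≤ H := by
  have h1 := Cfsg.Agent.Helper17.card_sup_mul_card_inf B H hn
  have hT : B ⊔ H ≤ M := sup_le hB hH.1
  have h2 : H.relIndex (B ⊔ H) = 1 := by
    by_contra hne
    obtain ⟨p, hp, hpd⟩ := Nat.exists_prime_and_dvd hne
    have h3 : H.relIndex (B ⊔ H) ∣ H.relIndex M :=
      Dvd.intro _ (Subgroup.relIndex_mul_relIndex H (B ⊔ H) M le_sup_right hT)
    have h4 : p ∣ Nat.card B * Nat.card H :=
      (hpd.trans (Subgroup.relIndex_dvd_card H (B ⊔ H))).trans (Dvd.intro _ h1)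
    have hpπ : p ∈ π := by
      rcases (Nat.Prime.dvd_mul hp).mp h4 with h5 | h5
      · exact hBπ p hp h5
      · exact hH.2.1 p hp h5
    exact hH.2.2 p hp hpπ (hpd.trans h3)
  exact le_sup_left.trans (Subgroup.relIndex_eq_one.mp h2)

end basic

/-- `A ≠ B` maximal, `B` with Hall `κ(B)`-subgroup `K_B ≠ 1`; `x ∈ A_σ ∩ B` nontrivial, `y ∈ A` of
prime order `r ∉ σ(A)` in `K_B* = C_{B_σ}(K_B)` commuting with `x`: then `r ∈ κ(A)` and
`C_G(x) ≤ A`. -/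
theorem kappa_of_comm (h : Hyp G) {A B KB : Subgroup G} (hA : IsCoatom A) (PB : PT B KB)
    (hAB : A ≠ B) {x y : G} (hxA : x ∈ Cfsg.sigmaCore A) (hx1 : x ≠ 1) (hxB : x ∈ B)
    (hyK : y ∈ Cfsg.sigmaCore B ⊓ centralizer (KB : Set G)) (hyA : y ∈ A)
    (hcomm : x * y = y * x) {r : ℕ} (hr : r.Prime) (hoy : orderOf y = r)
    (hrA : r ∉ Cfsg.sigma A) :
    r ∈ Cfsg.kappa A ∧ centralizer ({x} : Set G) ≤ A := by
  haveI : Fact r.Prime := ⟨hr⟩
  have hy1 : y ≠ 1 := by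
    intro h0
    rw [h0, orderOf_one] at hoy
    exact hr.one_lt.ne hoy
  have hrB : r ∈ Cfsg.sigma B := by
    apply Cfsg.Agent.H9.BG12.mem_sigma_of_dvd_card_sigmaCore hr
    rw [← hoy]
    exact orderOf_dvd_natCard (⟨y, hyK.1⟩ : ↥(Cfsg.sigmaCore B)) |> fun h0 => by
      rwa [← Subgroup.orderOf_coe] at h0
  have hσ' : ∀ q : ℕ, q.Prime → q ∣ orderOf y → q ∉ Cfsg.sigma A := by
    intro q hq hqd
    rw [hoy] at hqd
    rw [(Nat.prime_dvd_prime_iff_eq hq hr).mp hqd]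
    exact hrA
  have hmem : y ∈ A ⊓ centralizer ({x} : Set G) :=
    Subgroup.mem_inf.mpr ⟨hyA, mem_centralizer_singleton_iff.mpr hcomm.symm⟩
  rcases h.h1432 A hA x hxA hx1 y hmem hy1 hσ' with h1 | h2
  · exact ⟨h1.1 r hr (by rw [hoy]), h1.2⟩
  · exfalso
    have hτ : r ∈ Cfsg.tau2 A := h2.1 r hr (by rw [hoy])
    obtain ⟨E, hEA, hEe, hEc⟩ := Cfsg.Agent.Helper4.BG12T.exists_elemAb_sq_of_tau2 hτ
    have hEp : IsPGroup r E := Cfsg.Agent.Helper4.BG10.isPGroup_of_elementary hEe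
    obtain ⟨Pa, hPa, hEPa⟩ := exists_isSylowIn_ge hEA hEp
    have hyp : IsPGroup r (zpowers y) := by
      rw [IsPGroup.iff_card]
      exact ⟨1, by rw [Nat.card_zpowers, hoy, pow_one]⟩
    obtain ⟨Py, hPy, hyPy⟩ := exists_isSylowIn_ge ((zpowers_le).mpr hyA) hyp
    have hPyB : Py ≤ Cfsg.sigmaCore B := by
      refine (h.h1431 B PB.coatom KB PB.hall PB.ne).2.2.2 Py ?_ ?_
      · intro q hq hqd
        obtain ⟨k, hk⟩ := IsPGroup.iff_card.mp hPy.2.1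
        rw [hk] at hqd
        rw [(Nat.prime_dvd_prime_iff_eq hq hr).mp (hq.dvd_of_dvd_pow hqd)]
        exact hrB
      · intro h0
        have : y ∈ Py ⊓ (Cfsg.sigmaCore B ⊓ centralizer (KB : Set G)) :=
          ⟨hyPy (mem_zpowers _), hyK⟩
        rw [h0, mem_bot] at this
        exact hy1 this
    obtain ⟨l, hl, hconj⟩ := hPa.exists_conj hPy
    have hE'B : E.map (cj l) ≤ B := by
      refine (Subgroup.map_mono hEPa).trans ?_
      rw [← hconj]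
      exact hPyB.trans (Cfsg.Agent.H9.BG12.sigmaCore_le B)
    have hE'A : E.map (cj l) ≤ A := by
      refine (Subgroup.map_mono hEA).trans ?_
      rw [map_cj_eq_self_of_mem hl]
    have hE'e : Cfsg.IsElementaryAbelian r (E.map (cj l)) :=
      Cfsg.Agent.Helper27.BG15.isElementaryAbelian_map _ hEe
    have hE'c : Nat.card (E.map (cj l)) = r ^ 2 := by
      rw [Cfsg.Agent.Helper16.BG11.card_map_cj]; exact hEc
    have h5 := (h.h1417 A hA r hτ (E.map (cj l)) ⟨hE'A, hE'e, hE'c⟩).2.2.2.2.1 B PB.coatom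
      hAB.symm hE'B
    have h6 : x ∈ Cfsg.sigmaCore A ⊓ B := ⟨hxA, hxB⟩
    rw [h5, mem_bot] at h6
    exact hx1 h6

section pair

variable (h : Hyp G) {M K X L : Subgroup G} (P : PT M K) (hX : X ≤ K)
  (hXp : (Nat.card X).Prime) (hL : IsCoatom L) (hNL : normalizer (X : Set G) ≤ L)

include h P hX hXp hL hNL

theorem pair_X_le : X ≤ Cfsg.sigmaCore L :=
  ((h.h1430 M P.coatom K P.hall P.ne).2.2 X hX hXp).2.2 L hL hNL

theorem pair_zz_le : K ⊔ (Cfsg.sigmaCore M ⊓ centralizer (K : Set G)) ≤ L := by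
  rw [← ((h.h1430 M P.coatom K P.hall P.ne).2.2 X hX hXp).1]
  exact inf_le_right.trans hNL

theorem pair_mem_sigma : Nat.card X ∈ Cfsg.sigma L :=
  Cfsg.Agent.H9.BG12.mem_sigma_of_dvd_card_sigmaCore hXp
    (Subgroup.card_dvd_of_le (pair_X_le h P hX hXp hL hNL))

omit h hL hNL in
theorem pair_not_sigma : Nat.card X ∉ Cfsg.sigma M :=
  P.not_sigma hXp (Subgroup.card_dvd_of_le hX)

theorem pair_not_conj (g : G) : L ≠ M.map (cj g) := by
  intro hLM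
  haveI : Fact (Nat.card X).Prime := ⟨hXp⟩
  have h1 := Cfsg.Agent.Helper16.BG11.mem_sigma_map_cj g⁻¹ (pair_mem_sigma h P hX hXp hL hNL)
  rw [hLM, map_cj_map_cj_inv] at h1
  exact pair_not_sigma P hX hXp h1

theorem pair_ne : L ≠ M := by
  have := pair_not_conj h P hX hXp hL hNL 1
  rwa [map_cj_one] at this

theorem pair_sigma_disj {q : ℕ} (hqM : q ∈ Cfsg.sigma M) : q ∉ Cfsg.sigma L := by
  intro hqL
  obtain ⟨g, hg⟩ := sigma_partition' h P.coatom hL hqM hqL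
  exact pair_not_conj h P hX hXp hL hNL g hg

theorem pair_core_inf : Cfsg.sigmaCore M ⊓ Cfsg.sigmaCore L = ⊥ := by
  rw [← disjoint_iff]
  apply Subgroup.disjoint_of_coprime_natCard
  apply Nat.coprime_of_dvd
  intro q hq h1 h2
  exact pair_sigma_disj h P hX hXp hL hNL
    (Cfsg.Agent.H9.BG12.mem_sigma_of_dvd_card_sigmaCore hq h1)
    (Cfsg.Agent.H9.BG12.mem_sigma_of_dvd_card_sigmaCore hq h2)

theorem pair_comm {d x : G} (hd : d ∈ Cfsg.sigmaCore M ⊓ L) (hx : x ∈ X) : d * x = x * d := by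
  have hxL : x ∈ Cfsg.sigmaCore L := pair_X_le h P hX hXp hL hNL hx
  have hxM : x ∈ M := P.K_le (hX hx)
  have h1 : d * x * d⁻¹ * x⁻¹ ∈ Cfsg.sigmaCore M := by
    have h0 : x * d⁻¹ * x⁻¹ ∈ Cfsg.sigmaCore M :=
      conj_mem_core hxM ((Cfsg.sigmaCore M).inv_mem hd.1)
    have e : d * x * d⁻¹ * x⁻¹ = d * (x * d⁻¹ * x⁻¹) := by group
    rw [e]; exact (Cfsg.sigmaCore M).mul_mem hd.1 h0
  have h2 : d * x * d⁻¹ * x⁻¹ ∈ Cfsg.sigmaCore L :=
    (Cfsg.sigmaCore L).mul_mem (conj_mem_core hd.2 hxL) ((Cfsg.sigmaCore L).inv_mem hxL)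
  have h3 : d * x * d⁻¹ * x⁻¹ ∈ Cfsg.sigmaCore M ⊓ Cfsg.sigmaCore L := ⟨h1, h2⟩
  rw [pair_core_inf h P hX hXp hL hNL, mem_bot] at h3
  calc d * x = (d * x * d⁻¹ * x⁻¹) * (x * d) := by group
    _ = x * d := by rw [h3, one_mul]

/-- `M_σ ∩ L = K*` -/
theorem pair_sigmaCore_inf :
    Cfsg.sigmaCore M ⊓ L = Cfsg.sigmaCore M ⊓ centralizer (K : Set G) := by
  apply le_antisymm
  · intro d hd
    obtain ⟨x, hx, hx1⟩ := exists_ne_one_of_prime_card hXp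
    have hc1 := (h.h1430 M P.coatom K P.hall P.ne).1 x (hX hx) hx1
    rw [← hc1]
    refine Subgroup.mem_inf.mpr ⟨hd.1, ?_⟩
    rw [mem_centralizer_singleton_iff]
    exact pair_comm h P hX hXp hL hNL hd hx
  · exact le_inf inf_le_left (le_sup_right.trans (pair_zz_le h P hX hXp hL hNL))

/-- every prime divisor of `|K*|` lies in `κ(L)`, and `C_G(X) ≤ L` -/
theorem pair_kappa {r : ℕ} (hr : r.Prime)
    (hrd : r ∣ Nat.card ↥(Cfsg.sigmaCore M ⊓ centralizer (K : Set G))) :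
    r ∈ Cfsg.kappa L ∧ centralizer (X : Set G) ≤ L := by
  haveI : Fact r.Prime := ⟨hr⟩
  obtain ⟨y, hy⟩ := exists_prime_orderOf_dvd_card'
    (G := ↥(Cfsg.sigmaCore M ⊓ centralizer (K : Set G))) r hrd
  obtain ⟨x, hx, hx1⟩ := exists_ne_one_of_prime_card hXp
  have hxL : x ∈ Cfsg.sigmaCore L := pair_X_le h P hX hXp hL hNL hx
  have hyK : (y : G) ∈ Cfsg.sigmaCore M ⊓ centralizer (K : Set G) := y.2
  have hyL : (y : G) ∈ L := pair_zz_le h P hX hXp hL hNL (mem_sup_right hyK)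
  have hcomm : x * (y : G) = (y : G) * x := ks_comm (hX hx) hyK
  have hoy : orderOf (y : G) = r := by rw [Subgroup.orderOf_coe]; exact hy
  have hrM : r ∈ Cfsg.sigma M :=
    Cfsg.Agent.H9.BG12.mem_sigma_of_dvd_card_sigmaCore hr
      (hrd.trans (Subgroup.card_dvd_of_le inf_le_left))
  have h1 := kappa_of_comm h hL P (pair_ne h P hX hXp hL hNL) hxL hx1 (P.K_le (hX hx)) hyK hyL
    hcomm hr hoy (pair_sigma_disj h P hX hXp hL hNL hrM)
  exact ⟨h1.1, (centralizer_le (Set.singleton_subset_iff.mpr hx)).trans h1.2⟩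

/-- a Hall `κ(L)`-subgroup `K₁` of `L` containing `K*` -/
theorem pair_exists_K1 : ∃ K₁ : Subgroup G, PT L K₁ ∧
    Cfsg.sigmaCore M ⊓ centralizer (K : Set G) ≤ K₁ := by
  have hsolv := Cfsg.Agent.Helper10.BG16.isSolvable_coatom h.hG hL
  have hks1 := Cfsg.Agent.Helper10.BG16.kstar_ne_bot h.h1430 P.coatom P.hall P.ne
  obtain ⟨K₁, hK₁, hle⟩ := Cfsg.Agent.Lead.exists_isPiHallOf_ge (π := Cfsg.kappa L) hsolv
    ((le_sup_right (a := K)).trans (pair_zz_le h P hX hXp hL hNL))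
    (fun r hr hd => (pair_kappa h P hX hXp hL hNL hr hd).1)
  exact ⟨K₁, ⟨hL, hK₁, ne_bot_of_le_ne_bot hks1 hle⟩, hle⟩

end pair

section pair2

variable (h : Hyp G) {M K X L K₁ : Subgroup G} (P : PT M K) (hX : X ≤ K)
  (hXp : (Nat.card X).Prime) (hL : IsCoatom L) (hNL : normalizer (X : Set G) ≤ L)
  (P₁ : PT L K₁) (hle : Cfsg.sigmaCore M ⊓ centralizer (K : Set G) ≤ K₁)

include h P hX hXp hL hNL P₁ hle

omit hX hXp hL hNL P₁ hle in
theorem exists_ks_prime : ∃ y ∈ Cfsg.sigmaCore M ⊓ centralizer (K : Set G),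
    (orderOf y).Prime := by
  have hks1 := Cfsg.Agent.Helper10.BG16.kstar_ne_bot h.h1430 P.coatom P.hall P.ne
  have hc : Nat.card ↥(Cfsg.sigmaCore M ⊓ centralizer (K : Set G)) ≠ 1 :=
    fun h0 => hks1 (Subgroup.card_eq_one.mp h0)
  obtain ⟨r, hr, hrd⟩ := Nat.exists_prime_and_dvd hc
  haveI : Fact r.Prime := ⟨hr⟩
  obtain ⟨y, hy⟩ := exists_prime_orderOf_dvd_card'
    (G := ↥(Cfsg.sigmaCore M ⊓ centralizer (K : Set G))) r hrd
  refine ⟨y, y.2, ?_⟩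
  rw [Subgroup.orderOf_coe, hy]; exact hr

/-- `X ≤ K₁* = C_{L_σ}(K₁)` -/
theorem pair2_X_le : X ≤ Cfsg.sigmaCore L ⊓ centralizer (K₁ : Set G) := by
  obtain ⟨y, hyK, hyp⟩ := exists_ks_prime h P
  have hy1 : y ≠ 1 := by
    intro h0; rw [h0, orderOf_one] at hyp; exact Nat.not_prime_one hyp
  rw [← (h.h1430 L hL K₁ P₁.hall P₁.ne).1 y (hle hyK) hy1]
  intro x hx
  refine Subgroup.mem_inf.mpr ⟨pair_X_le h P hX hXp hL hNL hx, ?_⟩
  rw [mem_centralizer_singleton_iff]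
  exact ks_comm (hX hx) hyK

omit hX hXp hL hNL P₁ hle in
/-- `N_G(Y₀) ≤ M` for `1 ≠ Y₀ ≤ K*` -/
theorem normalizer_le_of_le_ks {Y₀ : Subgroup G}
    (hY : Y₀ ≤ Cfsg.sigmaCore M ⊓ centralizer (K : Set G)) (hY1 : Y₀ ≠ ⊥) :
    normalizer (Y₀ : Set G) ≤ M := by
  intro g hg
  by_contra hgM
  have h1 := (h.h1431 M P.coatom K P.hall P.ne).1 g hgM
  apply hY1
  rw [eq_bot_iff, ← h1]
  intro y hy
  refine Subgroup.mem_inf.mpr ⟨hY hy, ?_⟩
  rw [mem_map_cj]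
  have hg' : g⁻¹ ∈ normalizer (Y₀ : Set G) := inv_mem hg
  have := (mem_normalizer_iff.mp hg' y).mp hy
  rw [inv_inv] at this
  exact ks_le M K (hY this)

/-- `Z = Z₁ ≤ M` -/
theorem pair2_zz_eq : K₁ ⊔ (Cfsg.sigmaCore L ⊓ centralizer (K₁ : Set G)) ≤ M ∧
    K ⊔ (Cfsg.sigmaCore M ⊓ centralizer (K : Set G)) ≤
      K₁ ⊔ (Cfsg.sigmaCore L ⊓ centralizer (K₁ : Set G)) := by
  obtain ⟨y, hyK, hyp⟩ := exists_ks_prime h P
  have hy1 : y ≠ 1 := by
    intro h0; rw [h0, orderOf_one] at hyp; exact Nat.not_prime_one hyp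
  have hY0 : zpowers y ≤ Cfsg.sigmaCore M ⊓ centralizer (K : Set G) := zpowers_le.mpr hyK
  have hY1 : zpowers y ≠ ⊥ := by
    rw [Ne, zpowers_eq_bot]; exact hy1
  have hYp : (Nat.card (zpowers y)).Prime := by rw [Nat.card_zpowers]; exact hyp
  have h3 := ((h.h1430 L hL K₁ P₁.hall P₁.ne).2.2 (zpowers y) (hY0.trans hle) hYp).1
  have hN := normalizer_le_of_le_ks h P hY0 hY1
  refine ⟨?_, ?_⟩
  · rw [← h3]; exact inf_le_right.trans hN
  · rw [← h3]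
    refine sup_le (le_inf ((le_sup_left).trans (pair_zz_le h P hX hXp hL hNL)) ?_)
      (hle.trans (le_sup_left.trans (by rw [h3])))
    refine le_trans ?_ (centralizer_le_normalizer _)
    intro k hk
    rw [mem_centralizer_iff]
    intro z hz
    exact (ks_comm hk (hY0 hz)).symm

/-- `L_σ ∩ M = K₁*` -/
theorem pair2_core_inf :
    Cfsg.sigmaCore L ⊓ M = Cfsg.sigmaCore L ⊓ centralizer (K₁ : Set G) := by
  obtain ⟨y, hyK, hyp⟩ := exists_ks_prime h P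
  have hy1 : y ≠ 1 := by
    intro h0; rw [h0, orderOf_one] at hyp; exact Nat.not_prime_one hyp
  have hyL : y ∈ L := pair_zz_le h P hX hXp hL hNL (mem_sup_right hyK)
  apply le_antisymm
  · intro d hd
    rw [← (h.h1430 L hL K₁ P₁.hall P₁.ne).1 y (hle hyK) hy1]
    refine Subgroup.mem_inf.mpr ⟨hd.1, ?_⟩
    rw [mem_centralizer_singleton_iff]
    have h1 : d * y * d⁻¹ * y⁻¹ ∈ Cfsg.sigmaCore M :=
      (Cfsg.sigmaCore M).mul_mem (conj_mem_core hd.2 hyK.1) ((Cfsg.sigmaCore M).inv_mem hyK.1)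
    have h2 : d * y * d⁻¹ * y⁻¹ ∈ Cfsg.sigmaCore L := by
      have h0 : y * d⁻¹ * y⁻¹ ∈ Cfsg.sigmaCore L :=
        conj_mem_core hyL ((Cfsg.sigmaCore L).inv_mem hd.1)
      have e : d * y * d⁻¹ * y⁻¹ = d * (y * d⁻¹ * y⁻¹) := by group
      rw [e]; exact (Cfsg.sigmaCore L).mul_mem hd.1 h0
    have h3 : d * y * d⁻¹ * y⁻¹ ∈ Cfsg.sigmaCore M ⊓ Cfsg.sigmaCore L := ⟨h1, h2⟩
    rw [pair_core_inf h P hX hXp hL hNL, mem_bot] at h3
    calc d * y = (d * y * d⁻¹ * y⁻¹) * (y * d) := by group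
      _ = y * d := by rw [h3, one_mul]
  · exact le_inf inf_le_left
      (le_sup_right.trans (pair2_zz_eq h P hX hXp hL hNL P₁ hle).1)

/-- every prime divisor of `|K₁*|` lies in `κ(M)` -/
theorem pair2_ks1_kappa {q : ℕ} (hq : q.Prime)
    (hqd : q ∣ Nat.card ↥(Cfsg.sigmaCore L ⊓ centralizer (K₁ : Set G))) :
    q ∈ Cfsg.kappa M := by
  haveI : Fact q.Prime := ⟨hq⟩
  obtain ⟨y, hyK, hyp⟩ := exists_ks_prime h P
  have hy1 : y ≠ 1 := by
    intro h0; rw [h0, orderOf_one] at hyp; exact Nat.not_prime_one hyp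
  have hyL : y ∈ L := pair_zz_le h P hX hXp hL hNL (mem_sup_right hyK)
  obtain ⟨x₂, hx₂⟩ := exists_prime_orderOf_dvd_card'
    (G := ↥(Cfsg.sigmaCore L ⊓ centralizer (K₁ : Set G))) q hqd
  have hx₂K : (x₂ : G) ∈ Cfsg.sigmaCore L ⊓ centralizer (K₁ : Set G) := x₂.2
  have hx₂M : (x₂ : G) ∈ M := (pair2_zz_eq h P hX hXp hL hNL P₁ hle).1 (mem_sup_right hx₂K)
  have hox : orderOf (x₂ : G) = q := by rw [Subgroup.orderOf_coe]; exact hx₂
  have hqL : q ∈ Cfsg.sigma L :=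
    Cfsg.Agent.H9.BG12.mem_sigma_of_dvd_card_sigmaCore hq
      (hqd.trans (Subgroup.card_dvd_of_le inf_le_left))
  have hqM : q ∉ Cfsg.sigma M := fun h0 => pair_sigma_disj h P hX hXp hL hNL h0 hqL
  exact (kappa_of_comm h P.coatom P₁ (pair_ne h P hX hXp hL hNL).symm hyK.1 hy1 hyL hx₂K hx₂M
    (ks_comm (hle hyK) hx₂K) hq hox hqM).1

/-- `K₁* ≤ K` -/
theorem pair2_ks1_le : Cfsg.sigmaCore L ⊓ centralizer (K₁ : Set G) ≤ K := by
  refine le_of_hall_of_le_normalizer P.hall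
    (le_sup_right.trans (pair2_zz_eq h P hX hXp hL hNL P₁ hle).1)
    (fun q hq hqd => pair2_ks1_kappa h P hX hXp hL hNL P₁ hle hq hqd) ?_
  rw [← pair2_core_inf h P hX hXp hL hNL P₁ hle]
  intro k hk
  have hkL : k ∈ L := pair_zz_le h P hX hXp hL hNL (mem_sup_left hk)
  exact Cfsg.Agent.Helper29.BG14.mem_normalizer_inf
    (Cfsg.Agent.H9.BG12.le_normalizer_sigmaCore L hkL) (le_normalizer (P.K_le hk))

/-- `M ∩ L = Z` -/
theorem pair2_inf : M ⊓ L = K ⊔ (Cfsg.sigmaCore M ⊓ centralizer (K : Set G)) := by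
  apply le_antisymm
  · intro d hd
    by_contra hdZ
    have h1 := (h.h1431 M P.coatom K P.hall P.ne).2.1 d hd.1 hdZ
    obtain ⟨x, hx, hx1⟩ := exists_ne_one_of_prime_card hXp
    have hx2 : x ∈ Cfsg.sigmaCore L ⊓ M := by
      rw [pair2_core_inf h P hX hXp hL hNL P₁ hle]
      exact pair2_X_le h P hX hXp hL hNL P₁ hle hx
    have hx3 : d * x * d⁻¹ ∈ Cfsg.sigmaCore L ⊓ M :=
      ⟨conj_mem_core hd.2 hx2.1, M.mul_mem (M.mul_mem hd.1 hx2.2) (M.inv_mem hd.1)⟩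
    rw [pair2_core_inf h P hX hXp hL hNL P₁ hle] at hx3
    have hx4 : d * x * d⁻¹ ∈ K ⊓ K.map (cj d) :=
      ⟨pair2_ks1_le h P hX hXp hL hNL P₁ hle hx3, ⟨x, hX hx, rfl⟩⟩
    rw [h1, mem_bot] at hx4
    apply hx1
    have : x = d⁻¹ * (d * x * d⁻¹) * d := by group
    rw [this, hx4]; group
  · exact le_inf P.zz_le (pair_zz_le h P hX hXp hL hNL)

/-- `Z₁ = Z` -/
theorem pair2_zz : K₁ ⊔ (Cfsg.sigmaCore L ⊓ centralizer (K₁ : Set G)) =
    K ⊔ (Cfsg.sigmaCore M ⊓ centralizer (K : Set G)) := by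
  apply le_antisymm
  · rw [← pair2_inf h P hX hXp hL hNL P₁ hle]
    exact le_inf (pair2_zz_eq h P hX hXp hL hNL P₁ hle).1 P₁.zz_le
  · exact (pair2_zz_eq h P hX hXp hL hNL P₁ hle).2

end pair2

end Cfsg.Agent.Helper1.BG147
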