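import Mathlib
import Cfsg.Prelude.Def_OddOrderLocal
import Cfsg.Agent.Helper1.BG147A

/-!
# B&G Theorem 14.7: the family of `𝒫`-type maximal subgroups sharing `Z`
-/

set_option autoImplicit false
set_option linter.unusedSectionVars false
set_option linter.unusedVariables false
set_option linter.style.haveILetI false

namespace Cfsg.Agent.Helper1.BG147

open Subgroup Cfsg
open Cfsg.Agent.Helper14 (IsSylowIn cj cj_apply map_cj_le_iff map_cj_mul map_cj_one map_cj_normalizer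
  mem_normalizer_iff_map_cj map_cj_eq_self_of_mem le_normalizer_of_map_cj_le mem_map_cj
  exists_isSylowIn_ge exists_isSylowIn isSylowIn_of_sylow isSylowIn_iff map_cj_inv_map_cj
  map_cj_map_cj_inv)
open Cfsg.Agent.Helper29.BG14 (Hyp sigma_partition')

universe u

variable {G : Type u} [Group G] [Finite G]

/-- `σ(M^g) = σ(M)`, one direction suffices -/
theorem sigmaCore_map_cj (hG : Cfsg.IsMinSimpleOddOrder G) {M : Subgroup G} (hM : IsCoatom M)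
    (g : G) : Cfsg.sigmaCore (M.map (cj g)) = (Cfsg.sigmaCore M).map (cj g) := by
  have hM' : IsCoatom (M.map (cj g)) := Cfsg.Agent.Lead.BG9.isCoatom_map_cj hM g
  obtain ⟨⟨hle, hπ, hidx⟩, -, -⟩ := Cfsg.Agent.Helper21.BG12.st1350 hG M hM
  obtain ⟨-, -, huniq⟩ := Cfsg.Agent.Helper21.BG12.st1350 hG (M.map (cj g)) hM'
  symm
  apply huniq
  · rw [← map_cj_normalizer]
    exact Subgroup.map_mono (Cfsg.Agent.H9.BG12.le_normalizer_sigmaCore M)
  · refine ⟨Subgroup.map_mono hle, ?_, ?_⟩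
    · intro p hp hd
      rw [Cfsg.Agent.Helper16.BG11.card_map_cj] at hd
      haveI : Fact p.Prime := ⟨hp⟩
      exact Cfsg.Agent.Helper16.BG11.mem_sigma_map_cj g (hπ p hp hd)
    · intro p hp hpσ hd
      haveI : Fact p.Prime := ⟨hp⟩
      have h1 := Cfsg.Agent.Helper16.BG11.mem_sigma_map_cj g⁻¹ hpσ
      rw [map_cj_map_cj_inv] at h1
      rw [Subgroup.relIndex_map_map_of_injective _ _ (Cfsg.Agent.Helper14.cj_injective g)] at hd
      exact hidx p hp h1 hd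

section split

variable {L KL : Subgroup G}

/-- a subgroup of prime order of `Z = K × K*` lies in `K` or in `K*` -/
theorem le_or_le_of_prime (P : PT L KL) {X : Subgroup G}
    (hX : X ≤ KL ⊔ (Cfsg.sigmaCore L ⊓ centralizer (KL : Set G)))
    (hXp : (Nat.card X).Prime) :
    X ≤ KL ∨ X ≤ Cfsg.sigmaCore L ⊓ centralizer (KL : Set G) := by
  have key : ∀ x ∈ X, ∃ k ∈ KL, ∃ s ∈ Cfsg.sigmaCore L ⊓ centralizer (KL : Set G),
      k * s = x ∧ k ^ Nat.card X = 1 ∧ s ^ Nat.card X = 1 := by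
    intro x hx
    obtain ⟨k, hk, s, hs, rfl⟩ := mem_zz_iff.mp (hX hx)
    have hcomm : Commute k s := ks_comm hk hs
    have h1 : (k * s) ^ Nat.card X = 1 := by
      have := pow_card_eq_one' (G := ↥X) (x := ⟨k * s, hx⟩)
      exact congrArg Subtype.val this
    rw [hcomm.mul_pow] at h1
    have h2 : k ^ Nat.card X ∈ KL ⊓ (Cfsg.sigmaCore L ⊓ centralizer (KL : Set G)) := by
      refine ⟨KL.pow_mem hk _, ?_⟩
      have : k ^ Nat.card X = (s ^ Nat.card X)⁻¹ := eq_inv_of_mul_eq_one_left h1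
      rw [this]
      exact Subgroup.inv_mem _ (Subgroup.pow_mem _ hs _)
    rw [P.K_inf_ks, mem_bot] at h2
    refine ⟨k, hk, s, hs, rfl, h2, ?_⟩
    rw [h2, one_mul] at h1
    exact h1
  by_cases hd : Nat.card X ∣ Nat.card KL
  · left
    intro x hx
    obtain ⟨k, hk, s, hs, rfl, hk1, hs1⟩ := key x hx
    have h1 : orderOf s ∣ Nat.card X := orderOf_dvd_of_pow_eq_one hs1
    have h2 : orderOf s ∣ Nat.card (Cfsg.sigmaCore L) := by
      have := orderOf_dvd_natCard (⟨s, hs.1⟩ : ↥(Cfsg.sigmaCore L))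
      rwa [← Subgroup.orderOf_coe] at this
    have h3 : orderOf s = 1 := by
      rcases (Nat.dvd_prime hXp).mp h1 with h0 | h0
      · exact h0
      · exfalso
        rw [h0] at h2
        have h4 := Nat.Coprime.eq_one_of_dvd (Nat.Coprime.coprime_dvd_left hd P.coprime) h2
        exact hXp.one_lt.ne' h4
    rw [orderOf_eq_one_iff] at h3
    rw [h3, mul_one]
    exact hk
  · right
    intro x hx
    obtain ⟨k, hk, s, hs, rfl, hk1, hs1⟩ := key x hx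
    have h1 : orderOf k ∣ Nat.card X := orderOf_dvd_of_pow_eq_one hk1
    have h2 : orderOf k ∣ Nat.card KL := by
      have := orderOf_dvd_natCard (⟨k, hk⟩ : ↥KL)
      rwa [← Subgroup.orderOf_coe] at this
    have h3 : orderOf k = 1 := by
      rcases (Nat.dvd_prime hXp).mp h1 with h0 | h0
      · exact h0
      · exfalso
        rw [h0] at h2
        exact hd h2
    rw [orderOf_eq_one_iff] at h3
    rw [h3, one_mul]
    exact hs

end split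

/-- the family of maximal subgroups `L` with a nontrivial Hall `κ(L)`-subgroup `K_L` such that
`K_L C_{L_σ}(K_L) = Z` -/
def Fam (Z : Subgroup G) : Set (Subgroup G) :=
  {L | ∃ KL : Subgroup G, PT L KL ∧ KL ⊔ (Cfsg.sigmaCore L ⊓ centralizer (KL : Set G)) = Z}

theorem exists_coatom_ge_normalizer (hG : Cfsg.IsMinSimpleOddOrder G) {L X : Subgroup G}
    (hL : IsCoatom L) (hXL : X ≤ L) (hX1 : X ≠ ⊥) :
    ∃ L' : Subgroup G, IsCoatom L' ∧ normalizer (X : Set G) ≤ L' := by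
  have hXt : X ≠ ⊤ := fun h0 => hL.1 (top_le_iff.mp (h0 ▸ hXL))
  have hN := Cfsg.Agent.Lead.TT.normalizer_ne_top_of_simple hG.2.1 hX1 hXt
  exact (eq_top_or_exists_le_coatom _).resolve_left hN

theorem ne_bot_of_prime_card {X : Subgroup G} (hXp : (Nat.card X).Prime) : X ≠ ⊥ := by
  intro h0
  rw [h0, Subgroup.card_bot] at hXp
  exact Nat.not_prime_one hXp

/-- closure of the family -/
theorem fam_step (h : Hyp G) {Z L KL X L' : Subgroup G} (P : PT L KL)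
    (hZ : KL ⊔ (Cfsg.sigmaCore L ⊓ centralizer (KL : Set G)) = Z) (hX : X ≤ KL)
    (hXp : (Nat.card X).Prime) (hL' : IsCoatom L') (hNL' : normalizer (X : Set G) ≤ L') :
    L' ∈ Fam Z ∧ L ⊓ L' = Z ∧ (∀ g : G, L' ≠ L.map (cj g)) ∧ X ≤ Cfsg.sigmaCore L' ∧
      centralizer (X : Set G) ≤ L' := by
  obtain ⟨K₁, P₁, hle⟩ := pair_exists_K1 h P hX hXp hL' hNL'
  refine ⟨⟨K₁, P₁, (pair2_zz h P hX hXp hL' hNL' P₁ hle).trans hZ⟩,
    (pair2_inf h P hX hXp hL' hNL' P₁ hle).trans hZ, pair_not_conj h P hX hXp hL' hNL',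
    pair_X_le h P hX hXp hL' hNL', ?_⟩
  have hks1 := Cfsg.Agent.Helper10.BG16.kstar_ne_bot h.h1430 P.coatom P.hall P.ne
  have hc : Nat.card ↥(Cfsg.sigmaCore L ⊓ centralizer (KL : Set G)) ≠ 1 :=
    fun h0 => hks1 (Subgroup.card_eq_one.mp h0)
  obtain ⟨r, hr, hrd⟩ := Nat.exists_prime_and_dvd hc
  exact (pair_kappa h P hX hXp hL' hNL' hr hrd).2

/-- a maximal subgroup `L''` containing `1 ≠ X ≤ K_{L'}*` with a common `σ`-prime is `L'` -/
theorem eq_of_mem_sigma (h : Hyp G) {L' KL' X L'' : Subgroup G} (P' : PT L' KL')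
    (hX : X ≤ Cfsg.sigmaCore L' ⊓ centralizer (KL' : Set G)) (hX1 : X ≠ ⊥)
    (hL'' : IsCoatom L'') (hXL'' : X ≤ L'') {p : ℕ} (hpL' : p ∈ Cfsg.sigma L')
    (hpL'' : p ∈ Cfsg.sigma L'') : L'' = L' := by
  obtain ⟨g, hg⟩ := sigma_partition' h P'.coatom hL'' hpL' hpL''
  by_cases hgL : g ∈ L'
  · rw [hg, map_cj_eq_self_of_mem hgL]
  · exfalso
    have h1 := (h.h1431 L' P'.coatom KL' P'.hall P'.ne).1 g hgL
    apply hX1
    rw [eq_bot_iff, ← h1]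
    exact le_inf hX (hg ▸ hXL'')

/-- two distinct members of the family -/
theorem fam_pair (h : Hyp G) {Z L L' : Subgroup G} (hL : L ∈ Fam Z) (hL' : L' ∈ Fam Z)
    (hne : L ≠ L') :
    L ⊓ L' = Z ∧ (∀ g : G, L' ≠ L.map (cj g)) ∧
      ∀ X : Subgroup G, X ≤ Z ⊓ Cfsg.sigmaCore L' → (Nat.card X).Prime →
        centralizer (X : Set G) ≤ L' := by
  obtain ⟨K, P, hZ⟩ := hL
  obtain ⟨K', P', hZ'⟩ := hL'
  have hZσ : Z ⊓ Cfsg.sigmaCore L' = Cfsg.sigmaCore L' ⊓ centralizer (K' : Set G) := by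
    rw [← hZ']; exact P'.zz_inf_sigmaCore
  -- the key claim
  have key : ∀ X : Subgroup G, X ≤ Cfsg.sigmaCore L' ⊓ centralizer (K' : Set G) →
      (Nat.card X).Prime → L ⊓ L' = Z ∧ (∀ g : G, L' ≠ L.map (cj g)) ∧
        centralizer (X : Set G) ≤ L' := by
    intro X hX hXp
    have hX1 : X ≠ ⊥ := ne_bot_of_prime_card hXp
    have hXσ' : Nat.card X ∈ Cfsg.sigma L' :=
      Cfsg.Agent.H9.BG12.mem_sigma_of_dvd_card_sigmaCore hXp
        (Subgroup.card_dvd_of_le (hX.trans inf_le_left))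
    have hXZ : X ≤ K ⊔ (Cfsg.sigmaCore L ⊓ centralizer (K : Set G)) := by
      rw [hZ, ← hZ']; exact hX.trans le_sup_right
    rcases le_or_le_of_prime P hXZ hXp with hXK | hXks
    · obtain ⟨L'', hL'', hNL''⟩ := exists_coatom_ge_normalizer h.hG P.coatom (hXK.trans P.K_le) hX1
      obtain ⟨-, h2, h3, h4, h5⟩ := fam_step h P hZ hXK hXp hL'' hNL''
      have hXσ'' : Nat.card X ∈ Cfsg.sigma L'' :=
        Cfsg.Agent.H9.BG12.mem_sigma_of_dvd_card_sigmaCore hXp (Subgroup.card_dvd_of_le h4)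
      have heq : L'' = L' := eq_of_mem_sigma h P' hX hX1 hL''
        (h4.trans (Cfsg.Agent.H9.BG12.sigmaCore_le L'')) hXσ' hXσ''
      rw [heq] at h2 h3 h5
      exact ⟨h2, h3, h5⟩
    · exfalso
      have hXσ : Nat.card X ∈ Cfsg.sigma L :=
        Cfsg.Agent.H9.BG12.mem_sigma_of_dvd_card_sigmaCore hXp
          (Subgroup.card_dvd_of_le (hXks.trans inf_le_left))
      exact hne (eq_of_mem_sigma h P' hX hX1 P.coatom (hXks.trans (ks_le L K)) hXσ' hXσ)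
  obtain ⟨y, hyK, hyp⟩ := exists_ks_prime h P'
  have h0 := key (zpowers y) (zpowers_le.mpr hyK) (by rw [Nat.card_zpowers]; exact hyp)
  refine ⟨h0.1, h0.2.1, ?_⟩
  intro X hX hXp
  rw [hZσ] at hX
  exact (key X hX hXp).2.2

/-- every subgroup of prime order of `Z` lies in `L_σ` for a member `L` of the family -/
theorem fam_cover (h : Hyp G) {Z L : Subgroup G} (hL : L ∈ Fam Z) {X : Subgroup G}
    (hX : X ≤ Z) (hXp : (Nat.card X).Prime) :
    ∃ L' ∈ Fam Z, X ≤ Cfsg.sigmaCore L' := by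
  obtain ⟨K, P, hZ⟩ := hL
  have hX1 : X ≠ ⊥ := ne_bot_of_prime_card hXp
  rcases le_or_le_of_prime P (hZ ▸ hX) hXp with hXK | hXks
  · obtain ⟨L'', hL'', hNL''⟩ := exists_coatom_ge_normalizer h.hG P.coatom (hXK.trans P.K_le) hX1
    obtain ⟨h1, -, -, h4, -⟩ := fam_step h P hZ hXK hXp hL'' hNL''
    exact ⟨L'', h1, h4⟩
  · exact ⟨L, ⟨K, P, hZ⟩, hXks.trans inf_le_left⟩

/-- an element conjugating `X ≤ K_L*` of prime order into `Z` lies in `L` -/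
theorem mem_of_conj_mem (h : Hyp G) {L K X : Subgroup G} (P : PT L K)
    (hX : X ≤ Cfsg.sigmaCore L ⊓ centralizer (K : Set G)) (hXp : (Nat.card X).Prime) {g : G}
    (hg : X.map (cj g) ≤ K ⊔ (Cfsg.sigmaCore L ⊓ centralizer (K : Set G))) : g ∈ L := by
  have hX1 : X ≠ ⊥ := ne_bot_of_prime_card hXp
  have hc : Nat.card (X.map (cj g)) = Nat.card X := Cfsg.Agent.Helper16.BG11.card_map_cj X g
  have hX'L : X.map (cj g) ≤ L := by
    rcases le_or_le_of_prime P hg (hc ▸ hXp) with h1 | h1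
    · exfalso
      have h2 : Nat.card X ∣ Nat.card K := hc ▸ Subgroup.card_dvd_of_le h1
      have h3 : Nat.card X ∣ Nat.card (Cfsg.sigmaCore L) :=
        Subgroup.card_dvd_of_le (hX.trans inf_le_left)
      have h4 := Nat.Coprime.eq_one_of_dvd (Nat.Coprime.coprime_dvd_left h2 P.coprime) h3
      exact hXp.one_lt.ne' h4
    · exact h1.trans (ks_le L K)
  by_contra hgL
  have hgL' : g⁻¹ ∉ L := fun h0 => hgL (by simpa using L.inv_mem h0)
  have h1 := (h.h1431 L P.coatom K P.hall P.ne).1 g⁻¹ hgL'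
  apply hX1
  rw [eq_bot_iff, ← h1]
  refine le_inf hX ?_
  intro x hx
  rw [mem_map_cj, inv_inv]
  exact hX'L ⟨x, hx, rfl⟩

/-- the elements of `Z` outside all `L_σ`, `L` in the family -/
def WSet (Z : Subgroup G) : Set G := {w | w ∈ Z ∧ ∀ L ∈ Fam Z, w ∉ Cfsg.sigmaCore L}

theorem fam_zz_le {Z L : Subgroup G} (hL : L ∈ Fam Z) : Z ≤ L := by
  obtain ⟨K, P, hZ⟩ := hL
  rw [← hZ]; exact P.zz_le

theorem wset_subset (Z : Subgroup G) : WSet Z ⊆ (Z : Set G) := fun _ hw => hw.1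

theorem wset_inv {Z : Subgroup G} {w t : G} (hw : w ∈ WSet Z) (ht : t ∈ Z) :
    t * w * t⁻¹ ∈ WSet Z := by
  refine ⟨Z.mul_mem (Z.mul_mem ht hw.1) (Z.inv_mem ht), ?_⟩
  intro L hL h0
  apply hw.2 L hL
  have h1 := conj_mem_core (L.inv_mem (fam_zz_le hL ht)) h0
  have e : t⁻¹ * (t * w * t⁻¹) * t⁻¹⁻¹ = w := by group
  rwa [e] at h1

theorem exists_prime_le_zpowers {w : G} {p : ℕ} (hp : p.Prime) (hd : p ∣ orderOf w) :
    ∃ X : Subgroup G, X ≤ zpowers w ∧ Nat.card X = p := by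
  haveI : Fact p.Prime := ⟨hp⟩
  have hd' : p ∣ Nat.card ↥(zpowers w) := by rw [Nat.card_zpowers]; exact hd
  obtain ⟨x, hx⟩ := exists_prime_orderOf_dvd_card' (G := ↥(zpowers w)) p hd'
  refine ⟨zpowers (x : G), zpowers_le.mpr x.2, ?_⟩
  rw [Nat.card_zpowers, Subgroup.orderOf_coe, hx]

/-- an element of `W` involves two different members of the family -/
theorem wset_two (h : Hyp G) {Z : Subgroup G} {w : G} (hw : w ∈ WSet Z)
    (hne : (Fam Z).Nonempty) :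
    ∃ L₁ ∈ Fam Z, ∃ L₂ ∈ Fam Z, L₁ ≠ L₂ ∧ ∃ X₁ X₂ : Subgroup G,
      X₁ ≤ zpowers w ∧ X₂ ≤ zpowers w ∧ (Nat.card X₁).Prime ∧ (Nat.card X₂).Prime ∧
      X₁ ≤ Cfsg.sigmaCore L₁ ∧ X₂ ≤ Cfsg.sigmaCore L₂ := by
  obtain ⟨L₀, hL₀⟩ := hne
  have hw1 : w ≠ 1 := by
    intro h0
    exact hw.2 L₀ hL₀ (h0 ▸ Subgroup.one_mem _)
  have ho : orderOf w ≠ 1 := fun h0 => hw1 (orderOf_eq_one_iff.mp h0)
  obtain ⟨p, hp, hpd⟩ := Nat.exists_prime_and_dvd ho
  obtain ⟨X₁, hX₁, hX₁c⟩ := exists_prime_le_zpowers hp hpd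
  have hwZ : zpowers w ≤ Z := zpowers_le.mpr hw.1
  obtain ⟨L₁, hL₁, hX₁σ⟩ := fam_cover h hL₀ (hX₁.trans hwZ) (hX₁c ▸ hp)
  have hex : ∃ q : ℕ, q.Prime ∧ q ∣ orderOf w ∧ q ∉ Cfsg.sigma L₁ := by
    by_contra hcon
    push Not at hcon
    apply hw.2 L₁ hL₁
    have hL₁c : IsCoatom L₁ := by obtain ⟨K, P, -⟩ := hL₁; exact P.coatom
    have := Cfsg.Agent.H9.BG12.le_sigmaCore_of_sigma (Cfsg.Agent.Helper21.BG12.st1350 h.hG) hL₁c
      (hwZ.trans (fam_zz_le hL₁)) (fun q hq hqd => hcon q hq (by rwa [Nat.card_zpowers] at hqd))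
    exact this (mem_zpowers w)
  obtain ⟨q, hq, hqd, hqσ⟩ := hex
  obtain ⟨X₂, hX₂, hX₂c⟩ := exists_prime_le_zpowers hq hqd
  obtain ⟨L₂, hL₂, hX₂σ⟩ := fam_cover h hL₀ (hX₂.trans hwZ) (hX₂c ▸ hq)
  refine ⟨L₁, hL₁, L₂, hL₂, ?_, X₁, X₂, hX₁, hX₂, hX₁c ▸ hp, hX₂c ▸ hq, hX₁σ, hX₂σ⟩
  intro h0
  apply hqσ
  rw [h0]
  exact Cfsg.Agent.H9.BG12.mem_sigma_of_dvd_card_sigmaCore hq
    (hX₂c ▸ Subgroup.card_dvd_of_le hX₂σ)

/-- `W` is a TI-set with normalizer `Z`, strong form -/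
theorem wset_TI (h : Hyp G) {Z : Subgroup G} {w : G} (hw : w ∈ WSet Z)
    (hne : (Fam Z).Nonempty) {g : G} (hg : g * w * g⁻¹ ∈ Z) : g ∈ Z := by
  obtain ⟨L₁, hL₁, L₂, hL₂, hne12, X₁, X₂, hX₁, hX₂, hX₁p, hX₂p, hX₁σ, hX₂σ⟩ :=
    wset_two h hw hne
  have hwZ : zpowers w ≤ Z := zpowers_le.mpr hw.1
  have hmap : ∀ X : Subgroup G, X ≤ zpowers w → X.map (cj g) ≤ Z := by
    intro X hX
    refine (Subgroup.map_mono hX).trans ?_
    rw [MonoidHom.map_zpowers]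
    exact zpowers_le.mpr hg
  have hin : ∀ L ∈ Fam Z, ∀ X : Subgroup G, X ≤ zpowers w → (Nat.card X).Prime →
      X ≤ Cfsg.sigmaCore L → g ∈ L := by
    intro L hL X hX hXp hXσ
    obtain ⟨K, P, hZ⟩ := hL
    have hXks : X ≤ Cfsg.sigmaCore L ⊓ centralizer (K : Set G) := by
      rw [← P.zz_inf_sigmaCore, hZ]
      exact le_inf (hX.trans hwZ) hXσ
    exact mem_of_conj_mem h P hXks hXp (hZ ▸ hmap X hX)
  have h1 := hin L₁ hL₁ X₁ hX₁ hX₁p hX₁σ
  have h2 := hin L₂ hL₂ X₂ hX₂ hX₂p hX₂σ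
  rw [← (fam_pair h hL₁ hL₂ hne12).1]
  exact ⟨h1, h2⟩

theorem supportR_le_centralizer (N : Subgroup G) (a : G) :
    Cfsg.supportR N a ≤ centralizer ({a} : Set G) := by
  unfold Cfsg.supportR
  split_ifs
  · exact inf_le_right
  · exact bot_le

theorem supportR_eq_bot {N : Subgroup G} {a : G} (hC : centralizer ({a} : Set G) ≤ N) :
    Cfsg.supportR N a = ⊥ := by
  unfold Cfsg.supportR
  rw [dif_neg]
  rintro ⟨h1, -⟩
  exact h1 hC

/-- no conjugate of an element of `W` lies in any `Ñ` -/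
theorem wset_not_tilde (h : Hyp G) {Z : Subgroup G} {w : G} (hw : w ∈ WSet Z)
    {L₁ L₂ : Subgroup G} (hL₁ : L₁ ∈ Fam Z) (hL₂ : L₂ ∈ Fam Z) (hne12 : L₁ ≠ L₂)
    {N : Subgroup G} (hN : IsCoatom N) (c : G) :
    c * w * c⁻¹ ∉ Cfsg.tildeOf N ((Cfsg.sigmaCore N : Set G) \ {1}) := by
  rintro ⟨a, ⟨haσ, ha1⟩, r, hr, y, hy⟩
  have hne : (Fam Z).Nonempty := ⟨L₁, hL₁⟩
  have hd : (y⁻¹ * c) * w * (y⁻¹ * c)⁻¹ = a * r := by
    have e : (y⁻¹ * c) * w * (y⁻¹ * c)⁻¹ = y⁻¹ * (c * w * c⁻¹) * y := by group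
    rw [e, hy]; group
  obtain ⟨d, hdd⟩ : ∃ d : G, d = y⁻¹ * c := ⟨_, rfl⟩
  rw [← hdd] at hd
  have hrc : r * a = a * r := by
    have := supportR_le_centralizer N a hr
    rwa [mem_centralizer_singleton_iff] at this
  -- a' = d⁻¹ a d centralizes w
  have hw_eq : w = d⁻¹ * (a * r) * d := by rw [← hd]; group
  have ha'w : (d⁻¹ * a * d) * w * (d⁻¹ * a * d)⁻¹ = w := by
    rw [hw_eq]
    have e : (d⁻¹ * a * d) * (d⁻¹ * (a * r) * d) * (d⁻¹ * a * d)⁻¹ =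
        d⁻¹ * (a * (a * r) * a⁻¹) * d := by group
    rw [e]
    have e2 : a * (a * r) * a⁻¹ = a * r := by
      calc a * (a * r) * a⁻¹ = a * (r * a) * a⁻¹ := by rw [hrc]
        _ = a * r := by group
    rw [e2]
  have ha'Z : d⁻¹ * a * d ∈ Z := wset_TI h hw hne (by rw [ha'w]; exact hw.1)
  have ha'1 : d⁻¹ * a * d ≠ 1 := by
    intro h0
    apply ha1
    have : a = d * (d⁻¹ * a * d) * d⁻¹ := by group
    rw [Set.mem_singleton_iff, this, h0]; group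
  have hN' : IsCoatom (N.map (cj d⁻¹)) := Cfsg.Agent.Lead.BG9.isCoatom_map_cj hN d⁻¹
  have ha'σ : d⁻¹ * a * d ∈ Cfsg.sigmaCore (N.map (cj d⁻¹)) := by
    rw [sigmaCore_map_cj h.hG hN]
    refine ⟨a, haσ, ?_⟩
    rw [cj_apply, inv_inv]
  have ho : orderOf (d⁻¹ * a * d) ≠ 1 := fun h0 => ha'1 (orderOf_eq_one_iff.mp h0)
  obtain ⟨p, hp, hpd⟩ := Nat.exists_prime_and_dvd ho
  obtain ⟨X, hX, hXc⟩ := exists_prime_le_zpowers hp hpd
  have hXp : (Nat.card X).Prime := hXc ▸ hp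
  have hXZ : X ≤ Z := hX.trans (zpowers_le.mpr ha'Z)
  have hXN' : X ≤ Cfsg.sigmaCore (N.map (cj d⁻¹)) := hX.trans (zpowers_le.mpr ha'σ)
  obtain ⟨L₀, hL₀, hXσ₀⟩ := fam_cover h hL₁ hXZ hXp
  have hcent : centralizer (X : Set G) ≤ L₀ := by
    by_cases h01 : L₁ = L₀
    · have hne' : L₂ ≠ L₀ := fun h0 => hne12 (h01.trans h0.symm)
      exact (fam_pair h hL₂ hL₀ hne').2.2 X (le_inf hXZ hXσ₀) hXp
    · exact (fam_pair h hL₁ hL₀ h01).2.2 X (le_inf hXZ hXσ₀) hXp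
  have hL₀' := hL₀
  obtain ⟨K₀, P₀, hZ₀⟩ := hL₀'
  have hXks : X ≤ Cfsg.sigmaCore L₀ ⊓ centralizer (K₀ : Set G) := by
    rw [← P₀.zz_inf_sigmaCore, hZ₀]
    exact le_inf hXZ hXσ₀
  have hpσ₀ : p ∈ Cfsg.sigma L₀ :=
    Cfsg.Agent.H9.BG12.mem_sigma_of_dvd_card_sigmaCore hp (hXc ▸ Subgroup.card_dvd_of_le hXσ₀)
  have hpσN : p ∈ Cfsg.sigma (N.map (cj d⁻¹)) :=
    Cfsg.Agent.H9.BG12.mem_sigma_of_dvd_card_sigmaCore hp (hXc ▸ Subgroup.card_dvd_of_le hXN')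
  have hNeq : N.map (cj d⁻¹) = L₀ :=
    eq_of_mem_sigma h P₀ hXks (ne_bot_of_prime_card hXp) hN'
      (hXN'.trans (Cfsg.Agent.H9.BG12.sigmaCore_le _)) hpσ₀ hpσN
  -- C_G(a) ≤ N
  have hCa : centralizer ({a} : Set G) ≤ N := by
    intro t ht
    rw [mem_centralizer_singleton_iff] at ht
    have h1 : d⁻¹ * t * d ∈ centralizer ({d⁻¹ * a * d} : Set G) := by
      rw [mem_centralizer_singleton_iff]
      have e1 : d⁻¹ * t * d * (d⁻¹ * a * d) = d⁻¹ * (t * a) * d := by group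
      have e2 : d⁻¹ * a * d * (d⁻¹ * t * d) = d⁻¹ * (a * t) * d := by group
      rw [e1, e2, ht]
    have h2 : d⁻¹ * t * d ∈ N.map (cj d⁻¹) := by
      rw [hNeq]
      apply hcent
      rw [← Cfsg.Agent.Helper29.BG14.centralizer_zpowers] at h1
      exact Subgroup.centralizer_le (by exact_mod_cast hX) h1
    rw [mem_map_cj, inv_inv] at h2
    have e : d * (d⁻¹ * t * d) * d⁻¹ = t := by group
    rwa [e] at h2
  rw [supportR_eq_bot hCa, mem_bot] at hr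
  rw [hr, mul_one] at hw_eq
  apply hw.2 L₀ hL₀
  rw [hw_eq, ← hNeq]
  exact ha'σ

end Cfsg.Agent.Helper1.BG147
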