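import Mathlib
import Cfsg.Prelude.Def_OddOrderLocal
import Cfsg.Agent.Helper1.BG147B
import Cfsg.Agent.Helper23.ClassCount2

/-!
# B&G Theorem 14.7: the counting argument
-/

set_option autoImplicit false
set_option linter.unusedSectionVars false
set_option linter.unusedVariables false
set_option linter.style.haveILetI false

namespace Cfsg.Agent.Helper1.BG147

open Subgroup Cfsg
open Cfsg.Agent.Helper14 (IsSylowIn cj cj_apply map_cj_le_iff map_cj_mul map_cj_one map_cj_normalizer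
  mem_normalizer_iff_map_cj map_cj_eq_self_of_mem le_normalizer_of_map_cj_le mem_map_cj
  exists_isSylowIn_ge exists_isSylowIn isSylowIn_of_sylow isSylowIn_iff map_cj_inv_map_cj
  map_cj_map_cj_inv)
open Cfsg.Agent.Helper29.BG14 (Hyp sigma_partition')

universe u

/-- frozen statement S1377 without `hG` -/
def St1377 (G : Type u) [Group G] [Finite G] : Prop :=
  ∀ (M : Subgroup G) (hM : IsCoatom M),
    Set.ncard (Cfsg.tildeOf M ((Cfsg.sigmaCore M : Set G) \ {1})) =
      (Nat.card (Cfsg.sigmaCore M) - 1) * M.index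

/-- first clause of the frozen statement S1379 -/
def St1379a (G : Type u) [Group G] [Finite G] : Prop :=
  ∀ M N : Subgroup G, IsCoatom M → IsCoatom N →
    (∀ g : G, N ≠ M.map (MulAut.conj g).toMonoidHom) →
    Cfsg.tildeOf M ((Cfsg.sigmaCore M : Set G) \ {1}) ∩
      Cfsg.tildeOf N ((Cfsg.sigmaCore N : Set G) \ {1}) = ∅

variable {G : Type u} [Group G] [Finite G]

theorem ncard_biUnion_le (S : Finset (Subgroup G)) (A : Subgroup G → Subgroup G) :
    (⋃ L ∈ S, ((A L : Set G) \ {1})).ncard ≤ ∑ L ∈ S, (Nat.card ↥(A L) - 1) := by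
  classical
  induction S using Finset.induction_on with
  | empty => simp
  | insert L S hL ih =>
    rw [Finset.set_biUnion_insert, Finset.sum_insert hL]
    refine (Set.ncard_union_le _ _).trans (Nat.add_le_add ?_ ih)
    rw [Set.ncard_sdiff (by simp) (Set.toFinite _), Set.ncard_singleton]
    have : ((A L : Set G)).ncard = Nat.card ↥(A L) := by
      rw [← Nat.card_coe_set_eq]; rfl
    rw [this]

/-- covering bound -/
theorem card_le_of_cover (Z : Subgroup G) (S : Finset (Subgroup G)) (W : Set G)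
    (A : Subgroup G → Subgroup G)
    (hcov : ∀ x ∈ Z, x ∈ W ∨ ∃ L ∈ S, x ∈ A L) :
    Nat.card Z ≤ W.ncard + 1 + ∑ L ∈ S, (Nat.card ↥(A L) - 1) := by
  classical
  have h1 : ((Z : Set G)).ncard = Nat.card Z := by
    rw [← Nat.card_coe_set_eq]; rfl
  rw [← h1]
  have hsub : (Z : Set G) ⊆ W ∪ {1} ∪ ⋃ L ∈ S, ((A L : Set G) \ {1}) := by
    intro x hx
    by_cases hx1 : x = 1
    · left; right; exact hx1
    · rcases hcov x hx with hW | ⟨L, hL, hxL⟩
      · left; left; exact hW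
      · right
        simp only [Set.mem_iUnion]
        exact ⟨L, hL, hxL, hx1⟩
  refine (Set.ncard_le_ncard hsub (Set.toFinite _)).trans ?_
  refine (Set.ncard_union_le _ _).trans ?_
  refine Nat.add_le_add ((Set.ncard_union_le _ _).trans ?_) (ncard_biUnion_le S A)
  rw [Set.ncard_singleton]

/-- `3 |K_L*| ≤ |L_σ|` -/
theorem three_mul_card_ks_le (h : Hyp G) {L KL : Subgroup G} (P : PT L KL) :
    3 * Nat.card ↥(Cfsg.sigmaCore L ⊓ centralizer (KL : Set G)) ≤ Nat.card (Cfsg.sigmaCore L) := by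
  have hle : Cfsg.sigmaCore L ⊓ centralizer (KL : Set G) ≤ Cfsg.sigmaCore L := inf_le_left
  have hdvd := Subgroup.card_dvd_of_le hle
  obtain ⟨t, ht⟩ := hdvd
  have hks1 := Cfsg.Agent.Helper10.BG16.kstar_ne_bot h.h1430 P.coatom P.hall P.ne
  have hc : Nat.card ↥(Cfsg.sigmaCore L ⊓ centralizer (KL : Set G)) ≠ 1 :=
    fun h0 => hks1 (Subgroup.card_eq_one.mp h0)
  obtain ⟨p, hp, hpd⟩ := Nat.exists_prime_and_dvd hc
  haveI : Fact p.Prime := ⟨hp⟩
  obtain ⟨S⟩ : Nonempty (Sylow p ↥(Cfsg.sigmaCore L)) := inferInstance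
  have h3 := ((h.h1431 L P.coatom KL P.hall P.ne).2.2.1 p hp hpd S).2.2
  have hne : Cfsg.sigmaCore L ⊓ centralizer (KL : Set G) ≠ Cfsg.sigmaCore L := by
    intro h0
    apply h3
    rw [h0]
    exact Subgroup.map_subtype_le _
  have hodd : Odd (Nat.card (Cfsg.sigmaCore L)) :=
    Odd.of_dvd_nat h.hG.1 (Subgroup.card_subgroup_dvd_card _)
  have ht1 : t ≠ 1 := by
    intro h0
    rw [h0, mul_one] at ht
    exact hne (Subgroup.eq_of_le_of_card_ge hle ht.le)
  have ht0 : t ≠ 0 := by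
    intro h0
    rw [h0, mul_zero] at ht
    exact Nat.card_pos.ne' ht
  have ht2 : t ≠ 2 := by
    intro h0
    rw [ht, h0] at hodd
    exact (Nat.not_even_iff_odd.mpr hodd) (even_two.mul_left _)
  have ht3 : 3 ≤ t := by omega
  rw [ht, mul_comm]
  exact Nat.mul_le_mul_left _ ht3

/-- **the count**: not all members of a family with at least two members have `U_L = 1` -/
theorem exists_compl_ne (h : Hyp G) (h1377 : St1377 G) (h1379 : St1379a G)
    {Z L₁ L₂ : Subgroup G} (hL₁ : L₁ ∈ Fam Z) (hL₂ : L₂ ∈ Fam Z) (hne : L₁ ≠ L₂) :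
    ∃ L KL : Subgroup G, PT L KL ∧ KL ⊔ (Cfsg.sigmaCore L ⊓ centralizer (KL : Set G)) = Z ∧
      Nat.card KL * Nat.card (Cfsg.sigmaCore L) ≠ Nat.card L := by
  classical
  by_contra hall
  push Not at hall
  have hfin : (Fam Z).Finite := Set.toFinite _
  have hmemS : ∀ L, L ∈ hfin.toFinset ↔ L ∈ Fam Z := fun L => Set.Finite.mem_toFinset hfin
  refine Cfsg.Agent.Helper23.ClassCount.count_contra Z (WSet Z) hfin.toFinset
    (fun L => Cfsg.tildeOf L ((Cfsg.sigmaCore L : Set G) \ {1}))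
    (fun L => Nat.card (Cfsg.sigmaCore L)) (fun L => Nat.card ↥(Z ⊓ Cfsg.sigmaCore L))
    ?_ ?_ ?_ ?_ ?_ ?_ ?_ ?_ ?_
  · exact Cfsg.Agent.Helper23.ClassCount.card_class_support Z (WSet Z) (wset_subset Z)
      (fun w hw t ht => wset_inv hw ht) (fun w hw g hg => wset_TI h hw ⟨L₁, hL₁⟩ hg.1)
  · intro L hL L' hL' hLL'
    rw [hmemS] at hL hL'
    rw [Set.disjoint_iff_inter_eq_empty]
    have hL0 := hL
    have hL0' := hL'
    obtain ⟨K, P, -⟩ := hL0
    obtain ⟨K', P', -⟩ := hL0'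
    exact h1379 L L' P.coatom P'.coatom (fam_pair h hL hL' hLL').2.1
  · intro L hL w hw g
    rw [hmemS] at hL
    obtain ⟨K, P, -⟩ := hL
    exact wset_not_tilde h hw hL₁ hL₂ hne P.coatom g
  · intro L hL
    rw [hmemS] at hL
    obtain ⟨K, P, -⟩ := hL
    exact h1377 L P.coatom
  · intro L hL
    rw [hmemS] at hL
    obtain ⟨K, P, hZ⟩ := hL
    have h1 := hall L K P hZ
    have h2 : Z ⊓ Cfsg.sigmaCore L = Cfsg.sigmaCore L ⊓ centralizer (K : Set G) := by
      rw [← hZ]; exact P.zz_inf_sigmaCore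
    have h3 := P.card_zz
    rw [hZ] at h3
    show Nat.card L * Nat.card ↥(Z ⊓ Cfsg.sigmaCore L) = Nat.card (Cfsg.sigmaCore L) * Nat.card Z
    rw [h2, h3, ← h1]
    ring
  · intro L hL
    rw [hmemS] at hL
    obtain ⟨K, P, hZ⟩ := hL
    have h2 : Z ⊓ Cfsg.sigmaCore L = Cfsg.sigmaCore L ⊓ centralizer (K : Set G) := by
      rw [← hZ]; exact P.zz_inf_sigmaCore
    show 3 * Nat.card ↥(Z ⊓ Cfsg.sigmaCore L) ≤ Nat.card (Cfsg.sigmaCore L)
    rw [h2]
    exact three_mul_card_ks_le h P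
  · intro L hL
    exact Nat.card_pos
  · refine card_le_of_cover Z hfin.toFinset (WSet Z) (fun L => Z ⊓ Cfsg.sigmaCore L) ?_
    intro x hx
    by_cases hxW : x ∈ WSet Z
    · left; exact hxW
    · right
      have : ¬ ∀ L ∈ Fam Z, x ∉ Cfsg.sigmaCore L := fun h0 => hxW ⟨hx, h0⟩
      push Not at this
      obtain ⟨L, hL, hxL⟩ := this
      exact ⟨L, (hmemS L).mpr hL, ⟨hx, hxL⟩⟩
  · exact Finset.one_lt_card.mpr ⟨L₁, (hmemS L₁).mpr hL₁, L₂, (hmemS L₂).mpr hL₂, hne⟩

end Cfsg.Agent.Helper1.BG147
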