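import Mathlib
import Cfsg.Prelude.Def_OddOrderLocal
import Cfsg.Agent.Helper1.BG147C
import Cfsg.Agent.Helper8.Cyclic
import Cfsg.Agent.Helper29.NilpHall

/-!
# B&G Theorem 14.7: the partner `M*`
-/

set_option autoImplicit false
set_option linter.unusedSectionVars false
set_option linter.unusedVariables false
set_option linter.style.haveILetI false

namespace Cfsg.Agent.Helper1.BG147

open Subgroup Cfsg
open Cfsg.Agent.Helper14 (IsSylowIn cj cj_apply map_cj_le_iff map_cj_mul map_cj_one map_cj_normalizer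
  mem_normalizer_iff_map_cj map_cj_eq_self_of_mem le_normalizer_of_map_cj_le mem_map_cj
  exists_isSylowIn_ge exists_isSylowIn isSylowIn_of_sylow isSylowIn_iff map_cj_inv_map_cj
  map_cj_map_cj_inv)
open Cfsg.Agent.Helper29.BG14 (Hyp sigma_partition')

universe u

/-- Lemma B: a nontrivial complement `U` forces `|K|` prime -/
def LemB (G : Type u) [Group G] [Finite G] : Prop :=
  ∀ M K : Subgroup G, IsCoatom M → Cfsg.IsPiHallOf (Cfsg.kappa M) K M → K ≠ ⊥ →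
    Nat.card K * Nat.card (Cfsg.sigmaCore M) ≠ Nat.card M → (Nat.card K).Prime

/-- all the hypotheses of the counting argument -/
structure Hyp2 (G : Type u) [Group G] [Finite G] : Prop where
  h : Hyp G
  h1377 : St1377 G
  h1379 : St1379a G
  hB : LemB G

variable {G : Type u} [Group G] [Finite G]

/-- if `|K_{L₀}|` is prime then it lies in `σ(A)` for every other member `A` of the family -/
theorem prime_mem_sigma (h : Hyp G) {Z L₀ K₀ A : Subgroup G} (P₀ : PT L₀ K₀)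
    (hZ₀ : K₀ ⊔ (Cfsg.sigmaCore L₀ ⊓ centralizer (K₀ : Set G)) = Z)
    (hpr : (Nat.card K₀).Prime) (hA : A ∈ Fam Z) (hne : L₀ ≠ A) :
    Nat.card K₀ ∈ Cfsg.sigma A := by
  have hL₀ : L₀ ∈ Fam Z := ⟨K₀, P₀, hZ₀⟩
  have hA' := hA
  obtain ⟨KA, PA, hZA⟩ := hA'
  have hks1 := Cfsg.Agent.Helper10.BG16.kstar_ne_bot h.h1430 PA.coatom PA.hall PA.ne
  have hc : Nat.card ↥(Cfsg.sigmaCore A ⊓ centralizer (KA : Set G)) ≠ 1 :=
    fun h0 => hks1 (Subgroup.card_eq_one.mp h0)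
  obtain ⟨p, hp, hpd⟩ := Nat.exists_prime_and_dvd hc
  have hpA : p ∈ Cfsg.sigma A :=
    Cfsg.Agent.H9.BG12.mem_sigma_of_dvd_card_sigmaCore hp
      (hpd.trans (Subgroup.card_dvd_of_le inf_le_left))
  have hpZ : p ∣ Nat.card Z := by
    refine hpd.trans (Subgroup.card_dvd_of_le ?_)
    rw [← hZA]; exact le_sup_right
  rw [← hZ₀, P₀.card_zz] at hpZ
  rcases (Nat.Prime.dvd_mul hp).mp hpZ with h1 | h1
  · rw [← (Nat.prime_dvd_prime_iff_eq hp hpr).mp h1]; exact hpA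
  · exfalso
    have hp₀ : p ∈ Cfsg.sigma L₀ :=
      Cfsg.Agent.H9.BG12.mem_sigma_of_dvd_card_sigmaCore hp
        (h1.trans (Subgroup.card_dvd_of_le inf_le_left))
    obtain ⟨g, hg⟩ := sigma_partition' h P₀.coatom PA.coatom hp₀ hpA
    exact (fam_pair h hL₀ hA hne).2.1 g hg

/-- the family has at most two members -/
theorem fam_le_two (H : Hyp2 G) {Z A B C : Subgroup G} (hA : A ∈ Fam Z) (hB : B ∈ Fam Z)
    (hC : C ∈ Fam Z) (hAB : A ≠ B) (hAC : A ≠ C) (hBC : B ≠ C) : False := by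
  obtain ⟨L₀, K₀, P₀, hZ₀, hU⟩ := exists_compl_ne H.h H.h1377 H.h1379 hA hB hAB
  have hpr := H.hB L₀ K₀ P₀.coatom P₀.hall P₀.ne hU
  have key : ∀ A B : Subgroup G, A ∈ Fam Z → B ∈ Fam Z → A ≠ B → L₀ ≠ A → L₀ ≠ B → False := by
    intro A B hA hB hAB h0A h0B
    have h1 := prime_mem_sigma H.h P₀ hZ₀ hpr hA h0A
    have h2 := prime_mem_sigma H.h P₀ hZ₀ hpr hB h0B
    have hA' := hA
    have hB' := hB
    obtain ⟨KA, PA, -⟩ := hA'
    obtain ⟨KB, PB, -⟩ := hB'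
    obtain ⟨g, hg⟩ := sigma_partition' H.h PA.coatom PB.coatom h1 h2
    exact (fam_pair H.h hA hB hAB).2.1 g hg
  by_cases h0A : L₀ = A
  · exact key B C hB hC hBC (h0A ▸ hAB) (h0A ▸ hAC)
  · by_cases h0B : L₀ = B
    · exact key A C hA hC hAC h0A (h0B ▸ hBC)
    · exact key A B hA hB hAB h0A h0B

section partner

variable (H : Hyp2 G) {M K X L K₁ : Subgroup G} (P : PT M K) (hX : X ≤ K)
  (hXp : (Nat.card X).Prime) (hL : IsCoatom L) (hNL : normalizer (X : Set G) ≤ L)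
  (P₁ : PT L K₁) (hle : Cfsg.sigmaCore M ⊓ centralizer (K : Set G) ≤ K₁)

include H P hX hXp hL hNL P₁ hle

/-- **G1**: `K ≤ L_σ` -/
theorem g1 : K ≤ Cfsg.sigmaCore L := by
  have h := H.h
  have hKL : K ≤ L := le_sup_left.trans (pair_zz_le h P hX hXp hL hNL)
  apply Cfsg.Agent.H9.BG12.le_sigmaCore_of_sigma (Cfsg.Agent.Helper21.BG12.st1350 h.hG) hL hKL
  intro q hq hqd
  by_contra hqσ
  haveI : Fact q.Prime := ⟨hq⟩
  obtain ⟨x', hx'⟩ := exists_prime_orderOf_dvd_card' (G := ↥K) q hqd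
  have hX'K : zpowers (x' : G) ≤ K := zpowers_le.mpr x'.2
  have hX'p : (Nat.card (zpowers (x' : G))).Prime := by
    rw [Nat.card_zpowers, Subgroup.orderOf_coe, hx']; exact hq
  have hX'c : Nat.card (zpowers (x' : G)) = q := by
    rw [Nat.card_zpowers, Subgroup.orderOf_coe, hx']
  obtain ⟨L'', hL'', hNL''⟩ := exists_coatom_ge_normalizer h.hG P.coatom (hX'K.trans P.K_le)
    (ne_bot_of_prime_card hX'p)
  have hMF : M ∈ Fam (K ⊔ (Cfsg.sigmaCore M ⊓ centralizer (K : Set G))) := ⟨K, P, rfl⟩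
  obtain ⟨hLF, -, hLM, -, -⟩ := fam_step h P rfl hX hXp hL hNL
  obtain ⟨hL''F, -, hL''M, hX'σ, -⟩ := fam_step h P rfl hX'K hX'p hL'' hNL''
  have hML : M ≠ L := by
    intro h0
    have := hLM 1
    rw [map_cj_one] at this
    exact this h0.symm
  have hML'' : M ≠ L'' := by
    intro h0
    have := hL''M 1
    rw [map_cj_one] at this
    exact this h0.symm
  have hLL'' : L ≠ L'' := by
    intro h0
    apply hqσ
    rw [h0]
    exact Cfsg.Agent.H9.BG12.mem_sigma_of_dvd_card_sigmaCore hq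
      (hX'c ▸ Subgroup.card_dvd_of_le hX'σ)
  exact fam_le_two H hMF hLF hL''F hML hML'' hLL''

/-- `K₁* = K` -/
theorem ks1_eq : Cfsg.sigmaCore L ⊓ centralizer (K₁ : Set G) = K := by
  have h := H.h
  apply le_antisymm (pair2_ks1_le h P hX hXp hL hNL P₁ hle)
  rw [← pair2_core_inf h P hX hXp hL hNL P₁ hle]
  exact le_inf (g1 H P hX hXp hL hNL P₁ hle) P.K_le

/-- `K₁ = K*` -/
theorem k1_eq : K₁ = Cfsg.sigmaCore M ⊓ centralizer (K : Set G) := by
  have h := H.h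
  symm
  apply Subgroup.eq_of_le_of_card_ge hle
  have h1 := P.card_zz
  have h2 := P₁.card_zz
  rw [pair2_zz h P hX hXp hL hNL P₁ hle, ks1_eq H P hX hXp hL hNL P₁ hle, h1] at h2
  have hK0 : 0 < Nat.card K := Nat.card_pos
  have : Nat.card K₁ = Nat.card ↥(Cfsg.sigmaCore M ⊓ centralizer (K : Set G)) := by
    have h3 : Nat.card K * Nat.card ↥(Cfsg.sigmaCore M ⊓ centralizer (K : Set G)) =
        Nat.card K * Nat.card K₁ := by rw [h2]; ring
    exact (Nat.eq_of_mul_eq_mul_left hK0 h3).symm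
  exact this.le

end partner

theorem exists_prime_le (P : Subgroup G) (hP : P ≠ ⊥) :
    ∃ X : Subgroup G, X ≤ P ∧ (Nat.card X).Prime := by
  have hc : Nat.card P ≠ 1 := fun h0 => hP (Subgroup.card_eq_one.mp h0)
  obtain ⟨q, hq, hqd⟩ := Nat.exists_prime_and_dvd hc
  haveI : Fact q.Prime := ⟨hq⟩
  obtain ⟨x, hx⟩ := exists_prime_orderOf_dvd_card' (G := ↥P) q hqd
  refine ⟨zpowers (x : G), zpowers_le.mpr x.2, ?_⟩
  rw [Nat.card_zpowers, Subgroup.orderOf_coe, hx]; exact hq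

/-- **S1366, existence** -/
theorem exists_partner (H : Hyp2 G) {M K : Subgroup G} (P : PT M K) :
    ∃ Ms : Subgroup G, IsCoatom Ms ∧
      K = Cfsg.sigmaCore Ms ⊓
        centralizer ((Cfsg.sigmaCore M ⊓ centralizer (K : Set G) : Subgroup G) : Set G) ∧
      Cfsg.IsPiHallOf (Cfsg.kappa Ms) (Cfsg.sigmaCore M ⊓ centralizer (K : Set G)) Ms := by
  obtain ⟨X, hX, hXp⟩ := exists_prime_le K P.ne
  obtain ⟨L, hL, hNL⟩ := exists_coatom_ge_normalizer H.h.hG P.coatom (hX.trans P.K_le)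
    (ne_bot_of_prime_card hXp)
  obtain ⟨K₁, P₁, hle⟩ := pair_exists_K1 H.h P hX hXp hL hNL
  have h1 := k1_eq H P hX hXp hL hNL P₁ hle
  have h2 := ks1_eq H P hX hXp hL hNL P₁ hle
  refine ⟨L, hL, ?_, ?_⟩
  · rw [← h1]; exact h2.symm
  · rw [← h1]; exact P₁.hall

/-- **S1366, uniqueness** -/
theorem partner_unique (h : Hyp G) {M K Ms Ms' : Subgroup G} (P : PT M K)
    (hMs : IsCoatom Ms)
    (h1 : K = Cfsg.sigmaCore Ms ⊓
        centralizer ((Cfsg.sigmaCore M ⊓ centralizer (K : Set G) : Subgroup G) : Set G))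
    (h2 : Cfsg.IsPiHallOf (Cfsg.kappa Ms) (Cfsg.sigmaCore M ⊓ centralizer (K : Set G)) Ms)
    (hMs' : IsCoatom Ms')
    (h1' : K = Cfsg.sigmaCore Ms' ⊓
        centralizer ((Cfsg.sigmaCore M ⊓ centralizer (K : Set G) : Subgroup G) : Set G)) :
    Ms' = Ms := by
  have hks1 := Cfsg.Agent.Helper10.BG16.kstar_ne_bot h.h1430 P.coatom P.hall P.ne
  have Ps : PT Ms (Cfsg.sigmaCore M ⊓ centralizer (K : Set G)) := ⟨hMs, h2, hks1⟩
  obtain ⟨X, hX, hXp⟩ := exists_prime_le K P.ne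
  have hXσ : X ≤ Cfsg.sigmaCore Ms := hX.trans (h1 ▸ inf_le_left)
  have hXσ' : X ≤ Cfsg.sigmaCore Ms' := hX.trans (h1' ▸ inf_le_left)
  exact eq_of_mem_sigma h Ps (hX.trans h1.le) (ne_bot_of_prime_card hXp) hMs'
    (hXσ'.trans (Cfsg.Agent.H9.BG12.sigmaCore_le Ms'))
    (Cfsg.Agent.H9.BG12.mem_sigma_of_dvd_card_sigmaCore hXp (Subgroup.card_dvd_of_le hXσ))
    (Cfsg.Agent.H9.BG12.mem_sigma_of_dvd_card_sigmaCore hXp (Subgroup.card_dvd_of_le hXσ'))

/-- the symmetric pair `(M, K)`, `(M*, K*)` -/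
structure Partner (M K Ms : Subgroup G) : Prop where
  P : PT M K
  Ps : PT Ms (Cfsg.sigmaCore M ⊓ centralizer (K : Set G))
  eq : K = Cfsg.sigmaCore Ms ⊓
    centralizer ((Cfsg.sigmaCore M ⊓ centralizer (K : Set G) : Subgroup G) : Set G)

theorem Partner.symm {M K Ms : Subgroup G} (c : Partner M K Ms) :
    Partner Ms (Cfsg.sigmaCore M ⊓ centralizer (K : Set G)) M := by
  refine ⟨c.Ps, ?_, ?_⟩
  · rw [← c.eq]; exact c.P
  · rw [← c.eq]

theorem Partner.mem_fam {M K Ms : Subgroup G} (c : Partner M K Ms) :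
    M ∈ Fam (K ⊔ (Cfsg.sigmaCore M ⊓ centralizer (K : Set G))) ∧
      Ms ∈ Fam (K ⊔ (Cfsg.sigmaCore M ⊓ centralizer (K : Set G))) := by
  refine ⟨⟨K, c.P, rfl⟩, ⟨_, c.Ps, ?_⟩⟩
  rw [← c.eq, sup_comm]

theorem Partner.ne {M K Ms : Subgroup G} (c : Partner M K Ms) : M ≠ Ms := by
  intro h0
  apply c.P.ne
  rw [eq_bot_iff, ← c.P.K_inf_sigmaCore]
  refine le_inf le_rfl ?_
  have := c.eq.le.trans inf_le_left
  rwa [← h0] at this

/-- `M ∩ M* = Z`, `M*` is not conjugate to `M`, `C_G(X) ≤ M*` for `X ≤ K` of prime order -/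
theorem Partner.main (h : Hyp G) {M K Ms : Subgroup G} (c : Partner M K Ms) :
    M ⊓ Ms = K ⊔ (Cfsg.sigmaCore M ⊓ centralizer (K : Set G)) ∧
      (∀ g : G, Ms ≠ M.map (cj g)) ∧
      ∀ X : Subgroup G, X ≤ K → (Nat.card X).Prime → centralizer (X : Set G) ≤ Ms := by
  obtain ⟨h1, h2, h3⟩ := fam_pair h c.mem_fam.1 c.mem_fam.2 c.ne
  refine ⟨h1, h2, fun X hX hXp => h3 X (le_inf (hX.trans le_sup_left) ?_) hXp⟩
  exact hX.trans (c.eq.le.trans inf_le_left)

theorem card_eq_of_all_kappa (hG : Cfsg.IsMinSimpleOddOrder G) {M K : Subgroup G} (P : PT M K)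
    (hall : ∀ q : ℕ, q.Prime → q ∣ Nat.card M → q ∉ Cfsg.sigma M → q ∈ Cfsg.kappa M) :
    Nat.card K * Nat.card (Cfsg.sigmaCore M) = Nat.card M := by
  obtain ⟨⟨hle, hπ, hidx⟩, -, -⟩ := Cfsg.Agent.Helper21.BG12.st1350 hG M P.coatom
  have hn : K ≤ normalizer (Cfsg.sigmaCore M : Set G) :=
    P.K_le.trans (Cfsg.Agent.H9.BG12.le_normalizer_sigmaCore M)
  have h1 := Cfsg.Agent.Helper17.card_sup_mul_card_inf (Cfsg.sigmaCore M) K hn
  rw [inf_comm, P.K_inf_sigmaCore, Subgroup.card_bot, mul_one] at h1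
  have hT : Cfsg.sigmaCore M ⊔ K ≤ M := sup_le hle P.K_le
  have h2 : (Cfsg.sigmaCore M ⊔ K).relIndex M = 1 := by
    by_contra hne
    obtain ⟨p, hp, hpd⟩ := Nat.exists_prime_and_dvd hne
    have h3 : (Cfsg.sigmaCore M ⊔ K).relIndex M ∣ (Cfsg.sigmaCore M).relIndex M :=
      Dvd.intro_left _ (Subgroup.relIndex_mul_relIndex _ _ M le_sup_left hT)
    have h4 : (Cfsg.sigmaCore M ⊔ K).relIndex M ∣ K.relIndex M :=
      Dvd.intro_left _ (Subgroup.relIndex_mul_relIndex _ _ M le_sup_right hT)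
    have hpM : p ∣ Nat.card M := hpd.trans (Subgroup.relIndex_dvd_card _ _)
    have hpσ : p ∉ Cfsg.sigma M := fun h0 => hidx p hp h0 (hpd.trans h3)
    exact P.hall.2.2 p hp (hall p hp hpM hpσ) (hpd.trans h4)
  have h5 := Cfsg.Agent.Lead.relIndex_mul_card' hT
  rw [h2, one_mul, h1] at h5
  rw [← h5]; ring

/-- `U ≠ 1` forces `M_σ` nilpotent -/
theorem nilpotent_of_compl_ne (h : Hyp G) {M K : Subgroup G} (P : PT M K)
    (hU : Nat.card K * Nat.card (Cfsg.sigmaCore M) ≠ Nat.card M) :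
    Group.IsNilpotent ↥(Cfsg.sigmaCore M) := by
  by_contra hnn
  exact hU (card_eq_of_all_kappa h.hG P
    (Cfsg.Agent.Helper29.BG14.all_kappa_of_not_nilpotent h.h1429 P.coatom hnn))

theorem PT.isZGroup {M K : Subgroup G} (P : PT M K) : IsZGroup K := by
  refine ⟨fun p hp S => ?_⟩
  haveI : Fact p.Prime := ⟨hp⟩
  by_cases hd : p ∣ Nat.card K
  · have hpκ := P.hall.2.1 p hp hd
    have hT : IsPGroup p ((S : Subgroup K).map K.subtype) := S.isPGroup'.map _
    have hTM : (S : Subgroup K).map K.subtype ≤ M := (Subgroup.map_subtype_le _).trans P.K_le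
    obtain ⟨Q, hQ, hTQ⟩ := exists_isSylowIn_ge hTM hT
    have hc : IsCyclic ↥(hQ.toSylow : Subgroup M) := (hpκ.2.2.2 hQ.toSylow).1
    have hmap : ((hQ.toSylow : Subgroup M)).map M.subtype = Q := hQ.toSylow_map
    have e : ↥(hQ.toSylow : Subgroup M) ≃* ↥Q :=
      ((hQ.toSylow : Subgroup M).equivMapOfInjective _ M.subtype_injective).trans
        (MulEquiv.subgroupCongr hmap)
    haveI : IsCyclic ↥Q := isCyclic_of_surjective e e.surjective
    have e2 : ↥(((S : Subgroup K).map K.subtype).subgroupOf Q) ≃*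
        ↥((S : Subgroup K).map K.subtype) := Subgroup.subgroupOfEquivOfLe hTQ
    haveI : IsCyclic ↥((S : Subgroup K).map K.subtype) := isCyclic_of_surjective e2 e2.surjective
    have e3 : ↥(S : Subgroup K) ≃* ↥((S : Subgroup K).map K.subtype) :=
      (S : Subgroup K).equivMapOfInjective _ K.subtype_injective
    exact isCyclic_of_surjective e3.symm e3.symm.surjective
  · have h1 : Nat.card ↥(S : Subgroup K) = 1 := by
      obtain ⟨k, hk⟩ := IsPGroup.iff_card.mp S.isPGroup'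
      rcases Nat.eq_zero_or_pos k with h0 | h0
      · rw [hk, h0, pow_zero]
      · exfalso
        apply hd
        have : p ∣ Nat.card ↥(S : Subgroup K) := hk ▸ dvd_pow_self p h0.ne'
        exact this.trans (Subgroup.card_subgroup_dvd_card _)
    haveI : Subsingleton ↥(S : Subgroup K) := (Nat.card_eq_one_iff_unique.mp h1).1
    exact isCyclic_of_subsingleton

theorem card_witness_eq {L K K₀ : Subgroup G} (P : PT L K) (P₀ : PT L K₀)
    (hZ : K₀ ⊔ (Cfsg.sigmaCore L ⊓ centralizer (K₀ : Set G)) =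
      K ⊔ (Cfsg.sigmaCore L ⊓ centralizer (K : Set G))) : Nat.card K₀ = Nat.card K := by
  have h1 : Cfsg.sigmaCore L ⊓ centralizer (K₀ : Set G) =
      Cfsg.sigmaCore L ⊓ centralizer (K : Set G) := by
    rw [← P₀.zz_inf_sigmaCore, hZ, P.zz_inf_sigmaCore]
  have h2 := P₀.card_zz
  rw [hZ, P.card_zz, h1] at h2
  have h0 : 0 < Nat.card ↥(Cfsg.sigmaCore L ⊓ centralizer (K : Set G)) := Nat.card_pos
  exact (Nat.eq_of_mul_eq_mul_right h0 h2).symm

/-- **S1369(1)** in cardinality form: `U ≠ 1` or `U* ≠ 1` -/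
theorem Partner.compl_ne (H : Hyp2 G) {M K Ms : Subgroup G} (c : Partner M K Ms) :
    Nat.card K * Nat.card (Cfsg.sigmaCore M) ≠ Nat.card M ∨
      Nat.card ↥(Cfsg.sigmaCore M ⊓ centralizer (K : Set G)) * Nat.card (Cfsg.sigmaCore Ms) ≠
        Nat.card Ms := by
  obtain ⟨L₀, K₀, P₀, hZ₀, hU⟩ :=
    exists_compl_ne H.h H.h1377 H.h1379 c.mem_fam.1 c.mem_fam.2 c.ne
  have hL₀ : L₀ ∈ Fam (K ⊔ (Cfsg.sigmaCore M ⊓ centralizer (K : Set G))) := ⟨K₀, P₀, hZ₀⟩
  by_cases h1 : L₀ = M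
  · left
    subst h1
    rw [← card_witness_eq c.P P₀ hZ₀]
    exact hU
  · by_cases h2 : L₀ = Ms
    · right
      subst h2
      have hZ' : K₀ ⊔ (Cfsg.sigmaCore L₀ ⊓ centralizer (K₀ : Set G)) =
          (Cfsg.sigmaCore M ⊓ centralizer (K : Set G)) ⊔ (Cfsg.sigmaCore L₀ ⊓
            centralizer ((Cfsg.sigmaCore M ⊓ centralizer (K : Set G) : Subgroup G) : Set G)) := by
        rw [hZ₀, ← c.eq, sup_comm]
      rw [← card_witness_eq c.Ps P₀ hZ']
      exact hU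
    · exfalso
      exact fam_le_two H c.mem_fam.1 c.mem_fam.2 hL₀ c.ne (Ne.symm h1) (Ne.symm h2)

/-- `K` is cyclic -/
theorem Partner.isCyclic (H : Hyp2 G) {M K Ms : Subgroup G} (c : Partner M K Ms) :
    IsCyclic K := by
  by_cases hU : Nat.card K * Nat.card (Cfsg.sigmaCore M) = Nat.card M
  · have h1 := (c.compl_ne H).resolve_left (not_not.mpr hU)
    have h2 := nilpotent_of_compl_ne H.h c.Ps h1
    haveI : Group.IsNilpotent ↥K :=
      Cfsg.Agent.Helper29.nilpotent_of_le (c.eq.le.trans inf_le_left) h2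
    haveI := c.P.isZGroup
    infer_instance
  · have := H.hB M K c.P.coatom c.P.hall c.P.ne hU
    exact isCyclic_of_prime_card (p := Nat.card K) (hp := ⟨this⟩) rfl

/-- `Z = K K*` is cyclic -/
theorem Partner.isCyclic_zz (H : Hyp2 G) {M K Ms : Subgroup G} (c : Partner M K Ms) :
    IsCyclic ↥(K ⊔ (Cfsg.sigmaCore M ⊓ centralizer (K : Set G))) := by
  apply Cfsg.Agent.Helper8.isCyclic_sup_of_commute_coprime _ _ (c.isCyclic H) (c.symm.isCyclic H)
  · intro a ha b hb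
    exact ks_comm ha hb
  · exact Nat.Coprime.coprime_dvd_right (Subgroup.card_dvd_of_le inf_le_left) c.P.coprime

end Cfsg.Agent.Helper1.BG147
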