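import Mathlib
import Cfsg.Prelude.Def_OddOrderLocal
import Cfsg.Agent.Helper1.BG147D

/-!
# B&G Theorem 14.7: the statements S1366, S1368, S1351, S1369(1) relative to `Hyp2 G`
-/

set_option autoImplicit false
set_option linter.unusedSectionVars false
set_option linter.unusedVariables false
set_option linter.style.haveILetI false

namespace Cfsg.Agent.Helper1.BG147

open Subgroup Cfsg
open Cfsg.Agent.Helper14 (cj)
open Cfsg.Agent.Helper29.BG14 (Hyp)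

universe u

variable {G : Type u} [Group G] [Finite G]

theorem partner_of (h : Hyp G) {M K U Mstar : Subgroup G} (hM : IsCoatom M)
    (hKU : Cfsg.IsSigmaDecomposition M K U) (hK1 : K ≠ ⊥) (hMstar : IsCoatom Mstar)
    (hKst : K = Cfsg.sigmaCore Mstar ⊓ Subgroup.centralizer ((Cfsg.sigmaCore M ⊓ Subgroup.centralizer (K : Set G)) : Set G))
    (hKstH : Cfsg.IsPiHallOf (Cfsg.kappa Mstar) (Cfsg.sigmaCore M ⊓ Subgroup.centralizer (K : Set G)) Mstar) :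
    Partner M K Mstar :=
  ⟨⟨hM, hKU.hall, hK1⟩,
    ⟨hMstar, hKstH, Cfsg.Agent.Helper10.BG16.kstar_ne_bot h.h1430 hM hKU.hall hK1⟩, hKst⟩

/-- **S1366** -/
theorem s1366_of (H : Hyp2 G) (M : Subgroup G) (hM : IsCoatom M) (K U : Subgroup G)
    (hKU : Cfsg.IsSigmaDecomposition M K U) (hK1 : K ≠ ⊥) :
    ∃! Mstar : Subgroup G, IsCoatom Mstar ∧ K = Cfsg.sigmaCore Mstar ⊓ Subgroup.centralizer ((Cfsg.sigmaCore M ⊓ Subgroup.centralizer (K : Set G)) : Set G) ∧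
        Cfsg.IsPiHallOf (Cfsg.kappa Mstar) (Cfsg.sigmaCore M ⊓ Subgroup.centralizer (K : Set G)) Mstar := by
  have P : PT M K := ⟨hM, hKU.hall, hK1⟩
  obtain ⟨Ms, hMs, h1, h2⟩ := exists_partner H P
  refine ⟨Ms, ⟨hMs, h1, h2⟩, ?_⟩
  rintro Ms' ⟨hMs', h1', -⟩
  exact partner_unique H.h P hMs h1 h2 hMs' h1'

/-- **S1368** -/
theorem s1368_of (H : Hyp2 G) (M : Subgroup G) (hM : IsCoatom M) (K U : Subgroup G)
    (hKU : Cfsg.IsSigmaDecomposition M K U) (hK1 : K ≠ ⊥) (Mstar : Subgroup G) (hMstar : IsCoatom Mstar)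
    (hKst : K = Cfsg.sigmaCore Mstar ⊓ Subgroup.centralizer ((Cfsg.sigmaCore M ⊓ Subgroup.centralizer (K : Set G)) : Set G))
    (hKstH : Cfsg.IsPiHallOf (Cfsg.kappa Mstar) (Cfsg.sigmaCore M ⊓ Subgroup.centralizer (K : Set G)) Mstar) :
    M ⊓ Mstar = K ⊔ (Cfsg.sigmaCore M ⊓ Subgroup.centralizer (K : Set G)) ∧ IsCyclic ↥(K ⊔ (Cfsg.sigmaCore M ⊓ Subgroup.centralizer (K : Set G))) := by
  have c := partner_of H.h hM hKU hK1 hMstar hKst hKstH
  exact ⟨(c.main H.h).1, c.isCyclic_zz H⟩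

/-- **S1351** -/
theorem s1351_of (H : Hyp2 G) (M : Subgroup G) (hM : IsCoatom M) :
    (∃ K : Subgroup G, Cfsg.IsPiHallOf (Cfsg.kappa M) K M) ∧
      ∀ K : Subgroup G, Cfsg.IsPiHallOf (Cfsg.kappa M) K M → IsCyclic K := by
  refine ⟨Cfsg.Agent.Lead.exists_isPiHallOf _
    (Cfsg.Agent.Helper10.BG16.isSolvable_coatom H.h.hG hM), ?_⟩
  intro K hK
  by_cases hK1 : K = ⊥
  · subst hK1
    infer_instance
  · have P : PT M K := ⟨hM, hK, hK1⟩
    obtain ⟨Ms, hMs, h1, h2⟩ := exists_partner H P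
    have c : Partner M K Ms :=
      ⟨P, ⟨hMs, h2, Cfsg.Agent.Helper10.BG16.kstar_ne_bot H.h.h1430 hM hK hK1⟩, h1⟩
    exact c.isCyclic H

theorem card_eq_of_compl_eq_bot {M K U : Subgroup G} (P : PT M K)
    (hc : Cfsg.IsComplIn U (K ⊔ Cfsg.sigmaCore M) M) (hU : U = ⊥) :
    Nat.card K * Nat.card (Cfsg.sigmaCore M) = Nat.card M := by
  have h1 := Cfsg.Agent.H9.BG12.card_mul_of_isComplIn hc
  rw [hU, Subgroup.card_bot, one_mul] at h1
  have hn : K ≤ normalizer (Cfsg.sigmaCore M : Set G) :=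
    P.K_le.trans (Cfsg.Agent.H9.BG12.le_normalizer_sigmaCore M)
  have h2 := Cfsg.Agent.Helper17.card_sup_mul_card_inf (Cfsg.sigmaCore M) K hn
  rw [inf_comm, P.K_inf_sigmaCore, Subgroup.card_bot, mul_one, sup_comm] at h2
  rw [← h1, h2]; ring

/-- **S1369, first clause** -/
theorem s1369a_of (H : Hyp2 G) (M : Subgroup G) (hM : IsCoatom M) (K U : Subgroup G)
    (hKU : Cfsg.IsSigmaDecomposition M K U) (hK1 : K ≠ ⊥) (Mstar : Subgroup G) (hMstar : IsCoatom Mstar)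
    (hKst : K = Cfsg.sigmaCore Mstar ⊓ Subgroup.centralizer ((Cfsg.sigmaCore M ⊓ Subgroup.centralizer (K : Set G)) : Set G))
    (hKstH : Cfsg.IsPiHallOf (Cfsg.kappa Mstar) (Cfsg.sigmaCore M ⊓ Subgroup.centralizer (K : Set G)) Mstar) :
    (U ≠ ⊥ ∨ ∀ Ustar : Subgroup G, Cfsg.IsSigmaDecomposition Mstar (Cfsg.sigmaCore M ⊓ Subgroup.centralizer (K : Set G)) Ustar → Ustar ≠ ⊥) := by
  have c := partner_of H.h hM hKU hK1 hMstar hKst hKstH
  rcases c.compl_ne H with h1 | h1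
  · left
    intro hU
    exact h1 (card_eq_of_compl_eq_bot c.P hKU.compl hU)
  · right
    intro Ustar hdec hU
    exact h1 (card_eq_of_compl_eq_bot c.Ps hdec.compl hU)

end Cfsg.Agent.Helper1.BG147
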