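import Mathlib
import Cfsg.Prelude.Def_OddOrderLocal
import Cfsg.Agent.Helper1.BG147F

/-!
# B&G Theorem 14.7(g): every maximal subgroup of type `𝒫` is conjugate to `M` or `M*`
-/

set_option autoImplicit false
set_option linter.unusedSectionVars false
set_option linter.unusedVariables false
set_option linter.style.haveILetI false

namespace Cfsg.Agent.Helper1.BG147

open Subgroup Cfsg
open Cfsg.Agent.Helper14 (cj)
open Cfsg.Agent.Helper29.BG14 (Hyp sigma_partition')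

universe u

/-- the density statement of 14.7(e) (last clause of S1434) -/
def Dense (G : Type u) [Group G] [Finite G] : Prop :=
  ∀ M K Ms : Subgroup G, Partner M K Ms →
    Nat.card G < 2 * Set.ncard {a : G | ∃ g : G, ∃ z ∈ ((↑(K ⊔ (Cfsg.sigmaCore M ⊓ Subgroup.centralizer (K : Set G))) : Set G) \ ((K : Set G) ∪ ↑(Cfsg.sigmaCore M ⊓ Subgroup.centralizer (K : Set G)))), a = g * z * g⁻¹}

variable {G : Type u} [Group G] [Finite G]

/-- an element of `Ẑ` has a prime divisor of its order in `σ(M)` -/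
theorem exists_prime_sigma_of_mem_zhat {M K : Subgroup G} (P : PT M K) {z : G}
    (hz : z ∈ ((↑(K ⊔ (Cfsg.sigmaCore M ⊓ Subgroup.centralizer (K : Set G))) : Set G) \ ((K : Set G) ∪ ↑(Cfsg.sigmaCore M ⊓ Subgroup.centralizer (K : Set G))))) :
    ∃ p : ℕ, p.Prime ∧ p ∣ orderOf z ∧ p ∈ Cfsg.sigma M := by
  obtain ⟨k, hk, s, hs, rfl⟩ := mem_zz_iff.mp hz.1
  have hs1 : s ≠ 1 := by
    intro h0
    apply hz.2
    left
    rw [h0, mul_one]; exact hk
  have ho : orderOf s ≠ 1 := fun h0 => hs1 (orderOf_eq_one_iff.mp h0)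
  obtain ⟨p, hp, hpd⟩ := Nat.exists_prime_and_dvd ho
  have h1 : orderOf k ∣ Nat.card K := by
    have := orderOf_dvd_natCard (⟨k, hk⟩ : ↥K)
    rwa [← Subgroup.orderOf_coe] at this
  have h2 : orderOf s ∣ Nat.card (Cfsg.sigmaCore M) := by
    have := orderOf_dvd_natCard (⟨s, hs.1⟩ : ↥(Cfsg.sigmaCore M))
    rwa [← Subgroup.orderOf_coe] at this
  have hcop : (orderOf k).Coprime (orderOf s) :=
    Nat.Coprime.coprime_dvd_left h1 (Nat.Coprime.coprime_dvd_right h2 P.coprime)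
  have hcomm : Commute k s := ks_comm hk hs
  refine ⟨p, hp, ?_, ?_⟩
  · rw [hcomm.orderOf_mul_eq_mul_orderOf_of_coprime hcop]
    exact hpd.mul_left _
  · exact Cfsg.Agent.H9.BG12.mem_sigma_of_dvd_card_sigmaCore hp (hpd.trans h2)

/-- **S1369, second clause** -/
theorem s1369b_of (H : Hyp2 G) (hD : Dense G) {M K Ms : Subgroup G} (c : Partner M K Ms)
    (H₁ : Subgroup G) (hH₁ : IsCoatom H₁) (hκ : (Cfsg.kappa H₁).Nonempty) :
    ∃ g : G, H₁ = M.map (MulAut.conj g).toMonoidHom ∨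
      H₁ = Ms.map (MulAut.conj g).toMonoidHom := by
  classical
  have h := H.h
  obtain ⟨KH, hKH⟩ := Cfsg.Agent.Lead.exists_isPiHallOf (Cfsg.kappa H₁)
    (Cfsg.Agent.Helper10.BG16.isSolvable_coatom h.hG hH₁)
  have hKH1 : KH ≠ ⊥ := by
    obtain ⟨p, hp⟩ := hκ
    intro h0
    have h1 := hKH.2.2 p hp.1 hp
    apply h1
    rw [h0, Subgroup.relIndex_bot_left]
    exact hp.2.1
  have PH : PT H₁ KH := ⟨hH₁, hKH, hKH1⟩
  obtain ⟨Hs, hHs, h1, h2⟩ := exists_partner H PH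
  have cH : Partner H₁ KH Hs :=
    ⟨PH, ⟨hHs, h2, Cfsg.Agent.Helper10.BG16.kstar_ne_bot h.h1430 hH₁ hKH hKH1⟩, h1⟩
  have d1 := hD M K Ms c
  have d2 := hD H₁ KH Hs cH
  -- the two class supports meet
  obtain ⟨A, hA⟩ : ∃ A : Set G, A = {a : G | ∃ g : G, ∃ z ∈ ((↑(K ⊔ (Cfsg.sigmaCore M ⊓ Subgroup.centralizer (K : Set G))) : Set G) \ ((K : Set G) ∪ ↑(Cfsg.sigmaCore M ⊓ Subgroup.centralizer (K : Set G)))), a = g * z * g⁻¹} := ⟨_, rfl⟩
  obtain ⟨B, hB⟩ : ∃ B : Set G, B = {a : G | ∃ g : G, ∃ z ∈ ((↑(KH ⊔ (Cfsg.sigmaCore H₁ ⊓ Subgroup.centralizer (KH : Set G))) : Set G) \ ((KH : Set G) ∪ ↑(Cfsg.sigmaCore H₁ ⊓ Subgroup.centralizer (KH : Set G)))), a = g * z * g⁻¹} := ⟨_, rfl⟩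
  rw [← hA] at d1
  rw [← hB] at d2
  have hmeet : ¬ Disjoint A B := by
    intro hdis
    have h3 := Set.ncard_union_eq hdis (Set.toFinite _) (Set.toFinite _)
    have h4 : (A ∪ B).ncard ≤ Nat.card G := by
      rw [← Set.ncard_univ]
      exact Set.ncard_le_ncard (Set.subset_univ _) (Set.toFinite _)
    rw [h3] at h4
    omega
  rw [Set.not_disjoint_iff] at hmeet
  obtain ⟨a, haA, haB⟩ := hmeet
  rw [hA] at haA
  rw [hB] at haB
  obtain ⟨g, z, hz, rfl⟩ := haA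
  obtain ⟨g', z', hz', hzz'⟩ := haB
  obtain ⟨p, hp, hpd, hpσ⟩ := exists_prime_sigma_of_mem_zhat PH hz'
  have ho : orderOf z' = orderOf z := by
    have e : z' = (g'⁻¹ * g) * z * (g'⁻¹ * g)⁻¹ := by
      have : g' * z' * g'⁻¹ = g * z * g⁻¹ := hzz'.symm
      calc z' = g'⁻¹ * (g' * z' * g'⁻¹) * g' := by group
        _ = g'⁻¹ * (g * z * g⁻¹) * g' := by rw [this]
        _ = (g'⁻¹ * g) * z * (g'⁻¹ * g)⁻¹ := by group
    rw [e]
    exact orderOf_injective (cj (g'⁻¹ * g)) (Cfsg.Agent.Helper14.cj_injective _) z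
  rw [ho] at hpd
  have hzZ : orderOf z ∣ Nat.card ↥(K ⊔ (Cfsg.sigmaCore M ⊓ Subgroup.centralizer (K : Set G))) := by
    have := orderOf_dvd_natCard (⟨z, hz.1⟩ : ↥(K ⊔ (Cfsg.sigmaCore M ⊓ Subgroup.centralizer (K : Set G))))
    rwa [← Subgroup.orderOf_coe] at this
  rw [c.P.card_zz] at hzZ
  rcases (Nat.Prime.dvd_mul hp).mp (hpd.trans hzZ) with h5 | h5
  · -- p ∣ |K|, K ≤ Ms_σ
    have hpMs : p ∈ Cfsg.sigma Ms :=
      Cfsg.Agent.H9.BG12.mem_sigma_of_dvd_card_sigmaCore hp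
        (h5.trans (Subgroup.card_dvd_of_le (c.eq.le.trans inf_le_left)))
    obtain ⟨g₀, hg₀⟩ := sigma_partition' h c.Ps.coatom hH₁ hpMs hpσ
    exact ⟨g₀, Or.inr hg₀⟩
  · have hpM : p ∈ Cfsg.sigma M :=
      Cfsg.Agent.H9.BG12.mem_sigma_of_dvd_card_sigmaCore hp
        (h5.trans (Subgroup.card_dvd_of_le inf_le_left))
    obtain ⟨g₀, hg₀⟩ := sigma_partition' h c.P.coatom hH₁ hpM hpσ
    exact ⟨g₀, Or.inl hg₀⟩

end Cfsg.Agent.Helper1.BG147
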