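import Mathlib
import Cfsg.Agent.Helper1.BG36L1
import Cfsg.Agent.Helper5.FrobModH
import Cfsg.Agent.Helper26.Basic
import Cfsg.Agent.Helper21.Tight1
import Cfsg.Agent.Lead.CoprimeSylow

/-!
# General tools for the abelian endgame of B&G Theorem 3.6 (S1444, lemma L2)
-/

set_option autoImplicit false
set_option linter.unusedSectionVars false
open Subgroup Pointwise

namespace Cfsg.Agent.Helper1.BG36L2

open Cfsg.Agent.Lead
open scoped IsMulCommutative

variable {X : Type*} [Group X]

theorem centralizer_sup_eq (U R : Subgroup X) :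
    centralizer ((U ⊔ R : Subgroup X) : Set X)
      = centralizer (U : Set X) ⊓ centralizer (R : Set X) := by
  apply le_antisymm
  · refine le_inf (centralizer_le ?_) (centralizer_le ?_)
    · exact_mod_cast (le_sup_left : U ≤ U ⊔ R)
    · exact_mod_cast (le_sup_right : R ≤ U ⊔ R)
  · intro x hx
    have h1 : U ≤ centralizer ({x} : Set X) := by
      intro u hu
      rw [mem_centralizer_singleton_iff]
      exact ((mem_centralizer_iff.mp hx.1) u hu)
    have h2 : R ≤ centralizer ({x} : Set X) := by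
      intro u hu
      rw [mem_centralizer_singleton_iff]
      exact ((mem_centralizer_iff.mp hx.2) u hu)
    rw [mem_centralizer_iff]
    intro h hh
    have := (sup_le h1 h2) hh
    rw [mem_centralizer_singleton_iff] at this
    exact this

theorem le_of_prime_card_of_mem [Finite X] {R K : Subgroup X} {r : ℕ} (hr : r.Prime)
    (hR : Nat.card R = r) {e : X} (heR : e ∈ R) (he1 : e ≠ 1) (heK : e ∈ K) : R ≤ K := by
  have h1 : Nat.card ↥(R ⊓ K) ∣ r := hR ▸ Subgroup.card_dvd_of_le inf_le_left
  rcases (Nat.dvd_prime hr).mp h1 with h | h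
  · exfalso
    have h2 : R ⊓ K = ⊥ := Subgroup.card_eq_one.mp h
    have h3 : e ∈ R ⊓ K := ⟨heR, heK⟩
    rw [h2, mem_bot] at h3
    exact he1 h3
  · have : R ⊓ K = R := Subgroup.eq_of_le_of_card_ge inf_le_left (by rw [h, hR])
    rw [← this]; exact inf_le_right

/-- The Frobenius fixed point formula for a complement of prime order. -/
theorem formula_prime [Finite X] (U R H : Subgroup X) (r : ℕ) (hr : r.Prime)
    (hR : Nat.card R = r)
    (hRU : R ≤ normalizer (U : Set X)) (hUR : U ⊓ centralizer (R : Set X) = ⊥)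
    (hUH : U ≤ normalizer (H : Set X)) (hRH : R ≤ normalizer (H : Set X))
    (hsolv : Group.IsSolvable H)
    (hcopU : (Nat.card H).Coprime (Nat.card U)) (hcopR : (Nat.card H).Coprime r) :
    Nat.card ↥(H ⊓ centralizer (U : Set X) ⊓ centralizer (R : Set X)) ^ r * Nat.card H
      = Nat.card ↥(H ⊓ centralizer (R : Set X)) ^ r
        * Nat.card ↥(H ⊓ centralizer (U : Set X)) := by
  have hUn : ∀ e ∈ R, ∀ u ∈ U, e * u * e⁻¹ ∈ U :=
    fun e he u hu => (mem_normalizer_iff.mp (hRU he) u).mp hu
  have hfpf : ∀ e ∈ R, e ≠ 1 → ∀ u ∈ U, e * u = u * e → u = 1 := by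
    intro e he he1 u hu hc
    have h1 : R ≤ centralizer ({u} : Set X) :=
      le_of_prime_card_of_mem hr hR he he1
        (by rw [mem_centralizer_singleton_iff]; exact hc)
    have h2 : u ∈ U ⊓ centralizer (R : Set X) := by
      refine Subgroup.mem_inf.mpr ⟨hu, ?_⟩
      rw [mem_centralizer_iff]
      intro h hh
      have := h1 hh
      rw [mem_centralizer_singleton_iff] at this
      exact this
    rw [hUR, mem_bot] at h2
    exact h2
  have hinv : ∀ x ∈ U ⊔ R, ∀ h ∈ H, x * h * x⁻¹ ∈ H := by
    have hle : U ⊔ R ≤ normalizer (H : Set X) := sup_le hUH hRH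
    intro x hx h hh
    exact (mem_normalizer_iff.mp (hle hx) h).mp hh
  have hcard : Nat.card ↥(U ⊔ R) ∣ Nat.card U * r := by
    have h := Cfsg.Agent.Helper26.card_sup_mul_card_inf (H := R) (N := U) hRU
    rw [sup_comm, hR, mul_comm r] at h
    exact Dvd.intro _ h
  have hcop : (Nat.card H).Coprime (Nat.card ↥(U ⊔ R)) :=
    Nat.Coprime.coprime_dvd_right hcard (Nat.Coprime.mul_right hcopU hcopR)
  have h := Cfsg.Agent.Helper5.FrobMod.frobenius_fixed_point_formula U R hUn hfpf H hinv hsolv hcop
  rw [centralizer_sup_eq, hR, ← inf_assoc] at h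
  exact h

/-- coprimality of a `p`-group and a `q`-group. -/
theorem coprime_card_of_isPGroup [Finite X] {p q : ℕ} (hp : p.Prime) (hq : q.Prime) (hpq : p ≠ q)
    {A B : Subgroup X} (hA : IsPGroup p A) (hB : IsPGroup q B) :
    (Nat.card A).Coprime (Nat.card B) := by
  have : Fact p.Prime := ⟨hp⟩
  have : Fact q.Prime := ⟨hq⟩
  obtain ⟨a, ha⟩ := hA.exists_card_eq
  obtain ⟨b, hb⟩ := hB.exists_card_eq
  rw [ha, hb]
  exact Nat.Coprime.pow _ _ ((Nat.coprime_primes hp hq).mpr hpq)

/-- a subgroup of a group of prime order is trivial or everything (cardinality form) -/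
theorem card_eq_one_or_of_le_prime [Finite X] {A B : Subgroup X} {p : ℕ} (hp : p.Prime)
    (hB : Nat.card B = p) (hAB : A ≤ B) : A = ⊥ ∨ Nat.card A = p := by
  have h1 : Nat.card A ∣ p := hB ▸ Subgroup.card_dvd_of_le hAB
  rcases (Nat.dvd_prime hp).mp h1 with h | h
  · exact Or.inl (Subgroup.card_eq_one.mp h)
  · exact Or.inr h

/-- a cyclic group of exponent dividing the prime `q` has order `1` or `q`. -/
theorem card_dvd_of_isCyclic_of_exp {C : Subgroup X} {q : ℕ} (hC : IsCyclic C)
    (hexp : ∀ a ∈ C, a ^ q = 1) : Nat.card C ∣ q := by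
  obtain ⟨g, hg⟩ := hC.exists_generator
  have h1 : Nat.card C = orderOf g := by
    rw [← Nat.card_zpowers g]
    have : zpowers g = ⊤ := by
      rw [eq_top_iff]; intro x _; exact hg x
    rw [this, card_top]
  rw [h1]
  apply orderOf_dvd_of_pow_eq_one
  apply Subtype.ext
  rw [Subgroup.coe_pow]
  exact hexp g g.2

theorem mem_normalizer_inf {A B : Subgroup X} {x : X} (hA : x ∈ normalizer (A : Set X))
    (hB : x ∈ normalizer (B : Set X)) : x ∈ normalizer ((A ⊓ B : Subgroup X) : Set X) := by
  rw [mem_normalizer_iff] at hA hB ⊢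
  intro h
  constructor
  · rintro ⟨h1, h2⟩; exact ⟨(hA h).mp h1, (hB h).mp h2⟩
  · rintro ⟨h1, h2⟩; exact ⟨(hA h).mpr h1, (hB h).mpr h2⟩

theorem mem_normalizer_centralizer {B : Subgroup X} {x : X} (hB : x ∈ normalizer (B : Set X)) :
    x ∈ normalizer ((centralizer (B : Set X) : Subgroup X) : Set X) := by
  rw [← conj_smul_eq_self_iff_mem_normalizer] at hB ⊢
  ext y
  rw [mem_conj_smul_iff, mem_centralizer_iff, mem_centralizer_iff]
  constructor
  · intro h b hb
    have hb' : x⁻¹ * b * x ∈ B := by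
      rw [← mem_conj_smul_iff, hB]; exact hb
    have := h _ hb'
    calc b * y = x * ((x⁻¹ * b * x) * (x⁻¹ * y * x)) * x⁻¹ := by group
      _ = x * ((x⁻¹ * y * x) * (x⁻¹ * b * x)) * x⁻¹ := by rw [this]
      _ = y * b := by group
  · intro h b hb
    have hb' : x * b * x⁻¹ ∈ B := by
      have : x * b * x⁻¹ ∈ MulAut.conj x • B := by
        rw [mem_conj_smul_iff]
        have : x⁻¹ * (x * b * x⁻¹) * x = b := by group
        rw [this]; exact hb
      rwa [hB] at this
    have := h _ hb'
    calc b * (x⁻¹ * y * x) = x⁻¹ * ((x * b * x⁻¹) * y) * x := by group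
      _ = x⁻¹ * (y * (x * b * x⁻¹)) * x := by rw [this]
      _ = x⁻¹ * y * x * b := by group

theorem mem_normalizer_commutator {A B : Subgroup X} {x : X} (hA : x ∈ normalizer (A : Set X))
    (hB : x ∈ normalizer (B : Set X)) : x ∈ normalizer ((⁅A, B⁆ : Subgroup X) : Set X) := by
  rw [← conj_smul_eq_self_iff_mem_normalizer] at hA hB ⊢
  have h1 : MulAut.conj x • ⁅A, B⁆ = ⁅MulAut.conj x • A, MulAut.conj x • B⁆ := by
    simp only [Subgroup.pointwise_smul_def]
    exact Subgroup.map_commutator A B _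
  rw [h1, hA, hB]

theorem centralizer_conj_smul (x : X) (B : Subgroup X) :
    centralizer ((MulAut.conj x • B : Subgroup X) : Set X)
      = MulAut.conj x • centralizer (B : Set X) := by
  ext y
  rw [mem_conj_smul_iff, mem_centralizer_iff, mem_centralizer_iff]
  constructor
  · intro h b hb
    have hb' : x * b * x⁻¹ ∈ MulAut.conj x • B := by
      rw [mem_conj_smul_iff]
      have : x⁻¹ * (x * b * x⁻¹) * x = b := by group
      rw [this]; exact hb
    have := h _ hb'
    calc b * (x⁻¹ * y * x) = x⁻¹ * ((x * b * x⁻¹) * y) * x := by group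
      _ = x⁻¹ * (y * (x * b * x⁻¹)) * x := by rw [this]
      _ = x⁻¹ * y * x * b := by group
  · intro h b hb
    rw [SetLike.mem_coe, mem_conj_smul_iff] at hb
    have := h _ hb
    calc b * y = x * ((x⁻¹ * b * x) * (x⁻¹ * y * x)) * x⁻¹ := by group
      _ = x * ((x⁻¹ * y * x) * (x⁻¹ * b * x)) * x⁻¹ := by rw [this]
      _ = y * b := by group

/-- `|C_V(B^x)| = |C_V(B)|` for `x ∈ N(V)`. -/
theorem card_inf_centralizer_conj_smul {V : Subgroup X} {x : X}
    (hx : x ∈ normalizer (V : Set X)) (B : Subgroup X) :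
    Nat.card ↥(V ⊓ centralizer ((MulAut.conj x • B : Subgroup X) : Set X))
      = Nat.card ↥(V ⊓ centralizer (B : Set X)) := by
  have hV : MulAut.conj x • V = V := (conj_smul_eq_self_iff_mem_normalizer x V).mpr hx
  have : V ⊓ centralizer ((MulAut.conj x • B : Subgroup X) : Set X)
      = MulAut.conj x • (V ⊓ centralizer (B : Set X)) := by
    rw [Subgroup.smul_inf, hV, centralizer_conj_smul]
  rw [this, card_conj_smul]

theorem conj_smul_le_of_mem_normalizer {Q B : Subgroup X} {x : X}
    (hx : x ∈ normalizer (Q : Set X)) (hB : B ≤ Q) : MulAut.conj x • B ≤ Q := by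
  have hQ : MulAut.conj x • Q = Q := (conj_smul_eq_self_iff_mem_normalizer x Q).mpr hx
  rw [← hQ]
  exact Subgroup.pointwise_smul_le_pointwise_smul_iff.mpr hB

theorem relIndex_conj_smul_of_mem_normalizer {Q : Subgroup X} {x : X}
    (hx : x ∈ normalizer (Q : Set X)) (B : Subgroup X) :
    (MulAut.conj x • B).relIndex Q = B.relIndex Q := by
  have hQ : MulAut.conj x • Q = Q := (conj_smul_eq_self_iff_mem_normalizer x Q).mpr hx
  have := Subgroup.relIndex_pointwise_smul (MulAut.conj x) B Q
  rwa [hQ] at this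

theorem conj_smul_conj_smul (x y : X) (B : Subgroup X) :
    MulAut.conj x • MulAut.conj y • B = MulAut.conj (x * y) • B := by
  rw [map_mul, mul_smul]

theorem conj_one_smul (B : Subgroup X) : MulAut.conj (1 : X) • B = B := by
  rw [map_one, one_smul]

/-- the conjugation action of `R ≤ N(P)` on `P`. -/
@[reducible] def conjActOn (R P : Subgroup X) (h : R ≤ normalizer (P : Set X)) : MulAction R P where
  smul x u := ⟨(x : X) * u * (x : X)⁻¹, (mem_normalizer_iff.mp (h x.2) u).mp u.2⟩
  one_smul u := by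
    apply Subtype.ext
    change ((1 : R) : X) * u * ((1 : R) : X)⁻¹ = u
    simp
  mul_smul x y u := by
    apply Subtype.ext
    change ((x * y : R) : X) * u * ((x * y : R) : X)⁻¹
      = (x : X) * ((y : X) * u * (y : X)⁻¹) * (x : X)⁻¹
    simp [mul_assoc]

/-- fixed-point-free action of an `r`-group: `|P| ≡ 1 mod r`. -/
theorem card_modEq_one_of_fpf [Finite X] {R P : Subgroup X} {r : ℕ} [Fact r.Prime]
    (hRr : IsPGroup r R) (h : R ≤ normalizer (P : Set X))
    (hfpf : P ⊓ centralizer (R : Set X) = ⊥) : Nat.card P ≡ 1 [MOD r] := by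
  let _ := conjActOn R P h
  have h1 := hRr.card_modEq_card_fixedPoints (↥P)
  have h2 : Nat.card (MulAction.fixedPoints R P) = 1 := by
    rw [Nat.card_eq_one_iff_unique]
    refine ⟨⟨?_⟩, ⟨⟨1, ?_⟩⟩⟩
    · rintro ⟨u, hu⟩ ⟨v, hv⟩
      have key : ∀ w : P, w ∈ MulAction.fixedPoints R P → w = 1 := by
        intro w hw
        have hw' : (w : X) ∈ P ⊓ centralizer (R : Set X) := by
          refine Subgroup.mem_inf.mpr ⟨w.2, ?_⟩
          rw [mem_centralizer_iff]
          intro x hx
          have h3 := hw ⟨x, hx⟩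
          have h4 : x * (w : X) * x⁻¹ = w := congrArg Subtype.val h3
          calc x * (w : X) = (x * (w : X) * x⁻¹) * x := by group
            _ = (w : X) * x := by rw [h4]
        rw [hfpf, mem_bot] at hw'
        exact Subtype.ext hw'
      apply Subtype.ext
      exact (key u hu).trans (key v hv).symm
    · intro x
      apply Subtype.ext
      change (x : X) * ((1 : P) : X) * (x : X)⁻¹ = ((1 : P) : X)
      simp
  rw [h2] at h1
  exact h1

/-- a `p`-group normalizing a subgroup of order `p` centralizes it. -/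
theorem le_centralizer_of_card_prime [Finite X] {P W : Subgroup X} {p : ℕ} [Fact p.Prime]
    (hP : IsPGroup p P) (hW : Nat.card W = p) (h : P ≤ normalizer (W : Set X)) :
    W ≤ centralizer (P : Set X) := by
  let _ := conjActOn P W h
  have h1 := hP.card_modEq_card_fixedPoints (↥W)
  rw [hW] at h1
  -- the number of fixed points is a positive multiple of `p`, at most `p`
  have hpos : 0 < Nat.card (MulAction.fixedPoints P W) := by
    have : Nonempty (MulAction.fixedPoints P W) := by
      refine ⟨⟨1, ?_⟩⟩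
      intro x
      apply Subtype.ext
      change (x : X) * ((1 : W) : X) * (x : X)⁻¹ = ((1 : W) : X)
      simp
    exact Nat.card_pos
  have hdvd : p ∣ Nat.card (MulAction.fixedPoints P W) := by
    exact Nat.modEq_zero_iff_dvd.mp (h1.symm.trans (Nat.modEq_zero_iff_dvd.mpr dvd_rfl))
  have hle : Nat.card (MulAction.fixedPoints P W) ≤ p := by
    rw [← hW]
    exact Nat.card_le_card_of_injective _ Subtype.val_injective
  have hcard : Nat.card (MulAction.fixedPoints P W) = Nat.card W := by
    rw [hW]; exact le_antisymm hle (Nat.le_of_dvd hpos hdvd)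
  have hsurj : Function.Surjective (Subtype.val : MulAction.fixedPoints P W → W) :=
    (Function.Injective.bijective_of_nat_card_le Subtype.val_injective (le_of_eq hcard.symm)).2
  intro w hw
  rw [mem_centralizer_iff]
  intro x hx
  obtain ⟨⟨w', hw'⟩, hww⟩ := hsurj ⟨w, hw⟩
  have hww' : w' = ⟨w, hw⟩ := hww
  subst hww'
  have h4 := hw' ⟨x, hx⟩
  have h5 : x * w * x⁻¹ = w := congrArg Subtype.val h4
  calc x * w = (x * w * x⁻¹) * x := by group
    _ = w * x := by rw [h5]

end Cfsg.Agent.Helper1.BG36L2
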