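import Mathlib
import Cfsg.Agent.Helper26.BG36L3a
import Cfsg.Agent.Helper1.BG36L2a
import Cfsg.Agent.Helper7.Layer

/-!
# Abstract group-theoretic lemmas for B&G Theorem C (S1363–S1365)
-/

set_option autoImplicit false
set_option linter.unusedSectionVars false
set_option linter.unusedVariables false
open Subgroup

namespace Cfsg.Agent.Helper1.BG16C

open Cfsg.Agent.Lead Cfsg.Agent.Helper1.BG36L2
open scoped commutatorElement

variable {X : Type*} [Group X]

theorem le_normalizer_sup_of_le {A B C : Subgroup X} (hB : A ≤ normalizer (B : Set X))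
    (hC : A ≤ normalizer (C : Set X)) : A ≤ normalizer ((B ⊔ C : Subgroup X) : Set X) := by
  intro a ha
  have h1 := hB ha
  have h2 := hC ha
  rw [← conj_smul_eq_self_iff_mem_normalizer] at h1 h2 ⊢
  rw [Subgroup.smul_sup, h1, h2]

/-- the set of `a ∈ N(D)` with `[x,a] ∈ D`, as a subgroup. -/
def commInto (D : Subgroup X) (x : X) : Subgroup X where
  carrier := {a | a ∈ normalizer (D : Set X) ∧ ⁅x, a⁆ ∈ D}
  one_mem' := by
    refine ⟨Subgroup.one_mem _, ?_⟩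
    rw [commutatorElement_def]; simp
  mul_mem' := by
    rintro a b ⟨ha, hxa⟩ ⟨hb, hxb⟩
    refine ⟨Subgroup.mul_mem _ ha hb, ?_⟩
    have e : ⁅x, a * b⁆ = ⁅x, a⁆ * (a * ⁅x, b⁆ * a⁻¹) := by
      simp only [commutatorElement_def]; group
    rw [e]
    exact D.mul_mem hxa ((mem_normalizer_iff.mp ha _).mp hxb)
  inv_mem' := by
    rintro a ⟨ha, hxa⟩
    have ha' : a⁻¹ ∈ normalizer (D : Set X) := Subgroup.inv_mem _ ha
    refine ⟨ha', ?_⟩
    have e : ⁅x, a⁻¹⁆ = a⁻¹ * ⁅x, a⁆⁻¹ * a⁻¹⁻¹ := by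
      simp only [commutatorElement_def]; group
    rw [e]
    exact (mem_normalizer_iff.mp ha' _).mp (D.inv_mem hxa)

theorem mem_commInto {D : Subgroup X} {x a : X} :
    a ∈ commInto D x ↔ a ∈ normalizer (D : Set X) ∧ ⁅x, a⁆ ∈ D := Iff.rfl

/-- `C_{Ms}(K) ≤ Ms' [Ms,U]` when `Ms = [Ms, UK]` (coprime action). -/
theorem inf_centralizer_le_of_commutator_eq [Finite X] {Ms U K : Subgroup X}
    (hUMs : U ≤ normalizer (Ms : Set X)) (hKMs : K ≤ normalizer (Ms : Set X))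
    (hKU : K ≤ normalizer (U : Set X))
    (hcop : (Nat.card (U ⊔ K : Subgroup X)).Coprime (Nat.card Ms))
    (hcomm : ⁅Ms, U ⊔ K⁆ = Ms) :
    Ms ⊓ centralizer (K : Set X) ≤ ⁅Ms, Ms⁆ ⊔ ⁅Ms, U⁆ := by
  obtain ⟨D, hD⟩ : ∃ D, D = ⁅Ms, Ms⁆ ⊔ ⁅Ms, U⁆ := ⟨_, rfl⟩
  rw [← hD]
  have hMsD : Ms ≤ normalizer (D : Set X) := by
    rw [hD]
    refine le_normalizer_sup_of_le ?_ (le_normalizer_commutator_left Ms U)
    intro x hx
    exact mem_normalizer_commutator (le_normalizer hx) (le_normalizer hx)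
  have hUD : U ≤ normalizer (D : Set X) := by
    rw [hD]
    refine le_normalizer_sup_of_le ?_ (le_normalizer_commutator_right Ms U)
    intro x hx
    exact mem_normalizer_commutator (hUMs hx) (hUMs hx)
  have hKD : K ≤ normalizer (D : Set X) := by
    rw [hD]
    refine le_normalizer_sup_of_le ?_ ?_
    · intro x hx
      exact mem_normalizer_commutator (hKMs hx) (hKMs hx)
    · intro x hx
      exact mem_normalizer_commutator (hKMs hx) (hKU hx)
  have hED : U ⊔ K ≤ normalizer (D : Set X) := sup_le hUD hKD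
  have hEMs : U ⊔ K ≤ normalizer (Ms : Set X) := sup_le hUMs hKMs
  have hMsMsD : ⁅Ms, Ms⁆ ≤ D := hD ▸ le_sup_left
  have hMsUD : ⁅Ms, U⁆ ≤ D := hD ▸ le_sup_right
  have key := Cfsg.Agent.Helper26.BG36L3.rel_coprime_abelian D Ms (U ⊔ K) hMsD hED hEMs hMsMsD hcop
  intro x hx
  have hxMs : x ∈ Ms := hx.1
  have hxK : x ∈ centralizer (K : Set X) := hx.2
  apply key x (by rw [hcomm]; exact hxMs)
  have hle : U ⊔ K ≤ commInto D x := by
    refine sup_le ?_ ?_
    · intro a ha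
      exact ⟨hUD ha, hMsUD (commutator_mem_commutator hxMs ha)⟩
    · intro a ha
      refine ⟨hKD ha, ?_⟩
      have h1 : a * x = x * a := (mem_centralizer_iff.mp hxK) a ha
      have h2 : ⁅x, a⁆ = 1 := by
        rw [commutatorElement_def, ← h1]; group
      rw [h2]; exact D.one_mem
  intro a ha
  exact (hle ha).2

/-- `M' = U Ms` for `M = U (K Ms)` with `K` abelian acting without fixed points on `U`. -/
theorem commutator_eq_of_decomp [Finite X] {M Ms U K : Subgroup X}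
    (hMsM : Ms ≤ M) (hUM : U ≤ M) (hKM : K ≤ M)
    (hMN : M ≤ normalizer ((U ⊔ Ms : Subgroup X) : Set X))
    (hgen : ∀ m ∈ M, ∃ a ∈ U, ∃ b ∈ K ⊔ Ms, m = a * b)
    (hKMs : K ≤ normalizer (Ms : Set X))
    (hKcomm : ∀ a ∈ K, ∀ b ∈ K, a * b = b * a)
    (hKU : K ≤ normalizer (U : Set X))
    (hcop : (Nat.card K).Coprime (Nat.card U))
    (hfree : U ⊓ centralizer (K : Set X) = ⊥)
    (hMsder : Ms ≤ ⁅M, M⁆) : ⁅M, M⁆ = U ⊔ Ms := by
  obtain ⟨N, hN⟩ : ∃ N, N = U ⊔ Ms := ⟨_, rfl⟩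
  rw [← hN] at hMN ⊢
  have hUN : U ≤ N := hN ▸ le_sup_left
  have hMsN : Ms ≤ N := hN ▸ le_sup_right
  have hNM : N ≤ M := hN ▸ sup_le hUM hMsM
  apply le_antisymm
  · -- every element of `M` is congruent mod `N` to an element of `K`
    have hrep : ∀ m ∈ M, ∃ k ∈ K, ∃ n ∈ N, m = k * n := by
      intro m hm
      obtain ⟨a, ha, b, hb, rfl⟩ := hgen m hm
      rw [sup_comm, Cfsg.Agent.Helper7.mem_sup_of_le_normalizer hKMs] at hb
      obtain ⟨s, hs, k, hk, rfl⟩ := hb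
      -- a * (s * k) = k * (k⁻¹ * (a * s) * k)
      refine ⟨k, hk, k⁻¹ * (a * s) * k, ?_, by group⟩
      have h1 : a * s ∈ N := N.mul_mem (hUN ha) (hMsN hs)
      have h2 := (mem_normalizer_iff.mp (hMN (hKM (K.inv_mem hk))) (a * s)).mp h1
      simpa using h2
    rw [commutator_le]
    intro x hx y hy
    obtain ⟨k, hk, n, hn, rfl⟩ := hrep x hx
    obtain ⟨k', hk', n', hn', rfl⟩ := hrep y hy
    -- compute modulo `N`
    have hcj : ∀ g ∈ M, ∀ z ∈ N, g * z * g⁻¹ ∈ N := fun g hg z hz =>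
      (mem_normalizer_iff.mp (hMN hg) z).mp hz
    have hkk : k * k' = k' * k := hKcomm k hk k' hk'
    have e : ⁅k * n, k' * n'⁆ =
        (k * n * k⁻¹) * ((k * k') * (n' * n⁻¹) * (k * k')⁻¹) * (k' * n'⁻¹ * k'⁻¹) := by
      simp only [commutatorElement_def]
      have : (k * k')⁻¹ = k⁻¹ * k'⁻¹ := by rw [hkk]; group
      rw [this]
      have h3 : k * k' * (n' * n⁻¹) * (k⁻¹ * k'⁻¹) = k * k' * n' * n⁻¹ * k⁻¹ * k'⁻¹ := by group
      rw [h3]
      have h4 : k * n * k⁻¹ * (k * k' * n' * n⁻¹ * k⁻¹ * k'⁻¹) * (k' * n'⁻¹ * k'⁻¹)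
          = k * n * k' * n' * n⁻¹ * k⁻¹ * n'⁻¹ * k'⁻¹ := by group
      rw [h4]
      group
    rw [e]
    refine N.mul_mem (N.mul_mem (hcj k (hKM hk) n hn) ?_) (hcj k' (hKM hk') _ (N.inv_mem hn'))
    exact hcj _ (M.mul_mem (hKM hk) (hKM hk')) _ (N.mul_mem hn' (N.inv_mem hn))
  · rw [hN]
    refine sup_le ?_ hMsder
    have hsolv : Group.IsSolvable K := by
      have : IsMulCommutative K := ⟨⟨fun a b => Subtype.ext (hKcomm a a.2 b b.2)⟩⟩
      exact isSolvable_of_isMulCommutative K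
    have h1 := coprime_commutator_sup_centralizer K U hKU hcop (Or.inl hsolv)
    rw [hfree, sup_bot_eq] at h1
    rw [← h1]
    exact commutator_mono hUM hKM

end Cfsg.Agent.Helper1.BG16C
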