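import Mathlib
import Cfsg.Prelude.Def_OddOrderLocal
import Cfsg.Agent.Helper18.BG16Ba
import Cfsg.Agent.Helper1.BG16C1

/-!
# B&G Theorem C(3) (S1365), conditionally: `M' = U M_σ` and `K* ≤ M''`
-/

set_option autoImplicit false
set_option linter.unusedSectionVars false
set_option linter.unusedVariables false

namespace Cfsg.Agent.Helper1.BG16C

open Subgroup Cfsg
open Cfsg.Agent.H9.BG12 (St1350 sigmaCore_le le_normalizer_sigmaCore
  mem_sigma_of_dvd_card_sigmaCore)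
open Cfsg.Agent.Helper18.BG16B (K_le U_le K_inf_sigmaCore not_mem_sigma_of_dvd_card_U
  not_mem_kappa_of_dvd_card_U complIn_sup)

universe u

variable {G : Type u} [Group G] [Finite G]

section decomp

variable {M K U : Subgroup G} (hKU : Cfsg.IsSigmaDecomposition M K U)
include hKU

theorem coprime_K_U : (Nat.card K).Coprime (Nat.card U) := by
  apply Nat.coprime_of_dvd
  intro p hp hpK hpU
  exact not_mem_kappa_of_dvd_card_U hKU hp hpU (hKU.hall.2.1 p hp hpK)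

theorem coprime_K_sigmaCore : (Nat.card K).Coprime (Nat.card (Cfsg.sigmaCore M)) := by
  apply Nat.coprime_of_dvd
  intro p hp hpK hpS
  have h1 : p ∈ Cfsg.kappa M := hKU.hall.2.1 p hp hpK
  exact h1.2.2.1 (mem_sigma_of_dvd_card_sigmaCore hp hpS)

theorem coprime_U_sigmaCore (h1350 : St1350 G) (hM : IsCoatom M) :
    (Nat.card U).Coprime (Nat.card (Cfsg.sigmaCore M)) := by
  apply Nat.coprime_of_dvd
  intro p hp hpU hpS
  exact not_mem_sigma_of_dvd_card_U hKU h1350 hM hp hpU (mem_sigma_of_dvd_card_sigmaCore hp hpS)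

theorem coprime_sup_sigmaCore (h1350 : St1350 G) (hM : IsCoatom M) :
    (Nat.card (U ⊔ K : Subgroup G)).Coprime (Nat.card (Cfsg.sigmaCore M)) := by
  have h := Cfsg.Agent.Helper26.card_sup_mul_card_inf (H := K) (N := U) hKU.normal
  have hdvd : Nat.card (U ⊔ K : Subgroup G) ∣ Nat.card K * Nat.card U := by
    rw [sup_comm]; exact Dvd.intro _ h
  exact Nat.Coprime.coprime_dvd_left hdvd
    (Nat.Coprime.mul_left (coprime_K_sigmaCore hKU) (coprime_U_sigmaCore hKU h1350 hM))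

theorem K_comm : ∀ a ∈ K, ∀ b ∈ K, a * b = b * a := by
  have hc := hKU.cyclic
  obtain ⟨g, hg⟩ := IsCyclic.exists_generator (α := K)
  intro a ha b hb
  obtain ⟨m, hm⟩ := Subgroup.mem_zpowers_iff.mp (hg ⟨a, ha⟩)
  obtain ⟨n, hn⟩ := Subgroup.mem_zpowers_iff.mp (hg ⟨b, hb⟩)
  have h : (⟨a, ha⟩ : K) * ⟨b, hb⟩ = ⟨b, hb⟩ * ⟨a, ha⟩ := by
    rw [← hm, ← hn, ← zpow_add, ← zpow_add, add_comm]
  exact congrArg Subtype.val h

theorem U_inf_centralizer_K (hK1 : K ≠ ⊥)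
    (hfree : ∀ k ∈ K, k ≠ 1 → U ⊓ centralizer ({k} : Set G) = ⊥) :
    U ⊓ centralizer (K : Set G) = ⊥ := by
  obtain ⟨k, hk, hk1⟩ := (Subgroup.ne_bot_iff_exists_ne_one).mp hK1 |>.imp
    (fun a h => h) |> fun ⟨a, h⟩ => (⟨(a : G), a.2, fun h0 => h (Subtype.ext h0)⟩ :
      ∃ k : G, k ∈ K ∧ k ≠ 1)
  rw [eq_bot_iff, ← hfree k hk hk1]
  exact inf_le_inf_left _ (centralizer_le (Set.singleton_subset_iff.mpr hk))

end decomp

/-- **S1365**, conditionally. -/
theorem s1365_of (h1350 : St1350 G) {M : Subgroup G} (hM : IsCoatom M) {K U : Subgroup G}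
    (hKU : Cfsg.IsSigmaDecomposition M K U) (hK1 : K ≠ ⊥)
    (hN : M ≤ normalizer ((U ⊔ Cfsg.sigmaCore M : Subgroup G) : Set G))
    (hfree : ∀ k ∈ K, k ≠ 1 → U ⊓ centralizer ({k} : Set G) = ⊥)
    (h1426 : ∀ E : Subgroup G, Cfsg.IsComplIn E (Cfsg.sigmaCore M) M →
      ⁅Cfsg.sigmaCore M, E⁆ = Cfsg.sigmaCore M)
    (hder : Cfsg.sigmaCore M ≤ ⁅M, M⁆) :
    ⁅M, M⁆ = U ⊔ Cfsg.sigmaCore M ∧
      Cfsg.sigmaCore M ⊓ centralizer (K : Set G) ≤ ⁅⁅M, M⁆, ⁅M, M⁆⁆ := by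
  have hKM := K_le hKU
  have hUM := U_le hKU
  have hMsM := sigmaCore_le M
  have hKMs : K ≤ normalizer (Cfsg.sigmaCore M : Set G) := hKM.trans (le_normalizer_sigmaCore M)
  have hUMs : U ≤ normalizer (Cfsg.sigmaCore M : Set G) := hUM.trans (le_normalizer_sigmaCore M)
  have part1 : ⁅M, M⁆ = U ⊔ Cfsg.sigmaCore M :=
    commutator_eq_of_decomp hMsM hUM hKM hN hKU.compl.2.2.2 hKMs (K_comm hKU) hKU.normal
      (coprime_K_U hKU) (U_inf_centralizer_K hKU hK1 hfree) hder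
  refine ⟨part1, ?_⟩
  rw [part1]
  have hcomm := h1426 _ (complIn_sup hKU)
  have h2 := inf_centralizer_le_of_commutator_eq hUMs hKMs hKU.normal
    (coprime_sup_sigmaCore hKU h1350 hM) hcomm
  exact h2.trans (sup_le (commutator_mono le_sup_right le_sup_right)
    (commutator_mono le_sup_right le_sup_left))

end Cfsg.Agent.Helper1.BG16C
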