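import Mathlib
import Cfsg.Prelude.Def_OddOrderLocal
import Cfsg.Agent.Helper1.BG147G
import Cfsg.Agent.Helper29.BG14H
import Cfsg.Agent.Helper4.BG147L
import Cfsg.Agent.Helper13.BG147U

/-!
# B&G Theorem 14.7: `Hyp2 G` from `Hyp G`, and S1367
-/

set_option autoImplicit false
set_option linter.unusedSectionVars false
set_option linter.unusedVariables false
set_option linter.style.haveILetI false

namespace Cfsg.Agent.Helper1.BG147

open Subgroup Cfsg
open Cfsg.Agent.Helper14 (cj)
open Cfsg.Agent.Helper29.BG14 (Hyp)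

universe u

variable {G : Type u} [Group G] [Finite G]

theorem hyp2_of_hyp (h : Hyp G) : Hyp2 G :=
  ⟨h, fun M hM => Cfsg.Agent.Helper29.BG14.s1377_of h M hM,
    fun M N hM hN hnc => Cfsg.Agent.Helper29.BG14.tilde_disjoint h hM hN hnc,
    fun M K hM hK hK1 hU =>
      Cfsg.Agent.Helper4.BG147L.card_prime_of_compl_ne h.hG h.h1430 hM hK hK1 hU⟩

/-- first half of S1367 for a partner pair -/
theorem Partner.unique_of_centralizer (h : Hyp G) {M K Ms : Subgroup G} (c : Partner M K Ms)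
    (X : Subgroup G) (hX : X ≤ Cfsg.sigmaCore M ⊓ centralizer (K : Set G))
    (hXp : (Nat.card X).Prime) :
    centralizer (X : Set G) ≤ M ∧
      ∀ L : Subgroup G, IsCoatom L → centralizer (X : Set G) ≤ L → L = M := by
  have h1 : centralizer (X : Set G) ≤ M := by
    have := (c.symm.main h).2.2 X hX hXp
    exact this
  refine ⟨h1, ?_⟩
  intro L hL hCL
  haveI : Fact (Nat.card X).Prime := ⟨hXp⟩
  obtain ⟨x, hx⟩ := exists_prime_orderOf_dvd_card' (G := ↥X) (Nat.card X) dvd_rfl
  have hXeq : X = zpowers (x : G) := by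
    symm
    apply Subgroup.eq_of_le_of_card_ge (zpowers_le.mpr x.2)
    rw [Nat.card_zpowers, Subgroup.orderOf_coe, hx]
  have hox : (orderOf (x : G)).Prime := by rw [Subgroup.orderOf_coe, hx]; exact hXp
  apply Cfsg.Agent.Helper13.BG147U.coatom_unique_of_centralizer_le h c.P (hX x.2) hox hL
  rw [← Cfsg.Agent.Helper29.BG14.centralizer_zpowers, ← hXeq]
  exact hCL

/-- **S1367** -/
theorem s1367_of (h : Hyp G) (M : Subgroup G) (hM : IsCoatom M) (K U : Subgroup G)
    (hKU : Cfsg.IsSigmaDecomposition M K U) (hK1 : K ≠ ⊥) (Mstar : Subgroup G) (hMstar : IsCoatom Mstar)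
    (hKst : K = Cfsg.sigmaCore Mstar ⊓ Subgroup.centralizer ((Cfsg.sigmaCore M ⊓ Subgroup.centralizer (K : Set G)) : Set G))
    (hKstH : Cfsg.IsPiHallOf (Cfsg.kappa Mstar) (Cfsg.sigmaCore M ⊓ Subgroup.centralizer (K : Set G)) Mstar) :
    (∀ X : Subgroup G, X ≤ (Cfsg.sigmaCore M ⊓ Subgroup.centralizer (K : Set G)) → (Nat.card X).Prime →
        Subgroup.centralizer (X : Set G) ≤ M ∧ ∀ L : Subgroup G, IsCoatom L → Subgroup.centralizer (X : Set G) ≤ L → L = M) ∧
      (∀ Y : Subgroup G, Y ≤ K → (Nat.card Y).Prime →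
        Subgroup.centralizer (Y : Set G) ≤ Mstar ∧ ∀ L : Subgroup G, IsCoatom L → Subgroup.centralizer (Y : Set G) ≤ L → L = Mstar) := by
  have c := partner_of h hM hKU hK1 hMstar hKst hKstH
  refine ⟨fun X hX hXp => c.unique_of_centralizer h X hX hXp, fun Y hY hYp => ?_⟩
  have := c.symm.unique_of_centralizer h Y (by rw [← c.eq]; exact hY) hYp
  exact this

end Cfsg.Agent.Helper1.BG147
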