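import Mathlib
import Cfsg.Prelude.Def_OddOrderLocal
import Cfsg.Agent.Helper1.BG16C2
import Cfsg.Agent.Helper1.RankOneQ
import Cfsg.Agent.Helper21.BG10b

/-!
# B&G Theorem C(1) (S1363), conditionally: `U` is abelian and `N_G(U) ≰ M`
-/

set_option autoImplicit false
set_option linter.unusedSectionVars false
set_option linter.unusedVariables false

namespace Cfsg.Agent.Helper1.BG16C

open Subgroup Cfsg
open Cfsg.Agent.H9.BG12 (St1350 sigmaCore_le le_normalizer_sigmaCore
  mem_sigma_of_dvd_card_sigmaCore)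
open Cfsg.Agent.Helper18.BG16B (K_le U_le K_inf_sigmaCore not_mem_sigma_of_dvd_card_U
  not_mem_kappa_of_dvd_card_U complIn_sup)

universe u

variable {G : Type u} [Group G] [Finite G]

/-- `U` is nilpotent when `K ≠ 1` acts on it without fixed points (Thompson). -/
theorem U_nilpotent {M K U : Subgroup G} (hKU : Cfsg.IsSigmaDecomposition M K U) (hK1 : K ≠ ⊥)
    (hfree : ∀ k ∈ K, k ≠ 1 → U ⊓ centralizer ({k} : Set G) = ⊥) : Group.IsNilpotent U := by
  have hcard : Nat.card K ≠ 1 := fun h => hK1 (Subgroup.card_eq_one.mp h)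
  obtain ⟨r, hr, hrK⟩ := Nat.exists_prime_and_dvd hcard
  have : Fact r.Prime := ⟨hr⟩
  obtain ⟨k, hk⟩ := exists_prime_orderOf_dvd_card' (G := K) r hrK
  have hk1 : (k : G) ≠ 1 := by
    intro h
    have : k = 1 := Subtype.ext h
    rw [this, orderOf_one] at hk
    exact hr.one_lt.ne hk
  have hkr : (k : G) ^ r = 1 := by
    have : k ^ r = 1 := by rw [← hk]; exact pow_orderOf_eq_one k
    have h2 := congrArg Subtype.val this
    simpa using h2
  exact Cfsg.Agent.Helper1.RankOneQ.nilpotent_of_fpf_conj U hr (hKU.normal k.2) hkr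
    (hfree k k.2 hk1)

/-- **S1363**, conditionally. -/
theorem s1363_of (hG : Cfsg.IsMinSimpleOddOrder G) (h1350 : St1350 G) {M : Subgroup G}
    (hM : IsCoatom M) {K U : Subgroup G}
    (hKU : Cfsg.IsSigmaDecomposition M K U) (hK1 : K ≠ ⊥)
    (hfree : ∀ k ∈ K, k ≠ 1 → U ⊓ centralizer ({k} : Set G) = ⊥)
    (h1420 : ∀ N : Subgroup G, N ≤ M → Group.IsNilpotent N →
      (∀ p : ℕ, p.Prime → p ∣ Nat.card N → p ∉ Cfsg.sigma M) → IsMulCommutative N)
    (h1366 : ∃ Mstar : Subgroup G, IsCoatom Mstar ∧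
      K = Cfsg.sigmaCore Mstar ⊓ Subgroup.centralizer
        ((Cfsg.sigmaCore M ⊓ Subgroup.centralizer (K : Set G) : Subgroup G) : Set G) ∧
      Cfsg.IsPiHallOf (Cfsg.kappa Mstar)
        (Cfsg.sigmaCore M ⊓ Subgroup.centralizer (K : Set G)) Mstar)
    (h1435 : ∀ Mstar : Subgroup G, IsCoatom Mstar →
      K = Cfsg.sigmaCore Mstar ⊓ Subgroup.centralizer
        ((Cfsg.sigmaCore M ⊓ Subgroup.centralizer (K : Set G) : Subgroup G) : Set G) →
      Cfsg.IsPiHallOf (Cfsg.kappa Mstar)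
        (Cfsg.sigmaCore M ⊓ Subgroup.centralizer (K : Set G)) Mstar →
      U ≠ ⊥ → ∀ (r : ℕ) [Fact r.Prime], r ∣ Nat.card U → ∀ (R : Sylow r U) (H : Subgroup G),
        IsCoatom H →
        Subgroup.normalizer (((R : Subgroup U).map U.subtype : Subgroup G) : Set G) ≤ H →
        ¬ H ⊓ Subgroup.normalizer (U : Set G) ≤ M) :
    IsMulCommutative U ∧ ¬ Subgroup.normalizer (U : Set G) ≤ M := by
  have hUM := U_le hKU
  refine ⟨h1420 U hUM (U_nilpotent hKU hK1 hfree)
    (fun p hp hpU => not_mem_sigma_of_dvd_card_U hKU h1350 hM hp hpU), ?_⟩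
  by_cases hU1 : U = ⊥
  · intro hle
    have h1 : Subgroup.normalizer ((⊥ : Subgroup G) : Set G) = ⊤ :=
      Subgroup.normalizer_eq_top_iff.mpr inferInstance
    rw [hU1, h1] at hle
    exact hM.1 (top_le_iff.mp hle)
  · obtain ⟨Mstar, hMs, hKst, hKstH⟩ := h1366
    have hcard : Nat.card U ≠ 1 := fun h => hU1 (Subgroup.card_eq_one.mp h)
    obtain ⟨r, hr, hrU⟩ := Nat.exists_prime_and_dvd hcard
    have : Fact r.Prime := ⟨hr⟩
    obtain ⟨R⟩ : Nonempty (Sylow r U) := inferInstance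
    have hR1 : (R : Subgroup U) ≠ ⊥ := R.ne_bot_of_dvd_card hrU
    have hX1 : (R : Subgroup U).map U.subtype ≠ ⊥ := by
      intro h
      exact hR1 ((Subgroup.map_eq_bot_iff_of_injective _ U.subtype_injective).mp h)
    have hXt : (R : Subgroup U).map U.subtype ≠ ⊤ := by
      intro h
      have h2 : (R : Subgroup U).map U.subtype ≤ M := (Subgroup.map_subtype_le _).trans hUM
      rw [h] at h2
      exact hM.1 (top_le_iff.mp h2)
    obtain ⟨H, hH, hNH⟩ := Cfsg.Agent.Helper21.BG10.exists_coatom_normalizer_le hG.2.1 hX1 hXt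
    have h3 := h1435 Mstar hMs hKst hKstH hU1 r hrU R H hH hNH
    intro hle
    exact h3 (inf_le_right.trans hle)

end Cfsg.Agent.Helper1.BG16C
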