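import Mathlib
import Cfsg.Prelude.Def_OddOrderLocal
import Cfsg.Agent.Helper13.BG158A
import Cfsg.Agent.Helper18.BG16Ba
import Cfsg.Agent.Helper29.Schmidt
import Cfsg.Agent.Helper1.RankOneQ

/-!
# B&G Theorem 15.8 (S1435): clauses (3) `M ∩ H = U K` and (4) `N_H(U) ≰ M`
-/

set_option autoImplicit false
set_option linter.unusedSectionVars false
set_option linter.unusedVariables false

namespace Cfsg.Agent.Helper1.BG158C

open Subgroup Cfsg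
open Cfsg.Agent.Helper13.BG158

universe u

variable {G : Type u} [Group G] [Finite G] {M K U Mstar H : Subgroup G}

/-- `M_σ ∩ H = 1` when `U ≤ H_σ` -/
theorem sigmaCore_inf_eq_bot (I : Inp G) (c : Cfg M K U Mstar) (hc : HC M K Mstar H)
    (hUσ : U ≤ Cfsg.sigmaCore H) : Cfsg.sigmaCore M ⊓ H = ⊥ := by
  rw [eq_bot_iff, ← sigmaCore_inf_centralizer_U I c]
  rintro y ⟨hyσ, hyH⟩
  refine Subgroup.mem_inf.mpr ⟨hyσ, ?_⟩
  rw [Subgroup.mem_centralizer_iff]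
  intro u hu
  -- the commutator `y u y⁻¹ u⁻¹` lies in `M_σ ∩ H_σ = 1`
  have hyN : y ∈ normalizer (Cfsg.sigmaCore H : Set G) :=
    Cfsg.Agent.H9.BG12.le_normalizer_sigmaCore H hyH
  have huN : u ∈ normalizer (Cfsg.sigmaCore M : Set G) :=
    Cfsg.Agent.H9.BG12.le_normalizer_sigmaCore M (c.U_le hu)
  have h1 : y * u * y⁻¹ * u⁻¹ ∈ Cfsg.sigmaCore H :=
    (Cfsg.sigmaCore H).mul_mem ((mem_normalizer_iff.mp hyN u).mp (hUσ hu))
      ((Cfsg.sigmaCore H).inv_mem (hUσ hu))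
  have h2 : y * u * y⁻¹ * u⁻¹ ∈ Cfsg.sigmaCore M := by
    have e : y * u * y⁻¹ * u⁻¹ = y * (u * y⁻¹ * u⁻¹) := by group
    rw [e]
    exact (Cfsg.sigmaCore M).mul_mem hyσ
      ((mem_normalizer_iff.mp huN y⁻¹).mp ((Cfsg.sigmaCore M).inv_mem hyσ))
  have h3 : y * u * y⁻¹ * u⁻¹ ∈ Cfsg.sigmaCore H ⊓ Cfsg.sigmaCore M := ⟨h1, h2⟩
  rw [hc.sigmaCore_inf_sigmaCore_M I c, mem_bot] at h3
  calc u * y = (y * u * y⁻¹ * u⁻¹)⁻¹ * (y * u) := by group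
    _ = y * u := by rw [h3, inv_one, one_mul]

/-- clause (3): `M ∩ H = U K` -/
theorem inf_eq (I : Inp G) (c : Cfg M K U Mstar) (hc : HC M K Mstar H)
    (hUσ : U ≤ Cfsg.sigmaCore H) : M ⊓ H = U ⊔ K := by
  have hUH : U ≤ H := hUσ.trans (Cfsg.Agent.H9.BG12.sigmaCore_le H)
  apply le_antisymm
  · rintro x ⟨hxM, hxH⟩
    obtain ⟨-, -, -, hmul⟩ := Cfsg.Agent.Helper18.BG16B.complIn_sup c.hKU
    obtain ⟨e, he, y, hy, rfl⟩ := hmul x hxM
    have heH : e ∈ H := (sup_le hUH hc.hKH) he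
    have hyH : y ∈ H := by
      have : y = e⁻¹ * (e * y) := by group
      rw [this]; exact H.mul_mem (H.inv_mem heH) hxH
    have hy1 : y ∈ Cfsg.sigmaCore M ⊓ H := ⟨hy, hyH⟩
    rw [sigmaCore_inf_eq_bot I c hc hUσ, mem_bot] at hy1
    rw [hy1, mul_one]; exact he
  · exact le_inf (sup_le c.U_le c.K_le) (sup_le hUH hc.hKH)

/-- `K ∩ H_σ = 1` -/
theorem K_inf_sigmaCore (I : Inp G) (c : Cfg M K U Mstar) (hc : HC M K Mstar H) :
    K ⊓ Cfsg.sigmaCore H = ⊥ := by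
  rw [eq_bot_iff]
  rintro k ⟨hkK, hkσ⟩
  rw [mem_bot]
  by_contra hk1
  exact hk1 (hc.fpf I c k hkσ k hkK hk1 rfl)

/-- `M ∩ H_σ = U` -/
theorem inf_sigmaCore_eq (I : Inp G) (c : Cfg M K U Mstar) (hc : HC M K Mstar H)
    (hUσ : U ≤ Cfsg.sigmaCore H) : M ⊓ Cfsg.sigmaCore H = U := by
  apply le_antisymm
  · rintro x ⟨hxM, hxσ⟩
    have hx : x ∈ U ⊔ K := by
      rw [← inf_eq I c hc hUσ]
      exact ⟨hxM, Cfsg.Agent.H9.BG12.sigmaCore_le H hxσ⟩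
    obtain ⟨u, hu, k, hk, rfl⟩ :=
      (Cfsg.Agent.Helper7.mem_sup_of_le_normalizer (A := U) (B := K) c.hKU.normal).mp hx
    have hkσ : k ∈ Cfsg.sigmaCore H := by
      have : k = u⁻¹ * (u * k) := by group
      rw [this]
      exact (Cfsg.sigmaCore H).mul_mem ((Cfsg.sigmaCore H).inv_mem (hUσ hu)) hxσ
    have hk1 : k ∈ K ⊓ Cfsg.sigmaCore H := ⟨hk, hkσ⟩
    rw [K_inf_sigmaCore I c hc, mem_bot] at hk1
    rw [hk1, mul_one]; exact hu
  · exact le_inf c.U_le hUσ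

/-- `H_σ` is nilpotent, as `K` acts on it without fixed points -/
theorem sigmaCore_H_nilpotent (I : Inp G) (c : Cfg M K U Mstar) (hc : HC M K Mstar H) :
    Group.IsNilpotent (Cfsg.sigmaCore H) := by
  obtain ⟨k, hk, hk1⟩ := exists_K_ne_one c
  have hp := card_K_prime I c
  have hko : orderOf k = Nat.card K := orderOf_eq_card_K I c hk hk1
  have hkN : k ∈ normalizer (Cfsg.sigmaCore H : Set G) :=
    Cfsg.Agent.H9.BG12.le_normalizer_sigmaCore H (hc.hKH hk)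
  have hkr : k ^ Nat.card K = 1 := by rw [← hko]; exact pow_orderOf_eq_one k
  apply Cfsg.Agent.Helper1.RankOneQ.nilpotent_of_fpf_conj (Cfsg.sigmaCore H) hp hkN hkr
  rw [eq_bot_iff]
  rintro y ⟨hy, hyk⟩
  rw [mem_bot]
  have hyk' : y * k = k * y := Subgroup.mem_centralizer_singleton_iff.mp hyk
  exact hc.fpf I c y hy k hk hk1 hyk'.symm

/-- clause (4): `N_H(U) ≰ M` -/
theorem normalizer_not_le (I : Inp G) (c : Cfg M K U Mstar) (hc : HC M K Mstar H)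
    (hUσ : U ≤ Cfsg.sigmaCore H) : ¬ H ⊓ normalizer (U : Set G) ≤ M := by
  intro hle
  have hnil := sigmaCore_H_nilpotent I c hc
  have hUeq : U = Cfsg.sigmaCore H := by
    by_contra hne
    have hlt : U < Cfsg.sigmaCore H := lt_of_le_of_ne hUσ hne
    obtain ⟨x, hxσ, hxN, hxU⟩ := Cfsg.Agent.Helper29.exists_mem_normalizer_not_mem hnil hlt
    apply hxU
    rw [← inf_sigmaCore_eq I c hc hUσ]
    exact ⟨hle ⟨Cfsg.Agent.H9.BG12.sigmaCore_le H hxσ, hxN⟩, hxσ⟩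
  have hHM : H ≤ M := by
    intro h hh
    apply hle
    refine ⟨hh, ?_⟩
    rw [hUeq]
    exact Cfsg.Agent.H9.BG12.le_normalizer_sigmaCore H hh
  have hMtop : M ≠ ⊤ := c.hM.1
  exact hc.ne_M (hc.hH.le_iff_eq hMtop |>.mp hHM).symm

/-- clauses (3) and (4) of S1435 -/
theorem inter_and_normalizer (I : Inp G) (c : Cfg M K U Mstar) (hc : HC M K Mstar H)
    (hUσ : U ≤ Cfsg.sigmaCore H) :
    M ⊓ H = U ⊔ K ∧ ¬ H ⊓ normalizer (U : Set G) ≤ M :=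
  ⟨inf_eq I c hc hUσ, normalizer_not_le I c hc hUσ⟩

end Cfsg.Agent.Helper1.BG158C
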