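import Mathlib
import Cfsg.Prelude.Def_OddOrderLocal
import Cfsg.Agent.Helper1.BG16C2
import Cfsg.Agent.Helper23.Cyclic
import Cfsg.Agent.Helper9.BG12c

/-!
# B&G Theorem C(8), first half (S1370), conditionally: `Ẑ = Z \ (K ∪ K*)` is a TI-subset with
normalizer `Z = K × K*`.
-/

set_option autoImplicit false
set_option linter.unusedSectionVars false
set_option linter.unusedVariables false

namespace Cfsg.Agent.Helper1.BG16C

open Subgroup Cfsg Pointwise
open Cfsg.Agent.Lead (mem_conj_smul_iff card_conj_smul conj_smul_eq_self_iff_mem_normalizer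
  conj_smul_eq_map)
open Cfsg.Agent.Helper1.BG36L2 (mem_normalizer_centralizer centralizer_conj_smul)
open Cfsg.Agent.Helper18.BG16B (K_le U_le K_inf_sigmaCore)

universe u

variable {G : Type u} [Group G] [Finite G]

theorem isCoatom_conj_smul {M : Subgroup G} (hM : IsCoatom M) (g : G) :
    IsCoatom (MulAut.conj g • M) :=
  (OrderIso.isCoatom_iff ((MulAut.conj g : G ≃* G).mapSubgroup) M).mpr hM

/-- If `M` is the only maximal subgroup containing `C_G(X)`, then `N_G(X) ≤ M`. -/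
theorem mem_of_mem_normalizer_of_unique (hG : Cfsg.IsMinSimpleOddOrder G) {M : Subgroup G}
    (hM : IsCoatom M) {X : Subgroup G} (hXM : centralizer (X : Set G) ≤ M)
    (huniq : ∀ L : Subgroup G, IsCoatom L → centralizer (X : Set G) ≤ L → L = M) {g : G}
    (hg : g ∈ normalizer (X : Set G)) : g ∈ M := by
  have h1 : g ∈ normalizer ((centralizer (X : Set G) : Subgroup G) : Set G) :=
    mem_normalizer_centralizer hg
  have h2 : MulAut.conj g • centralizer (X : Set G) = centralizer (X : Set G) :=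
    (conj_smul_eq_self_iff_mem_normalizer _ _).mpr h1
  have h3 : centralizer (X : Set G) ≤ MulAut.conj g • M := by
    rw [← h2]; exact Subgroup.pointwise_smul_le_pointwise_smul_iff.mpr hXM
  have h4 := huniq _ (isCoatom_conj_smul hM g) h3
  rw [conj_smul_eq_map] at h4
  exact Cfsg.Agent.H9.BG12.mem_of_map_cj_eq hG hM h4

/-- abstract TI lemma: if `C_G(z) = Z` for all `z` in a nonempty set `T` and `N_G(Z) ≤ Z`, then `T`
is a TI-subset with normalizer `Z`. -/
theorem ti_of_centralizer_eq {Z : Subgroup G} {T : Set G} (hT : T.Nonempty)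
    (hcent : ∀ z ∈ T, centralizer ({z} : Set G) = Z) (hNZ : normalizer (Z : Set G) ≤ Z) :
    Cfsg.IsTISubset T ∧ Subgroup.normalizer T = Z := by
  -- key: if `g` sends some element of `T` into `T` then `g ∈ Z`
  have key : ∀ g : G, ∀ x ∈ T, g * x * g⁻¹ ∈ T → g ∈ Z := by
    intro g x hx hgx
    apply hNZ
    rw [← conj_smul_eq_self_iff_mem_normalizer]
    have h1 := hcent x hx
    have h2 := hcent _ hgx
    have h3 : centralizer ({g * x * g⁻¹} : Set G) = MulAut.conj g • centralizer ({x} : Set G) := by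
      ext y
      rw [mem_conj_smul_iff, mem_centralizer_singleton_iff, mem_centralizer_singleton_iff]
      constructor
      · intro h
        calc g⁻¹ * y * g * x = g⁻¹ * (y * (g * x * g⁻¹)) * g := by group
          _ = g⁻¹ * ((g * x * g⁻¹) * y) * g := by rw [h]
          _ = x * (g⁻¹ * y * g) := by group
      · intro h
        calc y * (g * x * g⁻¹) = g * ((g⁻¹ * y * g) * x) * g⁻¹ := by group
          _ = g * (x * (g⁻¹ * y * g)) * g⁻¹ := by rw [h]
          _ = g * x * g⁻¹ * y := by group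
    rw [h1, h2] at h3
    exact h3.symm
  have hnorm : Subgroup.normalizer T = Z := by
    apply le_antisymm
    · intro g hg
      obtain ⟨x, hx⟩ := hT
      exact key g x hx ((Subgroup.mem_set_normalizer_iff.mp hg x).mp hx)
    · intro g hg
      rw [Subgroup.mem_set_normalizer_iff]
      intro n
      constructor
      · intro hn
        have h1 : g ∈ centralizer ({n} : Set G) := by rw [hcent n hn]; exact hg
        rw [mem_centralizer_singleton_iff] at h1
        have : g * n * g⁻¹ = n := by rw [h1]; group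
        rw [this]; exact hn
      · intro hn
        have h1 : g ∈ centralizer ({g * n * g⁻¹} : Set G) := by rw [hcent _ hn]; exact hg
        rw [mem_centralizer_singleton_iff] at h1
        have h2 : g * (g * n * g⁻¹) = g * n := by rw [h1]; group
        have h3 : g * n * g⁻¹ = n := mul_left_cancel h2
        rw [h3] at hn; exact hn
  refine ⟨?_, hnorm⟩
  intro g hg x hx hgx
  exact absurd (hnorm ▸ key g x hx hgx) hg

/-- `N_G(Z) ≤ M ∩ M*` for cyclic `Z` containing subgroups `X`, `Y` of prime order whose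
centralizers lie in the unique maximal subgroups `M`, `M*`. -/
theorem normalizer_le_of_cyclic (hG : Cfsg.IsMinSimpleOddOrder G) {M Mstar Z X Y : Subgroup G}
    (hM : IsCoatom M) (hMs : IsCoatom Mstar) (hZc : IsCyclic Z) (hXZ : X ≤ Z) (hYZ : Y ≤ Z)
    (hX : centralizer (X : Set G) ≤ M ∧
      ∀ L : Subgroup G, IsCoatom L → centralizer (X : Set G) ≤ L → L = M)
    (hY : centralizer (Y : Set G) ≤ Mstar ∧
      ∀ L : Subgroup G, IsCoatom L → centralizer (Y : Set G) ≤ L → L = Mstar) :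
    normalizer (Z : Set G) ≤ M ⊓ Mstar := by
  intro g hg
  have hgZ : MulAut.conj g • Z = Z := (conj_smul_eq_self_iff_mem_normalizer _ _).mpr hg
  have hsub : ∀ W : Subgroup G, W ≤ Z → g ∈ normalizer (W : Set G) := by
    intro W hWZ
    rw [← conj_smul_eq_self_iff_mem_normalizer]
    have h1 : MulAut.conj g • W ≤ Z := by
      rw [← hgZ]; exact Subgroup.pointwise_smul_le_pointwise_smul_iff.mpr hWZ
    exact Cfsg.Agent.Helper23.eq_of_card_eq_of_isCyclic Z hZc _ _ h1 hWZ (card_conj_smul g W)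
  exact Subgroup.mem_inf.mpr
    ⟨mem_of_mem_normalizer_of_unique hG hM hX.1 hX.2 (hsub X hXZ),
      mem_of_mem_normalizer_of_unique hG hMs hY.1 hY.2 (hsub Y hYZ)⟩

/-- a nontrivial subgroup contains a subgroup of prime order. -/
theorem exists_prime_card_le {H : Subgroup G} (hH : H ≠ ⊥) :
    ∃ X : Subgroup G, X ≤ H ∧ (Nat.card X).Prime := by
  have hcard : Nat.card H ≠ 1 := fun h => hH (Subgroup.card_eq_one.mp h)
  obtain ⟨r, hr, hrH⟩ := Nat.exists_prime_and_dvd hcard
  have : Fact r.Prime := ⟨hr⟩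
  obtain ⟨k, hk⟩ := exists_prime_orderOf_dvd_card' (G := H) r hrH
  refine ⟨zpowers (k : G), ?_, ?_⟩
  · rw [zpowers_le]; exact k.2
  · rw [Nat.card_zpowers, Subgroup.orderOf_coe, hk]; exact hr

/-- **S1370**, conditionally. -/
theorem s1370_of (hG : Cfsg.IsMinSimpleOddOrder G) {M : Subgroup G} (hM : IsCoatom M)
    {K U : Subgroup G} (hKU : Cfsg.IsSigmaDecomposition M K U) (hK1 : K ≠ ⊥)
    (hKs1 : Cfsg.sigmaCore M ⊓ centralizer (K : Set G) ≠ ⊥)
    {Mstar : Subgroup G} (hMs : IsCoatom Mstar)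
    (h1367a : ∀ X : Subgroup G, X ≤ Cfsg.sigmaCore M ⊓ centralizer (K : Set G) →
      (Nat.card X).Prime → centralizer (X : Set G) ≤ M ∧
        ∀ L : Subgroup G, IsCoatom L → centralizer (X : Set G) ≤ L → L = M)
    (h1367b : ∀ Y : Subgroup G, Y ≤ K → (Nat.card Y).Prime →
      centralizer (Y : Set G) ≤ Mstar ∧
        ∀ L : Subgroup G, IsCoatom L → centralizer (Y : Set G) ≤ L → L = Mstar)
    (h1368 : M ⊓ Mstar = K ⊔ (Cfsg.sigmaCore M ⊓ centralizer (K : Set G)) ∧
      IsCyclic ↥(K ⊔ (Cfsg.sigmaCore M ⊓ centralizer (K : Set G))))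
    (h1434 : ∀ x ∈ K, x ≠ 1 → ∀ y ∈ Cfsg.sigmaCore M ⊓ centralizer (K : Set G), y ≠ 1 →
      centralizer ({x * y} : Set G) = K ⊔ (Cfsg.sigmaCore M ⊓ centralizer (K : Set G))) :
    Cfsg.IsTISubset ((↑(K ⊔ (Cfsg.sigmaCore M ⊓ Subgroup.centralizer (K : Set G))) : Set G) \
        ((K : Set G) ∪ ↑(Cfsg.sigmaCore M ⊓ Subgroup.centralizer (K : Set G)))) ∧
      Subgroup.normalizer ((↑(K ⊔ (Cfsg.sigmaCore M ⊓ Subgroup.centralizer (K : Set G))) : Set G) \
        ((K : Set G) ∪ ↑(Cfsg.sigmaCore M ⊓ Subgroup.centralizer (K : Set G)))) =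
        K ⊔ (Cfsg.sigmaCore M ⊓ Subgroup.centralizer (K : Set G)) := by
  obtain ⟨Ks, hKs⟩ : ∃ Ks, Ks = Cfsg.sigmaCore M ⊓ centralizer (K : Set G) := ⟨_, rfl⟩
  rw [← hKs] at hKs1 h1367a h1368 h1434 ⊢
  have hKsC : Ks ≤ centralizer (K : Set G) := hKs ▸ inf_le_right
  have hKsN : Ks ≤ normalizer (K : Set G) := hKsC.trans (centralizer_le_normalizer _)
  have hdisj : K ⊓ Ks = ⊥ := by
    rw [eq_bot_iff, ← K_inf_sigmaCore hKU, hKs]
    exact inf_le_inf_left _ inf_le_left
  -- elements of `Ẑ`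
  have hmemT : ∀ z, z ∈ ((↑(K ⊔ Ks) : Set G) \ ((K : Set G) ∪ ↑Ks)) →
      ∃ x ∈ K, x ≠ 1 ∧ ∃ y ∈ Ks, y ≠ 1 ∧ z = x * y := by
    rintro z ⟨hz, hz2⟩
    rw [SetLike.mem_coe, Cfsg.Agent.Helper7.mem_sup_of_le_normalizer hKsN] at hz
    obtain ⟨x, hx, y, hy, rfl⟩ := hz
    refine ⟨x, hx, ?_, y, hy, ?_, rfl⟩
    · rintro rfl
      apply hz2; right; rw [one_mul]; exact hy
    · rintro rfl
      apply hz2; left; rw [mul_one]; exact hx
  apply ti_of_centralizer_eq
  · -- nonempty
    obtain ⟨x, hx1⟩ := (Subgroup.ne_bot_iff_exists_ne_one).mp hK1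
    obtain ⟨y, hy1⟩ := (Subgroup.ne_bot_iff_exists_ne_one).mp hKs1
    refine ⟨(x : G) * y, ?_, ?_⟩
    · exact (K ⊔ Ks).mul_mem (le_sup_left (a := K) x.2) (le_sup_right (b := Ks) y.2)
    · rintro (h | h)
      · have hyK : (y : G) ∈ K := by
          have : (y : G) = (x : G)⁻¹ * ((x : G) * y) := by group
          rw [this]; exact K.mul_mem (K.inv_mem x.2) h
        have : (y : G) ∈ K ⊓ Ks := ⟨hyK, y.2⟩
        rw [hdisj, mem_bot] at this
        exact hy1 (Subtype.ext this)
      · have hxK : (x : G) ∈ Ks := by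
          have : (x : G) = ((x : G) * y) * (y : G)⁻¹ := by group
          rw [this]; exact Ks.mul_mem h (Ks.inv_mem y.2)
        have : (x : G) ∈ K ⊓ Ks := ⟨x.2, hxK⟩
        rw [hdisj, mem_bot] at this
        exact hx1 (Subtype.ext this)
  · intro z hz
    obtain ⟨x, hx, hx1, y, hy, hy1, rfl⟩ := hmemT z hz
    exact h1434 x hx hx1 y hy hy1
  · obtain ⟨X, hXKs, hXp⟩ := exists_prime_card_le hKs1
    obtain ⟨Y, hYK, hYp⟩ := exists_prime_card_le hK1
    have h := normalizer_le_of_cyclic hG hM hMs h1368.2 (hXKs.trans le_sup_right)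
      (hYK.trans le_sup_left) (h1367a X hXKs hXp) (h1367b Y hYK hYp)
    rw [h1368.1] at h
    exact h

end Cfsg.Agent.Helper1.BG16C
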