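import Mathlib
import Cfsg.Agent.Lead.GenCent

set_option autoImplicit false
set_option linter.style.haveILetI false
set_option linter.unusedSectionVars false

/-! Elementary abelian `2`-groups acting on nilpotent groups of odd order: invariant subgroups of
prime order (towards S4408). -/

namespace Cfsg.Agent.Helper1.ElemTwo

open Subgroup

variable {S : Type*} [Group S]

/-- an element of odd order whose square is trivial is trivial -/
theorem eq_one_of_sq_of_odd [Finite S] (N : Subgroup S) (hodd : Odd (Nat.card N)) (w : S)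
    (hw : w ∈ N) (h2 : w * w = 1) : w = 1 := by
  have h1 : orderOf w ∣ 2 := orderOf_dvd_of_pow_eq_one (by rw [pow_two]; exact h2)
  have h3 : orderOf w ∣ Nat.card N := by
    have := orderOf_dvd_natCard (⟨w, hw⟩ : N)
    rwa [Subgroup.orderOf_mk] at this
  have h4 : (2 : ℕ).Coprime (Nat.card N) := Nat.coprime_two_left.mpr hodd
  have h5 : orderOf w = 1 := Nat.eq_one_of_dvd_coprimes h4 h1 h3
  exact orderOf_eq_one_iff.mp h5

/-- A special case of Thompson's `A × B` lemma: an involution `j` normalizing the nilpotent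
subgroup `N` of odd order and centralizing `A ≤ N` together with `C_N(A)` centralizes `N`. -/
theorem involution_centralizes [Finite S] (N A : Subgroup S) (hN : Group.IsNilpotent N)
    (hodd : Odd (Nat.card N)) (j : S) (hj : j * j = 1) (hjN : j ∈ normalizer (N : Set S))
    (hAN : A ≤ N) (hjA : A ≤ centralizer {j})
    (hC : N ⊓ centralizer (A : Set S) ≤ centralizer {j}) : N ≤ centralizer {j} := by
  have hjinv : j⁻¹ = j := inv_eq_of_mul_eq_one_left hj
  set C : Subgroup S := N ⊓ centralizer {j} with hCdef
  by_contra hcon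
  have hlt : C.subgroupOf N < ⊤ := by
    rw [lt_top_iff_ne_top, Ne, subgroupOf_eq_top]
    intro h
    exact hcon (h.trans inf_le_right)
  have hnc := Group.normalizerCondition_of_isNilpotent (G := N) _ hlt
  obtain ⟨n, hn1, hn2⟩ := SetLike.exists_of_lt hnc
  apply hn2
  rw [mem_subgroupOf, hCdef, mem_inf]
  refine ⟨n.2, ?_⟩
  rw [mem_centralizer_singleton_iff]
  -- `w = n j n⁻¹ j⁻¹`
  set w : S := (n : S) * j * (n : S)⁻¹ * j⁻¹ with hw
  have hwN : w ∈ N := by
    have h1 : j * (n : S)⁻¹ * j⁻¹ ∈ N := (mem_normalizer_iff.mp hjN _).mp (inv_mem n.2)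
    have : w = (n : S) * (j * (n : S)⁻¹ * j⁻¹) := by rw [hw]; group
    rw [this]
    exact mul_mem n.2 h1
  have hAC : A ≤ C := le_inf hAN hjA
  have hwC : w ∈ centralizer (C : Set S) := by
    rw [mem_centralizer_iff]
    intro c hc
    have hcN : c ∈ N := hc.1
    have hcj : c * j = j * c := mem_centralizer_singleton_iff.mp hc.2
    -- `c' = n⁻¹ c n ∈ C`
    have hc' : (n : S)⁻¹ * c * (n : S) ∈ C := by
      have h1 : (⟨c, hcN⟩ : N) ∈ C.subgroupOf N := by rw [mem_subgroupOf]; exact hc
      have h2 := (mem_normalizer_iff'.mp hn1 (n⁻¹ * ⟨c, hcN⟩)).mpr (by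
        have : n * (n⁻¹ * ⟨c, hcN⟩) = ⟨c, hcN⟩ := by group
        rw [this]; exact h1)
      rw [mem_subgroupOf] at h2
      simpa [mul_assoc] using h2
    have hc'j : (n : S)⁻¹ * c * (n : S) * j = j * ((n : S)⁻¹ * c * (n : S)) :=
      mem_centralizer_singleton_iff.mp hc'.2
    -- `c * w = w * c`
    have e1 : w * c = (n : S) * j * ((n : S)⁻¹ * (j⁻¹ * c * j) * (n : S)) * j⁻¹ * (n : S)⁻¹ * w := by
      rw [hw]; group
    have e2 : j⁻¹ * c * j = c := by
      rw [mul_assoc, hcj, ← mul_assoc, inv_mul_cancel, one_mul]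
    rw [e1, e2]
    have e3 : j * ((n : S)⁻¹ * c * (n : S)) * j⁻¹ = (n : S)⁻¹ * c * (n : S) := by
      rw [← hc'j]; group
    have e4 : (n : S) * j * ((n : S)⁻¹ * c * (n : S)) * j⁻¹ * (n : S)⁻¹
        = (n : S) * (j * ((n : S)⁻¹ * c * (n : S)) * j⁻¹) * (n : S)⁻¹ := by group
    rw [e4, e3]
    group
  have hwA : w ∈ centralizer (A : Set S) := centralizer_le (by exact_mod_cast hAC) hwC
  have hwj : w * j = j * w := mem_centralizer_singleton_iff.mp (hC ⟨hwN, hwA⟩)
  -- `j w j⁻¹ = w⁻¹`
  have hinv : j * w * j⁻¹ = w⁻¹ := by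
    have e1 : j * w * j⁻¹ = j * (n : S) * j * (n : S)⁻¹ * (j * j)⁻¹ := by
      rw [hw]; group
    have e2 : w⁻¹ = j * (n : S) * j⁻¹ * (n : S)⁻¹ := by
      rw [hw]; group
    rw [e1, e2, hj, hjinv, inv_one, mul_one]
  have hww : w * w = 1 := by
    have h1 : j * w * j⁻¹ = w := by rw [← hwj]; group
    rw [h1] at hinv
    calc w * w = w * w⁻¹ := by rw [← hinv]
      _ = 1 := mul_inv_cancel w
  have hw1 : w = 1 := eq_one_of_sq_of_odd N hodd w hwN hww
  have : (n : S) * j * (n : S)⁻¹ * j⁻¹ = 1 := hw1
  calc (n : S) * j = ((n : S) * j * (n : S)⁻¹ * j⁻¹) * j * (n : S) := by group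
    _ = j * (n : S) := by rw [this, one_mul]

theorem card_lt_of_lt [Finite S] {H K : Subgroup S} (h : H < K) : Nat.card H < Nat.card K := by
  by_contra hcon
  push Not at hcon
  exact h.ne (Subgroup.eq_of_le_of_card_ge h.le hcon)

/-- the explicit four-group generated by two commuting involutions -/
def four (s g : S) (hs : s * s = 1) (hg : g * g = 1) (hc : s * g = g * s) : Subgroup S where
  carrier := {a | a = 1 ∨ a = s ∨ a = g ∨ a = s * g}
  mul_mem' := by
    intro a b ha hb
    have hsg1 : s * (s * g) = g := by rw [← mul_assoc, hs, one_mul]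
    have hgsg : g * (s * g) = s := by rw [hc, ← mul_assoc, hg, one_mul]
    have hsgs : s * g * s = g := by rw [mul_assoc, ← hc, hsg1]
    have hsgg : s * g * g = s := by rw [mul_assoc, hg, mul_one]
    have hsgsg : s * g * (s * g) = 1 := by rw [mul_assoc, hgsg, hs]
    simp only [Set.mem_ofPred_eq] at ha hb ⊢
    rcases ha with h1 | h1 | h1 | h1 <;> rcases hb with h2 | h2 | h2 | h2 <;> rw [h1, h2]
    · left; exact one_mul 1
    · right; left; exact one_mul s
    · right; right; left; exact one_mul g
    · right; right; right; exact one_mul _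
    · right; left; exact mul_one s
    · left; exact hs
    · right; right; right; rfl
    · right; right; left; exact hsg1
    · right; right; left; exact mul_one g
    · right; right; right; exact hc.symm
    · left; exact hg
    · right; left; exact hgsg
    · right; right; right; exact mul_one _
    · right; right; left; exact hsgs
    · right; left; exact hsgg
    · left; exact hsgsg
  one_mem' := Or.inl rfl
  inv_mem' := by
    intro a ha
    have hsi : s⁻¹ = s := inv_eq_of_mul_eq_one_left hs
    have hgi : g⁻¹ = g := inv_eq_of_mul_eq_one_left hg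
    simp only [Set.mem_ofPred_eq] at ha ⊢
    rcases ha with h | h | h | h <;> rw [h]
    · left; exact inv_one
    · right; left; exact hsi
    · right; right; left; exact hgi
    · right; right; right; rw [mul_inv_rev, hsi, hgi, hc]

theorem mem_four {s g : S} {hs : s * s = 1} {hg : g * g = 1} {hc : s * g = g * s} {a : S} :
    a ∈ four s g hs hg hc ↔ a = 1 ∨ a = s ∨ a = g ∨ a = s * g := Iff.rfl

/-- conjugation by an element commuting with `a` preserves `N ⊓ C(a)` -/
theorem mem_normalizer_inf_centralizer {N : Subgroup S} {s a : S}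
    (hs : s ∈ normalizer (N : Set S)) (hsa : s * a = a * s) :
    s ∈ normalizer ((N ⊓ centralizer {a} : Subgroup S) : Set S) := by
  rw [mem_normalizer_iff]
  intro h
  rw [mem_inf, mem_inf, ← mem_normalizer_iff.mp hs h, mem_centralizer_singleton_iff,
    mem_centralizer_singleton_iff]
  refine and_congr_right fun _ => ?_
  have ha' : s⁻¹ * a * s = a := by rw [mul_assoc, ← hsa]; group
  have ha'' : s * a * s⁻¹ = a := by rw [hsa]; group
  constructor
  · intro e
    calc s * h * s⁻¹ * a = s * h * s⁻¹ * (s * a * s⁻¹) := by rw [ha'']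
      _ = s * (h * a) * s⁻¹ := by group
      _ = s * (a * h) * s⁻¹ := by rw [e]
      _ = (s * a * s⁻¹) * (s * h * s⁻¹) := by group
      _ = a * (s * h * s⁻¹) := by rw [ha'']
  · intro e
    calc h * a = h * (s⁻¹ * a * s) := by rw [ha']
      _ = s⁻¹ * (s * h * s⁻¹ * a) * s := by group
      _ = s⁻¹ * (a * (s * h * s⁻¹)) * s := by rw [e]
      _ = (s⁻¹ * a * s) * h := by group
      _ = a * h := by rw [ha']

/-- An elementary abelian `2`-group `I` normalizing an odd-order group `N` not centralized by
`g ∈ I`: some `I`-invariant subgroup of prime order of `N` is inverted by `g`. -/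
theorem exists_inverted_prime [Finite S] (I : Subgroup S)
    (hIc : ∀ a ∈ I, ∀ b ∈ I, a * b = b * a) (hI2 : ∀ a ∈ I, a * a = 1) (g : S) (hg : g ∈ I) :
    ∀ (m : ℕ) (N : Subgroup S), Nat.card N = m → Odd (Nat.card N) →
      I ≤ normalizer (N : Set S) → ¬ N ≤ centralizer {g} →
      ∃ x ∈ N, (orderOf x).Prime ∧ g * x * g⁻¹ = x⁻¹ ∧
        ∀ s ∈ I, s * x * s⁻¹ = x ∨ s * x * s⁻¹ = x⁻¹ := by
  intro m
  induction m using Nat.strong_induction_on with
  | _ m ih =>
  intro N hm hodd hIN hgN
  by_cases h : ∃ a ∈ I, ¬ N ≤ centralizer {a} ∧ ¬ N ⊓ centralizer {a} ≤ centralizer {g}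
  · obtain ⟨a, ha, haN, hag⟩ := h
    have hlt : N ⊓ centralizer {a} < N :=
      lt_of_le_of_ne inf_le_left (fun h => haN (h ▸ inf_le_right))
    have hcard : Nat.card ↥(N ⊓ centralizer {a}) < m := hm ▸ card_lt_of_lt hlt
    have hodd' : Odd (Nat.card ↥(N ⊓ centralizer {a})) :=
      Odd.of_dvd_nat hodd (card_dvd_of_le inf_le_left)
    have hI' : I ≤ normalizer ((N ⊓ centralizer {a} : Subgroup S) : Set S) := fun s hs =>
      mem_normalizer_inf_centralizer (hIN hs) (hIc s hs a ha)
    obtain ⟨x, hx, hp, hgx, hsx⟩ := ih _ hcard _ rfl hodd' hI' hag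
    exact ⟨x, hx.1, hp, hgx, hsx⟩
  · push Not at h
    have hg2 : g * g = 1 := hI2 g hg
    have hginv : g⁻¹ = g := inv_eq_of_mul_eq_one_left hg2
    have hg1 : g ≠ 1 := by
      rintro rfl
      apply hgN
      intro y _
      rw [mem_centralizer_singleton_iff]; simp
    have claim : ∀ s ∈ I, N ≤ centralizer {s} ∨ N ≤ centralizer {s * g} := by
      intro s hs
      by_contra hcon
      push Not at hcon
      obtain ⟨hsN, hsgN⟩ := hcon
      have hs2 := hI2 s hs
      have hc : s * g = g * s := hIc s hs g hg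
      have hs1 : s ≠ 1 := by
        rintro rfl
        apply hsN
        intro y _
        rw [mem_centralizer_singleton_iff]; simp
      have hsg1 : s * g ≠ 1 := by
        intro e
        apply hsgN
        intro y _
        rw [e, mem_centralizer_singleton_iff]; simp
      set A := four s g hs2 hg2 hc with hA
      have hAI : A ≤ I := by
        intro a ha
        rcases mem_four.mp ha with h | h | h | h <;> rw [h]
        · exact one_mem _
        · exact hs
        · exact hg
        · exact mul_mem hs hg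
      haveI : IsMulCommutative A :=
        ⟨⟨fun a b => Subtype.ext (hIc a.1 (hAI a.2) b.1 (hAI b.2))⟩⟩
      have hnc : ¬ IsCyclic A := by
        intro hcyc
        obtain ⟨c, hc'⟩ := hcyc.exists_generator
        have hc2 : c * c = 1 := Subtype.ext (hI2 c.1 (hAI c.2))
        have hall : ∀ a : A, a = 1 ∨ a = c := by
          intro a
          obtain ⟨k, hk⟩ := mem_zpowers_iff.mp (hc' a)
          rcases Int.even_or_odd k with ⟨r, hr⟩ | ⟨r, hr⟩
          · left
            rw [← hk, hr, zpow_add, ← (Commute.refl c).mul_zpow, hc2, one_zpow]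
          · right
            rw [← hk, hr, zpow_add_one, zpow_mul, zpow_two, hc2, one_zpow, one_mul]
        have hsA : s ∈ A := mem_four.mpr (Or.inr (Or.inl rfl))
        have hgA : g ∈ A := mem_four.mpr (Or.inr (Or.inr (Or.inl rfl)))
        have e1 : (⟨s, hsA⟩ : A) = c := by
          rcases hall ⟨s, hsA⟩ with h | h
          · exact absurd (congrArg Subtype.val h) hs1
          · exact h
        have e2 : (⟨g, hgA⟩ : A) = c := by
          rcases hall ⟨g, hgA⟩ with h | h
          · exact absurd (congrArg Subtype.val h) hg1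
          · exact h
        have e3 : s = g := congrArg Subtype.val (e1.trans e2.symm)
        apply hsg1
        rw [e3]; exact hg2
      have hAp : IsPGroup 2 A := fun a =>
        ⟨1, by rw [pow_one, pow_two]; exact Subtype.ext (hI2 a.1 (hAI a.2))⟩
      have hcop : (Nat.card A).Coprime (Nat.card N) := by
        obtain ⟨k, hk⟩ := hAp.exists_card_eq
        rw [hk]
        exact Nat.Coprime.pow_left k (Nat.coprime_two_left.mpr hodd)
      have hgen := Cfsg.Agent.Lead.generated_by_centralizers A N hnc (hAI.trans hIN) hcop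
      apply hgN
      rw [← hgen]
      refine iSup₂_le fun a ha => ?_
      obtain ⟨haA, ha1⟩ := ha
      rcases mem_four.mp haA with e | e | e | e
      · exact absurd e ha1
      · rw [e]; exact h s hs hsN
      · rw [e]; exact inf_le_right
      · rw [e]; exact h (s * g) (mul_mem hs hg) hsgN
    -- an element inverted by `g`
    have hex : ∃ y ∈ N, g * y * g⁻¹ ≠ y := by
      by_contra hcon
      push Not at hcon
      apply hgN
      intro y hy
      rw [mem_centralizer_singleton_iff]
      have := hcon y hy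
      calc y * g = g * y * g⁻¹ * g := by rw [this]
        _ = g * y := by group
    obtain ⟨y, hyN, hy⟩ := hex
    set z : S := y⁻¹ * (g * y * g⁻¹) with hz
    have hzN : z ∈ N := mul_mem (inv_mem hyN) ((mem_normalizer_iff.mp (hIN hg) y).mp hyN)
    have hz1 : z ≠ 1 := by
      intro e
      apply hy
      have : g * y * g⁻¹ = y * z := by rw [hz]; group
      rw [this, e, mul_one]
    have hgz : g * z * g⁻¹ = z⁻¹ := by
      have e1 : g * z * g⁻¹ = (g * y * g⁻¹)⁻¹ * ((g * g) * y * (g * g)⁻¹) := by rw [hz]; group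
      have e2 : z⁻¹ = (g * y * g⁻¹)⁻¹ * y := by rw [hz]; group
      rw [e1, e2, hg2, inv_one, mul_one, one_mul]
    have hord : orderOf z ≠ 1 := fun e => hz1 (orderOf_eq_one_iff.mp e)
    obtain ⟨p, hp, hpz⟩ := Nat.exists_prime_and_dvd hord
    set x : S := z ^ (orderOf z / p) with hx
    have hxo : orderOf x = p := by
      rw [hx]
      exact orderOf_pow_orderOf_div (orderOf_pos z).ne' hpz
    have hgx : g * x * g⁻¹ = x⁻¹ := by
      rw [hx, ← conj_pow, hgz, inv_pow]
    refine ⟨x, pow_mem hzN _, hxo ▸ hp, hgx, ?_⟩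
    intro s hs
    rcases claim s hs with h1 | h1
    · left
      have := mem_centralizer_singleton_iff.mp (h1 (pow_mem hzN _ : x ∈ N))
      calc s * x * s⁻¹ = x * s * s⁻¹ := by rw [this]
        _ = x := by group
    · right
      have := mem_centralizer_singleton_iff.mp (h1 (pow_mem hzN _ : x ∈ N))
      have e1 : s * (g * x * g⁻¹) * s⁻¹ = x := by
        calc s * (g * x * g⁻¹) * s⁻¹ = (s * g) * x * (s * g)⁻¹ := by group
          _ = x * (s * g) * (s * g)⁻¹ := by rw [this]
          _ = x := by group
      rw [hgx] at e1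
      calc s * x * s⁻¹ = (s * x⁻¹ * s⁻¹)⁻¹ := by group
        _ = x⁻¹ := by rw [e1]

end Cfsg.Agent.Helper1.ElemTwo
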