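import Mathlib
import Cfsg.Agent.Helper1.ElemTwo1

set_option autoImplicit false
set_option linter.style.haveILetI false
set_option linter.unusedSectionVars false

/-! Elementary abelian `2`-groups acting on nilpotent groups of odd order, part 2 (S4408). -/

namespace Cfsg.Agent.Helper1.ElemTwo

open Subgroup

variable {S : Type*} [Group S]

theorem conj_eq_iff_comm {s x : S} : s * x * s⁻¹ = x ↔ s * x = x * s := mul_inv_eq_iff_eq_mul

/-- a group of exponent `2` acting faithfully by `±1` on `k` elements has order at most `2 ^ k` -/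
theorem card_le_two_pow [Finite S] (J : Subgroup S) (k : ℕ) (x : Fin k → S)
    (hJx : ∀ i, ∀ s ∈ J, s * x i * s⁻¹ = x i ∨ s * x i * s⁻¹ = (x i)⁻¹)
    (hfaith : ∀ s ∈ J, (∀ i, s * x i = x i * s) → s = 1) : Nat.card J ≤ 2 ^ k := by
  classical
  let φ : J → (Fin k → Bool) := fun s i => decide ((s : S) * x i = x i * (s : S))
  have hinj : Function.Injective φ := by
    intro s t hst
    have key : ∀ i, ((s⁻¹ * t : J) : S) * x i = x i * ((s⁻¹ * t : J) : S) := by
      intro i
      have h1 : decide ((s : S) * x i = x i * (s : S)) = decide ((t : S) * x i = x i * (t : S)) :=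
        congrFun hst i
      rw [decide_eq_decide] at h1
      push_cast
      by_cases hs : (s : S) * x i = x i * (s : S)
      · have ht : (t : S) * x i = x i * (t : S) := h1.mp hs
        calc (s : S)⁻¹ * t * x i = (s : S)⁻¹ * ((t : S) * x i) := mul_assoc _ _ _
          _ = (s : S)⁻¹ * (x i * t) := by rw [ht]
          _ = (s : S)⁻¹ * (x i * s) * (s : S)⁻¹ * t := by group
          _ = (s : S)⁻¹ * (s * x i) * (s : S)⁻¹ * t := by rw [hs]
          _ = x i * ((s : S)⁻¹ * t) := by group
      · have ht : ¬ (t : S) * x i = x i * (t : S) := fun h => hs (h1.mpr h)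
        have hs' : (s : S) * x i * (s : S)⁻¹ = (x i)⁻¹ :=
          (hJx i s s.2).resolve_left (fun e => hs (conj_eq_iff_comm.mp e))
        have ht' : (t : S) * x i * (t : S)⁻¹ = (x i)⁻¹ :=
          (hJx i t t.2).resolve_left (fun e => ht (conj_eq_iff_comm.mp e))
        calc (s : S)⁻¹ * t * x i = (s : S)⁻¹ * ((t : S) * x i * (t : S)⁻¹) * t := by group
          _ = (s : S)⁻¹ * ((s : S) * x i * (s : S)⁻¹) * t := by rw [ht', hs']
          _ = x i * ((s : S)⁻¹ * t) := by group
    have := hfaith _ (s⁻¹ * t).2 key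
    exact inv_mul_eq_one.mp (Subtype.ext this)
  calc Nat.card J ≤ Nat.card (Fin k → Bool) := Nat.card_le_card_of_injective φ hinj
    _ = 2 ^ k := by simp

/-- the order of the join of two commuting disjoint subgroups -/
theorem card_sup_of_commute_disjoint (H K : Subgroup S) (hcomm : ∀ a ∈ H, ∀ b ∈ K, a * b = b * a)
    (hd : Disjoint H K) : Nat.card ↥(H ⊔ K) = Nat.card H * Nat.card K := by
  have hc : ∀ (a : H) (b : K), Commute (H.subtype a) (K.subtype b) := fun a b =>
    hcomm a.1 a.2 b.1 b.2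
  have hinj : Function.Injective (MonoidHom.noncommCoprod H.subtype K.subtype hc) := by
    rw [MonoidHom.noncommCoprod_injective]
    refine ⟨subtype_injective H, subtype_injective K, ?_⟩
    rw [range_subtype, range_subtype]
    exact hd
  have hr : (MonoidHom.noncommCoprod H.subtype K.subtype hc).range = H ⊔ K := by
    rw [MonoidHom.noncommCoprod_range, range_subtype, range_subtype]
  rw [← hr, ← Nat.card_prod]
  exact (Nat.card_congr (MonoidHom.ofInjective hinj).toEquiv).symm

theorem iSup_zpowers_cons {k : ℕ} (x₀ : S) (x' : Fin k → S) :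
    (⨆ i : Fin (k + 1), zpowers ((Fin.cons x₀ x' : Fin (k + 1) → S) i))
      = zpowers x₀ ⊔ ⨆ i, zpowers (x' i) := by
  apply le_antisymm
  · refine iSup_le (Fin.cases ?_ fun i => ?_)
    · rw [Fin.cons_zero]; exact le_sup_left
    · rw [Fin.cons_succ]
      exact le_sup_of_le_right (le_iSup (fun i => zpowers (x' i)) i)
  · refine sup_le ?_ (iSup_le fun i => ?_)
    · refine le_iSup_of_le 0 ?_
      rw [Fin.cons_zero]
    · refine le_iSup_of_le i.succ ?_
      rw [Fin.cons_succ]

/-- conjugation by `s` with `s x s⁻¹ = x^{±1}` preserves `N ⊓ C(x)` -/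
theorem mem_normalizer_inf_centralizer' {N : Subgroup S} {s x : S}
    (hs : s ∈ normalizer (N : Set S)) (hsx : s * x * s⁻¹ = x ∨ s * x * s⁻¹ = x⁻¹) :
    s ∈ normalizer ((N ⊓ centralizer {x} : Subgroup S) : Set S) := by
  rw [mem_normalizer_iff]
  intro h
  rw [mem_inf, mem_inf, ← mem_normalizer_iff.mp hs h, mem_centralizer_singleton_iff,
    mem_centralizer_singleton_iff]
  refine and_congr_right fun _ => ?_
  have key : s * h * s⁻¹ * x = x * (s * h * s⁻¹) ↔ h * (s⁻¹ * x * s) = (s⁻¹ * x * s) * h := by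
    constructor
    · intro e
      calc h * (s⁻¹ * x * s) = s⁻¹ * (s * h * s⁻¹ * x) * s := by group
        _ = s⁻¹ * (x * (s * h * s⁻¹)) * s := by rw [e]
        _ = (s⁻¹ * x * s) * h := by group
    · intro e
      calc s * h * s⁻¹ * x = s * (h * (s⁻¹ * x * s)) * s⁻¹ := by group
        _ = s * ((s⁻¹ * x * s) * h) * s⁻¹ := by rw [e]
        _ = x * (s * h * s⁻¹) := by group
  rw [key]
  rcases hsx with e | e
  · have : s⁻¹ * x * s = x := by
      calc s⁻¹ * x * s = s⁻¹ * (s * x * s⁻¹) * s := by rw [e]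
        _ = x := by group
    rw [this]
  · have : s⁻¹ * x * s = x⁻¹ := by
      calc s⁻¹ * x * s = (s⁻¹ * (s * x * s⁻¹) * s)⁻¹ := by rw [e]; group
        _ = x⁻¹ := by group
    rw [this]
    exact (Commute.inv_right_iff (a := h) (b := x)).symm

/-- Main induction: `J ≤ I` of order `2 ^ k` acting faithfully on the `I`-invariant nilpotent
odd-order subgroup `N` yields `k` commuting independent `I`-invariant subgroups of prime order
on which `J` still acts faithfully. -/
theorem main_ind [Finite S] (I : Subgroup S) (hIc : ∀ a ∈ I, ∀ b ∈ I, a * b = b * a)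
    (hI2 : ∀ a ∈ I, a * a = 1) :
    ∀ (k : ℕ) (N J : Subgroup S), Group.IsNilpotent N → Odd (Nat.card N) →
      I ≤ normalizer (N : Set S) → J ≤ I → Nat.card J = 2 ^ k →
      (∀ s ∈ J, N ≤ centralizer {s} → s = 1) →
      ∃ x : Fin k → S, (∀ i, (orderOf (x i)).Prime) ∧ (∀ i, x i ∈ N) ∧
        (∀ i, ∀ s ∈ I, s * x i * s⁻¹ = x i ∨ s * x i * s⁻¹ = (x i)⁻¹) ∧
        (∀ i j, x i * x j = x j * x i) ∧
        Nat.card ↥(⨆ i, zpowers (x i)) = ∏ i, orderOf (x i) ∧
        (∀ s ∈ J, (∀ i, s * x i = x i * s) → s = 1) := by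
  intro k
  induction k with
  | zero =>
    intro N J hN hodd hIN hJI hJ _
    refine ⟨fun i => i.elim0, fun i => i.elim0, fun i => i.elim0, fun i => i.elim0,
      fun i => i.elim0, ?_, ?_⟩
    · simp
    · intro s hs _
      have : J = ⊥ := Subgroup.card_eq_one.mp (by simpa using hJ)
      rw [this] at hs
      exact mem_bot.mp hs
  | succ k ih =>
    intro N J hN hodd hIN hJI hJ hfaith
    have hJne : J ≠ ⊥ := by
      intro e
      rw [e, Subgroup.card_bot] at hJ
      have : 2 ^ (k + 1) = 2 * 2 ^ k := pow_succ' 2 k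
      have : 0 < 2 ^ k := pow_pos (by norm_num) k
      omega
    obtain ⟨g, hgJ, hg1⟩ := (Subgroup.ne_bot_iff_exists_ne_one (H := J)).mp hJne |>.imp
      (fun a h => h) |> fun ⟨a, ha⟩ => (⟨a.1, a.2, fun e => ha (Subtype.ext e)⟩ :
        ∃ g : S, g ∈ J ∧ g ≠ 1)
    have hgN : ¬ N ≤ centralizer {g} := fun h => hg1 (hfaith g hgJ h)
    obtain ⟨x₀, hx₀N, hp, hgx, hIx⟩ :=
      exists_inverted_prime I hIc hI2 g (hJI hgJ) _ N rfl hodd hIN hgN
    -- `x₀ ≠ x₀⁻¹`
    have hx₀ne : x₀⁻¹ ≠ x₀ := by
      intro e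
      have h2 : x₀ * x₀ = 1 := by
        calc x₀ * x₀ = x₀⁻¹ * x₀ := by rw [e]
          _ = 1 := inv_mul_cancel x₀
      have := eq_one_of_sq_of_odd N hodd x₀ hx₀N h2
      rw [this, orderOf_one] at hp
      exact Nat.not_prime_one hp
    set N₁ : Subgroup S := N ⊓ centralizer {x₀} with hN₁
    set J₁ : Subgroup S := J ⊓ centralizer {x₀} with hJ₁
    have hN₁N : N₁ ≤ N := inf_le_left
    have hJ₁J : J₁ ≤ J := inf_le_left
    have hgJ₁ : g ∉ J₁ := by
      intro h
      have := mem_centralizer_singleton_iff.mp h.2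
      apply hx₀ne
      rw [← hgx, this]; group
    -- `J₁` has index two in `J`
    have hidx : (J₁.subgroupOf J).index = 2 := by
      rw [Subgroup.index_eq_two_iff]
      refine ⟨⟨g, hgJ⟩, fun b => ?_⟩
      have hbI : (b : S) ∈ I := hJI b.2
      rcases hIx b hbI with e | e
      · right
        refine ⟨?_, ?_⟩
        · rw [mem_subgroupOf]
          exact ⟨b.2, mem_centralizer_singleton_iff.mpr (conj_eq_iff_comm.mp e)⟩
        · rw [mem_subgroupOf]
          intro h
          have h' := conj_eq_iff_comm.mpr (mem_centralizer_singleton_iff.mp h.2)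
          push_cast at h'
          apply hx₀ne
          calc x₀⁻¹ = ((b : S) * x₀ * (b : S)⁻¹)⁻¹ := by rw [e]
            _ = (b : S) * (g * x₀ * g⁻¹) * (b : S)⁻¹ := by rw [hgx]; group
            _ = (b : S) * g * x₀ * ((b : S) * g)⁻¹ := by group
            _ = x₀ := h'
      · left
        refine ⟨?_, ?_⟩
        · rw [mem_subgroupOf]
          refine ⟨mul_mem b.2 hgJ, ?_⟩
          show (b : S) * g ∈ centralizer {x₀}
          rw [mem_centralizer_singleton_iff]
          apply conj_eq_iff_comm.mp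
          calc (b : S) * g * x₀ * ((b : S) * g)⁻¹ = (b : S) * (g * x₀ * g⁻¹) * (b : S)⁻¹ := by group
            _ = ((b : S) * x₀ * (b : S)⁻¹)⁻¹ := by rw [hgx]; group
            _ = x₀ := by rw [e, inv_inv]
        · rw [mem_subgroupOf]
          intro h
          have h' := conj_eq_iff_comm.mpr (mem_centralizer_singleton_iff.mp h.2)
          apply hx₀ne
          rw [← e, h']
    have hJ₁card : Nat.card J₁ = 2 ^ k := by
      have h1 := Subgroup.card_mul_index (J₁.subgroupOf J)
      rw [hidx, hJ, Nat.card_congr (Subgroup.subgroupOfEquivOfLe hJ₁J).toEquiv, pow_succ] at h1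
      exact Nat.eq_of_mul_eq_mul_right (by norm_num) h1
    -- `N₁`
    have hN₁nil : Group.IsNilpotent N₁ :=
      haveI := hN
      Subgroup.isNilpotent_of_ker_le_center (Subgroup.inclusion hN₁N)
        (by rw [(MonoidHom.ker_eq_bot_iff _).mpr (Subgroup.inclusion_injective hN₁N)]; exact bot_le)
    have hN₁odd : Odd (Nat.card N₁) := Odd.of_dvd_nat hodd (card_dvd_of_le hN₁N)
    have hIN₁ : I ≤ normalizer (N₁ : Set S) := fun s hs =>
      mem_normalizer_inf_centralizer' (hIN hs) (hIx s hs)
    have hfaith₁ : ∀ s ∈ J₁, N₁ ≤ centralizer {s} → s = 1 := by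
      intro s hs hsN₁
      apply hfaith s (hJ₁J hs)
      have hsx : s * x₀ = x₀ * s := (mem_centralizer_singleton_iff.mp hs.2)
      refine involution_centralizes N (zpowers x₀) hN hodd s (hI2 s (hJI (hJ₁J hs)))
        (hIN (hJI (hJ₁J hs))) (zpowers_le.mpr hx₀N) ?_ ?_
      · rw [zpowers_le, mem_centralizer_singleton_iff]
        exact hsx.symm
      · refine le_trans ?_ hsN₁
        refine inf_le_inf_left N (centralizer_le ?_)
        intro y hy
        rw [Set.mem_singleton_iff] at hy
        rw [hy]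
        exact mem_zpowers x₀
    obtain ⟨x', hx'p, hx'N, hx'I, hx'c, hx'card, hx'f⟩ :=
      ih N₁ J₁ hN₁nil hN₁odd hIN₁ (hJ₁J.trans hJI) hJ₁card hfaith₁
    set B' : Subgroup S := ⨆ i, zpowers (x' i) with hB'
    have hx'x₀ : ∀ i, x' i * x₀ = x₀ * x' i := fun i =>
      mem_centralizer_singleton_iff.mp (hx'N i).2
    have hB'c : B' ≤ centralizer {x₀} :=
      iSup_le fun i => zpowers_le.mpr (mem_centralizer_singleton_iff.mpr (hx'x₀ i))
    -- disjointness
    have hdisj : Disjoint (zpowers x₀) B' := by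
      rw [Subgroup.disjoint_def]
      intro y hy hyB
      by_contra hy1
      -- `x₀ ∈ B'`
      have hx₀B : x₀ ∈ B' := by
        have h1 : orderOf y ∣ orderOf x₀ := orderOf_dvd_of_mem_zpowers hy
        have h2 : orderOf y = orderOf x₀ := by
          rcases (Nat.dvd_prime hp).mp h1 with h | h
          · exact absurd (orderOf_eq_one_iff.mp h) hy1
          · exact h
        have h3 : zpowers y = zpowers x₀ := by
          apply Subgroup.eq_of_le_of_card_ge (zpowers_le.mpr hy)
          rw [Nat.card_zpowers, Nat.card_zpowers, h2]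
        have : x₀ ∈ zpowers y := h3 ▸ mem_zpowers x₀
        exact (zpowers_le.mpr hyB) this
      have hfaith' : ∀ s ∈ J, (∀ i, s * x' i = x' i * s) → s = 1 := by
        intro s hs hsx
        have hB's : B' ≤ centralizer {s} :=
          iSup_le fun i => zpowers_le.mpr (mem_centralizer_singleton_iff.mpr (hsx i).symm)
        have hsx₀ : x₀ * s = s * x₀ := mem_centralizer_singleton_iff.mp (hB's hx₀B)
        exact hx'f s ⟨hs, mem_centralizer_singleton_iff.mpr hsx₀.symm⟩ hsx
      have hle := card_le_two_pow J k x' (fun i s hs => hx'I i s (hJI hs)) hfaith'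
      rw [hJ] at hle
      have : 2 ^ k < 2 ^ (k + 1) := Nat.pow_lt_pow_right (by norm_num) (Nat.lt_succ_self k)
      omega
    refine ⟨Fin.cons x₀ x', ?_, ?_, ?_, ?_, ?_, ?_⟩
    · refine Fin.cases ?_ fun i => ?_
      · rw [Fin.cons_zero]; exact hp
      · rw [Fin.cons_succ]; exact hx'p i
    · refine Fin.cases ?_ fun i => ?_
      · rw [Fin.cons_zero]; exact hx₀N
      · rw [Fin.cons_succ]; exact hN₁N (hx'N i)
    · refine Fin.cases ?_ fun i => ?_
      · rw [Fin.cons_zero]; exact hIx
      · rw [Fin.cons_succ]; exact hx'I i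
    · refine Fin.cases ?_ fun i => ?_
      · refine Fin.cases ?_ fun j => ?_
        · rfl
        · rw [Fin.cons_zero, Fin.cons_succ]; exact (hx'x₀ j).symm
      · refine Fin.cases ?_ fun j => ?_
        · rw [Fin.cons_zero, Fin.cons_succ]; exact hx'x₀ i
        · rw [Fin.cons_succ, Fin.cons_succ]; exact hx'c i j
    · rw [iSup_zpowers_cons, Fin.prod_univ_succ]
      simp only [Fin.cons_zero, Fin.cons_succ]
      rw [card_sup_of_commute_disjoint _ _ ?_ hdisj, Nat.card_zpowers, hx'card]
      intro a ha b hb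
      have hb' : b * x₀ = x₀ * b := mem_centralizer_singleton_iff.mp (hB'c hb)
      obtain ⟨m, rfl⟩ := mem_zpowers_iff.mp ha
      exact ((Commute.zpow_right (show Commute b x₀ from hb') m).symm : _)
    · intro s hs hsx
      have h0 : s * x₀ = x₀ * s := by simpa using hsx 0
      have hs₁ : s ∈ J₁ := ⟨hs, mem_centralizer_singleton_iff.mpr h0⟩
      apply hx'f s hs₁
      intro i
      simpa using hsx i.succ

theorem conj_mem_zpowers {s x : S} (h : s * x * s⁻¹ = x ∨ s * x * s⁻¹ = x⁻¹) :
    ∀ y ∈ zpowers x, s * y * s⁻¹ ∈ zpowers x := by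
  intro y hy
  obtain ⟨m, rfl⟩ := mem_zpowers_iff.mp hy
  rw [← conj_zpow]
  rcases h with e | e <;> rw [e]
  · exact zpow_mem (mem_zpowers x) m
  · exact zpow_mem (inv_mem (mem_zpowers x)) m

theorem mem_normalizer_zpowers {s x : S} (h : s * x * s⁻¹ = x ∨ s * x * s⁻¹ = x⁻¹) :
    s ∈ normalizer (zpowers x : Set S) := by
  have h' : s⁻¹ * x * s⁻¹⁻¹ = x ∨ s⁻¹ * x * s⁻¹⁻¹ = x⁻¹ := by
    rw [inv_inv]
    rcases h with e | e
    · left
      calc s⁻¹ * x * s = s⁻¹ * (s * x * s⁻¹) * s := by rw [e]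
        _ = x := by group
    · right
      calc s⁻¹ * x * s = (s⁻¹ * (s * x * s⁻¹) * s)⁻¹ := by rw [e]; group
        _ = x⁻¹ := by group
  rw [mem_normalizer_iff]
  intro y
  constructor
  · exact conj_mem_zpowers h y
  · intro hy
    have := conj_mem_zpowers h' _ hy
    have e : s⁻¹ * (s * y * s⁻¹) * s⁻¹⁻¹ = y := by group
    rwa [e] at this

end Cfsg.Agent.Helper1.ElemTwo
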