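import Mathlib
import Cfsg.Agent.Helper1.BG36L2a
import Cfsg.Agent.Helper1.ElemTwo2
import Cfsg.Agent.Helper29.BG36Cfg

/-!
# Abelian endgame of B&G Theorem 3.6 (S1444, lemma L2), part 1: orders of `Q`, `[Q,R₀]`, `V`,
and `N_P([Q,R₀]) = 1`.
-/

set_option autoImplicit false
set_option linter.unusedSectionVars false
set_option linter.unusedVariables false
open Subgroup Pointwise

namespace Cfsg.Agent.Helper1.BG36L2

open Cfsg.Agent.Lead Cfsg.Agent.Helper29.BG36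
open scoped IsMulCommutative commutatorElement

variable {X : Type*} [Group X]

theorem commutator_le_of_normalizes {A B : Subgroup X} (hB : B ≤ normalizer (A : Set X)) :
    ⁅A, B⁆ ≤ A := by
  rw [commutator_le]
  intro a ha b hb
  have h1 : b * a⁻¹ * b⁻¹ ∈ A := (mem_normalizer_iff.mp (hB hb) a⁻¹).mp (A.inv_mem ha)
  have h2 : ⁅a, b⁆ = a * (b * a⁻¹ * b⁻¹) := by rw [commutatorElement_def]; group
  rw [h2]; exact A.mul_mem ha h1

theorem isSolvable_of_le_comm {A M : Subgroup X} (hA : ∀ a ∈ A, ∀ b ∈ A, a * b = b * a)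
    (hM : M ≤ A) : Group.IsSolvable M := by
  have : IsMulCommutative M := ⟨⟨fun a b => Subtype.ext (hA a (hM a.2) b (hM b.2))⟩⟩
  exact isSolvable_of_isMulCommutative M

theorem le_centralizer_of_comm {A B C : Subgroup X} (hA : ∀ a ∈ A, ∀ b ∈ A, a * b = b * a)
    (hB : B ≤ A) (hC : C ≤ A) : B ≤ centralizer (C : Set X) := by
  intro b hb
  rw [mem_centralizer_iff]
  intro c hc
  exact hA c (hC hc) b (hB hb)

theorem coprime_card_prime [Finite X] {q r : ℕ} (hq : q.Prime) (hr : r.Prime) (hqr : q ≠ r)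
    {A : Subgroup X} (hA : IsPGroup q A) : (Nat.card A).Coprime r := by
  have : Fact q.Prime := ⟨hq⟩
  obtain ⟨a, ha⟩ := hA.exists_card_eq
  rw [ha]
  exact Nat.Coprime.pow_left _ ((Nat.coprime_primes hq hr).mpr hqr)

section
variable [Finite X] {V Q P R₀ : Subgroup X} {p q r : ℕ}

theorem isPGroup_V (h : EndCfg V Q P R₀ p q r) : IsPGroup p V := by
  intro g
  refine ⟨1, ?_⟩
  rw [pow_one]
  apply Subtype.ext
  rw [Subgroup.coe_pow]
  exact h.Vexp g g.2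

theorem isPGroup_R (h : EndCfg V Q P R₀ p q r) : IsPGroup r R₀ := by
  have : Fact r.Prime := ⟨h.hr⟩
  exact IsPGroup.of_card (n := 1) (by rw [h.hR₀, pow_one])

theorem V_ne_bot (h : EndCfg V Q P R₀ p q r) : V ≠ ⊥ := by
  intro hV
  have h1 := h.CVR
  rw [hV, bot_inf_eq, card_bot] at h1
  exact h.hp.one_lt.ne h1

theorem Q_ne_bot (h : EndCfg V Q P R₀ p q r) : Q ≠ ⊥ := by
  intro hQ
  have h1 : V ≤ V ⊓ centralizer (Q : Set X) := by
    refine le_inf le_rfl ?_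
    intro v _
    rw [mem_centralizer_iff]
    intro x hx
    rw [hQ] at hx
    have : x = 1 := by simpa using hx
    rw [this, one_mul, mul_one]
  rw [h.CVQ] at h1
  exact V_ne_bot h (le_bot_iff.mp h1)

theorem CQP (h : EndCfg V Q P R₀ p q r) (Qcomm : ∀ a ∈ Q, ∀ b ∈ Q, a * b = b * a) :
    Q ⊓ centralizer (P : Set X) = ⊥ := by
  have : IsMulCommutative Q := ⟨⟨fun a b => Subtype.ext (Qcomm a a.2 b b.2)⟩⟩
  have hcop : (Nat.card P).Coprime (Nat.card Q) :=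
    coprime_card_of_isPGroup h.hp h.hq h.hpq h.hP h.hQ
  have h1 := coprime_abelian_inf P Q h.PQ hcop
  rw [h.QP, inf_eq_left.mpr inf_le_left] at h1
  exact h1

theorem card_Q_eq (h : EndCfg V Q P R₀ p q r) (Qcomm : ∀ a ∈ Q, ∀ b ∈ Q, a * b = b * a) :
    Nat.card Q = Nat.card ↥(Q ⊓ centralizer (R₀ : Set X)) ^ r := by
  have h1 := formula_prime P R₀ Q r h.hr h.hR₀ h.RP h.CPR h.PQ h.RQ
    (isSolvable_of_le_comm Qcomm le_rfl)
    (coprime_card_of_isPGroup h.hq h.hp (Ne.symm h.hpq) h.hQ h.hP)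
    (coprime_card_prime h.hq h.hr h.hqr h.hQ)
  rw [CQP h Qcomm, bot_inf_eq, card_bot, one_pow, one_mul, mul_one] at h1
  exact h1

theorem card_CQR (h : EndCfg V Q P R₀ p q r) (Qcomm : ∀ a ∈ Q, ∀ b ∈ Q, a * b = b * a)
    (Qexp : ∀ a ∈ Q, a ^ q = 1) : Nat.card ↥(Q ⊓ centralizer (R₀ : Set X)) = q := by
  have h1 : Nat.card ↥(Q ⊓ centralizer (R₀ : Set X)) ∣ q :=
    card_dvd_of_isCyclic_of_exp h.CQR (fun a ha => Qexp a ha.1)
  rcases (Nat.dvd_prime h.hq).mp h1 with h2 | h2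
  · exfalso
    have h3 := card_Q_eq h Qcomm
    rw [h2, one_pow] at h3
    exact Q_ne_bot h (Subgroup.card_eq_one.mp h3)
  · exact h2

theorem card_Q (h : EndCfg V Q P R₀ p q r) (Qcomm : ∀ a ∈ Q, ∀ b ∈ Q, a * b = b * a)
    (Qexp : ∀ a ∈ Q, a ^ q = 1) : Nat.card Q = q ^ r := by
  rw [card_Q_eq h Qcomm, card_CQR h Qcomm Qexp]

theorem Q1_le (h : EndCfg V Q P R₀ p q r) : ⁅Q, R₀⁆ ≤ Q := commutator_le_of_normalizes h.RQ

theorem Q1_decomp (h : EndCfg V Q P R₀ p q r) (Qcomm : ∀ a ∈ Q, ∀ b ∈ Q, a * b = b * a) :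
    (Q ⊓ centralizer (R₀ : Set X)) ⊓ ⁅Q, R₀⁆ = ⊥ ∧
      (Q ⊓ centralizer (R₀ : Set X)) ⊔ ⁅Q, R₀⁆ = Q := by
  have : IsMulCommutative Q := ⟨⟨fun a b => Subtype.ext (Qcomm a a.2 b b.2)⟩⟩
  have hcop : (Nat.card R₀).Coprime (Nat.card Q) := by
    rw [h.hR₀]
    exact (coprime_card_prime h.hq h.hr h.hqr h.hQ).symm
  exact coprime_abelian_decomp R₀ Q h.RQ hcop

theorem Q1_inf_cent (h : EndCfg V Q P R₀ p q r) (Qcomm : ∀ a ∈ Q, ∀ b ∈ Q, a * b = b * a) :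
    ⁅Q, R₀⁆ ⊓ centralizer (R₀ : Set X) = ⊥ := by
  rw [eq_bot_iff, ← (Q1_decomp h Qcomm).1]
  exact le_inf (inf_le_inf_right _ (Q1_le h)) inf_le_left

theorem card_Q1 (h : EndCfg V Q P R₀ p q r) (Qcomm : ∀ a ∈ Q, ∀ b ∈ Q, a * b = b * a)
    (Qexp : ∀ a ∈ Q, a ^ q = 1) : Nat.card ↥⁅Q, R₀⁆ = q ^ (r - 1) := by
  have hd := Q1_decomp h Qcomm
  have h1 := Cfsg.Agent.Helper1.ElemTwo.card_sup_of_commute_disjoint
    (Q ⊓ centralizer (R₀ : Set X)) ⁅Q, R₀⁆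
    (fun a ha b hb => Qcomm a ha.1 b (Q1_le h hb)) (disjoint_iff.mpr hd.1)
  rw [hd.2, card_Q h Qcomm Qexp, card_CQR h Qcomm Qexp] at h1
  have hr1 : r = (r - 1) + 1 := by have := h.hr3; omega
  rw [hr1, pow_succ, mul_comm] at h1
  have := Nat.eq_of_mul_eq_mul_left h.hq.pos h1
  rw [← this]

theorem relIndex_Q1 (h : EndCfg V Q P R₀ p q r) (Qcomm : ∀ a ∈ Q, ∀ b ∈ Q, a * b = b * a)
    (Qexp : ∀ a ∈ Q, a ^ q = 1) : (⁅Q, R₀⁆ : Subgroup X).relIndex Q = q := by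
  have h1 := Cfsg.Agent.Helper26.card_mul_relIndex_of_le (Q1_le h)
  rw [card_Q1 h Qcomm Qexp, card_Q h Qcomm Qexp] at h1
  have hr1 : r = (r - 1) + 1 := by have := h.hr3; omega
  have h2 : q ^ r = q ^ (r - 1) * q := by
    conv_lhs => rw [hr1]
    rw [pow_succ]
  rw [h2] at h1
  exact Nat.eq_of_mul_eq_mul_left (pow_pos h.hq.pos _) h1

theorem Q1_ne_bot (h : EndCfg V Q P R₀ p q r) (Qcomm : ∀ a ∈ Q, ∀ b ∈ Q, a * b = b * a)
    (Qexp : ∀ a ∈ Q, a ^ q = 1) : (⁅Q, R₀⁆ : Subgroup X) ≠ ⊥ := by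
  intro h0
  have h1 := card_Q1 h Qcomm Qexp
  rw [h0, card_bot] at h1
  have h2 : 1 < q ^ (r - 1) := Nat.one_lt_pow (by have := h.hr3; omega) h.hq.one_lt
  omega

theorem R_le_normalizer_Q1 (h : EndCfg V Q P R₀ p q r) :
    R₀ ≤ normalizer ((⁅Q, R₀⁆ : Subgroup X) : Set X) := by
  intro x hx
  exact mem_normalizer_commutator (h.RQ hx) (le_normalizer hx)

/-- `|V| = p^r |C_V([Q,R₀])|`. -/
theorem card_V (h : EndCfg V Q P R₀ p q r) (Qcomm : ∀ a ∈ Q, ∀ b ∈ Q, a * b = b * a)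
    (Qexp : ∀ a ∈ Q, a ^ q = 1) :
    Nat.card V = p ^ r * Nat.card ↥(V ⊓ centralizer ((⁅Q, R₀⁆ : Subgroup X) : Set X)) := by
  have hQ1Q := Q1_le h
  have h1 := formula_prime ⁅Q, R₀⁆ R₀ V r h.hr h.hR₀ (R_le_normalizer_Q1 h) (Q1_inf_cent h Qcomm)
    (hQ1Q.trans h.QV) h.RV (isSolvable_of_le_comm h.Vcomm le_rfl)
    (coprime_card_of_isPGroup h.hp h.hq h.hpq (isPGroup_V h) (h.hQ.to_le hQ1Q))
    (coprime_card_prime h.hp h.hr h.hpr (isPGroup_V h))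
  rw [h.CVR] at h1
  have h2 : V ⊓ centralizer ((⁅Q, R₀⁆ : Subgroup X) : Set X) ⊓ centralizer (R₀ : Set X)
      ≤ V ⊓ centralizer (R₀ : Set X) := inf_le_inf_right _ inf_le_left
  rcases card_eq_one_or_of_le_prime h.hp h.CVR h2 with h3 | h3
  · rw [h3, card_bot, one_pow, one_mul] at h1
    exact h1
  · exfalso
    rw [h3] at h1
    have h4 : Nat.card V = Nat.card ↥(V ⊓ centralizer ((⁅Q, R₀⁆ : Subgroup X) : Set X)) :=
      Nat.eq_of_mul_eq_mul_left (pow_pos h.hp.pos r) h1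
    have h5 : V ⊓ centralizer ((⁅Q, R₀⁆ : Subgroup X) : Set X) = V :=
      Subgroup.eq_of_le_of_card_ge inf_le_left (le_of_eq h4)
    have h6 : V ≤ centralizer ((⁅Q, R₀⁆ : Subgroup X) : Set X) := by
      rw [← h5]; exact inf_le_right
    have h7 : ⁅Q, R₀⁆ ≤ Q ⊓ centralizer (V : Set X) := le_inf hQ1Q (le_centralizer_iff.mp h6)
    rw [h.CQV] at h7
    exact Q1_ne_bot h Qcomm Qexp (le_bot_iff.mp h7)

/-- `N_P([Q,R₀]) = 1`. -/
theorem P1_eq_bot (h : EndCfg V Q P R₀ p q r) (Qcomm : ∀ a ∈ Q, ∀ b ∈ Q, a * b = b * a)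
    (Qexp : ∀ a ∈ Q, a ^ q = 1) :
    P ⊓ normalizer ((⁅Q, R₀⁆ : Subgroup X) : Set X) = ⊥ := by
  by_contra hne
  obtain ⟨P1, hP1⟩ : ∃ P1, P1 = P ⊓ normalizer ((⁅Q, R₀⁆ : Subgroup X) : Set X) := ⟨_, rfl⟩
  rw [← hP1] at hne
  have hP1P : P1 ≤ P := hP1 ▸ inf_le_left
  have hP1N : P1 ≤ normalizer ((⁅Q, R₀⁆ : Subgroup X) : Set X) := hP1 ▸ inf_le_right
  have hRQ1 := R_le_normalizer_Q1 h
  have hRP1 : R₀ ≤ normalizer (P1 : Set X) := by
    intro x hx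
    rw [hP1]
    exact mem_normalizer_inf (h.RP hx) (le_normalizer (hRQ1 hx))
  have hP1R : P1 ⊓ centralizer (R₀ : Set X) = ⊥ := by
    rw [eq_bot_iff, ← h.CPR]; exact inf_le_inf_right _ hP1P
  have hP1Q : P1 ≤ normalizer (Q : Set X) := hP1P.trans h.PQ
  have hMQ : ⁅Q, P1⁆ ≤ Q := commutator_le_of_normalizes hP1Q
  have hP1M : P1 ≤ normalizer ((⁅Q, P1⁆ : Subgroup X) : Set X) := by
    intro x hx
    exact mem_normalizer_commutator (hP1Q hx) (le_normalizer hx)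
  have hRM : R₀ ≤ normalizer ((⁅Q, P1⁆ : Subgroup X) : Set X) := by
    intro x hx
    exact mem_normalizer_commutator (h.RQ hx) (hRP1 hx)
  have hpP1 : IsPGroup p P1 := h.hP.to_le hP1P
  have : IsMulCommutative Q := ⟨⟨fun a b => Subtype.ext (Qcomm a a.2 b b.2)⟩⟩
  have hinf := coprime_abelian_inf P1 Q hP1Q
    (coprime_card_of_isPGroup h.hp h.hq h.hpq hpP1 h.hQ)
  have hMP1 : ⁅Q, P1⁆ ⊓ centralizer (P1 : Set X) = ⊥ := by
    rw [eq_bot_iff, ← hinf]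
    exact le_inf (inf_le_inf_right _ hMQ) inf_le_left
  have h1 := formula_prime P1 R₀ ⁅Q, P1⁆ r h.hr h.hR₀ hRP1 hP1R hP1M hRM
    (isSolvable_of_le_comm Qcomm hMQ)
    (coprime_card_of_isPGroup h.hq h.hp (Ne.symm h.hpq) (h.hQ.to_le hMQ) hpP1)
    (coprime_card_prime h.hq h.hr h.hqr (h.hQ.to_le hMQ))
  rw [hMP1, bot_inf_eq, card_bot, one_pow, one_mul, mul_one] at h1
  -- `M ≠ ⊥`
  have hM : (⁅Q, P1⁆ : Subgroup X) ≠ ⊥ := by
    intro h0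
    have h2 : Q ≤ centralizer (P1 : Set X) := commutator_eq_bot_iff_le_centralizer.mp h0
    have h3 : P1 ≤ P ⊓ centralizer (Q : Set X) := le_inf hP1P (le_centralizer_iff.mp h2)
    rw [h.CPQ] at h3
    exact hne (le_bot_iff.mp h3)
  have h2 : ⁅Q, P1⁆ ⊓ centralizer (R₀ : Set X) ≤ Q ⊓ centralizer (R₀ : Set X) :=
    inf_le_inf_right _ hMQ
  rcases card_eq_one_or_of_le_prime h.hq (card_CQR h Qcomm Qexp) h2 with h3 | h3
  · rw [h3, card_bot, one_pow] at h1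
    exact hM (Subgroup.card_eq_one.mp h1)
  · rw [h3] at h1
    have hMeq : ⁅Q, P1⁆ = Q :=
      Subgroup.eq_of_le_of_card_ge hMQ (by rw [h1, card_Q h Qcomm Qexp])
    rw [hMeq, inf_eq_left.mpr inf_le_left] at hinf
    -- `C_Q(P1) = 1`; now the formula on `Q1`
    have hQ1Q := Q1_le h
    have h4 := formula_prime P1 R₀ ⁅Q, R₀⁆ r h.hr h.hR₀ hRP1 hP1R hP1N hRQ1
      (isSolvable_of_le_comm Qcomm hQ1Q)
      (coprime_card_of_isPGroup h.hq h.hp (Ne.symm h.hpq) (h.hQ.to_le hQ1Q) hpP1)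
      (coprime_card_prime h.hq h.hr h.hqr (h.hQ.to_le hQ1Q))
    have h5 : ⁅Q, R₀⁆ ⊓ centralizer (P1 : Set X) = ⊥ := by
      rw [eq_bot_iff, ← hinf]; exact inf_le_inf_right _ hQ1Q
    rw [h5, bot_inf_eq, card_bot, one_pow, one_mul, mul_one, Q1_inf_cent h Qcomm, card_bot,
      one_pow] at h4
    exact Q1_ne_bot h Qcomm Qexp (Subgroup.card_eq_one.mp h4)

end

end Cfsg.Agent.Helper1.BG36L2
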