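import Mathlib
import Cfsg.Agent.Helper1.BG36L2b

/-!
# Abelian endgame of B&G Theorem 3.6 (S1444, lemma L2), part 2: hyperplanes of `Q`.
-/

set_option autoImplicit false
set_option linter.unusedSectionVars false
set_option linter.unusedVariables false
open Subgroup Pointwise

namespace Cfsg.Agent.Helper1.BG36L2

open Cfsg.Agent.Lead Cfsg.Agent.Helper29.BG36
open scoped IsMulCommutative commutatorElement

variable {X : Type*} [Group X]

/-- generation by centralizers of hyperplanes, in the form "`V ≤ K` as soon as all `C_V(B) ≤ K`". -/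
theorem le_of_hyperplanes [Finite X] (V Q : Subgroup X) (p q : ℕ) [Fact p.Prime] [Fact q.Prime]
    (hpq : p ≠ q) (hV : IsPGroup p V)
    (Qcomm : ∀ a ∈ Q, ∀ b ∈ Q, a * b = b * a) (Qexp : ∀ a ∈ Q, a ^ q = 1)
    (QV : Q ≤ normalizer (V : Set X)) (CVQ : V ⊓ centralizer (Q : Set X) = ⊥) (K : Subgroup X)
    (hK : ∀ B : Subgroup X, B ≤ Q → B.relIndex Q = q → V ⊓ centralizer (B : Set X) ≤ K) :
    V ≤ K := by
  have hpP : p.Prime := Fact.out
  have hqP : q.Prime := Fact.out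
  have hQel : Cfsg.IsElementaryAbelian q Q :=
    ⟨⟨⟨fun a b => Subtype.ext (Qcomm a a.2 b b.2)⟩⟩, Qexp⟩
  have hQp : IsPGroup q Q := Helper7.IsElementaryAbelian.isPGroup hQel
  have hqV : ¬ q ∣ Nat.card V := by
    obtain ⟨k, hk⟩ := hV.exists_card_eq
    rw [hk]
    intro h
    exact hpq ((Nat.prime_dvd_prime_iff_eq hqP hpP).mp (hqP.dvd_of_dvd_pow h)).symm
  refine le_trans
    (Helper7.le_iSup_inf_centralizer_hyperplane q (Nat.card Q) Q V rfl hQel hqV QV) ?_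
  refine iSup_le ?_
  rintro ⟨B, hBQ, hBi⟩
  obtain ⟨n, hn⟩ := hQp.index (B.subgroupOf Q)
  change B.relIndex Q = q ^ n at hn
  change V ⊓ centralizer (B : Set X) ≤ _
  rcases Nat.lt_or_ge n 1 with h0 | h1
  · have hn0 : n = 0 := by omega
    rw [hn0, pow_zero] at hn
    have hQB : Q ≤ B := relIndex_eq_one.mp hn
    have : V ⊓ centralizer (B : Set X) ≤ V ⊓ centralizer (Q : Set X) :=
      inf_le_inf_left _ (centralizer_le hQB)
    rw [CVQ] at this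
    exact this.trans bot_le
  · have hn1 : n = 1 := by
      by_contra hne
      have h2 : 2 ≤ n := by omega
      have : q ^ 2 ≤ q ^ n := Nat.pow_le_pow_right hqP.pos h2
      have hq2 : 2 ≤ q := hqP.two_le
      rw [hn] at hBi
      nlinarith
    rw [hn1, pow_one] at hn
    exact hK B hBQ hn

section
variable [Finite X] {V Q P R₀ : Subgroup X} {p q r : ℕ}

theorem card_hyperplane (h : EndCfg V Q P R₀ p q r) (Qcomm : ∀ a ∈ Q, ∀ b ∈ Q, a * b = b * a)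
    (Qexp : ∀ a ∈ Q, a ^ q = 1) {B : Subgroup X} (hBQ : B ≤ Q) (hB : B.relIndex Q = q) :
    Nat.card B = q ^ (r - 1) := by
  have h1 := Cfsg.Agent.Helper26.card_mul_relIndex_of_le hBQ
  rw [hB, card_Q h Qcomm Qexp] at h1
  have hr1 : r = (r - 1) + 1 := by have := h.hr3; omega
  have h2 : q ^ r = q ^ (r - 1) * q := by
    conv_lhs => rw [hr1]
    rw [pow_succ]
  rw [h2] at h1
  exact Nat.eq_of_mul_eq_mul_right h.hq.pos h1

/-- an `R₀`-invariant hyperplane other than `[Q,R₀]` has trivial centralizer in `V`. -/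
theorem invariant_hyperplane (h : EndCfg V Q P R₀ p q r)
    (Qcomm : ∀ a ∈ Q, ∀ b ∈ Q, a * b = b * a) (Qexp : ∀ a ∈ Q, a ^ q = 1)
    {B : Subgroup X} (hBQ : B ≤ Q) (hB : B.relIndex Q = q) (hne : B ≠ ⁅Q, R₀⁆)
    (hRB : R₀ ≤ normalizer (B : Set X)) : V ⊓ centralizer (B : Set X) = ⊥ := by
  by_contra hW
  obtain ⟨W, hWdef⟩ : ∃ W, W = V ⊓ centralizer (B : Set X) := ⟨_, rfl⟩
  rw [← hWdef] at hW
  have hWV : W ≤ V := hWdef ▸ inf_le_left
  have hWB : W ≤ centralizer (B : Set X) := hWdef ▸ inf_le_right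
  have hQ1Q := Q1_le h
  have hQ1W : ⁅Q, R₀⁆ ≤ normalizer (W : Set X) := by
    intro x hx
    rw [hWdef]
    have hxB : x ∈ normalizer (B : Set X) :=
      centralizer_le_normalizer _ (le_centralizer_of_comm Qcomm hQ1Q hBQ hx)
    exact mem_normalizer_inf (h.QV (hQ1Q hx)) (mem_normalizer_centralizer hxB)
  have hRW : R₀ ≤ normalizer (W : Set X) := by
    intro x hx
    rw [hWdef]
    exact mem_normalizer_inf (h.RV hx) (mem_normalizer_centralizer (hRB hx))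
  have hsup : B ⊔ ⁅Q, R₀⁆ = Q :=
    BG36L1.sup_eq_of_relIndex_prime h.hq hBQ hQ1Q hB (relIndex_Q1 h Qcomm Qexp) hne
  have hWQ1 : W ⊓ centralizer ((⁅Q, R₀⁆ : Subgroup X) : Set X) = ⊥ := by
    have h0 : centralizer (Q : Set X)
        = centralizer (B : Set X) ⊓ centralizer ((⁅Q, R₀⁆ : Subgroup X) : Set X) := by
      rw [← centralizer_sup_eq, hsup]
    rw [eq_bot_iff, ← h.CVQ, h0, hWdef, inf_assoc]
  have hpW : IsPGroup p W := (isPGroup_V h).to_le hWV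
  have h1 := formula_prime ⁅Q, R₀⁆ R₀ W r h.hr h.hR₀ (R_le_normalizer_Q1 h)
    (Q1_inf_cent h Qcomm) hQ1W hRW
    (isSolvable_of_le_comm h.Vcomm hWV)
    (coprime_card_of_isPGroup h.hp h.hq h.hpq hpW (h.hQ.to_le hQ1Q))
    (coprime_card_prime h.hp h.hr h.hpr hpW)
  rw [hWQ1, bot_inf_eq, card_bot, one_pow, one_mul, mul_one] at h1
  have h2 : W ⊓ centralizer (R₀ : Set X) ≤ V ⊓ centralizer (R₀ : Set X) :=
    inf_le_inf_right _ hWV
  rcases card_eq_one_or_of_le_prime h.hp h.CVR h2 with h3 | h3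
  · rw [h3, card_bot, one_pow] at h1
    exact hW (Subgroup.card_eq_one.mp h1)
  · rw [h3] at h1
    obtain ⟨W1, hW1def⟩ :
      ∃ W1, W1 = V ⊓ centralizer ((⁅Q, R₀⁆ : Subgroup X) : Set X) := ⟨_, rfl⟩
    have hW1V : W1 ≤ V := hW1def ▸ inf_le_left
    have hdisj : Disjoint W W1 := by
      rw [disjoint_iff, eq_bot_iff, ← hWQ1, hW1def]
      exact inf_le_inf_left _ inf_le_right
    have h4 := Cfsg.Agent.Helper1.ElemTwo.card_sup_of_commute_disjoint W W1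
      (fun a ha b hb => h.Vcomm a (hWV ha) b (hW1V hb)) hdisj
    have h5 : W ⊔ W1 = V := by
      refine Subgroup.eq_of_le_of_card_ge (sup_le hWV hW1V) ?_
      rw [h4, h1, card_V h Qcomm Qexp, hW1def]
    have h6 : V ≤ centralizer ((B ⊓ ⁅Q, R₀⁆ : Subgroup X) : Set X) := by
      rw [← h5]
      refine sup_le (hWB.trans (centralizer_le ?_)) ?_
      · exact_mod_cast (inf_le_left : B ⊓ ⁅Q, R₀⁆ ≤ B)
      · rw [hW1def]
        refine inf_le_right.trans (centralizer_le ?_)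
        exact_mod_cast (inf_le_right : B ⊓ ⁅Q, R₀⁆ ≤ ⁅Q, R₀⁆)
    have h7 : B ⊓ ⁅Q, R₀⁆ ≤ Q ⊓ centralizer (V : Set X) :=
      le_inf (inf_le_left.trans hBQ) (le_centralizer_iff.mp h6)
    rw [h.CQV] at h7
    have h8 : B ⊓ ⁅Q, R₀⁆ = ⊥ := le_bot_iff.mp h7
    have hBN : B ≤ normalizer ((⁅Q, R₀⁆ : Subgroup X) : Set X) :=
      (le_centralizer_of_comm Qcomm hBQ hQ1Q).trans (centralizer_le_normalizer _)
    have h9 := Cfsg.Agent.Helper26.card_sup_mul_card_inf hBN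
    rw [hsup, h8, card_bot, mul_one, card_Q h Qcomm Qexp, card_hyperplane h Qcomm Qexp hBQ hB,
      card_Q1 h Qcomm Qexp, ← pow_add] at h9
    have h10 := Nat.pow_right_injective h.hq.two_le h9
    have := h.hr3
    omega

theorem prod_erase [DecidableEq (Subgroup X)] (h : EndCfg V Q P R₀ p q r)
    (Qcomm : ∀ a ∈ Q, ∀ b ∈ Q, a * b = b * a) (Qexp : ∀ a ∈ Q, a ^ q = 1)
    (S : Finset (Subgroup X)) (hS : ∀ B, B ∈ S ↔ B ≤ Q ∧ B.relIndex Q = q) :
    ∏ B ∈ S.erase ⁅Q, R₀⁆, Nat.card ↥(V ⊓ centralizer (B : Set X)) = p ^ r := by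
  have : Fact p.Prime := ⟨h.hp⟩
  have : Fact q.Prime := ⟨h.hq⟩
  have hL1 := BG36L1.card_eq_prod_hyperplanes V Q p q h.hpq h.Vcomm (isPGroup_V h) Qcomm Qexp
    h.QV h.CVQ S hS
  have hQ1S : ⁅Q, R₀⁆ ∈ S := (hS _).mpr ⟨Q1_le h, relIndex_Q1 h Qcomm Qexp⟩
  rw [← Finset.mul_prod_erase S _ hQ1S, card_V h Qcomm Qexp, mul_comm (p ^ r)] at hL1
  exact (Nat.eq_of_mul_eq_mul_left Nat.card_pos hL1).symm

/-- the hyperplanes `B ≠ [Q,R₀]` with `C_V(B) ≠ 1` form one regular `R₀`-orbit, with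
`|C_V(B)| = p`. -/
theorem orbit_structure (h : EndCfg V Q P R₀ p q r)
    (Qcomm : ∀ a ∈ Q, ∀ b ∈ Q, a * b = b * a) (Qexp : ∀ a ∈ Q, a ^ q = 1)
    (S : Finset (Subgroup X)) (hS : ∀ B, B ∈ S ↔ B ≤ Q ∧ B.relIndex Q = q) :
    ∃ B1 : Subgroup X, B1 ∈ S ∧ B1 ≠ ⁅Q, R₀⁆ ∧
      Nat.card ↥(V ⊓ centralizer (B1 : Set X)) = p ∧
      (∀ x ∈ R₀, ∀ y ∈ R₀, MulAut.conj x • B1 = MulAut.conj y • B1 → x = y) ∧
      (∀ B ∈ S, B ≠ ⁅Q, R₀⁆ → V ⊓ centralizer (B : Set X) ≠ ⊥ →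
        ∃ x ∈ R₀, MulAut.conj x • B1 = B) := by
  classical
  have hprod := prod_erase h Qcomm Qexp S hS
  obtain ⟨f, hf⟩ : ∃ f : Subgroup X → ℕ,
    f = fun B : Subgroup X => Nat.card ↥(V ⊓ centralizer (B : Set X)) := ⟨_, rfl⟩
  have hfa : ∀ B, f B = Nat.card ↥(V ⊓ centralizer (B : Set X)) := fun B => by rw [hf]
  have hprod' : ∏ B ∈ S.erase ⁅Q, R₀⁆, f B = p ^ r := by rw [hf]; exact hprod
  have hex : ∃ B1 ∈ S.erase ⁅Q, R₀⁆, f B1 ≠ 1 := by
    by_contra hno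
    push Not at hno
    rw [Finset.prod_eq_one hno] at hprod'
    exact absurd hprod'.symm
      (Nat.one_lt_pow (by have := h.hr3; omega) h.hp.one_lt).ne'
  obtain ⟨B1, hB1mem, hB1ne1⟩ := hex
  obtain ⟨hB1ne, hB1S⟩ := Finset.mem_erase.mp hB1mem
  obtain ⟨hB1Q, hB1i⟩ := (hS B1).mp hB1S
  have hCV1 : V ⊓ centralizer (B1 : Set X) ≠ ⊥ := fun h0 =>
    hB1ne1 (by rw [hfa, h0, card_bot])
  have hconjS : ∀ x ∈ R₀, MulAut.conj x • B1 ∈ S.erase ⁅Q, R₀⁆ := by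
    intro x hx
    rw [Finset.mem_erase]
    refine ⟨?_, (hS _).mpr ⟨conj_smul_le_of_mem_normalizer (h.RQ hx) hB1Q, by
      rw [relIndex_conj_smul_of_mem_normalizer (h.RQ hx)]; exact hB1i⟩⟩
    intro heq
    apply hB1ne
    have h1 : MulAut.conj x⁻¹ • MulAut.conj x • B1 = MulAut.conj x⁻¹ • ⁅Q, R₀⁆ := by rw [heq]
    rw [conj_smul_conj_smul, inv_mul_cancel, conj_one_smul,
      (conj_smul_eq_self_iff_mem_normalizer x⁻¹ _).mpr
        (R_le_normalizer_Q1 h (R₀.inv_mem hx))] at h1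
    exact h1
  have hconjf : ∀ x ∈ R₀, f (MulAut.conj x • B1) = f B1 := fun x hx => by
    rw [hfa, hfa]; exact card_inf_centralizer_conj_smul (h.RV hx) B1
  have hinj : ∀ x ∈ R₀, ∀ y ∈ R₀, MulAut.conj x • B1 = MulAut.conj y • B1 → x = y := by
    intro x hx y hy hxy
    by_contra hne
    have h1 : MulAut.conj (y⁻¹ * x) • B1 = B1 := by
      rw [← conj_smul_conj_smul, hxy, conj_smul_conj_smul, inv_mul_cancel, conj_one_smul]
    have h2 : y⁻¹ * x ∈ normalizer (B1 : Set X) :=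
      (conj_smul_eq_self_iff_mem_normalizer _ _).mp h1
    have h3 : y⁻¹ * x ≠ 1 := fun h0 => hne (by rw [inv_mul_eq_one] at h0; exact h0.symm)
    have h4 : R₀ ≤ normalizer (B1 : Set X) :=
      le_of_prime_card_of_mem h.hr h.hR₀ (R₀.mul_mem (R₀.inv_mem hy) hx) h3 h2
    exact hCV1 (invariant_hyperplane h Qcomm Qexp hB1Q hB1i hB1ne h4)
  have : Fintype R₀ := Fintype.ofFinite _
  obtain ⟨T, hT⟩ : ∃ T : Finset (Subgroup X),
    T = Finset.univ.image (fun x : R₀ => MulAut.conj (x : X) • B1) := ⟨_, rfl⟩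
  have hTcard : T.card = r := by
    rw [hT, Finset.card_image_of_injective, Finset.card_univ, ← Nat.card_eq_fintype_card, h.hR₀]
    intro x y hxy
    exact Subtype.ext (hinj x x.2 y y.2 hxy)
  have hTsub : T ⊆ S.erase ⁅Q, R₀⁆ := by
    intro B hB
    rw [hT, Finset.mem_image] at hB
    obtain ⟨x, _, rfl⟩ := hB
    exact hconjS x x.2
  have hTf : ∀ B ∈ T, f B = f B1 := by
    intro B hB
    rw [hT, Finset.mem_image] at hB
    obtain ⟨x, _, rfl⟩ := hB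
    exact hconjf x x.2
  have hsplit := Finset.prod_sdiff (f := f) hTsub
  rw [Finset.prod_eq_pow_card hTf, hTcard, hprod'] at hsplit
  have : Fact p.Prime := ⟨h.hp⟩
  obtain ⟨k, hk⟩ :=
    ((isPGroup_V h).to_le (inf_le_left : V ⊓ centralizer (B1 : Set X) ≤ V)).exists_card_eq
  have hk' : f B1 = p ^ k := by rw [hfa]; exact hk
  have hk0 : k ≠ 0 := by rintro rfl; exact hB1ne1 (by rw [hk', pow_zero])
  rw [hk', ← pow_mul] at hsplit
  have hdvd : p ^ (k * r) ∣ p ^ r := Dvd.intro_left _ hsplit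
  have hle : k * r ≤ r := (Nat.pow_dvd_pow_iff_le_right h.hp.one_lt).mp hdvd
  have hk1 : k = 1 := by
    have hr0 : 0 < r := h.hr.pos
    by_contra hk1
    have : 2 ≤ k := by omega
    nlinarith
  rw [hk1, one_mul] at hsplit
  have hrest : ∏ x ∈ (S.erase ⁅Q, R₀⁆) \ T, f x = 1 := by
    have : (∏ x ∈ (S.erase ⁅Q, R₀⁆) \ T, f x) * p ^ r = 1 * p ^ r := by rw [hsplit, one_mul]
    exact Nat.eq_of_mul_eq_mul_right (pow_pos h.hp.pos r) this
  refine ⟨B1, hB1S, hB1ne, by rw [← hfa, hk', hk1, pow_one], hinj, ?_⟩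
  intro B hBS hBne hCB
  by_contra hno
  have hBT : B ∉ T := by
    intro hBT
    rw [hT, Finset.mem_image] at hBT
    obtain ⟨x, _, hx⟩ := hBT
    exact hno ⟨x, x.2, hx⟩
  have hmem : B ∈ (S.erase ⁅Q, R₀⁆) \ T :=
    Finset.mem_sdiff.mpr ⟨Finset.mem_erase.mpr ⟨hBne, hBS⟩, hBT⟩
  have h1 : f B ∣ 1 := hrest ▸ Finset.dvd_prod_of_mem f hmem
  have h2 : f B = 1 := Nat.dvd_one.mp h1
  rw [hfa] at h2
  exact hCB (Subgroup.card_eq_one.mp h2)

end

end Cfsg.Agent.Helper1.BG36L2
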