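import Mathlib
import Cfsg.Agent.Helper1.BG36L2c

/-!
# Abelian endgame of B&G Theorem 3.6 (S1444, lemma L2): `endCfg_abelian_false`.
-/

set_option autoImplicit false
set_option linter.unusedSectionVars false
set_option linter.unusedVariables false
open Subgroup Pointwise

namespace Cfsg.Agent.Helper1.BG36L2

open Cfsg.Agent.Lead Cfsg.Agent.Helper29.BG36
open scoped IsMulCommutative commutatorElement

variable {X : Type*} [Group X]

theorem arith_aux {n r : ℕ} (hr : 1 < r) (hmod : n ≡ 1 [MOD r]) (hn1 : n ≠ 1)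
    (hle : n ≤ r + 1) : n = r + 1 := by
  have h1 : n % r = 1 := by
    have : n % r = 1 % r := hmod
    rwa [Nat.mod_eq_of_lt hr] at this
  have h2 := Nat.div_add_mod n r
  rw [h1] at h2
  rcases Nat.eq_zero_or_pos (n / r) with h0 | h0
  · rw [h0] at h2; omega
  · have : r * 1 ≤ r * (n / r) := Nat.mul_le_mul_left r h0
    omega

section
variable [Finite X] {V Q P R₀ : Subgroup X} {p q r : ℕ}

/-- the case `C_V([Q,R₀]) ≠ 1`: the `|P|` conjugates of `[Q,R₀]` force `|P| = r + 1`. -/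
theorem case_nontrivial (h : EndCfg V Q P R₀ p q r)
    (Qcomm : ∀ a ∈ Q, ∀ b ∈ Q, a * b = b * a) (Qexp : ∀ a ∈ Q, a ^ q = 1)
    (S : Finset (Subgroup X)) (hS : ∀ B, B ∈ S ↔ B ≤ Q ∧ B.relIndex Q = q)
    (hCV : V ⊓ centralizer ((⁅Q, R₀⁆ : Subgroup X) : Set X) ≠ ⊥) : False := by
  classical
  obtain ⟨B1, hB1S, hB1ne, hB1card, hinj, hall⟩ := orbit_structure h Qcomm Qexp S hS
  have : Fintype R₀ := Fintype.ofFinite _
  have : Fintype P := Fintype.ofFinite _
  obtain ⟨T, hT⟩ : ∃ T : Finset (Subgroup X),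
    T = insert ⁅Q, R₀⁆ (Finset.univ.image (fun x : R₀ => MulAut.conj (x : X) • B1)) := ⟨_, rfl⟩
  have hTcard : T.card ≤ r + 1 := by
    rw [hT]
    refine (Finset.card_insert_le _ _).trans (Nat.add_le_add_right ?_ 1)
    refine Finset.card_image_le.trans ?_
    rw [Finset.card_univ, ← Nat.card_eq_fintype_card, h.hR₀]
  obtain ⟨U, hU⟩ : ∃ U : Finset (Subgroup X),
    U = Finset.univ.image (fun y : P => MulAut.conj (y : X) • ⁅Q, R₀⁆) := ⟨_, rfl⟩
  have hUcard : U.card = Nat.card P := by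
    rw [hU, Finset.card_image_of_injective, Finset.card_univ, Nat.card_eq_fintype_card]
    intro y z hyz
    have hyz' : MulAut.conj (y : X) • ⁅Q, R₀⁆ = MulAut.conj (z : X) • ⁅Q, R₀⁆ := hyz
    have h1 : MulAut.conj ((z : X)⁻¹ * y) • ⁅Q, R₀⁆ = ⁅Q, R₀⁆ := by
      rw [← conj_smul_conj_smul, hyz', conj_smul_conj_smul, inv_mul_cancel, conj_one_smul]
    have h2 : (z : X)⁻¹ * y ∈ P ⊓ normalizer ((⁅Q, R₀⁆ : Subgroup X) : Set X) :=
      Subgroup.mem_inf.mpr ⟨P.mul_mem (P.inv_mem z.2) y.2,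
        (conj_smul_eq_self_iff_mem_normalizer _ _).mp h1⟩
    rw [P1_eq_bot h Qcomm Qexp, mem_bot, inv_mul_eq_one] at h2
    exact Subtype.ext h2.symm
  have hUT : U ⊆ T := by
    intro B hB
    rw [hU] at hB
    obtain ⟨y, _, rfl⟩ := Finset.mem_image.mp hB
    have hyQ := h.PQ y.2
    have hBS : MulAut.conj (y : X) • ⁅Q, R₀⁆ ∈ S :=
      (hS _).mpr ⟨conj_smul_le_of_mem_normalizer hyQ (Q1_le h), by
        rw [relIndex_conj_smul_of_mem_normalizer hyQ]; exact relIndex_Q1 h Qcomm Qexp⟩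
    have hCB : V ⊓ centralizer ((MulAut.conj (y : X) • ⁅Q, R₀⁆ : Subgroup X) : Set X) ≠ ⊥ := by
      intro h0
      have h3 := card_inf_centralizer_conj_smul (h.PV y.2) ⁅Q, R₀⁆
      rw [h0, card_bot] at h3
      exact hCV (Subgroup.card_eq_one.mp h3.symm)
    rw [hT]
    by_cases heq : MulAut.conj (y : X) • ⁅Q, R₀⁆ = ⁅Q, R₀⁆
    · rw [heq]; exact Finset.mem_insert_self _ _
    · obtain ⟨x, hx, hxB⟩ := hall _ hBS heq hCB
      exact Finset.mem_insert_of_mem
        (Finset.mem_image.mpr ⟨⟨x, hx⟩, Finset.mem_univ _, hxB⟩)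
  have hPle : Nat.card P ≤ r + 1 := by
    rw [← hUcard]; exact (Finset.card_le_card hUT).trans hTcard
  have : Fact r.Prime := ⟨h.hr⟩
  have hmod := card_modEq_one_of_fpf (isPGroup_R h) h.RP h.CPR
  have hP1 : Nat.card P ≠ 1 := fun h0 => h.P1 (Subgroup.card_eq_one.mp h0)
  have : Fact p.Prime := ⟨h.hp⟩
  obtain ⟨k, hk⟩ := h.hP.exists_card_eq
  have hodd : Odd (Nat.card P) := by rw [hk]; exact h.hpodd.pow
  have hr3 := h.hr3
  have hrodd : Odd r := h.hr.eq_two_or_odd'.resolve_left (by omega)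
  have hn : Nat.card P = r + 1 :=
    arith_aux (by omega) hmod hP1 hPle
  rw [hn] at hodd
  exact (Nat.not_even_iff_odd.mpr hodd) hrodd.add_one

/-- the case `C_V([Q,R₀]) = 1`: `P` fixes all `r` hyperplanes with nontrivial centralizer and
so centralizes `V`. -/
theorem case_trivial (h : EndCfg V Q P R₀ p q r)
    (Qcomm : ∀ a ∈ Q, ∀ b ∈ Q, a * b = b * a) (Qexp : ∀ a ∈ Q, a ^ q = 1)
    (S : Finset (Subgroup X)) (hS : ∀ B, B ∈ S ↔ B ≤ Q ∧ B.relIndex Q = q)
    (hCV : V ⊓ centralizer ((⁅Q, R₀⁆ : Subgroup X) : Set X) = ⊥) : False := by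
  classical
  obtain ⟨B1, hB1S, hB1ne, hB1card, hinj, hall⟩ := orbit_structure h Qcomm Qexp S hS
  have : Fintype R₀ := Fintype.ofFinite _
  obtain ⟨T, hT⟩ : ∃ T : Finset (Subgroup X),
    T = Finset.univ.image (fun x : R₀ => MulAut.conj (x : X) • B1) := ⟨_, rfl⟩
  have hTcard : T.card = r := by
    rw [hT, Finset.card_image_of_injective, Finset.card_univ, ← Nat.card_eq_fintype_card, h.hR₀]
    intro x y hxy
    exact Subtype.ext (hinj x x.2 y y.2 hxy)
  have hmemT : ∀ B, B ∈ T ↔ ∃ x ∈ R₀, MulAut.conj x • B1 = B := by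
    intro B
    rw [hT, Finset.mem_image]
    constructor
    · rintro ⟨x, _, hx⟩; exact ⟨x, x.2, hx⟩
    · rintro ⟨x, hx, hxB⟩; exact ⟨⟨x, hx⟩, Finset.mem_univ _, hxB⟩
  have hall' : ∀ B ∈ S, V ⊓ centralizer (B : Set X) ≠ ⊥ → B ∈ T := by
    intro B hBS hCB
    have hne : B ≠ ⁅Q, R₀⁆ := fun h0 => hCB (h0 ▸ hCV)
    exact (hmemT B).mpr (hall B hBS hne hCB)
  obtain ⟨hB1Q, hB1i⟩ := (hS B1).mp hB1S
  have hTS : ∀ B ∈ T, B ∈ S ∧ Nat.card ↥(V ⊓ centralizer (B : Set X)) = p := by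
    intro B hB
    obtain ⟨x, hx, rfl⟩ := (hmemT B).mp hB
    exact ⟨(hS _).mpr ⟨conj_smul_le_of_mem_normalizer (h.RQ hx) hB1Q, by
      rw [relIndex_conj_smul_of_mem_normalizer (h.RQ hx)]; exact hB1i⟩, by
      rw [card_inf_centralizer_conj_smul (h.RV hx)]; exact hB1card⟩
  have hPT : ∀ y ∈ P, ∀ B ∈ T, MulAut.conj y • B ∈ T := by
    intro y hy B hB
    obtain ⟨hBS, hBc⟩ := hTS B hB
    obtain ⟨hBQ, hBi⟩ := (hS B).mp hBS
    apply hall'
    · exact (hS _).mpr ⟨conj_smul_le_of_mem_normalizer (h.PQ hy) hBQ, by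
        rw [relIndex_conj_smul_of_mem_normalizer (h.PQ hy)]; exact hBi⟩
    · intro h0
      have h3 := card_inf_centralizer_conj_smul (h.PV hy) B
      rw [h0, card_bot, hBc] at h3
      exact h.hp.one_lt.ne h3
  let act : MulAction P T :=
    { smul := fun y B => ⟨MulAut.conj (y : X) • (B : Subgroup X), hPT y y.2 B B.2⟩
      one_smul := fun B => Subtype.ext (conj_one_smul _)
      mul_smul := fun y z B => Subtype.ext (conj_smul_conj_smul _ _ _).symm }
  have : Fact p.Prime := ⟨h.hp⟩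
  have hmod := h.hP.card_modEq_card_fixedPoints (↥T)
  rw [Nat.card_eq_fintype_card, Fintype.card_coe, hTcard] at hmod
  have hfix : (MulAction.fixedPoints P T).Nonempty := by
    by_contra hemp
    rw [Set.not_nonempty_iff_eq_empty] at hemp
    rw [hemp] at hmod
    have h0 : Nat.card (∅ : Set T) = 0 := by simp
    rw [h0] at hmod
    have hdvd : p ∣ r := (Nat.modEq_zero_iff_dvd).mp hmod
    exact h.hpr ((Nat.prime_dvd_prime_iff_eq h.hp h.hr).mp hdvd)
  obtain ⟨⟨B2, hB2T⟩, hB2fix⟩ := hfix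
  have hB2 : ∀ y ∈ P, MulAut.conj y • B2 = B2 := fun y hy =>
    congrArg Subtype.val (hB2fix ⟨y, hy⟩)
  have hTfix : ∀ B ∈ T, P ≤ normalizer (B : Set X) := by
    intro B hB y hy
    obtain ⟨x, hx, hxB⟩ := (hmemT B).mp hB
    obtain ⟨x2, hx2, hx2B⟩ := (hmemT B2).mp hB2T
    have hz : MulAut.conj (x * x2⁻¹) • B2 = B := by
      rw [← hx2B, conj_smul_conj_smul, mul_assoc, inv_mul_cancel, mul_one]; exact hxB
    obtain ⟨z, hzdef⟩ : ∃ z, z = x * x2⁻¹ := ⟨_, rfl⟩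
    rw [← hzdef] at hz
    have hzR : z ∈ R₀ := hzdef ▸ R₀.mul_mem hx (R₀.inv_mem hx2)
    rw [← conj_smul_eq_self_iff_mem_normalizer, ← hz, conj_smul_conj_smul]
    have hyz : z⁻¹ * y * z ∈ P := by
      have h3 := (mem_normalizer_iff.mp (h.RP (R₀.inv_mem hzR)) y).mp hy
      simpa using h3
    have h4 : y * z = z * (z⁻¹ * y * z) := by group
    rw [h4, ← conj_smul_conj_smul, hB2 _ hyz]
  have hcent : ∀ B ∈ T, V ⊓ centralizer (B : Set X) ≤ centralizer (P : Set X) := by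
    intro B hB
    have hPN : P ≤ normalizer ((V ⊓ centralizer (B : Set X) : Subgroup X) : Set X) := by
      intro y hy
      exact mem_normalizer_inf (h.PV hy) (mem_normalizer_centralizer (hTfix B hB hy))
    exact le_centralizer_of_card_prime h.hP (hTS B hB).2 hPN
  have : Fact q.Prime := ⟨h.hq⟩
  have hV : V ≤ centralizer (P : Set X) := by
    apply le_of_hyperplanes V Q p q h.hpq (isPGroup_V h) Qcomm Qexp h.QV h.CVQ
    intro B hBQ hBi
    by_cases hCB : V ⊓ centralizer (B : Set X) = ⊥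
    · rw [hCB]; exact bot_le
    · exact hcent B (hall' B ((hS B).mpr ⟨hBQ, hBi⟩) hCB)
  have h1 : P ≤ P ⊓ centralizer (V : Set X) := le_inf le_rfl (le_centralizer_iff.mp hV)
  rw [h.CPV] at h1
  exact h.P1 (le_bot_iff.mp h1)

end

/-- **L2** (abelian endgame of B&G Theorem 3.6): the end configuration with `Q` elementary
abelian is impossible. -/
theorem endCfg_abelian_false [Finite X] (V Q P R₀ : Subgroup X) (p q r : ℕ)
    (h : EndCfg V Q P R₀ p q r)
    (Qcomm : ∀ a ∈ Q, ∀ b ∈ Q, a * b = b * a) (Qexp : ∀ a ∈ Q, a ^ q = 1) : False := by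
  classical
  have hfin : {B : Subgroup X | B ≤ Q ∧ B.relIndex Q = q}.Finite := Set.toFinite _
  have hS : ∀ B, B ∈ hfin.toFinset ↔ B ≤ Q ∧ B.relIndex Q = q := fun B => by
    rw [Set.Finite.mem_toFinset]; rfl
  by_cases hCV : V ⊓ centralizer ((⁅Q, R₀⁆ : Subgroup X) : Set X) = ⊥
  · exact case_trivial h Qcomm Qexp _ hS hCV
  · exact case_nontrivial h Qcomm Qexp _ hS hCV

end Cfsg.Agent.Helper1.BG36L2
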