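import Mathlib
import Cfsg.Agent.Helper1.AbelianIndexP

set_option autoImplicit false
set_option linter.style.haveILetI false
set_option linter.deprecated false

/-! Small centralizers in `p`-groups are abelian. -/

namespace Cfsg.Agent.Helper1.AbIdxP

open Subgroup

variable {G : Type*} [Group G]

/-- If the centre has index dividing a prime, the group is commutative. -/
theorem comm_of_center_index_dvd_prime [Finite G] {p : ℕ} (hp : p.Prime)
    (h : (center G).index ∣ p) : IsMulCommutative G := by
  rcases (Nat.dvd_prime hp).mp h with h1 | h1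
  · exact ⟨⟨comm_of_center_eq_top (index_eq_one.mp h1)⟩⟩
  · have hQ : Nat.card (G ⧸ center G) = p := by rw [← index_eq_card, h1]
    haveI : Fact p.Prime := ⟨hp⟩
    haveI : IsCyclic (G ⧸ center G) := isCyclic_of_prime_card hQ
    exact ⟨⟨commutative_of_cyclic_center_quotient (QuotientGroup.mk' (center G))
      (by rw [QuotientGroup.ker_mk'])⟩⟩

/-- In a finite `p`-group, the centralizer of a non-central element `a` of order at most
`p² |Z(G)|` is abelian. -/
theorem centralizer_comm_of_card_le [Finite G] {p : ℕ} [hp : Fact p.Prime] (hG : IsPGroup p G)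
    (a : G) (ha : a ∉ center G)
    (hcard : Nat.card (centralizer {a}) ≤ p ^ 2 * Nat.card (center G)) :
    IsMulCommutative (centralizer ({a} : Set G)) := by
  set C : Subgroup G := centralizer {a} with hC
  have haC : a ∈ C := by rw [hC, mem_centralizer_singleton_iff]
  have hZC : center G ≤ C := center_le_centralizer _
  set Z' : Subgroup C := (center G).subgroupOf C with hZ'
  have hZ'le : Z' ≤ center C := by
    intro x hx
    rw [hZ', mem_subgroupOf] at hx
    rw [mem_center_iff]
    intro y
    apply Subtype.ext
    exact mem_center_iff.mp hx y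
  have haZ : (⟨a, haC⟩ : C) ∈ center C := by
    rw [mem_center_iff]
    intro y
    apply Subtype.ext
    have h0 : (y : G) ∈ centralizer ({a} : Set G) := y.2
    exact mem_centralizer_singleton_iff.mp h0
  have haZ' : (⟨a, haC⟩ : C) ∉ Z' := by
    rw [hZ', mem_subgroupOf]
    exact ha
  have hZ'card : Nat.card Z' = Nat.card (center G) :=
    Nat.card_congr (subgroupOfEquivOfLe hZC).toEquiv
  have hCp : IsPGroup p C := hG.to_subgroup C
  obtain ⟨i, hi⟩ := IsPGroup.iff_card.mp (hCp.to_subgroup Z')
  obtain ⟨j, hj⟩ := IsPGroup.iff_card.mp (hCp.to_subgroup (center C))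
  have hij : i < j := by
    have h1 : p ^ i ∣ p ^ j := by
      rw [← hi, ← hj]; exact card_dvd_of_le hZ'le
    have h2 : i ≤ j := (Nat.pow_dvd_pow_iff_le_right hp.out.one_lt).mp h1
    rcases h2.lt_or_eq with h3 | h3
    · exact h3
    · exfalso
      apply haZ'
      have : Z' = center C := eq_of_le_of_card_ge hZ'le (by rw [hi, hj, h3])
      rw [this]; exact haZ
  have hidx : (center C).index ∣ p := by
    have h1 := (center C).card_mul_index
    obtain ⟨m, hm⟩ := IsPGroup.iff_card.mp hCp
    have hdvd : (center C).index ∣ p ^ m := by rw [← hm, ← h1]; exact dvd_mul_left _ _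
    obtain ⟨l, -, hl⟩ := (Nat.dvd_prime_pow hp.out).mp hdvd
    rw [hl]
    have hle : p ^ j * p ^ l ≤ p ^ 2 * p ^ i := by
      rw [← hj, ← hl, h1, ← hi, hZ'card]; exact hcard
    rw [← pow_add, ← pow_add] at hle
    have : j + l ≤ 2 + i := (Nat.pow_le_pow_iff_right hp.out.one_lt).mp hle
    have hl1 : l ≤ 1 := by omega
    calc p ^ l ∣ p ^ 1 := pow_dvd_pow p hl1
      _ = p := pow_one p
  exact comm_of_center_index_dvd_prime hp.out hidx

end Cfsg.Agent.Helper1.AbIdxP
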