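import Mathlib
import Cfsg.Agent.Helper1.CentralizerAbelian

set_option autoImplicit false
set_option linter.style.haveILetI false
set_option linter.deprecated false

/-! Lower central series of nilpotent / `p`-groups: strictness and the abelianization. -/

namespace Cfsg.Agent.Helper1.LCS

open Subgroup
open scoped commutatorElement

variable {G : Type*} [Group G]

/-- Preimage of a cyclic subgroup of `G ⧸ N` with `N` central is commutative. -/
theorem comap_comm_of_cyclic (N : Subgroup G) [N.Normal] (hN : N ≤ center G)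
    (C : Subgroup (G ⧸ N)) [IsCyclic C] : IsMulCommutative ↥(C.comap (QuotientGroup.mk' N)) := by
  refine ⟨⟨commutative_of_cyclic_center_quotient ((QuotientGroup.mk' N).subgroupComap C) ?_⟩⟩
  intro x hx
  rw [MonoidHom.mem_ker] at hx
  have hx' : (x : G) ∈ center G := by
    have h0 : ((QuotientGroup.mk' N) (x : G) : G ⧸ N) = 1 := congrArg Subtype.val hx
    exact hN ((QuotientGroup.eq_one_iff _).mp h0)
  rw [mem_center_iff]
  intro y
  apply Subtype.ext
  exact mem_center_iff.mp hx' y

/-- In a nilpotent group the lower central series strictly decreases until it hits `⊥`. -/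
theorem lcs_succ_ne [hG : Group.IsNilpotent G] (n : ℕ)
    (h : Subgroup.lowerCentralSeries (⊤ : Subgroup G) n ≠ ⊥) :
    Subgroup.lowerCentralSeries (⊤ : Subgroup G) (n + 1) ≠ Subgroup.lowerCentralSeries (⊤ : Subgroup G) n := by
  intro heq
  apply h
  have hk : ∀ k, Subgroup.lowerCentralSeries (⊤ : Subgroup G) (n + k) = Subgroup.lowerCentralSeries (⊤ : Subgroup G) n := by
    intro k
    induction k with
    | zero => rfl
    | succ k ih =>
      rw [← add_assoc, Subgroup.lowerCentralSeries_succ, ih, ← Subgroup.lowerCentralSeries_succ, heq]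
  obtain ⟨c, hc⟩ := Subgroup.nilpotent_iff_lowerCentralSeries.mp hG
  rw [← hk c, eq_bot_iff, ← hc]
  exact Subgroup.lowerCentralSeries_antitone _ (Nat.le_add_left c n)

theorem lcs_succ_lt [hG : Group.IsNilpotent G] (n : ℕ)
    (h : Subgroup.lowerCentralSeries (⊤ : Subgroup G) n ≠ ⊥) :
    Subgroup.lowerCentralSeries (⊤ : Subgroup G) (n + 1) < Subgroup.lowerCentralSeries (⊤ : Subgroup G) n :=
  lt_of_le_of_ne (Subgroup.lowerCentralSeries_antitone _ (Nat.le_succ n)) (lcs_succ_ne n h)

/-- If `H < K` are subgroups of a finite `p`-group then `p * |H| ≤ |K|`. -/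
theorem mul_card_le_of_lt [Finite G] {p : ℕ} [hp : Fact p.Prime] (hG : IsPGroup p G)
    {H K : Subgroup G} (h : H < K) : p * Nat.card H ≤ Nat.card K := by
  obtain ⟨i, hi⟩ := IsPGroup.iff_card.mp (hG.to_subgroup H)
  obtain ⟨j, hj⟩ := IsPGroup.iff_card.mp (hG.to_subgroup K)
  have h1 : p ^ i ∣ p ^ j := by rw [← hi, ← hj]; exact card_dvd_of_le h.le
  have h2 : i ≤ j := (Nat.pow_dvd_pow_iff_le_right hp.out.one_lt).mp h1
  have h3 : i ≠ j := by
    intro h3
    apply h.ne
    exact eq_of_le_of_card_ge h.le (by rw [hi, hj, h3])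
  rw [hi, hj, ← pow_succ']
  exact Nat.pow_le_pow_right hp.out.pos (by omega)

/-- In a nilpotent group, the derived subgroup cannot have prime index: if its index divides a
prime, it is trivial. -/
theorem commutator_eq_bot_of_index_dvd_prime [Finite G] [hG : Group.IsNilpotent G] {p : ℕ}
    (hp : p.Prime) (h : (commutator G).index ∣ p) : commutator G = ⊥ := by
  by_contra hne
  set N : Subgroup G := ⁅commutator G, (⊤ : Subgroup G)⁆ with hN
  have hNle : N ≤ commutator G := by
    have := Subgroup.lowerCentralSeries_antitone (⊤ : Subgroup G) (Nat.le_succ 1)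
    rwa [Subgroup.lowerCentralSeries_succ, Subgroup.top_lowerCentralSeries_one] at this
  haveI : N.Normal := by rw [hN]; infer_instance
  have hcen : (commutator G).map (QuotientGroup.mk' N) ≤ center (G ⧸ N) := by
    rintro _ ⟨x, hx, rfl⟩
    rw [mem_center_iff]
    intro q
    obtain ⟨g, rfl⟩ := QuotientGroup.mk'_surjective N q
    symm
    rw [← commutatorElement_eq_one_iff_mul_comm, ← map_commutatorElement,
      QuotientGroup.mk'_apply, QuotientGroup.eq_one_iff]
    exact commutator_mem_commutator hx (mem_top g)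
  have hidx : (center (G ⧸ N)).index ∣ p := by
    refine dvd_trans (index_dvd_of_le hcen) ?_
    rw [index_map_eq _ (QuotientGroup.mk'_surjective N) (by rw [QuotientGroup.ker_mk']; exact hNle)]
    exact h
  have hQ : IsMulCommutative (G ⧸ N) := Cfsg.Agent.Helper1.AbIdxP.comm_of_center_index_dvd_prime hp hidx
  have hle : commutator G ≤ N := Subgroup.Normal.quotient_commutative_iff_commutator_le.mp hQ
  have h1 : Subgroup.lowerCentralSeries (⊤ : Subgroup G) 1 ≠ ⊥ := by
    rw [Subgroup.top_lowerCentralSeries_one]; exact hne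
  apply lcs_succ_ne 1 h1
  rw [Subgroup.lowerCentralSeries_succ, Subgroup.top_lowerCentralSeries_one]
  exact le_antisymm hNle hle

end Cfsg.Agent.Helper1.LCS
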