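import Mathlib
import Cfsg.Agent.Helper1.LowerCentralP

set_option autoImplicit false
set_option linter.style.haveILetI false
set_option linter.unusedSectionVars false

/-!
# Breadth and class of a finite `p`-group (Leedham-Green, Neumann, Wiegold)

If every conjugacy class of the finite `p`-group `G` has at most `p ^ b` elements (`b ≥ 1`), then the
nilpotency class `c` of `G` satisfies `(c - 1) (p - 1) < b p`.
-/

namespace Cfsg.Agent.Helper1.Breadth

open Subgroup
open scoped commutatorElement

variable {G : Type*} [Group G]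

/-- `H.relIndex K * |H| = |K|` for `H ≤ K`. -/
theorem relIndex_mul_card_of_le {H K : Subgroup G} (h : H ≤ K) :
    H.relIndex K * Nat.card H = Nat.card K := by
  have := (H.subgroupOf K).index_mul_card
  rwa [Nat.card_congr (Subgroup.subgroupOfEquivOfLe h).toEquiv] at this

/-- `[AB : A] = [B : A ∩ B]` for `B` normal. -/
theorem relIndex_sup_eq [Finite G] (A B : Subgroup G) [B.Normal] :
    A.relIndex (A ⊔ B) = A.relIndex B := by
  have h1 : A.relIndex (A ⊔ B) * Nat.card A = Nat.card ↥(A ⊔ B) := relIndex_mul_card_of_le le_sup_left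
  have h2 : B.relIndex (A ⊔ B) * Nat.card B = Nat.card ↥(A ⊔ B) := relIndex_mul_card_of_le le_sup_right
  rw [relIndex_sup_right] at h2
  have h3 : A.relIndex B * Nat.card ↥(A ⊓ B) = Nat.card B := by
    rw [← inf_relIndex_right]
    exact relIndex_mul_card_of_le inf_le_right
  have h4 : B.relIndex A * Nat.card ↥(A ⊓ B) = Nat.card A := by
    rw [← inf_relIndex_left]
    exact relIndex_mul_card_of_le inf_le_left
  have hA : 0 < Nat.card A := Nat.card_pos
  have hAB : 0 < Nat.card ↥(A ⊓ B) := Nat.card_pos
  have key : A.relIndex (A ⊔ B) * (Nat.card A * Nat.card ↥(A ⊓ B))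
      = A.relIndex B * (Nat.card A * Nat.card ↥(A ⊓ B)) := by
    calc A.relIndex (A ⊔ B) * (Nat.card A * Nat.card ↥(A ⊓ B))
        = (A.relIndex (A ⊔ B) * Nat.card A) * Nat.card ↥(A ⊓ B) := by ring
      _ = (B.relIndex A * Nat.card B) * Nat.card ↥(A ⊓ B) := by rw [h1, h2]
      _ = (B.relIndex A * Nat.card ↥(A ⊓ B)) * Nat.card B := by ring
      _ = Nat.card A * (A.relIndex B * Nat.card ↥(A ⊓ B)) := by rw [h4, h3]
      _ = A.relIndex B * (Nat.card A * Nat.card ↥(A ⊓ B)) := by ring
  exact Nat.eq_of_mul_eq_mul_right (Nat.mul_pos hA hAB) key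

/-- The lower central series. -/
abbrev L (G : Type*) [Group G] (i : ℕ) : Subgroup G := (⊤ : Subgroup G).lowerCentralSeries i

/-- The centralizer of `L i / L (i+2)`. -/
def D (G : Type*) [Group G] (i : ℕ) : Subgroup G where
  carrier := {x | ∀ g ∈ L G i, ⁅g, x⁆ ∈ L G (i + 2)}
  mul_mem' := by
    intro x y hx hy g hg
    have : ⁅g, x * y⁆ = ⁅g, x⁆ * (x * ⁅g, y⁆ * x⁻¹) := by
      simp only [commutatorElement_def]; group
    rw [this]
    exact (L G (i + 2)).mul_mem (hx g hg)
      ((inferInstance : (L G (i + 2)).Normal).conj_mem _ (hy g hg) x)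
  one_mem' := by
    intro g _
    rw [commutatorElement_one_right]
    exact Subgroup.one_mem _
  inv_mem' := by
    intro x hx g hg
    have : ⁅g, x⁻¹⁆ = x⁻¹ * ⁅g, x⁆⁻¹ * x⁻¹⁻¹ := by
      simp only [commutatorElement_def]; group
    rw [this]
    exact (inferInstance : (L G (i + 2)).Normal).conj_mem _ ((L G (i + 2)).inv_mem (hx g hg)) x⁻¹

theorem mem_D {i : ℕ} {x : G} : x ∈ D G i ↔ ∀ g ∈ L G i, ⁅g, x⁆ ∈ L G (i + 2) := Iff.rfl

theorem D_ne_top [Group.IsNilpotent G] (i : ℕ) (h : L G (i + 1) ≠ ⊥) : D G i ≠ ⊤ := by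
  intro htop
  apply LCS.lcs_succ_ne (i + 1) h
  apply le_antisymm (Subgroup.lowerCentralSeries_antitone _ (Nat.le_succ _))
  change L G (i + 1) ≤ L G (i + 2)
  rw [show L G (i + 1) = ⁅L G i, ⊤⁆ from rfl, Subgroup.commutator_le]
  intro g hg x _
  have hx : x ∈ D G i := by rw [htop]; exact Subgroup.mem_top x
  exact hx g hg

section Count

variable [Finite G] {p : ℕ} [hp : Fact p.Prime]

theorem relIndex_step (x : G) (i : ℕ) :
    (centralizer {x}).relIndex (L G i) =
      ((centralizer {x} ⊓ L G i) ⊔ L G (i + 1)).relIndex (L G i) *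
        (centralizer {x}).relIndex (L G (i + 1)) := by
  have hle : L G (i + 1) ≤ L G i := Subgroup.lowerCentralSeries_antitone _ (Nat.le_succ i)
  have h1 : (centralizer {x} ⊓ L G i).relIndex ((centralizer {x} ⊓ L G i) ⊔ L G (i + 1)) *
      ((centralizer {x} ⊓ L G i) ⊔ L G (i + 1)).relIndex (L G i)
        = (centralizer {x} ⊓ L G i).relIndex (L G i) :=
    relIndex_mul_relIndex _ _ _ le_sup_left (sup_le inf_le_right hle)
  rw [relIndex_sup_eq] at h1
  have h2 : (centralizer {x} ⊓ L G i).relIndex (L G (i + 1))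
      = (centralizer {x}).relIndex (L G (i + 1)) := by
    rw [← inf_relIndex_right (centralizer {x} ⊓ L G i), ← inf_relIndex_right (centralizer {x}),
      inf_assoc, inf_eq_right.mpr hle]
  have h3 : (centralizer {x} ⊓ L G i).relIndex (L G i) = (centralizer {x}).relIndex (L G i) :=
    inf_relIndex_right _ _
  rw [h2, h3] at h1
  rw [← h1, mul_comm]

theorem le_step (hG : IsPGroup p G) (x : G) (i : ℕ) (hx : x ∉ D G i) :
    p ≤ ((centralizer {x} ⊓ L G i) ⊔ L G (i + 1)).relIndex (L G i) := by
  have hne : ((centralizer {x} ⊓ L G i) ⊔ L G (i + 1)).relIndex (L G i) ≠ 1 := by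
    intro h1
    rw [relIndex_eq_one] at h1
    apply hx
    intro g hg
    obtain ⟨a, ha, b, hb, rfl⟩ := Subgroup.mem_sup_of_normal_right.mp (h1 hg)
    have hax : ⁅a, x⁆ = 1 := by
      rw [commutatorElement_eq_one_iff_mul_comm]
      exact (Subgroup.mem_centralizer_iff.mp ha.1 x rfl).symm
    have : ⁅a * b, x⁆ = a * ⁅b, x⁆ * a⁻¹ * ⁅a, x⁆ := by
      simp only [commutatorElement_def]; group
    rw [this, hax, mul_one]
    apply (inferInstance : (L G (i + 2)).Normal).conj_mem
    exact Subgroup.commutator_mem_commutator hb (Subgroup.mem_top x)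
  obtain ⟨n, hn⟩ := IsPGroup.iff_card.mp hG
  have hdvd : ((centralizer {x} ⊓ L G i) ⊔ L G (i + 1)).relIndex (L G i) ∣ p ^ n := by
    rw [← hn]
    exact (relIndex_dvd_card _ _).trans (Subgroup.card_subgroup_dvd_card _)
  obtain ⟨k, -, hk⟩ := (Nat.dvd_prime_pow hp.out).mp hdvd
  rw [hk] at hne ⊢
  have hk0 : k ≠ 0 := by
    intro h0
    rw [h0, pow_zero] at hne
    exact hne rfl
  calc p = p ^ 1 := (pow_one p).symm
    _ ≤ p ^ k := Nat.pow_le_pow_right hp.out.pos (Nat.one_le_iff_ne_zero.mpr hk0)

open Classical in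
theorem pow_card_filter_le (hG : IsPGroup p G) (x : G) (n : ℕ) :
    p ^ ((Finset.range n).filter (fun i => x ∉ D G i)).card *
      (centralizer {x}).relIndex (L G n) ≤ (centralizer {x}).index := by
  induction n with
  | zero =>
    simp only [Finset.range_zero, Finset.filter_empty, Finset.card_empty, pow_zero, one_mul]
    rw [show L G 0 = ⊤ from rfl, relIndex_top_right]
  | succ n ih =>
    rw [relIndex_step x n] at ih
    by_cases hx : x ∈ D G n
    · have hf : (Finset.range (n + 1)).filter (fun i => x ∉ D G i)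
          = (Finset.range n).filter (fun i => x ∉ D G i) := by
        rw [Finset.range_add_one, Finset.filter_insert, if_neg (not_not.mpr hx)]
      rw [hf]
      have h1 : 1 ≤ ((centralizer {x} ⊓ L G n) ⊔ L G (n + 1)).relIndex (L G n) := by
        have := (relIndex_dvd_card ((centralizer {x} ⊓ L G n) ⊔ L G (n + 1)) (L G n))
        exact Nat.pos_of_dvd_of_pos this Nat.card_pos
      calc p ^ ((Finset.range n).filter (fun i => x ∉ D G i)).card *
            (centralizer {x}).relIndex (L G (n + 1))
          ≤ p ^ ((Finset.range n).filter (fun i => x ∉ D G i)).card *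
            (((centralizer {x} ⊓ L G n) ⊔ L G (n + 1)).relIndex (L G n) *
              (centralizer {x}).relIndex (L G (n + 1))) :=
            Nat.mul_le_mul_left _ (Nat.le_mul_of_pos_left _ h1)
        _ ≤ _ := ih
    · have hf : (Finset.range (n + 1)).filter (fun i => x ∉ D G i)
          = insert n ((Finset.range n).filter (fun i => x ∉ D G i)) := by
        rw [Finset.range_add_one, Finset.filter_insert, if_pos hx]
      have hn : n ∉ (Finset.range n).filter (fun i => x ∉ D G i) := by
        simp
      rw [hf, Finset.card_insert_of_notMem hn, pow_succ]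
      have h1 := le_step hG x n hx
      calc p ^ ((Finset.range n).filter (fun i => x ∉ D G i)).card * p *
            (centralizer {x}).relIndex (L G (n + 1))
          = p ^ ((Finset.range n).filter (fun i => x ∉ D G i)).card *
            (p * (centralizer {x}).relIndex (L G (n + 1))) := by ring
        _ ≤ p ^ ((Finset.range n).filter (fun i => x ∉ D G i)).card *
            (((centralizer {x} ⊓ L G n) ⊔ L G (n + 1)).relIndex (L G n) *
              (centralizer {x}).relIndex (L G (n + 1))) :=
            Nat.mul_le_mul_left _ (Nat.mul_le_mul_right _ h1)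
        _ ≤ _ := ih

open Classical in
/-- **Leedham-Green–Neumann–Wiegold**: breadth `b ≥ 1` and class `c` satisfy `(c-1)(p-1) < bp`. -/
theorem class_bound (hG : IsPGroup p G) (b : ℕ) (hb0 : b ≠ 0)
    (hb : ∀ x : G, (centralizer ({x} : Set G)).index ≤ p ^ b) (c : ℕ) (hc : L G c = ⊥)
    (hc' : ∀ i, i + 1 < c → L G (i + 1) ≠ ⊥) : (c - 1) * (p - 1) < b * p := by
  haveI : Group.IsNilpotent G := hG.isNilpotent
  letI : Fintype G := Fintype.ofFinite G
  set N := Nat.card G with hN
  have hNpos : 0 < N := Nat.card_pos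
  have hNF : Fintype.card G = N := (Nat.card_eq_fintype_card).symm
  -- the number of "moved" layers is at most `b`
  have hI : ∀ x : G, ((Finset.range c).filter (fun i => x ∉ D G i)).card ≤ b := by
    intro x
    have h1 := pow_card_filter_le hG x c
    rw [hc, relIndex_bot_right, mul_one] at h1
    exact (Nat.pow_le_pow_iff_right hp.out.one_lt).mp (h1.trans (hb x))
  have hI1 : ((Finset.range c).filter (fun i => (1 : G) ∉ D G i)).card = 0 := by
    rw [Finset.card_eq_zero, Finset.filter_eq_empty_iff]
    intro i _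
    exact not_not.mpr (Subgroup.one_mem _)
  -- upper bound for the sum
  have hupper : ∑ x : G, ((Finset.range c).filter (fun i => x ∉ D G i)).card ≤ b * (N - 1) := by
    rw [← Finset.add_sum_erase Finset.univ _ (Finset.mem_univ (1 : G)), hI1, zero_add]
    calc ∑ x ∈ Finset.univ.erase (1 : G), ((Finset.range c).filter (fun i => x ∉ D G i)).card
        ≤ ∑ _x ∈ Finset.univ.erase (1 : G), b := Finset.sum_le_sum (fun x _ => hI x)
      _ = b * (N - 1) := by
        rw [Finset.sum_const, Finset.card_erase_of_mem (Finset.mem_univ _), Finset.card_univ, hNF,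
          smul_eq_mul, mul_comm]
  -- lower bound
  have hcount : ∀ i, (Finset.univ.filter (fun x : G => x ∉ D G i)).card + Nat.card (D G i) = N := by
    intro i
    have h1 := Finset.card_filter_add_card_filter_not (s := (Finset.univ : Finset G))
      (fun x : G => x ∈ D G i)
    rw [Finset.card_univ, hNF] at h1
    have h2 : (Finset.univ.filter (fun x : G => x ∈ D G i)).card = Nat.card (D G i) := by
      rw [Nat.card_eq_fintype_card, Fintype.card_subtype]
    rw [h2] at h1
    omega
  have hlow1 : ∀ i, i + 1 < c → (p - 1) * N ≤ p * (Finset.univ.filter (fun x : G => x ∉ D G i)).card := by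
    intro i hi
    have hlt : D G i < ⊤ := lt_top_iff_ne_top.mpr (D_ne_top i (hc' i hi))
    have h1 := LCS.mul_card_le_of_lt hG hlt
    rw [Subgroup.card_top] at h1
    have h2 := hcount i
    have hp1 : 1 ≤ p := hp.out.pos
    have h3 : p * N = p * (Finset.univ.filter (fun x : G => x ∉ D G i)).card + p * Nat.card (D G i) := by
      rw [← mul_add, h2]
    have h4 : (p - 1) * N + N = p * N := by
      rw [← Nat.succ_mul, Nat.succ_eq_add_one, Nat.sub_add_cancel hp1]
    omega
  have hswap : ∑ x : G, ((Finset.range c).filter (fun i => x ∉ D G i)).card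
      = ∑ i ∈ Finset.range c, (Finset.univ.filter (fun x : G => x ∉ D G i)).card := by
    simp_rw [Finset.card_filter]
    exact Finset.sum_comm
  have hlower : (c - 1) * ((p - 1) * N)
      ≤ p * ∑ x : G, ((Finset.range c).filter (fun i => x ∉ D G i)).card := by
    rw [hswap, Finset.mul_sum]
    calc (c - 1) * ((p - 1) * N) = ∑ _i ∈ Finset.range (c - 1), (p - 1) * N := by
          rw [Finset.sum_const, Finset.card_range, smul_eq_mul]
      _ ≤ ∑ i ∈ Finset.range (c - 1), p * (Finset.univ.filter (fun x : G => x ∉ D G i)).card := by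
          apply Finset.sum_le_sum
          intro i hi
          rw [Finset.mem_range] at hi
          exact hlow1 i (by omega)
      _ ≤ ∑ i ∈ Finset.range c, p * (Finset.univ.filter (fun x : G => x ∉ D G i)).card := by
          apply Finset.sum_le_sum_of_subset
          intro i hi
          rw [Finset.mem_range] at hi ⊢
          omega
  -- combine
  have hbp : 0 < b * p := Nat.mul_pos (Nat.pos_of_ne_zero hb0) hp.out.pos
  have h1 : (c - 1) * (p - 1) * N ≤ b * p * (N - 1) := by
    calc (c - 1) * (p - 1) * N = (c - 1) * ((p - 1) * N) := by ring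
      _ ≤ p * ∑ x : G, ((Finset.range c).filter (fun i => x ∉ D G i)).card := hlower
      _ ≤ p * (b * (N - 1)) := Nat.mul_le_mul_left _ hupper
      _ = b * p * (N - 1) := by ring
  have h2 : b * p * (N - 1) < b * p * N := Nat.mul_lt_mul_of_pos_left (by omega) hbp
  exact Nat.lt_of_mul_lt_mul_right (h1.trans_lt h2)

end Count

end Cfsg.Agent.Helper1.Breadth
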