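import Mathlib
import Cfsg.Agent.Helper21.BswDefs2
import Cfsg.Agent.Helper16.BswLoc

/-!
Brauer–Suzuki–Wall, abstract form, case `ε = -1`: the "split torus" `C(w)` (piece D2Ma).
-/

set_option autoImplicit false
set_option linter.unusedSectionVars false
set_option linter.style.haveILetI false

namespace Cfsg.Agent.Helper21.Bsw

universe u
variable {G : Type u} [Group G] [Finite G] {t s : G} {K : Subgroup G}

namespace MinusA

omit [Finite G] in
theorem exists_inverting {x : G} (hx : invCount x ≠ 0) :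
    ∃ u : G, orderOf u = 2 ∧ u * x * u⁻¹ = x⁻¹ := by
  unfold invCount at hx
  by_contra hne
  push Not at hne
  apply hx
  haveI : IsEmpty {u : G // orderOf u = 2 ∧ u * x * u⁻¹ = x⁻¹} :=
    ⟨fun u => hne u.1 u.2.1 u.2.2⟩
  exact Nat.card_of_isEmpty

theorem invCount_ne_zero {x u : G} (hu : orderOf u = 2) (hux : u * x * u⁻¹ = x⁻¹) :
    invCount x ≠ 0 := by
  unfold invCount
  haveI : Nonempty {u : G // orderOf u = 2 ∧ u * x * u⁻¹ = x⁻¹} := ⟨⟨u, hu, hux⟩⟩
  exact Nat.card_pos.ne'

omit [Finite G] in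
theorem sq_eq_one_of_order {u : G} (hu : orderOf u = 2) : u * u = 1 := by
  have := pow_orderOf_eq_one u
  rwa [hu, pow_two] at this

omit [Finite G] in
theorem inv_eq_self_of_order {u : G} (hu : orderOf u = 2) : u⁻¹ = u :=
  inv_eq_of_mul_eq_one_left (sq_eq_one_of_order hu)

omit [Finite G] in
theorem ne_one_of_order {u : G} (hu : orderOf u = 2) : u ≠ 1 := by
  intro h
  rw [h, orderOf_one] at hu
  omega

theorem mem_normalizer_of_conj_mem (D : Subgroup G) {n : G} (hn : ∀ d ∈ D, n * d * n⁻¹ ∈ D) :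
    n ∈ Subgroup.normalizer (D : Set G) :=
  Subgroup.mem_normalizer_fintype (fun d hd => hn d hd)

omit [Finite G] in
theorem conj_mem_of_mem_normalizer {D : Subgroup G} {n : G}
    (hn : n ∈ Subgroup.normalizer (D : Set G)) {d : G} (hd : d ∈ D) : n * d * n⁻¹ ∈ D :=
  (Subgroup.mem_normalizer_iff.mp hn d).mp hd

section core

variable (h : Hyp t s K) (c : CountMinus K) {w u : G} (hw : RType K w) (hu : orderOf u = 2)
  (hux : u * w * u⁻¹ = w⁻¹)

include h c hw hu hux

theorem card_D : Nat.card (Subgroup.centralizer ({w} : Set G)) = Nat.card K - 1 := by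
  have h3 := (h.centralizer_inverted hw hu hux).2.2
  rcases c.inv w hw with h0 | h1
  · exact absurd h0 (invCount_ne_zero hu hux)
  · rw [h3, h1]

theorem abelian_D : ∀ a ∈ Subgroup.centralizer ({w} : Set G),
    ∀ b ∈ Subgroup.centralizer ({w} : Set G), a * b = b * a :=
  (h.centralizer_inverted hw hu hux).2.1

theorem inverts_D : ∀ d ∈ Subgroup.centralizer ({w} : Set G), u * d * u⁻¹ = d⁻¹ :=
  (h.centralizer_inverted hw hu hux).1

theorem inf_cent_u : Subgroup.centralizer ({w} : Set G) ⊓ Subgroup.centralizer ({u} : Set G) = ⊥ :=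
  h.centralizer_inf_eq_bot hw hu

theorem u_not_mem : u ∉ Subgroup.centralizer ({w} : Set G) := by
  intro hmem
  have h1 : u ∈ Subgroup.centralizer ({w} : Set G) ⊓ Subgroup.centralizer ({u} : Set G) :=
    Subgroup.mem_inf.mpr ⟨hmem, by rw [Subgroup.mem_centralizer_singleton_iff]⟩
  rw [inf_cent_u h c hw hu hux, Subgroup.mem_bot] at h1
  exact ne_one_of_order hu h1

theorem cent_eq {y : G} (hy : y ∈ Subgroup.centralizer ({w} : Set G)) (hy1 : y ≠ 1) :
    Subgroup.centralizer ({y} : Set G) = Subgroup.centralizer ({w} : Set G) ∧ RType K y ∧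
      invCount y ≠ 0 := by
  have hR : RType K y := h.rType_of_mem_centralizer hw hy hy1
  have huy : u * y * u⁻¹ = y⁻¹ := inverts_D h c hw hu hux y hy
  have hne : invCount y ≠ 0 := invCount_ne_zero hu huy
  refine ⟨?_, hR, hne⟩
  have hle : Subgroup.centralizer ({w} : Set G) ≤ Subgroup.centralizer ({y} : Set G) := by
    intro d hd
    rw [Subgroup.mem_centralizer_singleton_iff]
    exact abelian_D h c hw hu hux d hd y hy
  have hcard : Nat.card (Subgroup.centralizer ({y} : Set G)) ≤
      Nat.card (Subgroup.centralizer ({w} : Set G)) := by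
    rw [card_D h c hw hu hux, card_D h c hR hu huy]
  exact (Subgroup.eq_of_le_of_card_ge hle hcard).symm

theorem odd_card_D : Odd (Nat.card (Subgroup.centralizer ({w} : Set G))) := by
  rw [card_D h c hw hu hux]
  have h2 := h.two_dvd_card_K
  have hpos : 0 < Nat.card K := Nat.card_pos
  obtain ⟨m, hm⟩ := h2
  exact ⟨m - 1, by omega⟩

theorem sqrt_mem {d : G} (hd : d ∈ Subgroup.centralizer ({w} : Set G)) :
    ∃ m ∈ Subgroup.centralizer ({w} : Set G), m * m = d := by
  have hodd := odd_card_D h c hw hu hux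
  have hord : orderOf d ∣ Nat.card (Subgroup.centralizer ({w} : Set G)) := by
    have := orderOf_dvd_natCard (⟨d, hd⟩ : Subgroup.centralizer ({w} : Set G))
    rwa [Subgroup.orderOf_mk] at this
  have hodd' : Odd (orderOf d) := Odd.of_dvd_nat hodd hord
  obtain ⟨j, hj⟩ := hodd'
  refine ⟨d ^ (j + 1), Subgroup.pow_mem _ hd _, ?_⟩
  rw [← pow_add]
  have : j + 1 + (j + 1) = orderOf d + 1 := by omega
  rw [this, pow_succ, pow_orderOf_eq_one, one_mul]

theorem u_mem_normalizer :
    u ∈ Subgroup.normalizer ((Subgroup.centralizer ({w} : Set G) : Subgroup G) : Set G) := by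
  apply mem_normalizer_of_conj_mem
  intro d hd
  rw [inverts_D h c hw hu hux d hd]
  exact Subgroup.inv_mem _ hd

/-- involutions of `N(D)` invert `D` and lie in `D u` -/
theorem invol_norm {v : G} (hv : orderOf v = 2)
    (hvN : v ∈ Subgroup.normalizer ((Subgroup.centralizer ({w} : Set G) : Subgroup G) : Set G)) :
    (∀ d ∈ Subgroup.centralizer ({w} : Set G), v * d * v⁻¹ = d⁻¹) ∧
      v * u ∈ Subgroup.centralizer ({w} : Set G) := by
  have hfpf : ∀ d ∈ Subgroup.centralizer ({w} : Set G), v * d * v⁻¹ = d → d = 1 := by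
    intro d hd hdv
    have hmem : d ∈ Subgroup.centralizer ({w} : Set G) ⊓ Subgroup.centralizer ({v} : Set G) := by
      refine Subgroup.mem_inf.mpr ⟨hd, ?_⟩
      rw [Subgroup.mem_centralizer_singleton_iff]
      calc d * v = (v * d * v⁻¹) * v := by rw [hdv]
        _ = v * d := by group
    rw [h.centralizer_inf_eq_bot hw hv, Subgroup.mem_bot] at hmem
    exact hmem
  have hinv := (inverts_of_fpf' _ v (sq_eq_one_of_order hv)
    (fun d hd => conj_mem_of_mem_normalizer hvN hd) hfpf).1
  refine ⟨hinv, ?_⟩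
  rw [Subgroup.mem_centralizer_singleton_iff]
  have h1 : u * w * u⁻¹ = w⁻¹ := hux
  have hw' : w ∈ Subgroup.centralizer ({w} : Set G) := by
    rw [Subgroup.mem_centralizer_singleton_iff]
  have h2 : v * w⁻¹ * v⁻¹ = w := by
    have := hinv w⁻¹ (Subgroup.inv_mem _ hw')
    rwa [inv_inv] at this
  calc v * u * w = v * (u * w * u⁻¹) * u := by group
    _ = v * w⁻¹ * u := by rw [h1]
    _ = (v * w⁻¹ * v⁻¹) * (v * u) := by group
    _ = w * (v * u) := by rw [h2]

theorem E_le_cj {g : G} (hg : g * t * g⁻¹ = u) {e : G}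
    (heN : e ∈ Subgroup.normalizer ((Subgroup.centralizer ({w} : Set G) : Subgroup G) : Set G))
    (heu : e ∈ Subgroup.centralizer ({u} : Set G)) : e ∈ cj g K := by
  by_contra hne
  have hgH := h.conj g
  rw [← hg] at heu
  have he2 : orderOf e = 2 := hgH.orderOf_eq_two_of_not_mem heu hne
  obtain ⟨-, hmem⟩ := invol_norm h c hw hu hux he2 heN
  have hcomm : e * u ∈ Subgroup.centralizer ({u} : Set G) := by
    rw [hg] at heu
    rw [Subgroup.mem_centralizer_singleton_iff] at heu ⊢
    calc e * u * u = e * (u * u) := by group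
      _ = (u * u) * e := by rw [sq_eq_one_of_order hu]; group
      _ = u * (u * e) := by group
      _ = u * (e * u) := by rw [heu]
  have h1 : e * u ∈ Subgroup.centralizer ({w} : Set G) ⊓ Subgroup.centralizer ({u} : Set G) :=
    Subgroup.mem_inf.mpr ⟨hmem, hcomm⟩
  rw [inf_cent_u h c hw hu hux, Subgroup.mem_bot] at h1
  have heq : e = u := by
    have : e = u⁻¹ := eq_inv_of_mul_eq_one_left h1
    rw [this, inv_eq_self_of_order hu]
  apply hne
  rw [heq, ← hg]
  exact hgH.htK

theorem E_eq : Subgroup.normalizer ((Subgroup.centralizer ({w} : Set G) : Subgroup G) : Set G) ⊓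
    Subgroup.centralizer ({u} : Set G) = Subgroup.zpowers u := by
  set D := Subgroup.centralizer ({w} : Set G) with hD
  set E := Subgroup.normalizer (D : Set G) ⊓ Subgroup.centralizer ({u} : Set G) with hE
  obtain ⟨g, hg⟩ := isConj_iff.mp (h.hconj t u h.ht hu)
  have hEK : E ≤ cj g K := by
    intro e he
    rw [hE, Subgroup.mem_inf] at he
    exact E_le_cj h c hw hu hux hg he.1 he.2
  have hdvd1 : Nat.card E ∣ Nat.card K := by
    have := Subgroup.card_dvd_of_le hEK
    rwa [card_cj] at this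
  have hdvd2 : Nat.card E ∣ Nat.card D - 1 := by
    apply Loc.card_dvd_of_free D E
    · intro e he d hd
      rw [hE, Subgroup.mem_inf] at he
      exact conj_mem_of_mem_normalizer he.1 hd
    · intro e he d hd hd1 hed
      rw [hE, Subgroup.mem_inf] at he
      have h1 : e ∈ Subgroup.centralizer ({d} : Set G) := by
        rw [Subgroup.mem_centralizer_singleton_iff]
        calc e * d = (e * d * e⁻¹) * e := by group
          _ = d * e := by rw [hed]
      rw [(cent_eq h c hw hu hux hd hd1).1] at h1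
      have h2 : e ∈ D ⊓ Subgroup.centralizer ({u} : Set G) := Subgroup.mem_inf.mpr ⟨h1, he.2⟩
      rw [hD, inf_cent_u h c hw hu hux, Subgroup.mem_bot] at h2
      exact h2
  rw [hD, card_D h c hw hu hux] at hdvd2
  have hk2 := h.two_dvd_card_K
  have hpos : 0 < Nat.card K := Nat.card_pos
  have hdvd3 : Nat.card E ∣ 2 := by
    have := Nat.dvd_sub hdvd1 hdvd2
    have e : Nat.card K - (Nat.card K - 1 - 1) = 2 := by
      obtain ⟨m, hm⟩ := hk2
      omega
    rwa [e] at this
  have huE : u ∈ E := by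
    rw [hE, Subgroup.mem_inf]
    exact ⟨u_mem_normalizer h c hw hu hux, by rw [Subgroup.mem_centralizer_singleton_iff]⟩
  have hle : Subgroup.zpowers u ≤ E := Subgroup.zpowers_le.mpr huE
  have hcz : Nat.card (Subgroup.zpowers u) = 2 := by rw [Nat.card_zpowers, hu]
  have hcard : Nat.card E ≤ Nat.card (Subgroup.zpowers u) := by
    rw [hcz]
    exact Nat.le_of_dvd (by norm_num) hdvd3
  exact (Subgroup.eq_of_le_of_card_ge hle hcard).symm

theorem exists_decomp {n : G}
    (hn : n ∈ Subgroup.normalizer ((Subgroup.centralizer ({w} : Set G) : Subgroup G) : Set G)) :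
    ∃ m ∈ Subgroup.centralizer ({w} : Set G), m⁻¹ * n ∈ Subgroup.zpowers u := by
  have huN := u_mem_normalizer h c hw hu hux
  -- v = n u n⁻¹
  have hvN : n * u * n⁻¹ ∈
      Subgroup.normalizer ((Subgroup.centralizer ({w} : Set G) : Subgroup G) : Set G) :=
    Subgroup.mul_mem _ (Subgroup.mul_mem _ hn huN) (Subgroup.inv_mem _ hn)
  have hv2 : orderOf (n * u * n⁻¹) = 2 := by rw [orderOf_conj']; exact hu
  obtain ⟨-, hd0⟩ := invol_norm h c hw hu hux hv2 hvN
  obtain ⟨m, hm, hmm⟩ := sqrt_mem h c hw hu hux hd0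
  have hum : u * m⁻¹ * u⁻¹ = m := by
    have := inverts_D h c hw hu hux m⁻¹ (Subgroup.inv_mem _ hm)
    rwa [inv_inv] at this
  have hconj : m * u * m⁻¹ = n * u * n⁻¹ := by
    calc m * u * m⁻¹ = m * (u * m⁻¹ * u⁻¹) * u := by group
      _ = m * m * u := by rw [hum]
      _ = n * u * n⁻¹ * u * u := by rw [hmm]
      _ = n * u * n⁻¹ * (u * u) := by group
      _ = n * u * n⁻¹ := by rw [sq_eq_one_of_order hu, mul_one]
  have heu : m⁻¹ * n ∈ Subgroup.centralizer ({u} : Set G) := by
    rw [Subgroup.mem_centralizer_singleton_iff]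
    symm
    calc u * (m⁻¹ * n) = m⁻¹ * (m * u * m⁻¹) * n := by group
      _ = m⁻¹ * (n * u * n⁻¹) * n := by rw [hconj]
      _ = m⁻¹ * n * u := by group
  have heN : m⁻¹ * n ∈
      Subgroup.normalizer ((Subgroup.centralizer ({w} : Set G) : Subgroup G) : Set G) :=
    Subgroup.mul_mem _ (Subgroup.inv_mem _ (Subgroup.le_normalizer hm)) hn
  refine ⟨m, hm, ?_⟩
  rw [← E_eq h c hw hu hux]
  exact Subgroup.mem_inf.mpr ⟨heN, heu⟩

theorem normalizer_eq :
    Subgroup.normalizer ((Subgroup.centralizer ({w} : Set G) : Subgroup G) : Set G) =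
      Subgroup.centralizer ({w} : Set G) ⊔ Subgroup.zpowers u := by
  apply le_antisymm
  · intro n hn
    obtain ⟨m, hm, heE⟩ := exists_decomp h c hw hu hux hn
    have : n = m * (m⁻¹ * n) := by group
    rw [this]
    exact Subgroup.mul_mem_sup hm heE
  · apply sup_le Subgroup.le_normalizer
    exact Subgroup.zpowers_le.mpr (u_mem_normalizer h c hw hu hux)

/-- elements of odd order of `N(D)` lie in `D` -/
theorem mem_of_odd {n : G}
    (hn : n ∈ Subgroup.normalizer ((Subgroup.centralizer ({w} : Set G) : Subgroup G) : Set G))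
    (hodd : Odd (orderOf n)) : n ∈ Subgroup.centralizer ({w} : Set G) := by
  obtain ⟨m, hm, heE⟩ := exists_decomp h c hw hu hux hn
  obtain ⟨j, hj⟩ := Subgroup.mem_zpowers_iff.mp heE
  rcases Int.emod_two_eq_zero_or_one j with h0 | h1
  · obtain ⟨i, rfl⟩ : ∃ i, j = 2 * i := ⟨j / 2, by omega⟩
    rw [zpow_mul, zpow_ofNat, pow_two, sq_eq_one_of_order hu, one_zpow] at hj
    have : n = m := by
      calc n = m * (m⁻¹ * n) := by group
        _ = m := by rw [← hj, mul_one]
    rw [this]; exact hm
  · obtain ⟨i, rfl⟩ : ∃ i, j = 2 * i + 1 := ⟨j / 2, by omega⟩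
    rw [zpow_add, zpow_mul, zpow_ofNat, pow_two, sq_eq_one_of_order hu, one_zpow, one_mul,
      zpow_one] at hj
    have hnm : n = m * u := by
      calc n = m * (m⁻¹ * n) := by group
        _ = m * u := by rw [← hj]
    have hsq : n ^ 2 = 1 := by
      rw [pow_two, hnm]
      have := inverts_D h c hw hu hux m hm
      calc m * u * (m * u) = m * (u * m * u⁻¹) * (u * u) := by group
        _ = 1 := by rw [this, sq_eq_one_of_order hu]; group
    have hdvd : orderOf n ∣ 2 := orderOf_dvd_of_pow_eq_one hsq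
    rcases (Nat.dvd_prime Nat.prime_two).mp hdvd with h1' | h2'
    · rw [orderOf_eq_one_iff.mp h1']
      exact Subgroup.one_mem _
    · rw [h2'] at hodd
      exact absurd hodd (by decide)

theorem normalizer_sub_eq (X : Subgroup G) (hX : X ≤ Subgroup.centralizer ({w} : Set G))
    (hX1 : X ≠ ⊥) :
    Subgroup.normalizer (X : Set G) =
      Subgroup.normalizer ((Subgroup.centralizer ({w} : Set G) : Subgroup G) : Set G) := by
  apply le_antisymm
  · intro n hn
    obtain ⟨⟨y, hy⟩, hy1'⟩ := Subgroup.ne_bot_iff_exists_ne_one.mp hX1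
    have hy1 : y ≠ 1 := fun h1 => hy1' (Subtype.ext h1)
    have hny : n * y * n⁻¹ ∈ X := conj_mem_of_mem_normalizer hn hy
    have hny1 : n * y * n⁻¹ ≠ 1 := by
      intro h1
      apply hy1
      calc y = n⁻¹ * (n * y * n⁻¹) * n := by group
        _ = 1 := by rw [h1]; group
    have e1 := (cent_eq h c hw hu hux (hX hny) hny1).1
    have e2 := (cent_eq h c hw hu hux (hX hy) hy1).1
    rw [centralizer_conj, e2] at e1
    apply mem_normalizer_of_conj_mem
    intro d hd
    have := conj_mem_cj (g := n) hd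
    rwa [e1] at this
  · rw [normalizer_eq h c hw hu hux]
    apply sup_le
    · intro d hd
      apply mem_normalizer_of_conj_mem
      intro x hx
      have := abelian_D h c hw hu hux d hd x (hX hx)
      rw [this, mul_assoc, mul_inv_cancel, mul_one]
      exact hx
    · apply Subgroup.zpowers_le.mpr
      apply mem_normalizer_of_conj_mem
      intro x hx
      rw [inverts_D h c hw hu hux x (hX hx)]
      exact Subgroup.inv_mem _ hx

end core

end MinusA

/-- D2Ma-1 : the "split torus" `D = C(w)` for `w` inverted by some involution -/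
theorem Minus.torus (h : Hyp t s K) (c : CountMinus K) {w : G} (hw : RType K w)
    (hw1 : invCount w ≠ 0) :
    (∀ a ∈ Subgroup.centralizer ({w} : Set G), ∀ b ∈ Subgroup.centralizer ({w} : Set G),
      a * b = b * a) ∧
    Nat.card (Subgroup.centralizer ({w} : Set G)) = Nat.card K - 1 ∧
    (∀ y ∈ Subgroup.centralizer ({w} : Set G), y ≠ 1 →
      Subgroup.centralizer ({y} : Set G) = Subgroup.centralizer ({w} : Set G) ∧
      RType K y ∧ invCount y ≠ 0) ∧
    (∃ u : G, orderOf u = 2 ∧ u ∉ Subgroup.centralizer ({w} : Set G) ∧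
      (∀ d ∈ Subgroup.centralizer ({w} : Set G), u * d * u⁻¹ = d⁻¹) ∧
      Subgroup.normalizer ((Subgroup.centralizer ({w} : Set G) : Subgroup G) : Set G)
        = Subgroup.centralizer ({w} : Set G) ⊔ Subgroup.zpowers u) ∧
    (∀ X : Subgroup G, X ≤ Subgroup.centralizer ({w} : Set G) → X ≠ ⊥ →
      Subgroup.normalizer (X : Set G)
        = Subgroup.normalizer ((Subgroup.centralizer ({w} : Set G) : Subgroup G) : Set G)) := by
  obtain ⟨u, hu, hux⟩ := MinusA.exists_inverting hw1
  exact ⟨MinusA.abelian_D h c hw hu hux, MinusA.card_D h c hw hu hux,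
    fun y hy hy1 => MinusA.cent_eq h c hw hu hux hy hy1,
    ⟨u, hu, MinusA.u_not_mem h c hw hu hux, MinusA.inverts_D h c hw hu hux,
      MinusA.normalizer_eq h c hw hu hux⟩,
    fun X hX hX1 => MinusA.normalizer_sub_eq h c hw hu hux X hX hX1⟩

/-- D2Ma-2 : centralizers of odd-order elements that are of `K`-type or inverted by an involution -/
theorem Minus.odd_torus (h : Hyp t s K) (c : CountMinus K) {z : G} (hz1 : z ≠ 1)
    (hzodd : Odd (orderOf z)) (hz : KType K z ∨ (RType K z ∧ invCount z ≠ 0)) :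
    (∀ a ∈ Subgroup.centralizer ({z} : Set G), ∀ b ∈ Subgroup.centralizer ({z} : Set G),
      a * b = b * a) ∧
    (∀ a ∈ Subgroup.centralizer ({z} : Set G), a ≠ 1 → Odd (orderOf a) →
      Subgroup.centralizer ({a} : Set G) = Subgroup.centralizer ({z} : Set G)) ∧
    (∀ n ∈ Subgroup.normalizer ((Subgroup.centralizer ({z} : Set G) : Subgroup G) : Set G),
      Odd (orderOf n) → n ∈ Subgroup.centralizer ({z} : Set G)) := by
  rcases hz with hzK | ⟨hzR, hz0⟩
  · obtain ⟨-, g, hg⟩ := hzK
    have hgH := h.conj g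
    have hzmem : z ∈ cj g K := mem_cj.mpr hg
    have hne_t : ∀ a : G, Odd (orderOf a) → a ≠ g * t * g⁻¹ := by
      intro a ha hat
      rw [hat, hgH.ht] at ha
      exact absurd ha (by decide)
    have hC : Subgroup.centralizer ({z} : Set G) = cj g K :=
      hgH.centralizer_eq_K hzmem hz1 (hne_t z hzodd)
    rw [hC]
    refine ⟨hgH.hKab, ?_, ?_⟩
    · intro a ha ha1 haodd
      exact hgH.centralizer_eq_K ha ha1 (hne_t a haodd)
    · intro n hn hnodd
      have hnz : n * z * n⁻¹ ∈ cj g K := MinusA.conj_mem_of_mem_normalizer hn hzmem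
      have hnH := hgH.mem_H_of_conj_mem' hzmem hz1 hnz
      by_contra hnK
      have h2 := hgH.orderOf_eq_two_of_not_mem hnH hnK
      rw [h2] at hnodd
      exact absurd hnodd (by decide)
  · obtain ⟨u, hu, hux⟩ := MinusA.exists_inverting hz0
    refine ⟨MinusA.abelian_D h c hzR hu hux, ?_, ?_⟩
    · intro a ha ha1 _
      exact (MinusA.cent_eq h c hzR hu hux ha ha1).1
    · intro n hn hnodd
      exact MinusA.mem_of_odd h c hzR hu hux hn hnodd

end Cfsg.Agent.Helper21.Bsw
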