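import Mathlib
import Cfsg.Agent.Helper21.BswGen5

/-!
Brauer–Suzuki–Wall, abstract form: piece TWO, the case `k = 2` of the character theory.
-/

set_option autoImplicit false
set_option linter.unusedSectionVars false
set_option linter.unusedVariables false

namespace Cfsg.Agent.Helper21.Bsw

open Cfsg Cfsg.Agent.Helper24 Cfsg.Agent.Helper8 Cfsg.Agent.Helper8.DihVec

universe u

variable {G : Type u} [Group G] [Fintype G] [Fintype (IrrCharacter G)]
  [DecidableEq (IrrCharacter G)] {t s : G} {K : Subgroup G} [Fintype K]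
  [Fintype (IrrCharacter K)] [DecidableEq (IrrCharacter K)]

/-- the shape of the coefficient vector in the case `k = 2` -/
structure TwoData (l0 : LK K) (Y Za Zb : IrrCharacter G) (eY ea eb : ℤ) : Prop where
  huniq : ∀ l : LK K, l = l0
  heY : eY = 1 ∨ eY = -1
  hea : ea = 1 ∨ ea = -1
  heb : eb = 1 ∨ eb = -1
  hY0 : Y ≠ trivIrr G
  hZa0 : Za ≠ trivIrr G
  hZb0 : Zb ≠ trivIrr G
  hYa : Y ≠ Za
  hYb : Y ≠ Zb
  hab : Za ≠ Zb
  hc0 : ∀ χ, cL l0 χ = ind (trivIrr G) 1 χ + ind Y eY χ + ind Za ea χ + ind Zb eb χ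

namespace TwoData

variable {l0 : LK K} {Y Za Zb : IrrCharacter G} {eY ea eb : ℤ}

theorem l0_apply (D : TwoData l0 Y Za Zb eY ea eb) (h : Hyp t s K) {c : K} (hc : c ≠ 1) :
    (l0.1 : K → ℂ) c = -1 := by
  have h1 := h.sum_LK hc
  rwa [Fintype.sum_eq_single l0 (fun l hl => absurd (D.huniq l) hl)] at h1

/-- the values on `K \ 1` -/
theorem val (D : TwoData l0 Y Za Zb eY ea eb) (h : Hyp t s K) (χ : IrrCharacter G) {c : K}
    (hc : c ≠ 1) : (χ : G → ℂ) (c : G) = (cL l0 χ : ℂ) := by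
  rw [h.irr_apply_K' χ hc, Fintype.sum_eq_single l0 (fun l hl => absurd (D.huniq l) hl),
    D.l0_apply h hc]
  ring

theorem val_t (D : TwoData l0 Y Za Zb eY ea eb) (h : Hyp t s K) (χ : IrrCharacter G) :
    (χ : G → ℂ) t = (cL l0 χ : ℂ) := D.val h χ h.tK_ne_one

theorem val_kType (D : TwoData l0 Y Za Zb eY ea eb) (h : Hyp t s K) (χ : IrrCharacter G) {x : G}
    (hx : KType K x) : (χ : G → ℂ) x = (cL l0 χ : ℂ) := by
  obtain ⟨hx1, g, hg⟩ := hx
  have hcl := isClassFunction_irr χ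
  have h1 := hcl x g⁻¹
  rw [inv_inv] at h1
  rw [← h1]
  have hne : (⟨g⁻¹ * x * g, hg⟩ : K) ≠ 1 := by
    intro hh
    apply hx1
    have h2 : g⁻¹ * x * g = 1 := congrArg Subtype.val hh
    have : x = g * (g⁻¹ * x * g) * g⁻¹ := by group
    rw [this, h2]; group
  exact D.val h χ hne

theorem cL_triv (D : TwoData l0 Y Za Zb eY ea eb) : cL l0 (trivIrr G) = 1 := by
  rw [D.hc0, ind_self, ind_ne _ D.hY0.symm, ind_ne _ D.hZa0.symm, ind_ne _ D.hZb0.symm]; ring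

theorem cL_Y (D : TwoData l0 Y Za Zb eY ea eb) : cL l0 Y = eY := by
  rw [D.hc0, ind_ne _ D.hY0, ind_self, ind_ne _ D.hYa, ind_ne _ D.hYb]; ring

theorem cL_Za (D : TwoData l0 Y Za Zb eY ea eb) : cL l0 Za = ea := by
  rw [D.hc0, ind_ne _ D.hZa0, ind_ne _ D.hYa.symm, ind_self, ind_ne _ D.hab]; ring

theorem cL_Zb (D : TwoData l0 Y Za Zb eY ea eb) : cL l0 Zb = eb := by
  rw [D.hc0, ind_ne _ D.hZb0, ind_ne _ D.hYb.symm, ind_ne _ D.hab.symm, ind_self]; ring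

theorem eY_sq (D : TwoData l0 Y Za Zb eY ea eb) : (eY : ℂ) ^ 2 = 1 := by
  rcases D.heY with h1 | h1 <;> rw [h1] <;> norm_num

theorem ea_sq (D : TwoData l0 Y Za Zb eY ea eb) : (ea : ℂ) ^ 2 = 1 := by
  rcases D.hea with h1 | h1 <;> rw [h1] <;> norm_num

theorem eb_sq (D : TwoData l0 Y Za Zb eY ea eb) : (eb : ℂ) ^ 2 = 1 := by
  rcases D.heb with h1 | h1 <;> rw [h1] <;> norm_num

/-- a sum over all irreducible characters of a function supported on the constituents -/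
theorem sum_split {M : Type*} [AddCommMonoid M] (D : TwoData l0 Y Za Zb eY ea eb)
    (F : IrrCharacter G → M) (hF : ∀ χ, cL l0 χ = 0 → F χ = 0) :
    ∑ χ, F χ = F (trivIrr G) + F Y + F Za + F Zb := by
  set S0 : Finset (IrrCharacter G) := {trivIrr G, Y, Za, Zb} with hS0
  have hout : ∀ χ ∈ Finset.univ, χ ∉ S0 → F χ = 0 := by
    intro χ _ hχ
    rw [hS0] at hχ
    simp only [Finset.mem_insert, Finset.mem_singleton, not_or] at hχ
    apply hF
    rw [D.hc0, ind_ne _ hχ.1, ind_ne _ hχ.2.1, ind_ne _ hχ.2.2.1, ind_ne _ hχ.2.2.2]; ring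
  rw [← Finset.sum_subset (Finset.subset_univ S0) hout, hS0, Finset.sum_insert, Finset.sum_insert,
    Finset.sum_insert, Finset.sum_singleton]
  · simp only [add_assoc]
  · simp only [Finset.mem_singleton]; exact D.hab
  · simp only [Finset.mem_insert, Finset.mem_singleton, not_or]; exact ⟨D.hYa, D.hYb⟩
  · simp only [Finset.mem_insert, Finset.mem_singleton, not_or]
    exact ⟨D.hY0.symm, D.hZa0.symm, D.hZb0.symm⟩

/-- the degree equation -/
theorem deg (D : TwoData l0 Y Za Zb eY ea eb) (h : Hyp t s K) :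
    1 + eY * (irrDeg Y : ℤ) + ea * irrDeg Za + eb * irrDeg Zb = 0 := by
  have h1 := h.cf_deg (G := G) l0.1
  have h2 := D.sum_split (fun χ => cL l0 χ * (irrDeg χ : ℤ))
    (fun χ hχ => by simp only [hχ, zero_mul])
  beta_reduce at h2
  have h3 : ∑ χ : IrrCharacter G, cL l0 χ * (irrDeg χ : ℤ) = 0 := h1
  rw [h3, D.cL_triv, D.cL_Y, D.cL_Za, D.cL_Zb, irrDeg_trivIrr'] at h2
  push_cast at h2
  linarith

/-- the structure equation -/
theorem struct (D : TwoData l0 Y Za Zb eY ea eb) (h : Hyp t s K) (hk : Nat.card K = 2) :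
    (Nat.card G : ℚ) * (1 + eY / (irrDeg Y : ℚ) + ea / (irrDeg Za : ℚ) + eb / (irrDeg Zb : ℚ))
      = 32 := by
  have h1 := h.struct_eq (G := G) l0.2
  have h2 := D.sum_split (fun χ => (χ : G → ℂ) t ^ 2 / (χ : G → ℂ) 1 * (cL l0 χ : ℂ))
    (fun χ hχ => by simp only [hχ, Int.cast_zero, mul_zero])
  beta_reduce at h2
  have h3 : ∑ χ : IrrCharacter G, (χ : G → ℂ) t ^ 2 / (χ : G → ℂ) 1 * (cf K l0.1 χ : ℂ)
      = ∑ χ : IrrCharacter G, (χ : G → ℂ) t ^ 2 / (χ : G → ℂ) 1 * (cL l0 χ : ℂ) := rfl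
  rw [h3, h2] at h1
  simp only [D.val_t h, D.cL_triv, D.cL_Y, D.cL_Za, D.cL_Zb, irrDeg_spec, irrDeg_trivIrr', hk]
    at h1
  have hG0 : (Nat.card G : ℂ) ≠ 0 := by exact_mod_cast (Nat.card_pos (α := G)).ne'
  have h4 : (Nat.card G : ℂ) * (4 * ((2 : ℕ) : ℂ) ^ 3 / (Nat.card G : ℂ)) = 32 := by
    field_simp
    norm_num
  have e1 := D.eY_sq
  have e2 := D.ea_sq
  have e3 := D.eb_sq
  have key : (((Nat.card G : ℚ) * (1 + eY / (irrDeg Y : ℚ) + ea / (irrDeg Za : ℚ)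
      + eb / (irrDeg Zb : ℚ)) : ℚ) : ℂ) = ((32 : ℚ) : ℂ) := by
    push_cast
    rw [← h4, ← h1]
    push_cast
    linear_combination (-(Nat.card G : ℂ) * (eY : ℂ) / (irrDeg Y : ℂ)) * e1
      - ((Nat.card G : ℂ) * (ea : ℂ) / (irrDeg Za : ℂ)) * e2
      - ((Nat.card G : ℂ) * (eb : ℂ) / (irrDeg Zb : ℂ)) * e3
  exact_mod_cast key

open scoped Classical in
/-- the congruence -/
theorem cong (D : TwoData l0 Y Za Zb eY ea eb) (h : Hyp t s K) (hk : Nat.card K = 2)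
    (χ : IrrCharacter G) : (4 : ℤ) ∣ (irrDeg χ : ℤ) - cL l0 χ := by
  obtain ⟨n, hn⟩ := h.cong χ
  have h1 : ∑ c : K, (χ : G → ℂ) c = (irrDeg χ : ℂ) + (cL l0 χ : ℂ) := by
    rw [sum_K_split]
    have : ∀ c ∈ Finset.univ.erase (1 : K), (χ : G → ℂ) (c : G) = (cL l0 χ : ℂ) :=
      fun c hc => D.val h χ (Finset.ne_of_mem_erase hc)
    rw [Finset.sum_congr rfl this, Finset.sum_const, nsmul_eq_mul, card_erase_one, hk]
    simp only [OneMemClass.coe_one, irrDeg_spec]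
    push_cast
    ring
  rw [h1, D.val_t h, hk] at hn
  refine ⟨n - cL l0 χ, ?_⟩
  have h2 : (((irrDeg χ : ℤ) - cL l0 χ : ℤ) : ℂ) = ((4 * (n - cL l0 χ) : ℤ) : ℂ) := by
    push_cast
    push_cast at hn
    linear_combination hn
  exact_mod_cast h2

/-- the sum of the squares of the degrees -/
theorem sq_le (D : TwoData l0 Y Za Zb eY ea eb) :
    1 + irrDeg Y ^ 2 + irrDeg Za ^ 2 + irrDeg Zb ^ 2 ≤ Nat.card G := by
  classical
  have h1 := sum_irrDeg_sq (G := G)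
  rw [← h1]
  have h2 := D.sum_split (fun χ => if cL l0 χ = 0 then 0 else irrDeg χ ^ 2)
    (fun χ hχ => if_pos hχ)
  beta_reduce at h2
  have hY0 : eY ≠ 0 := by rcases D.heY with h1 | h1 <;> rw [h1] <;> norm_num
  have ha0 : ea ≠ 0 := by rcases D.hea with h1 | h1 <;> rw [h1] <;> norm_num
  have hb0 : eb ≠ 0 := by rcases D.heb with h1 | h1 <;> rw [h1] <;> norm_num
  rw [D.cL_triv, D.cL_Y, D.cL_Za, D.cL_Zb, if_neg one_ne_zero, if_neg hY0, if_neg ha0,
    if_neg hb0, irrDeg_trivIrr'] at h2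
  calc 1 + irrDeg Y ^ 2 + irrDeg Za ^ 2 + irrDeg Zb ^ 2
      = ∑ χ : IrrCharacter G, (if cL l0 χ = 0 then 0 else irrDeg χ ^ 2) := by rw [h2]; norm_num
    _ ≤ ∑ χ : IrrCharacter G, irrDeg χ ^ 2 := by
        refine Finset.sum_le_sum fun χ _ => ?_
        split_ifs
        · exact Nat.zero_le _
        · exact le_refl _

/-- the vanishing of `Θ` off the elements of `K`-type -/
theorem vanish (D : TwoData l0 Y Za Zb eY ea eb) (h : Hyp t s K) {x : G} (hx : ¬ KType K x) :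
    1 + (eY : ℂ) * (Y : G → ℂ) x + (ea : ℂ) * (Za : G → ℂ) x + (eb : ℂ) * (Zb : G → ℂ) x = 0 := by
  have h1 := h.Th_vanish l0.1 hx
  rw [Th_apply_eq_sum] at h1
  have h2 := D.sum_split (fun χ => (cL l0 χ : ℂ) * (χ : G → ℂ) x)
    (fun χ hχ => by simp only [hχ, Int.cast_zero, zero_mul])
  beta_reduce at h2
  have h3 : ∑ χ : IrrCharacter G, (cf K l0.1 χ : ℂ) * (χ : G → ℂ) x
      = ∑ χ : IrrCharacter G, (cL l0 χ : ℂ) * (χ : G → ℂ) x := rfl
  rw [h3, h2, D.cL_triv, D.cL_Y, D.cL_Za, D.cL_Zb, trivIrr_apply] at h1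
  push_cast at h1
  linear_combination h1

/-- the count formula -/
theorem count (D : TwoData l0 Y Za Zb eY ea eb) (h : Hyp t s K) (hk : Nat.card K = 2) {x : G}
    (hx : RType K x) :
    (invCount x : ℂ) = (Nat.card G : ℂ) / 16 *
      (1 + (starRingEnd ℂ) ((Y : G → ℂ) x) / (irrDeg Y : ℂ)
        + (starRingEnd ℂ) ((Za : G → ℂ) x) / (irrDeg Za : ℂ)
        + (starRingEnd ℂ) ((Zb : G → ℂ) x) / (irrDeg Zb : ℂ)) := by
  rw [h.count_eq hx]
  have h2 := D.sum_split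
    (fun χ => (χ : G → ℂ) t ^ 2 / (χ : G → ℂ) 1 * (starRingEnd ℂ) ((χ : G → ℂ) x))
    (fun χ hχ => by
      rw [D.val_t h, hχ]; simp)
  beta_reduce at h2
  rw [h2]
  simp only [D.val_t h, D.cL_triv, D.cL_Y, D.cL_Za, D.cL_Zb, irrDeg_spec, hk,
    trivIrr_apply, map_one]
  rw [D.eY_sq, D.ea_sq, D.eb_sq]
  push_cast
  ring

/-- the case `|G| = 12` -/
theorem final12 (D : TwoData l0 Y Za Zb eY ea eb) (h : Hyp t s K) (hk : Nat.card K = 2)
    (hG : Nat.card G = 12) (h1 : eY = -1) (h2 : irrDeg Y = 3) (h3 : ea = 1) (h4 : irrDeg Za = 1)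
    (h5 : eb = 1) (h6 : irrDeg Zb = 1) : CharData K := by
  refine ⟨-1, Y, Or.inr rfl, ?_, ?_, fun x hx => ?_, fun x hx => ?_⟩
  · rw [hG, hk]; norm_num
  · rw [irrDeg_spec, h2, hk]; norm_num
  · rw [D.val_kType h Y hx, D.cL_Y, h1]
  · rw [if_neg (by norm_num)]
    have hc := D.count h hk hx
    have hv := D.vanish h hx.2
    rw [hG, h2, h4, h6] at hc
    rw [h1, h3, h5] at hv
    have hv' := congrArg (starRingEnd ℂ) hv
    simp only [map_add, map_mul, map_one, map_zero, map_intCast] at hv'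
    have hc2 : (invCount x : ℂ) = (starRingEnd ℂ) ((Y : G → ℂ) x) := by
      rw [hc]
      push_cast
      push_cast at hv'
      linear_combination (12 / 16 : ℂ) * hv'
    have hc3 := congrArg (starRingEnd ℂ) hc2
    rw [Complex.conj_natCast, Complex.conj_conj] at hc3
    rw [hc3, hk]
    push_cast
    ring

/-- the case `|G| = 60` -/
theorem final60 (D : TwoData l0 Y Za Zb eY ea eb) (h : Hyp t s K) (hk : Nat.card K = 2)
    (hG : Nat.card G = 60) (h1 : eY = 1) (h2 : irrDeg Y = 5) (h3 : ea = -1) (h4 : irrDeg Za = 3)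
    (h5 : eb = -1) (h6 : irrDeg Zb = 3) : CharData K := by
  refine ⟨1, Y, Or.inl rfl, ?_, ?_, fun x hx => ?_, fun x hx => ?_⟩
  · rw [hG, hk]; norm_num
  · rw [irrDeg_spec, h2, hk]; norm_num
  · rw [D.val_kType h Y hx, D.cL_Y, h1]
  · rw [if_pos rfl]
    have hc := D.count h hk hx
    have hv := D.vanish h hx.2
    rw [hG, h2, h4, h6] at hc
    rw [h1, h3, h5] at hv
    have hv' := congrArg (starRingEnd ℂ) hv
    simp only [map_add, map_mul, map_one, map_zero, map_intCast] at hv'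
    have hc2 : (invCount x : ℂ) = 5 + 2 * (starRingEnd ℂ) ((Y : G → ℂ) x) := by
      rw [hc]
      push_cast
      push_cast at hv'
      linear_combination (-(5 / 4) : ℂ) * hv'
    have hc3 := congrArg (starRingEnd ℂ) hc2
    simp only [map_add, map_mul, Complex.conj_natCast, Complex.conj_conj, map_ofNat] at hc3
    rw [hc3, hk]
    push_cast
    ring

end TwoData

/-- **Piece TWO**: the output of the character theory in the case `k = 2`. -/
theorem Hyp.charData_two (h : Hyp t s K) (hk : Nat.card K = 2) : CharData K := by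
  have hcard : Fintype.card (LK K) = 1 := by rw [h.card_LK, hk]
  obtain ⟨l0, hl0⟩ := Fintype.card_eq_one_iff.mp hcard
  have hreal : irrStar l0.1 = l0.1 := congrArg Subtype.val (hl0 (barL l0))
  have huniq : ∀ l : IrrCharacter K, irrStar l = l → l = trivIrr K ∨ l = l0.1 := by
    intro l _
    by_cases hl : l = trivIrr K
    · exact Or.inl hl
    · exact Or.inr (congrArg Subtype.val (hl0 ⟨l, hl⟩))
  obtain ⟨Z1, Z2, Z3, e1, e2, e3, he1, he2, he3, h10, h20, h30, h12, h13, h23, hc⟩ :=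
    Shape.shape_l0 (h.shapeHyp (G := G) l0 hreal huniq)
  have D1 : TwoData l0 Z1 Z2 Z3 e1 e2 e3 :=
    ⟨hl0, he1, he2, he3, h10, h20, h30, h12, h13, h23, hc⟩
  have D2 : TwoData l0 Z2 Z1 Z3 e2 e1 e3 :=
    ⟨hl0, he2, he1, he3, h20, h10, h30, h12.symm, h23, h13, fun χ => by rw [hc χ]; ring⟩
  have D3 : TwoData l0 Z3 Z1 Z2 e3 e1 e2 :=
    ⟨hl0, he3, he1, he2, h30, h10, h20, h13.symm, h23.symm, h12, fun χ => by rw [hc χ]; ring⟩
  have c1 : (4 : ℤ) ∣ (irrDeg Z1 : ℤ) - e1 := by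
    have := D1.cong h hk Z1
    rwa [D1.cL_Y] at this
  have c2 : (4 : ℤ) ∣ (irrDeg Z2 : ℤ) - e2 := by
    have := D1.cong h hk Z2
    rwa [D1.cL_Za] at this
  have c3 : (4 : ℤ) ∣ (irrDeg Z3 : ℤ) - e3 := by
    have := D1.cong h hk Z3
    rwa [D1.cL_Zb] at this
  have ar := Arith.arith_two (irrDeg Z1) (irrDeg Z2) (irrDeg Z3) (Nat.card G) e1 e2 e3
    (irrDeg_pos _) (irrDeg_pos _) (irrDeg_pos _) Nat.card_pos he1 he2 he3 (D1.deg h)
    (D1.struct h hk) c1 c2 c3 D1.sq_le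
  rcases ar with ⟨hG, hcase⟩ | ⟨hG, hcase⟩
  · rcases hcase with ⟨a1, a2, a3, a4, a5, a6⟩ | ⟨a1, a2, a3, a4, a5, a6⟩ |
      ⟨a1, a2, a3, a4, a5, a6⟩
    · exact D3.final12 h hk hG a5 a6 a1 a2 a3 a4
    · exact D2.final12 h hk hG a3 a4 a1 a2 a5 a6
    · exact D1.final12 h hk hG a1 a2 a3 a4 a5 a6
  · rcases hcase with ⟨a1, a2, a3, a4, a5, a6⟩ | ⟨a1, a2, a3, a4, a5, a6⟩ |
      ⟨a1, a2, a3, a4, a5, a6⟩
    · exact D1.final60 h hk hG a1 a2 a3 a4 a5 a6
    · exact D2.final60 h hk hG a3 a4 a1 a2 a5 a6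
    · exact D3.final60 h hk hG a5 a6 a1 a2 a3 a4

end Cfsg.Agent.Helper21.Bsw
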