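import Mathlib
import Cfsg.Agent.Helper1.MinNormal
import Cfsg.Agent.Helper1.HallAux
import Cfsg.Agent.Lead.Coprime

set_option autoImplicit false
set_option linter.style.haveILetI false

namespace Cfsg.Agent.Helper1

open Pointwise

universe u

/-- Hall property for the factorisation `|G| = m * n`: dominance and conjugacy. -/
def HallProp (G : Type u) [Group G] (m n : ℕ) : Prop :=
  (∀ L : Subgroup G, (Nat.card L).Coprime n → ∃ H : Subgroup G, Nat.card H = m ∧ L ≤ H) ∧
  (∀ H K : Subgroup G, Nat.card H = m → Nat.card K = m → ∃ g : G, MulAut.conj g • H = K)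

theorem card_map_mk'_of_coprime {G : Type u} [Group G] [Finite G] (N : Subgroup G) [N.Normal]
    (X : Subgroup G) (h : (Nat.card X).Coprime (Nat.card N)) :
    Nat.card (X.map (QuotientGroup.mk' N)) = Nat.card X := by
  have h1 := card_comap_mk' N (X.map (QuotientGroup.mk' N))
  rw [comap_map_mk'] at h1
  have h2 := Cfsg.Agent.Helper26.card_sup_mul_card_inf (H := X) (N := N)
    (by rw [Subgroup.normalizer_eq_top]; exact le_top)
  rw [Subgroup.inf_eq_bot_of_coprime h, Subgroup.card_bot, mul_one, h1] at h2
  exact Nat.eq_of_mul_eq_mul_right Nat.card_pos h2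

theorem hall_aux : ∀ (k : ℕ) (G : Type u) [Group G] [Finite G] [Group.IsSolvable G],
    Nat.card G = k → ∀ m n : ℕ, k = m * n → m.Coprime n → HallProp G m n := by
  intro k
  induction k using Nat.strong_induction_on with
  | _ k ih =>
  intro G _ _ _ hk m n hmn hcop
  by_cases htriv : Subsingleton G
  · -- trivial group
    have hk1 : k = 1 := by rw [← hk]; exact Nat.card_eq_one_iff_unique.mpr ⟨htriv, ⟨1⟩⟩
    have hm1 : m = 1 := by
      rw [hk1] at hmn; exact Nat.eq_one_of_mul_eq_one_right hmn.symm
    refine ⟨fun L _ => ⟨⊥, by rw [Subgroup.card_bot, hm1], fun x _ => by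
      rw [Subgroup.mem_bot]; exact Subsingleton.elim _ _⟩, fun H K _ _ => ⟨1, ?_⟩⟩
    rw [map_one, one_smul]
    ext x
    have : x = 1 := Subsingleton.elim _ _
    rw [this]; exact ⟨fun _ => K.one_mem, fun _ => H.one_mem⟩
  · rw [not_subsingleton_iff_nontrivial] at htriv
    obtain ⟨p, N, hp, hNn, hNne, hNp, -, -⟩ := exists_normal_pgroup_of_solvable (G := G)
    haveI := hNn
    haveI : Fact p.Prime := ⟨hp⟩
    obtain ⟨a, ha⟩ := IsPGroup.iff_card.mp hNp
    have ha0 : a ≠ 0 := by
      intro h
      rw [h, pow_zero] at ha
      exact hNne (Subgroup.card_eq_one.mp ha)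
    have hkpos : 0 < k := by rw [← hk]; exact Nat.card_pos
    have hmpos : 0 < m := Nat.pos_of_ne_zero (fun h => by rw [h, zero_mul] at hmn; omega)
    have hnpos : 0 < n := Nat.pos_of_ne_zero (fun h => by rw [h, mul_zero] at hmn; omega)
    have hpa_pos : 0 < p ^ a := pow_pos hp.pos a
    have hQ : Nat.card (G ⧸ N) * p ^ a = k := by rw [← ha, card_quotient_mul_card, hk]
    have hQlt : Nat.card (G ⧸ N) < k := by
      have h1 : 1 < p ^ a := Nat.one_lt_pow ha0 hp.one_lt
      have hQpos : 0 < Nat.card (G ⧸ N) := Nat.card_pos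
      nlinarith
    have hpk : p ^ a ∣ m * n := by rw [← hmn, ← hQ]; exact dvd_mul_left _ _
    have hpdvd : p ∣ m * n := (dvd_pow_self p ha0).trans hpk
    set π := QuotientGroup.mk' N with hπ
    have hπs : Function.Surjective π := QuotientGroup.mk'_surjective N
    have hindex : ∀ X : Subgroup G, Nat.card X = m → X.index = n := by
      intro X hX
      have := X.card_mul_index
      rw [hX, hk, hmn] at this
      exact Nat.eq_of_mul_eq_mul_left hmpos this
    rcases (Nat.Prime.dvd_mul hp).mp hpdvd with hpm | hpn
    · ------------------------------ Case 1: p ∣ m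
      have hpn : ¬ p ∣ n := fun h => by
        have := Nat.dvd_gcd hpm h
        rw [hcop.gcd_eq_one] at this
        exact hp.one_lt.ne' (Nat.dvd_one.mp this)
      have hcop_pa_n : (p ^ a).Coprime n := Nat.Coprime.pow_left a ((Nat.Prime.coprime_iff_not_dvd hp).mpr hpn)
      obtain ⟨m', hm'⟩ : p ^ a ∣ m := hcop_pa_n.dvd_of_dvd_mul_right hpk
      have hQcard : Nat.card (G ⧸ N) = m' * n := by
        apply Nat.eq_of_mul_eq_mul_right hpa_pos
        rw [hQ, hmn, hm']; ring
      have hcop' : m'.Coprime n := Nat.Coprime.coprime_dvd_left ⟨p ^ a, by rw [hm']; ring⟩ hcop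
      obtain ⟨ihD, ihC⟩ := ih _ hQlt (G ⧸ N) rfl m' n hQcard hcop'
      have hNle : ∀ X : Subgroup G, Nat.card X = m → N ≤ X := by
        intro X hX
        apply normal_pgroup_le_of_index N hNp X
        rw [hindex X hX]; exact hpn
      have hcardmap : ∀ X : Subgroup G, Nat.card X = m → Nat.card (X.map π) = m' := by
        intro X hX
        have h1 := card_comap_mk' N (X.map π)
        rw [comap_map_mk', sup_eq_left.mpr (hNle X hX), hX, ha, hm', mul_comm] at h1
        exact (Nat.eq_of_mul_eq_mul_right hpa_pos h1).symm
      refine ⟨?_, ?_⟩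
      · intro L hL
        have hL' : (Nat.card (L.map π)).Coprime n :=
          Nat.Coprime.coprime_dvd_left (Subgroup.card_map_dvd L π) hL
        obtain ⟨H', hH'card, hH'⟩ := ihD (L.map π) hL'
        refine ⟨H'.comap π, ?_, Subgroup.map_le_iff_le_comap.mp hH'⟩
        rw [card_comap_mk', hH'card, ha, hm']; ring
      · intro H K hH hK
        obtain ⟨q, hq⟩ := ihC (H.map π) (K.map π) (hcardmap H hH) (hcardmap K hK)
        obtain ⟨g, rfl⟩ := hπs q
        refine ⟨g, ?_⟩
        have hcardg : Nat.card (MulAut.conj g • H : Subgroup G) = m := by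
          rw [card_conj_smul', hH]
        have h1 : (MulAut.conj g • H).map π = K.map π := by
          rw [Cfsg.Agent.Lead.map_conj_smul]; exact hq
        have h2 := congrArg (Subgroup.comap π) h1
        rw [comap_map_mk', comap_map_mk', sup_eq_left.mpr (hNle _ hcardg),
          sup_eq_left.mpr (hNle K hK)] at h2
        exact h2
    · ------------------------------ Case 2: p ∣ n
      have hpm : ¬ p ∣ m := fun h => by
        have := Nat.dvd_gcd h hpn
        rw [hcop.gcd_eq_one] at this
        exact hp.one_lt.ne' (Nat.dvd_one.mp this)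
      have hcop_pa_m : (p ^ a).Coprime m := Nat.Coprime.pow_left a ((Nat.Prime.coprime_iff_not_dvd hp).mpr hpm)
      obtain ⟨n', hn'⟩ : p ^ a ∣ n := hcop_pa_m.dvd_of_dvd_mul_left hpk
      have hQcard : Nat.card (G ⧸ N) = m * n' := by
        apply Nat.eq_of_mul_eq_mul_right hpa_pos
        rw [hQ, hmn, hn']; ring
      have hn'n : n' ∣ n := ⟨p ^ a, by rw [hn']; ring⟩
      have hpan : p ^ a ∣ n := ⟨n', hn'⟩
      have hcop' : m.Coprime n' := Nat.Coprime.coprime_dvd_right hn'n hcop
      obtain ⟨ihD, ihC⟩ := ih _ hQlt (G ⧸ N) rfl m n' hQcard hcop'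
      have hnormalizer : ∀ X : Subgroup G, X ≤ Subgroup.normalizer (N : Set G) := by
        intro X; rw [Subgroup.normalizer_eq_top]; exact le_top
      have hsolvN : Group.IsSolvable N := inferInstance
      refine ⟨?_, ?_⟩
      · intro L hL
        have hLN : (Nat.card L).Coprime (Nat.card N) := by
          rw [ha]; exact Nat.Coprime.coprime_dvd_right hpan hL
        have hL' : (Nat.card (L.map π)).Coprime n' :=
          Nat.Coprime.coprime_dvd_left (Subgroup.card_map_dvd L π)
            (Nat.Coprime.coprime_dvd_right hn'n hL)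
        obtain ⟨V', hV'card, hV'⟩ := ihD (L.map π) hL'
        set V := V'.comap π with hV
        have hVcard : Nat.card V = m * p ^ a := by rw [card_comap_mk', hV'card, ha]
        have hNV : N ≤ V := by
          intro x hx
          rw [hV, Subgroup.mem_comap]
          have : π x = 1 := (QuotientGroup.eq_one_iff x).mpr hx
          rw [this]; exact V'.one_mem
        have hLV : L ≤ V := Subgroup.map_le_iff_le_comap.mp hV'
        -- Schur–Zassenhaus existence inside V
        haveI : (N.subgroupOf V).Normal := Subgroup.normal_subgroupOf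
        have hNVcard : Nat.card (N.subgroupOf V) = p ^ a := by
          rw [← ha]; exact Nat.card_congr (Subgroup.subgroupOfEquivOfLe hNV).toEquiv
        have hNVindex : (N.subgroupOf V).index = m := by
          have := (N.subgroupOf V).card_mul_index
          rw [hNVcard, hVcard, mul_comm] at this
          exact Nat.eq_of_mul_eq_mul_right hpa_pos this
        obtain ⟨H₀, hH₀⟩ := Subgroup.exists_right_complement'_of_coprime
          (N := N.subgroupOf V) (by rw [hNVcard, hNVindex]; exact hcop_pa_m)
        have hH₀card : Nat.card H₀ = m := by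
          have := hH₀.card_mul_card
          rw [hNVcard, hVcard, mul_comm] at this
          exact Nat.eq_of_mul_eq_mul_right hpa_pos this
        set H := H₀.map V.subtype with hH
        have hHcard : Nat.card H = m := by
          rw [hH, Subgroup.card_map_of_injective V.subtype_injective, hH₀card]
        have hHV : H ≤ V := Subgroup.map_subtype_le H₀
        have hHN : (Nat.card H).Coprime (Nat.card N) := by
          rw [hHcard, ha]; exact hcop_pa_m.symm
        have hHNinf : H ⊓ N = ⊥ := Subgroup.inf_eq_bot_of_coprime hHN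
        have hNHsup : N ⊔ H = V := by
          apply Subgroup.eq_of_le_of_card_ge (sup_le hNV hHV)
          have h2 := Cfsg.Agent.Helper26.card_sup_mul_card_inf (H := H) (N := N) (hnormalizer H)
          rw [hHNinf, Subgroup.card_bot, mul_one, hHcard, ha, sup_comm] at h2
          rw [h2, hVcard]
        set U := N ⊔ L with hU
        have hNU : N ≤ U := le_sup_left
        have hUV : U ≤ N ⊔ H := by rw [hNHsup]; exact sup_le hNV hLV
        have hded := dedekind_normal N H U hNU hUV
        set B := H ⊓ U with hB
        have hBcard : Nat.card B = Nat.card L := by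
          have h1 := Cfsg.Agent.Helper26.card_sup_mul_card_inf (H := B) (N := N) (hnormalizer B)
          have h2 : B ⊓ N = ⊥ := by
            rw [eq_bot_iff, ← hHNinf]
            exact inf_le_inf_right N inf_le_left
          rw [h2, Subgroup.card_bot, mul_one, sup_comm, hded] at h1
          have h3 := Cfsg.Agent.Helper26.card_sup_mul_card_inf (H := L) (N := N) (hnormalizer L)
          rw [Subgroup.inf_eq_bot_of_coprime hLN, Subgroup.card_bot, mul_one, sup_comm] at h3
          rw [h3] at h1
          exact (Nat.eq_of_mul_eq_mul_right Nat.card_pos h1).symm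
        obtain ⟨c, -, hc⟩ := Cfsg.Agent.Lead.sz_conj_rel (K := N) (A := L) (B := B)
          (hnormalizer L) hLN (Or.inr hsolvN) inf_le_right hBcard
        refine ⟨(MulAut.conj c)⁻¹ • H, ?_, ?_⟩
        · rw [← map_inv, card_conj_smul', hHcard]
        · rw [Subgroup.subset_pointwise_smul_iff, inv_inv, hc]
          exact inf_le_left
      · intro H K hH hK
        have hHN : (Nat.card H).Coprime (Nat.card N) := by
          rw [hH, ha]; exact hcop_pa_m.symm
        have hKN : (Nat.card K).Coprime (Nat.card N) := by
          rw [hK, ha]; exact hcop_pa_m.symm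
        obtain ⟨q, hq⟩ := ihC (H.map π) (K.map π)
          (by rw [card_map_mk'_of_coprime N H hHN, hH])
          (by rw [card_map_mk'_of_coprime N K hKN, hK])
        obtain ⟨g, rfl⟩ := hπs q
        have h1 : (MulAut.conj g • H).map π = K.map π := by
          rw [Cfsg.Agent.Lead.map_conj_smul]; exact hq
        have h2 : MulAut.conj g • H ≤ N ⊔ K := by
          have := Subgroup.le_comap_map π (MulAut.conj g • H)
          rw [h1, comap_map_mk', sup_comm] at this
          exact this
        obtain ⟨c, -, hc⟩ := Cfsg.Agent.Lead.sz_conj_rel (K := N) (A := K) (B := MulAut.conj g • H)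
          (hnormalizer K) hKN (Or.inr hsolvN) h2 (by rw [card_conj_smul', hH, hK])
        refine ⟨c⁻¹ * g, ?_⟩
        rw [map_mul, mul_smul, ← hc, map_inv, inv_smul_smul]

end Cfsg.Agent.Helper1
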