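import Mathlib
import Cfsg.Agent.Helper1.FpfCompl
import Cfsg.Agent.Helper23.CNFrobenius
import Cfsg.Agent.S1477
import Cfsg.Agent.S0044
import Cfsg.Agent.Helper7.Fitting
import Cfsg.Agent.Helper14.PCore
import Cfsg.Agent.Helper17.Basic
import Cfsg.Agent.Helper1.Hall
import Cfsg.Agent.Lead.Hall

/-!
Solvable CN-groups: auxiliary lemmas for the trichotomy (nilpotent / Frobenius / three-step).
-/

set_option autoImplicit false
set_option linter.style.haveILetI false

namespace Cfsg.Agent.Helper1.CNSolv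

open Subgroup
open scoped commutatorElement

/-- In a nilpotent group, an element of prime order whose cyclic subgroup is normal is central. -/
theorem central_of_normal_prime {D : Type*} [Group D] [hD : Group.IsNilpotent D] (z : D) {q : ℕ}
    (hq : q.Prime) (hz : orderOf z = q) (hnorm : ∀ d : D, d * z * d⁻¹ ∈ zpowers z) :
    ∀ d : D, d * z = z * d := by
  have hZn : (zpowers z).Normal := by
    constructor
    intro x hx d
    obtain ⟨k, rfl⟩ := hx
    have : d * z ^ k * d⁻¹ = (d * z * d⁻¹) ^ k := by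
      simp [conj_zpow]
    rw [this]
    exact Subgroup.zpow_mem _ (hnorm d) k
  have hcard : Nat.card (zpowers z) = q := by rw [Nat.card_zpowers, hz]
  have hle : ⁅zpowers z, (⊤ : Subgroup D)⁆ ≤ zpowers z := Subgroup.commutator_le_left _ _
  by_cases hbot : ⁅zpowers z, (⊤ : Subgroup D)⁆ = ⊥
  · intro d
    have h1 : ⁅z, d⁆ ∈ ⁅zpowers z, (⊤ : Subgroup D)⁆ :=
      Subgroup.commutator_mem_commutator (mem_zpowers z) (Subgroup.mem_top d)
    rw [hbot, Subgroup.mem_bot, commutatorElement_def] at h1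
    -- z d z⁻¹ d⁻¹ = 1
    have h2 : z * d = d * z := by
      have := congrArg (fun t => t * d * z) h1
      simpa [mul_assoc] using this
    exact h2.symm
  · exfalso
    have heq : ⁅zpowers z, (⊤ : Subgroup D)⁆ = zpowers z := by
      have hdvd : Nat.card (⁅zpowers z, (⊤ : Subgroup D)⁆ : Subgroup D) ∣ q := by
        rw [← hcard]; exact Subgroup.card_dvd_of_le hle
      rcases (Nat.dvd_prime hq).mp hdvd with h1 | h1
      · exact absurd (Subgroup.card_eq_one.mp h1) hbot
      · haveI : Finite (zpowers z) := Nat.finite_of_card_ne_zero (by rw [hcard]; exact hq.ne_zero)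
        exact Subgroup.eq_of_le_of_card_ge hle (by rw [h1, hcard])
    have hall : ∀ n : ℕ, zpowers z ≤ (⊤ : Subgroup D).lowerCentralSeries n := by
      intro n
      induction n with
      | zero => simp
      | succ n ih =>
        rw [Subgroup.lowerCentralSeries_succ]
        calc zpowers z = ⁅zpowers z, (⊤ : Subgroup D)⁆ := heq.symm
          _ ≤ ⁅(⊤ : Subgroup D).lowerCentralSeries n, (⊤ : Subgroup D)⁆ :=
              Subgroup.commutator_mono ih le_rfl
    have h0 := hall (Group.nilpotencyClass D)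
    rw [Subgroup.lowerCentralSeries_nilpotencyClass, le_bot_iff] at h0
    rw [h0, Subgroup.card_bot] at hcard
    exact hq.one_lt.ne hcard


variable {G : Type*} [Group G]

/-- `p`-subgroups of a group `E` acting fixed-point-freely on `K` are cyclic or quaternion. -/
theorem pSubgroup_cyclic_or_quat [Finite G] {K : Subgroup G} [K.Normal] (hK : K ≠ ⊥)
    (E : Subgroup G) (hfpf : ∀ a ∈ E, a ≠ 1 → K ⊓ Subgroup.centralizer {a} = ⊥)
    {r : ℕ} [Fact r.Prime] (P : Subgroup E) (hP : IsPGroup r P) :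
    IsCyclic P ∨ (r = 2 ∧ ∃ n : ℕ, Nonempty (P ≃* QuaternionGroup (2 ^ n))) := by
  have hQ : IsPGroup r (P.map E.subtype) := hP.map _
  have hfpf' : ∀ a ∈ P.map E.subtype, a ≠ 1 → K ⊓ Subgroup.centralizer {a} = ⊥ :=
    fun a ha => hfpf a (Subgroup.map_subtype_le P ha)
  let e : P ≃* P.map E.subtype := P.equivMapOfInjective E.subtype E.subtype_injective
  rcases fpf_pgroup_cyclic_or_quaternion hK (P.map E.subtype) hQ hfpf' with h | ⟨h2, n, ⟨f⟩⟩
  · left
    haveI := h
    exact isCyclic_of_surjective e.symm.toMonoidHom e.symm.surjective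
  · right
    exact ⟨h2, n, ⟨e.trans f⟩⟩

/-- A nilpotent group acting fixed-point-freely on `K ≠ 1` is cyclic, or the product of a cyclic
group of odd order and a generalized quaternion group. -/
theorem nilpotent_fpf_structure [Finite G] {K : Subgroup G} [K.Normal] (hK : K ≠ ⊥)
    (E : Subgroup G) (hE : Group.IsNilpotent E)
    (hfpf : ∀ a ∈ E, a ≠ 1 → K ⊓ Subgroup.centralizer {a} = ⊥) :
    IsCyclic E ∨ ∃ C Q : Subgroup G, C ⊔ Q = E ∧ (∀ a ∈ C, ∀ b ∈ Q, a * b = b * a) ∧ IsCyclic C ∧
      Odd (Nat.card C) ∧ ∃ n : ℕ, Nonempty (↥Q ≃* QuaternionGroup (2 ^ n)) := by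
  haveI := hE
  obtain ⟨S⟩ : Nonempty (Sylow 2 E) := inferInstance
  rcases pSubgroup_cyclic_or_quat hK E hfpf (S : Subgroup E) S.isPGroup' with hSc | ⟨-, n, ⟨e⟩⟩
  · left
    haveI : IsZGroup E := by
      refine ⟨fun r hr P => ?_⟩
      haveI : Fact r.Prime := ⟨hr⟩
      rcases pSubgroup_cyclic_or_quat hK E hfpf (P : Subgroup E) P.isPGroup' with h | ⟨h2, -⟩
      · exact h
      · subst h2
        haveI := hSc
        exact isCyclic_of_surjective (Sylow.equiv S P).toMonoidHom (Sylow.equiv S P).surjective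
    infer_instance
  · right
    haveI hSn : (S : Subgroup E).Normal := inferInstance
    obtain ⟨C', hC'⟩ := Subgroup.exists_right_complement'_of_coprime (N := (S : Subgroup E))
      S.card_coprime_index
    have hC'card : Nat.card C' = (S : Subgroup E).index := hC'.symm.index_eq_card.symm
    have hC'odd : (Nat.card C').Coprime 2 := by
      rw [hC'card]
      exact ((Nat.Prime.coprime_iff_not_dvd Nat.prime_two).mpr S.not_dvd_index).symm
    have hinj : Function.Injective E.subtype := E.subtype_injective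
    have hCcard : Nat.card (C'.map E.subtype) = Nat.card C' := Subgroup.card_map_of_injective hinj
    have hCE : C'.map E.subtype ≤ E := Subgroup.map_subtype_le C'
    have hQE : (S : Subgroup E).map E.subtype ≤ E := Subgroup.map_subtype_le _
    refine ⟨C'.map E.subtype, (S : Subgroup E).map E.subtype, ?_, ?_, ?_, ?_, n, ?_⟩
    · rw [← Subgroup.map_sup, sup_comm, hC'.sup_eq_top, ← MonoidHom.range_eq_map,
        Subgroup.range_subtype]
    · rintro _ ⟨a', ha', rfl⟩ _ ⟨b', hb', rfl⟩
      obtain ⟨k, hk⟩ := (IsPGroup.iff_orderOf.mp S.isPGroup') ⟨b', hb'⟩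
      have hbk : orderOf (E.subtype b') = 2 ^ k := by
        rw [← hk]
        have h1 : orderOf (E.subtype b') = orderOf b' := orderOf_injective E.subtype hinj b'
        rw [h1]
        exact (Subgroup.orderOf_coe (⟨b', hb'⟩ : (S : Subgroup E)))
      have hacop : (orderOf (E.subtype a')).Coprime 2 := by
        have h1 : orderOf (E.subtype a') = orderOf a' := orderOf_injective E.subtype hinj a'
        rw [h1]
        apply Nat.Coprime.coprime_dvd_left _ hC'odd
        have h2 : orderOf (⟨a', ha'⟩ : C') ∣ Nat.card C' := orderOf_dvd_natCard _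
        rwa [Subgroup.orderOf_mk] at h2
      exact (Cfsg.Agent.S1477.commute_in E hE 2 (E.subtype b') (E.subtype a') b'.2 a'.2 k hbk
        hacop).symm
    · haveI : Group.IsNilpotent (C'.map E.subtype) :=
        Cfsg.Agent.Helper23.isNilpotent_of_le hCE hE
      haveI : IsZGroup (C'.map E.subtype) := by
        refine ⟨fun r hr P => ?_⟩
        haveI : Fact r.Prime := ⟨hr⟩
        rcases pSubgroup_cyclic_or_quat hK (C'.map E.subtype) (fun a ha => hfpf a (hCE ha))
          (P : Subgroup (C'.map E.subtype)) P.isPGroup' with h | ⟨h2, -⟩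
        · exact h
        · subst h2
          obtain ⟨k, hk⟩ := IsPGroup.iff_card.mp P.isPGroup'
          have hdvd : Nat.card (P : Subgroup (C'.map E.subtype)) ∣ Nat.card (C'.map E.subtype) :=
            Subgroup.card_subgroup_dvd_card _
          have hcop : (Nat.card (P : Subgroup (C'.map E.subtype))).Coprime 2 :=
            Nat.Coprime.coprime_dvd_left hdvd (hCcard ▸ hC'odd)
          have h1 : Nat.card (P : Subgroup (C'.map E.subtype)) = 1 := by
            rw [hk] at hcop ⊢
            rcases Nat.eq_zero_or_pos k with h0 | h0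
            · rw [h0, pow_zero]
            · exfalso
              have : (2 : ℕ) ∣ 2 ^ k := dvd_pow_self 2 h0.ne'
              have h3 := Nat.Coprime.eq_one_of_dvd hcop.symm this
              omega
          haveI : Subsingleton (P : Subgroup (C'.map E.subtype)) :=
            (Nat.card_eq_one_iff_unique.mp h1).1
          exact isCyclic_of_subsingleton
      infer_instance
    · rw [hCcard]
      exact hC'odd.odd_of_right
    · exact ⟨(((S : Subgroup E).equivMapOfInjective E.subtype hinj).symm).trans e⟩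


open Cfsg.Agent.Helper14 (pCore_isPGroup le_pCore pCore_le_sylow)

/-- In a non-nilpotent solvable CN-group without nontrivial normal Sylow subgroups, the Fitting
subgroup is `O_p(G)` for a single prime `p`. -/
theorem fitting_eq_pCore [Finite G] [Group.IsSolvable G] (hCN : Cfsg.IsCNGroup G)
    (hnn : ¬ Group.IsNilpotent G)
    (hns : ∀ (q : ℕ) [Fact q.Prime] (P : Sylow q G), (P : Subgroup G).Normal →
      (P : Subgroup G) = ⊥) :
    ∃ p : ℕ, ∃ _ : Fact p.Prime, Cfsg.pCore p G ≠ ⊥ ∧
      Cfsg.fittingSubgroup G = Cfsg.pCore p G := by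
  have hF : Cfsg.fittingSubgroup G = Cfsg.Agent.Helper7.pCoreSup G :=
    Cfsg.Agent.Helper7.fittingSubgroup_eq_pCoreSup
  have hF1 : Cfsg.fittingSubgroup G ≠ ⊥ := by
    intro h0
    have h1 := Cfsg.Agent.S0044.result (G := G)
    rw [h0] at h1
    have h2 : (⊤ : Subgroup G) ≤ ⊥ := by
      refine le_trans ?_ h1
      intro x _
      rw [Subgroup.mem_centralizer_iff]
      intro y hy
      rw [Subgroup.coe_bot, Set.mem_singleton_iff] at hy
      subst hy
      simp
    haveI : Subsingleton G := by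
      constructor
      intro a b
      have ha : a ∈ (⊥ : Subgroup G) := h2 (Subgroup.mem_top a)
      have hb : b ∈ (⊥ : Subgroup G) := h2 (Subgroup.mem_top b)
      rw [Subgroup.mem_bot] at ha hb
      rw [ha, hb]
    exact hnn inferInstance
  obtain ⟨p, hp1⟩ : ∃ p : Nat.Primes, Cfsg.pCore (p : ℕ) G ≠ ⊥ := by
    by_contra hcon
    push Not at hcon
    apply hF1
    rw [hF]
    unfold Cfsg.Agent.Helper7.pCoreSup
    rw [eq_bot_iff]
    exact iSup_le (fun q => (hcon q).le)
  haveI hpf : Fact (p : ℕ).Prime := ⟨p.2⟩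
  refine ⟨(p : ℕ), hpf, hp1, ?_⟩
  have hother : ∀ q : Nat.Primes, q ≠ p → Cfsg.pCore (q : ℕ) G = ⊥ := by
    intro q hqp
    by_contra hq1
    haveI hqf : Fact (q : ℕ).Prime := ⟨q.2⟩
    have hne : (p : ℕ) ≠ (q : ℕ) := fun h => hqp (Subtype.ext h.symm)
    obtain ⟨⟨a, ha⟩, ha1⟩ := (Subgroup.ne_bot_iff_exists_ne_one).mp hq1
    have ha1' : a ≠ 1 := fun h => ha1 (Subtype.ext h)
    obtain ⟨⟨n, hn⟩, hn1⟩ := (Subgroup.ne_bot_iff_exists_ne_one).mp hp1
    have hn1' : n ≠ 1 := fun h => hn1 (Subtype.ext h)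
    obtain ⟨P⟩ : Nonempty (Sylow (p : ℕ) G) := inferInstance
    have hpP : Cfsg.pCore (p : ℕ) G ≤ (P : Subgroup G) := pCore_le_sylow (p : ℕ) P
    have hdis : Disjoint (Cfsg.pCore (p : ℕ) G) (Cfsg.pCore (q : ℕ) G) :=
      IsPGroup.disjoint_of_ne (p : ℕ) (q : ℕ) hne _ _ (pCore_isPGroup (p : ℕ))
        (pCore_isPGroup (q : ℕ))
    have hcomm : ∀ b ∈ Cfsg.pCore (q : ℕ) G, ∀ m ∈ (P : Subgroup G), b * m = m * b := by
      intro b hb m hm
      by_cases hb1 : b = 1
      · subst hb1; simp
      obtain ⟨k, hk⟩ := (IsPGroup.iff_orderOf.mp (pCore_isPGroup (G := G) (q : ℕ))) ⟨b, hb⟩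
      have hbk : orderOf b = (q : ℕ) ^ k := by
        rw [← hk]; exact (Subgroup.orderOf_mk b hb).symm
      obtain ⟨j, hj⟩ := IsPGroup.iff_card.mp P.isPGroup'
      have hcop : (Nat.card (P : Subgroup G)).Coprime (q : ℕ) := by
        rw [hj]
        exact Nat.Coprime.pow_left _ ((Nat.coprime_primes p.2 q.2).mpr hne)
      have hbn : b * n = n * b :=
        ((Subgroup.commute_of_normal_of_disjoint _ _ (Cfsg.pCore_normal (p : ℕ) G)
          (Cfsg.pCore_normal (q : ℕ) G) hdis n b hn hb).eq).symm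
      exact Cfsg.Agent.Helper23.cn_centralizes hCN (P : Subgroup G) P.isPGroup'.isNilpotent
        (q : ℕ) b k hbk hcop n (hpP hn) hn1' hbn m hm
    haveI : (Cfsg.pCore (q : ℕ) G).Normal := Cfsg.pCore_normal (q : ℕ) G
    have hPC : (P : Subgroup G) ≤ Subgroup.centralizer (Cfsg.pCore (q : ℕ) G : Set G) := by
      intro m hm
      rw [Subgroup.mem_centralizer_iff]
      intro b hb
      exact hcomm b hb m hm
    have hCle : Subgroup.centralizer (Cfsg.pCore (q : ℕ) G : Set G) ≤
        Subgroup.centralizer ({a} : Set G) := by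
      apply Subgroup.centralizer_le
      intro x hx
      rw [Set.mem_singleton_iff] at hx
      subst hx
      exact ha
    have hCnil : Group.IsNilpotent (Subgroup.centralizer (Cfsg.pCore (q : ℕ) G : Set G)) :=
      Cfsg.Agent.Helper23.isNilpotent_of_le hCle (hCN a ha1')
    have hPn : (P : Subgroup G).Normal :=
      Cfsg.Agent.Helper23.sylow_normal_of_le_nilpotent_normal P _ hCnil hPC
    have hPbot := hns (p : ℕ) P hPn
    have : n ∈ (⊥ : Subgroup G) := hPbot ▸ hpP hn
    exact hn1' (Subgroup.mem_bot.mp this)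
  rw [hF]
  unfold Cfsg.Agent.Helper7.pCoreSup
  apply le_antisymm
  · apply iSup_le
    intro q
    by_cases hqp : q = p
    · rw [hqp]
    · rw [hother q hqp]; exact bot_le
  · exact le_iSup (fun q : Nat.Primes => Cfsg.pCore (q : ℕ) G) p


/-- If `F(G) = O_p(G)` in a solvable CN-group, every nontrivial `p'`-element acts
fixed-point-freely on `O_p(G)`. -/
theorem fpf_of_coprime [Finite G] [Group.IsSolvable G] (hCN : Cfsg.IsCNGroup G) {p : ℕ}
    [hp : Fact p.Prime] (hF : Cfsg.fittingSubgroup G = Cfsg.pCore p G) (a : G) (ha : a ≠ 1)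
    (hcop : (orderOf a).Coprime p) :
    Cfsg.pCore p G ⊓ Subgroup.centralizer {a} = ⊥ := by
  rw [eq_bot_iff]
  rintro h ⟨hhH, hhC⟩
  rw [Subgroup.mem_bot]
  by_contra hh1
  have hHp : IsPGroup p (Cfsg.pCore p G) := pCore_isPGroup p
  have ho1 : orderOf a ≠ 1 := fun h1 => ha (orderOf_eq_one_iff.mp h1)
  have ho0 : orderOf a ≠ 0 := (orderOf_pos a).ne'
  set r := (orderOf a).minFac with hr
  have hrp : r.Prime := Nat.minFac_prime ho1
  have hrdvd : r ∣ orderOf a := Nat.minFac_dvd _
  haveI : Fact r.Prime := ⟨hrp⟩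
  set a' := a ^ (orderOf a / r) with ha'
  have hoa' : orderOf a' = r := orderOf_pow_orderOf_div ho0 hrdvd
  have hrcop : r.Coprime p := Nat.Coprime.coprime_dvd_left hrdvd hcop
  have hah : a * h = h * a := by
    have := (Subgroup.mem_centralizer_iff.mp hhC) a (Set.mem_singleton a)
    exact this
  have ha'h : a' * h = h * a' := by
    have hc : Commute a h := hah
    exact (hc.pow_left _).eq
  obtain ⟨j, hj⟩ := IsPGroup.iff_card.mp hHp
  have hcardcop : (Nat.card (Cfsg.pCore p G)).Coprime r := by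
    rw [hj]; exact Nat.Coprime.pow_left _ hrcop.symm
  have hall := Cfsg.Agent.Helper23.cn_centralizes hCN (Cfsg.pCore p G) hHp.isNilpotent r a' 1
    (by rw [hoa', pow_one]) hcardcop h hhH hh1 ha'h
  have hmem : a' ∈ Subgroup.centralizer (Cfsg.fittingSubgroup G : Set G) := by
    rw [hF, Subgroup.mem_centralizer_iff]
    intro m hm
    exact (hall m hm).symm
  have hmem2 : a' ∈ Cfsg.pCore p G := hF ▸ Cfsg.Agent.S0044.result hmem
  obtain ⟨k, hk⟩ := (IsPGroup.iff_orderOf.mp hHp) ⟨a', hmem2⟩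
  rw [Subgroup.orderOf_mk, hoa'] at hk
  have hpr : p ∣ r := by
    rcases Nat.eq_zero_or_pos k with h0 | h0
    · rw [h0, pow_zero] at hk; exact absurd hk hrp.one_lt.ne'
    · rw [hk]; exact dvd_pow_self p h0.ne'
  have := Nat.Coprime.eq_one_of_dvd hrcop.symm hpr
  exact hp.out.one_lt.ne' this


/-- In a nilpotent group acting fixed-point-freely, elements of the same prime order generate
the same subgroup. -/
theorem nilpotent_fpf_unique [Finite G] {K : Subgroup G} [K.Normal] (hK : K ≠ ⊥)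
    (D : Subgroup G) (hD : Group.IsNilpotent D)
    (hfpf : ∀ a ∈ D, a ≠ 1 → K ⊓ Subgroup.centralizer {a} = ⊥) {q : ℕ} (hq : q.Prime)
    (z w : G) (hz : z ∈ D) (hw : w ∈ D) (hzq : orderOf z = q) (hwq : orderOf w = q) :
    w ∈ zpowers z := by
  haveI := hD
  haveI : Fact q.Prime := ⟨hq⟩
  obtain ⟨Q'⟩ : Nonempty (Sylow q D) := inferInstance
  haveI hQn : (Q' : Subgroup D).Normal := inferInstance
  have hmemQ : ∀ x : G, ∀ hx : x ∈ D, orderOf x = q → x ∈ (Q' : Subgroup D).map D.subtype := by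
    intro x hx hxq
    have hp : IsPGroup q (zpowers (⟨x, hx⟩ : D)) := by
      apply IsPGroup.of_card (n := 1)
      rw [Nat.card_zpowers, Subgroup.orderOf_mk, hxq, pow_one]
    obtain ⟨R, hR⟩ := hp.exists_le_sylow
    haveI := Sylow.unique_of_normal Q' hQn
    have hRQ : R = Q' := Subsingleton.elim R Q'
    refine ⟨⟨x, hx⟩, ?_, rfl⟩
    rw [← hRQ]
    exact hR (mem_zpowers _)
  have hQp : IsPGroup q ((Q' : Subgroup D).map D.subtype) := Q'.isPGroup'.map _
  have hQD : (Q' : Subgroup D).map D.subtype ≤ D := Subgroup.map_subtype_le _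
  have hXle : zpowers z ≤ (Q' : Subgroup D).map D.subtype := by
    rw [Subgroup.zpowers_le]; exact hmemQ z hz hzq
  have hYle : zpowers w ≤ (Q' : Subgroup D).map D.subtype := by
    rw [Subgroup.zpowers_le]; exact hmemQ w hw hwq
  have heq := fpf_pgroup_unique hK ((Q' : Subgroup D).map D.subtype) hQp
    (fun a ha => hfpf a (hQD ha)) (zpowers z) (zpowers w) hXle hYle
    (by rw [Nat.card_zpowers, hzq]) (by rw [Nat.card_zpowers, hwq])
  rw [heq]
  exact mem_zpowers w

/-- In a nilpotent group acting fixed-point-freely, elements of prime order are central. -/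
theorem nilpotent_fpf_central [Finite G] {K : Subgroup G} [K.Normal] (hK : K ≠ ⊥)
    (D : Subgroup G) (hD : Group.IsNilpotent D)
    (hfpf : ∀ a ∈ D, a ≠ 1 → K ⊓ Subgroup.centralizer {a} = ⊥) {q : ℕ} (hq : q.Prime)
    (z : G) (hz : z ∈ D) (hzq : orderOf z = q) : ∀ d ∈ D, d * z = z * d := by
  haveI := hD
  have key := central_of_normal_prime (D := D) (⟨z, hz⟩ : D) hq
    (by rw [Subgroup.orderOf_mk, hzq]) (by
      intro d
      have hconj : orderOf ((d : G) * z * (d : G)⁻¹) = q := by
        have := orderOf_injective (MulAut.conj (d : G)).toMonoidHom (MulAut.conj (d : G)).injective z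
        simp only [MulEquiv.coe_toMonoidHom, MulAut.conj_apply] at this
        rw [this, hzq]
      have hmem : (d : G) * z * (d : G)⁻¹ ∈ D := D.mul_mem (D.mul_mem d.2 hz) (D.inv_mem d.2)
      obtain ⟨k, hk⟩ := nilpotent_fpf_unique hK D hD hfpf hq z _ hz hmem hzq hconj
      refine ⟨k, ?_⟩
      apply Subtype.ext
      simp only [Subgroup.coe_zpow, Subgroup.coe_mul, Subgroup.coe_inv]
      exact hk)
  intro d hd
  have := key ⟨d, hd⟩
  exact congrArg Subtype.val this


/-- A nilpotent group of odd order acting fixed-point-freely is cyclic. -/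
theorem isCyclic_of_nilpotent_fpf_odd [Finite G] {K : Subgroup G} [K.Normal] (hK : K ≠ ⊥)
    (D : Subgroup G) (hD : Group.IsNilpotent D)
    (hfpf : ∀ a ∈ D, a ≠ 1 → K ⊓ Subgroup.centralizer {a} = ⊥) (hodd : Odd (Nat.card D)) :
    IsCyclic D := by
  haveI := hD
  haveI : IsZGroup D := by
    refine ⟨fun r hr P => ?_⟩
    haveI : Fact r.Prime := ⟨hr⟩
    rcases pSubgroup_cyclic_or_quat hK D hfpf (P : Subgroup D) P.isPGroup' with h | ⟨h2, -⟩
    · exact h
    · subst h2
      obtain ⟨k, hk⟩ := IsPGroup.iff_card.mp P.isPGroup'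
      have hdvd : Nat.card (P : Subgroup D) ∣ Nat.card D := Subgroup.card_subgroup_dvd_card _
      have hcop : (Nat.card (P : Subgroup D)).Coprime 2 :=
        Nat.Coprime.coprime_dvd_left hdvd hodd.coprime_two_right
      have h1 : Nat.card (P : Subgroup D) = 1 := by
        rw [hk] at hcop ⊢
        rcases Nat.eq_zero_or_pos k with h0 | h0
        · rw [h0, pow_zero]
        · exfalso
          have : (2 : ℕ) ∣ 2 ^ k := dvd_pow_self 2 h0.ne'
          have h3 := Nat.Coprime.eq_one_of_dvd hcop.symm this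
          omega
      haveI : Subsingleton (P : Subgroup D) := (Nat.card_eq_one_iff_unique.mp h1).1
      exact isCyclic_of_subsingleton
  infer_instance


/-- Hall `p'`-subgroup data for a solvable CN-group with `F(G) = O_p(G)`. -/
theorem exists_hall_compl [Finite G] [Group.IsSolvable G] (hCN : Cfsg.IsCNGroup G)
    (hnn : ¬ Group.IsNilpotent G) {p : ℕ} [hp : Fact p.Prime] (hH1 : Cfsg.pCore p G ≠ ⊥)
    (hF : Cfsg.fittingSubgroup G = Cfsg.pCore p G) :
    ∃ (D : Subgroup G) (k : ℕ), Nat.card G = p ^ k * Nat.card D ∧ (Nat.card D).Coprime p ∧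
      D ≠ ⊥ ∧ Group.IsNilpotent D ∧
      (∀ a ∈ D, a ≠ 1 → Cfsg.pCore p G ⊓ Subgroup.centralizer {a} = ⊥) := by
  set H := Cfsg.pCore p G with hH
  haveI hHn : H.Normal := Cfsg.pCore_normal p G
  have hHp : IsPGroup p H := pCore_isPGroup p
  obtain ⟨h, hHcard⟩ := IsPGroup.iff_card.mp hHp
  obtain ⟨k, m, hpm, hGcard⟩ :=
    Nat.exists_eq_pow_mul_and_not_dvd (Nat.card_pos (α := G)).ne' p hp.out.ne_one
  have hmp : m.Coprime p := ((Nat.Prime.coprime_iff_not_dvd hp.out).mpr hpm).symm
  have hmcop : m.Coprime (p ^ k) := Nat.Coprime.pow_right k hmp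
  obtain ⟨D, hDcard, -⟩ := Cfsg.Agent.Lead.hall_exists_ge_aux (Nat.card G) rfl m (p ^ k)
    (by rw [hGcard, mul_comm]) hmcop ⊥ (by simp)
  have hDcop : (Nat.card D).Coprime p := by rw [hDcard]; exact hmp
  have hfpf : ∀ a ∈ D, a ≠ 1 → H ⊓ Subgroup.centralizer {a} = ⊥ := by
    intro a ha ha1
    apply fpf_of_coprime hCN hF a ha1
    apply Nat.Coprime.coprime_dvd_left _ hDcop
    have h2 : orderOf (⟨a, ha⟩ : D) ∣ Nat.card D := orderOf_dvd_natCard _
    rwa [Subgroup.orderOf_mk] at h2
  have hD1 : D ≠ ⊥ := by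
    intro h0
    apply hnn
    have : Nat.card G = p ^ k := by
      rw [hGcard, ← hDcard, h0, Subgroup.card_bot, mul_one]
    exact (IsPGroup.of_card this).isNilpotent
  refine ⟨D, k, by rw [hGcard, hDcard], hDcop, hD1, ?_, hfpf⟩
  -- nilpotency of D via the fixed-point-free action on Z(H)
  set V : Subgroup G := H ⊓ Subgroup.centralizer (H : Set G) with hV
  haveI hVn : V.Normal := Subgroup.normal_inf_normal _ _
  haveI hVc : IsMulCommutative V := by
    refine ⟨⟨fun a b => ?_⟩⟩
    apply Subtype.ext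
    have h1 := (Subgroup.mem_centralizer_iff.mp a.2.2) (b : G) b.2.1
    simpa using h1.symm
  have hV1 : V ≠ ⊥ := by
    haveI : Nontrivial H := by
      rw [Subgroup.nontrivial_iff_ne_bot]; exact hH1
    haveI := hHp.center_nontrivial
    obtain ⟨⟨c, hc⟩, hc1⟩ := exists_ne (1 : Subgroup.center H)
    have hcV : (c : G) ∈ V := by
      refine Subgroup.mem_inf.mpr ⟨c.2, ?_⟩
      rw [Subgroup.mem_centralizer_iff]
      intro x hx
      have := (Subgroup.mem_center_iff.mp hc) ⟨x, hx⟩
      exact congrArg Subtype.val this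
    intro h0
    rw [h0, Subgroup.mem_bot] at hcV
    apply hc1
    apply Subtype.ext
    apply Subtype.ext
    exact hcV
  have hcopV : (Nat.card D).Coprime (Nat.card V) := by
    have hdvd : Nat.card V ∣ Nat.card H := Subgroup.card_dvd_of_le inf_le_left
    rw [hHcard] at hdvd
    exact Nat.Coprime.coprime_dvd_right hdvd (Nat.Coprime.pow_right h hDcop)
  apply Cfsg.Agent.Helper23.isNilpotent_of_fpf hCN V hV1 D hcopV
  intro e he he1 v hv hev
  have hmem : v ∈ H ⊓ Subgroup.centralizer {e} := by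
    refine Subgroup.mem_inf.mpr ⟨(Subgroup.mem_inf.mp hv).1, ?_⟩
    rw [Subgroup.mem_centralizer_iff]
    intro x hx
    rw [Set.mem_singleton_iff] at hx
    subst hx
    exact hev
  rw [hfpf e he he1, Subgroup.mem_bot] at hmem
  exact hmem


/-- `O_p(G / O_p(G)) = 1`. -/
theorem pCore_quotient_pCore [Finite G] (p : ℕ) [Fact p.Prime] :
    Cfsg.pCore p (G ⧸ Cfsg.pCore p G) = ⊥ := by
  set H := Cfsg.pCore p G with hH
  have hHp : IsPGroup p H := pCore_isPGroup p
  set N := (Cfsg.pCore p (G ⧸ H)).comap (QuotientGroup.mk' H) with hN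
  have hNn : N.Normal := (Cfsg.pCore_normal p (G ⧸ H)).comap _
  have hNp : IsPGroup p N := by
    apply IsPGroup.comap_of_ker_isPGroup (pCore_isPGroup p)
    rw [QuotientGroup.ker_mk']
    exact hHp
  have hNH : N ≤ H := le_pCore p hNn hNp
  have h1 : Cfsg.pCore p (G ⧸ H) = N.map (QuotientGroup.mk' H) := by
    rw [hN, Subgroup.map_comap_eq_self_of_surjective (QuotientGroup.mk'_surjective H)]
  rw [h1, eq_bot_iff]
  calc N.map (QuotientGroup.mk' H) ≤ H.map (QuotientGroup.mk' H) := Subgroup.map_mono hNH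
    _ = ⊥ := QuotientGroup.map_mk'_self H


/-- The Fitting subgroup of `G / O_p(G)` has order prime to `p`. -/
theorem card_fitting_quotient_coprime [Finite G] (p : ℕ) [hp : Fact p.Prime] :
    (Nat.card (Cfsg.fittingSubgroup (G ⧸ Cfsg.pCore p G))).Coprime p := by
  rw [Nat.coprime_comm, Nat.Prime.coprime_iff_not_dvd hp.out]
  intro hdvd
  rw [Cfsg.Agent.Helper7.fittingSubgroup_eq_pCoreSup] at hdvd
  unfold Cfsg.Agent.Helper7.pCoreSup at hdvd
  rw [← sSup_range] at hdvd
  obtain ⟨N, ⟨q, rfl⟩, hpN⟩ := Cfsg.Agent.Helper23.exists_dvd_card_of_dvd_card_sSup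
    (Set.range fun q : Nat.Primes => Cfsg.pCore (q : ℕ) (G ⧸ Cfsg.pCore p G))
    (by rintro N ⟨q, rfl⟩; exact Cfsg.pCore_normal (q : ℕ) _) hp.out hdvd
  haveI : Fact (q : ℕ).Prime := ⟨q.2⟩
  obtain ⟨j, hj⟩ := IsPGroup.iff_card.mp
    (pCore_isPGroup (G := G ⧸ Cfsg.pCore p G) (q : ℕ))
  simp only at hpN
  rw [hj] at hpN
  have hpq : p = (q : ℕ) := (Nat.prime_dvd_prime_iff_eq hp.out q.2).mp (hp.out.dvd_of_dvd_pow hpN)
  have h1 : Cfsg.pCore (q : ℕ) (G ⧸ Cfsg.pCore p G) = ⊥ := by
    rw [← hpq]; exact pCore_quotient_pCore p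
  rw [← hj, h1, Subgroup.card_bot] at hpN
  exact hp.out.one_lt.ne' (Nat.dvd_one.mp hpN)


/-- Structure of `G / O_p(G)`: the image of the Hall `p'`-subgroup `D` is the Fitting subgroup,
and contains the centralizer of each of its elements of prime order. -/
theorem quotient_structure [Finite G] [Group.IsSolvable G] (hCN : Cfsg.IsCNGroup G)
    (hnn : ¬ Group.IsNilpotent G) {p : ℕ} [hp : Fact p.Prime] (hH1 : Cfsg.pCore p G ≠ ⊥)
    (D : Subgroup G) (k : ℕ) (hGcard : Nat.card G = p ^ k * Nat.card D)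
    (hDcop : (Nat.card D).Coprime p) (hDnil : Group.IsNilpotent D)
    (hfpf : ∀ a ∈ D, a ≠ 1 → Cfsg.pCore p G ⊓ Subgroup.centralizer {a} = ⊥) :
    D.map (QuotientGroup.mk' (Cfsg.pCore p G)) = Cfsg.fittingSubgroup (G ⧸ Cfsg.pCore p G) ∧
    (∀ (q : ℕ), q.Prime → ∀ z ∈ D.map (QuotientGroup.mk' (Cfsg.pCore p G)), orderOf z = q →
      Subgroup.centralizer {z} ≤ D.map (QuotientGroup.mk' (Cfsg.pCore p G))) ∧
    ∀ q : ℕ, q.Prime → ∀ z ∈ D.map (QuotientGroup.mk' (Cfsg.pCore p G)),
      ∀ w ∈ D.map (QuotientGroup.mk' (Cfsg.pCore p G)), orderOf z = q → orderOf w = q →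
      w ∈ zpowers z := by
  set H := Cfsg.pCore p G with hH
  haveI hHn : H.Normal := Cfsg.pCore_normal p G
  have hHp : IsPGroup p H := pCore_isPGroup p
  obtain ⟨h, hHcard⟩ := IsPGroup.iff_card.mp hHp
  have hCNq : Cfsg.IsCNGroup (G ⧸ H) :=
    Cfsg.Agent.Helper23.isCNGroup_quotient_pGroup hCN p H hHp hH1
  set F := Cfsg.fittingSubgroup (G ⧸ H) with hF
  haveI hFn : F.Normal := Cfsg.Agent.Helper7.fittingSubgroup_normal _
  have hFcop : (Nat.card F).Coprime p := card_fitting_quotient_coprime p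
  have hHtop : H ≠ ⊤ := by
    intro h0
    apply hnn
    have h1 : Nat.card G = p ^ h := by
      rw [← hHcard, h0, Subgroup.card_top]
    exact (IsPGroup.of_card h1).isNilpotent
  have hF1 : F ≠ ⊥ := by
    intro h0
    have h1 := Cfsg.Agent.S0044.result (G := G ⧸ H)
    rw [← hF, h0] at h1
    have h2 : (⊤ : Subgroup (G ⧸ H)) ≤ ⊥ := by
      refine le_trans ?_ h1
      intro x _
      rw [Subgroup.mem_centralizer_iff]
      intro y hy
      rw [Subgroup.coe_bot, Set.mem_singleton_iff] at hy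
      subst hy
      simp
    apply hHtop
    apply QuotientGroup.subgroup_eq_top_of_subsingleton
    constructor
    intro a b
    have ha : a ∈ (⊥ : Subgroup (G ⧸ H)) := h2 (Subgroup.mem_top a)
    have hb : b ∈ (⊥ : Subgroup (G ⧸ H)) := h2 (Subgroup.mem_top b)
    rw [Subgroup.mem_bot] at ha hb
    rw [ha, hb]
  set π := QuotientGroup.mk' H with hπ
  set Db := D.map π with hDb
  have hDHcop : (Nat.card D).Coprime (Nat.card H) := by
    rw [hHcard]; exact Nat.Coprime.pow_right h hDcop
  have hDbcard : Nat.card Db = Nat.card D := card_map_mk'_of_coprime H D hDHcop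
  have hDH : D ⊓ H = ⊥ := (Subgroup.disjoint_of_coprime_natCard hDHcop).eq_bot
  -- F ≤ Db
  have hFD : F ≤ Db := by
    have h1 := Cfsg.Agent.Helper17.card_sup_mul_card_inf_of_normal F Db
    have hdvd1 : Nat.card (F ⊔ Db : Subgroup (G ⧸ H)) ∣ Nat.card F * Nat.card Db :=
      Dvd.intro _ h1
    have hcop1 : (Nat.card (F ⊔ Db : Subgroup (G ⧸ H))).Coprime p :=
      Nat.Coprime.coprime_dvd_left hdvd1 (Nat.Coprime.mul_left hFcop (hDbcard ▸ hDcop))
    have hdvd2 : Nat.card (F ⊔ Db : Subgroup (G ⧸ H)) ∣ p ^ k * Nat.card D := by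
      rw [← hGcard]
      exact dvd_trans (Subgroup.card_subgroup_dvd_card _)
        (Subgroup.card_quotient_dvd_card H)
    have hdvd3 : Nat.card (F ⊔ Db : Subgroup (G ⧸ H)) ∣ Nat.card D :=
      Nat.Coprime.dvd_of_dvd_mul_left (Nat.Coprime.pow_right k hcop1) hdvd2
    have hle : Db ≤ F ⊔ Db := le_sup_right
    have heq : Db = F ⊔ Db := by
      apply Subgroup.eq_of_le_of_card_ge hle
      rw [hDbcard]
      exact Nat.le_of_dvd Nat.card_pos hdvd3
    rw [heq]
    exact le_sup_left
  -- transport of orders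
  have horder : ∀ z ∈ D, orderOf (π z) = orderOf z := by
    intro z hz
    have hinj : Function.Injective (π.comp D.subtype) := by
      rw [← MonoidHom.ker_eq_bot_iff, eq_bot_iff]
      intro d hd
      rw [MonoidHom.mem_ker, MonoidHom.comp_apply, hπ, QuotientGroup.mk'_apply,
        QuotientGroup.eq_one_iff] at hd
      have : (d : G) ∈ D ⊓ H := ⟨d.2, hd⟩
      rw [hDH, Subgroup.mem_bot] at this
      rw [Subgroup.mem_bot]
      exact Subtype.ext this
    have := orderOf_injective (π.comp D.subtype) hinj ⟨z, hz⟩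
    rw [Subgroup.orderOf_mk] at this
    exact this
  have huniq : ∀ q : ℕ, q.Prime → ∀ z ∈ Db, ∀ w ∈ Db, orderOf z = q → orderOf w = q →
      w ∈ zpowers z := by
    rintro q hq _ ⟨z, hz, rfl⟩ _ ⟨w, hw, rfl⟩ hzq hwq
    rw [horder z hz] at hzq
    rw [horder w hw] at hwq
    obtain ⟨j, hj⟩ := nilpotent_fpf_unique hH1 D hDnil hfpf hq z w hz hw hzq hwq
    refine ⟨j, ?_⟩
    simp only at hj
    rw [← hj, map_zpow]
  have hcent : ∀ q : ℕ, q.Prime → ∀ z ∈ Db, orderOf z = q → ∀ d ∈ Db, d * z = z * d := by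
    rintro q hq _ ⟨z, hz, rfl⟩ hzq _ ⟨d, hd, rfl⟩
    rw [horder z hz] at hzq
    have := nilpotent_fpf_central hH1 D hDnil hfpf hq z hz hzq d hd
    rw [← map_mul, ← map_mul, this]
  -- centralizers of prime order elements of F lie in F
  have hCle : ∀ q : ℕ, q.Prime → ∀ z ∈ F, orderOf z = q → Subgroup.centralizer {z} ≤ F := by
    intro q hq z hzF hzq
    have hz1 : z ≠ 1 := by
      intro h0
      rw [h0, orderOf_one] at hzq
      exact hq.one_lt.ne hzq
    have hCnil : Group.IsNilpotent (Subgroup.centralizer ({z} : Set (G ⧸ H))) := hCNq z hz1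
    have hCn : (Subgroup.centralizer ({z} : Set (G ⧸ H))).Normal := by
      constructor
      intro c hc g
      have hcz : z * c = c * z :=
        (Subgroup.mem_centralizer_iff.mp hc) z (Set.mem_singleton z)
      -- u = g⁻¹ z g is a power of z
      have huF : g⁻¹ * z * g ∈ F := by
        have := hFn.conj_mem z hzF g⁻¹
        simpa using this
      have huq : orderOf (g⁻¹ * z * g) = q := by
        have := orderOf_injective (MulAut.conj g⁻¹).toMonoidHom (MulAut.conj g⁻¹).injective z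
        simp only [MulEquiv.coe_toMonoidHom, MulAut.conj_apply, inv_inv] at this
        rw [this, hzq]
      obtain ⟨j, hj⟩ := huniq q hq z (hFD hzF) _ (hFD huF) hzq huq
      simp only at hj
      have hcu : (g⁻¹ * z * g) * c = c * (g⁻¹ * z * g) := by
        rw [← hj]
        have hc' : Commute z c := hcz
        exact (hc'.zpow_left j).eq
      rw [Subgroup.mem_centralizer_iff]
      intro y hy
      rw [Set.mem_singleton_iff] at hy
      subst hy
      calc y * (g * c * g⁻¹) = g * ((g⁻¹ * y * g) * c) * g⁻¹ := by group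
        _ = g * (c * (g⁻¹ * y * g)) * g⁻¹ := by rw [hcu]
        _ = g * c * g⁻¹ * y := by group
    exact Cfsg.Agent.Helper7.le_fittingSubgroup hCn hCnil
  -- Db ≤ F
  have hDF : Db ≤ F := by
    have hcard1 : Nat.card F ≠ 1 := fun h1 => hF1 (Subgroup.card_eq_one.mp h1)
    obtain ⟨q, hq, hqF⟩ := Nat.exists_prime_and_dvd hcard1
    haveI : Fact q.Prime := ⟨hq⟩
    obtain ⟨⟨z, hzF⟩, hzq⟩ := exists_prime_orderOf_dvd_card' q hqF
    rw [Subgroup.orderOf_mk] at hzq
    refine le_trans ?_ (hCle q hq z hzF hzq)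
    intro d hd
    rw [Subgroup.mem_centralizer_iff]
    intro y hy
    rw [Set.mem_singleton_iff] at hy
    subst hy
    exact (hcent q hq y (hFD hzF) hzq d hd).symm
  have heq : Db = F := le_antisymm hDF hFD
  refine ⟨heq, ?_, huniq⟩
  intro q hq z hz hzq
  rw [heq] at hz ⊢
  exact hCle q hq z hz hzq


/-- A non-nilpotent solvable CN-group without nontrivial normal Sylow subgroups is a three-step
group. -/
theorem threeStep [Finite G] [Group.IsSolvable G] (hCN : Cfsg.IsCNGroup G)
    (hnn : ¬ Group.IsNilpotent G)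
    (hns : ∀ (q : ℕ) [Fact q.Prime] (P : Sylow q G), (P : Subgroup G).Normal →
      (P : Subgroup G) = ⊥) :
    ∃ p : ℕ, p.Prime ∧ Cfsg.IsThreeStepGroup p G := by
  obtain ⟨p, hpf, hH1, hF⟩ := fitting_eq_pCore hCN hnn hns
  haveI := hpf
  refine ⟨p, hpf.out, ?_⟩
  obtain ⟨D, k, hGcard, hDcop, hD1, hDnil, hfpf⟩ := exists_hall_compl hCN hnn hH1 hF
  obtain ⟨hDF, hcentr, huniq⟩ := quotient_structure hCN hnn hH1 D k hGcard hDcop hDnil hfpf
  set H := Cfsg.pCore p G with hH
  haveI hHn : H.Normal := Cfsg.pCore_normal p G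
  have hHp : IsPGroup p H := pCore_isPGroup p
  obtain ⟨h, hHcard⟩ := IsPGroup.iff_card.mp hHp
  set π := QuotientGroup.mk' H with hπ
  have hDHcop : (Nat.card D).Coprime (Nat.card H) := by
    rw [hHcard]; exact Nat.Coprime.pow_right h hDcop
  have hDH : D ⊓ H = ⊥ := (Subgroup.disjoint_of_coprime_natCard hDHcop).eq_bot
  have hL : H ⊔ D = (D.map π).comap π := (QuotientGroup.comap_map_mk' H D).symm
  have hmemL : ∀ x : G, x ∈ H ⊔ D ↔ π x ∈ D.map π := by
    intro x
    rw [hL, Subgroup.mem_comap]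
  have hLn : (H ⊔ D).Normal := by
    rw [hL, hDF]
    exact (Cfsg.Agent.Helper7.fittingSubgroup_normal _).comap _
  have hLcard : Nat.card (H ⊔ D : Subgroup G) = p ^ h * Nat.card D := by
    have h1 := Cfsg.Agent.Helper17.card_sup_mul_card_inf_of_normal H D
    rw [inf_comm, hDH, Subgroup.card_bot, mul_one, hHcard] at h1
    exact h1
  have hLtop : H ⊔ D ≠ ⊤ := by
    intro h0
    have h1 : p ^ h * Nat.card D = p ^ k * Nat.card D := by
      rw [← hLcard, h0, Subgroup.card_top, hGcard]
    have h2 : p ^ h = p ^ k := Nat.eq_of_mul_eq_mul_right Nat.card_pos h1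
    obtain ⟨P⟩ : Nonempty (Sylow p G) := inferInstance
    have hHP : H ≤ (P : Subgroup G) := pCore_le_sylow p P
    obtain ⟨j, hj⟩ := IsPGroup.iff_card.mp P.isPGroup'
    have hdvd : p ^ j ∣ p ^ k * Nat.card D := by
      rw [← hj, ← hGcard]; exact Subgroup.card_subgroup_dvd_card _
    have hdvd2 : p ^ j ∣ p ^ k :=
      Nat.Coprime.dvd_of_dvd_mul_right (Nat.Coprime.pow_left j hDcop.symm) hdvd
    have hHPeq : H = (P : Subgroup G) := by
      apply Subgroup.eq_of_le_of_card_ge hHP
      rw [hj, hHcard, h2]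
      exact Nat.le_of_dvd (pow_pos hpf.out.pos k) hdvd2
    have hPn : (P : Subgroup G).Normal := hHPeq ▸ hHn
    exact hH1 (hHPeq.trans (hns p P hPn))
  -- odd order
  have hodd : Odd (Nat.card D) := by
    by_contra hnodd
    have h2 : 2 ∣ Nat.card D := by
      rcases Nat.even_or_odd (Nat.card D) with he | ho
      · exact he.two_dvd
      · exact absurd ho hnodd
    haveI : Fact (Nat.Prime 2) := ⟨Nat.prime_two⟩
    obtain ⟨⟨z, hz⟩, hzq⟩ := exists_prime_orderOf_dvd_card' 2 h2
    rw [Subgroup.orderOf_mk] at hzq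
    -- order of π z
    have hz1 : z ≠ 1 := by
      intro h0; rw [h0, orderOf_one] at hzq; omega
    have hπz1 : π z ≠ 1 := by
      intro h0
      rw [hπ, QuotientGroup.mk'_apply, QuotientGroup.eq_one_iff] at h0
      have : z ∈ D ⊓ H := ⟨hz, h0⟩
      rw [hDH, Subgroup.mem_bot] at this
      exact hz1 this
    have hπz2 : π z * π z = 1 := by
      rw [← map_mul, ← pow_two, ← hzq, pow_orderOf_eq_one, map_one]
    have hπzq : orderOf (π z) = 2 := by
      apply orderOf_eq_prime
      · rw [pow_two]; exact hπz2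
      · exact hπz1
    have hzb : π z ∈ D.map π := Subgroup.mem_map_of_mem _ hz
    have hcentral : ∀ g : G ⧸ H, g * π z = π z * g := by
      intro g
      -- g (π z) g⁻¹ lies in D.map π (normal), has order 2, commutes...
      have hconjmem : g * π z * g⁻¹ ∈ D.map π := by
        rw [hDF]
        exact (Cfsg.Agent.Helper7.fittingSubgroup_normal _).conj_mem _ (hDF ▸ hzb) g
      have hconjq : orderOf (g * π z * g⁻¹) = 2 := by
        have := orderOf_injective (MulAut.conj g).toMonoidHom (MulAut.conj g).injective (π z)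
        simp only [MulEquiv.coe_toMonoidHom, MulAut.conj_apply] at this
        rw [this, hπzq]
      obtain ⟨j, hj⟩ := huniq 2 Nat.prime_two _ hzb _ hconjmem hπzq hconjq
      simp only at hj
      rw [← zpow_mod_orderOf, hπzq] at hj
      simp only [Nat.cast_ofNat] at hj
      have hj2 : j % 2 = 0 ∨ j % 2 = 1 := by omega
      rcases hj2 with h0 | h0
      · rw [h0, zpow_zero] at hj
        exfalso
        apply hπz1
        have : g * π z * g⁻¹ = 1 := hj.symm
        have h3 : π z = g⁻¹ * (g * π z * g⁻¹) * g := by group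
        rw [h3, this]; group
      · rw [h0, zpow_one] at hj
        have h3 : g * π z = (g * π z * g⁻¹) * g := by group
        rw [h3, ← hj]
    have htop : D.map π = ⊤ := by
      rw [eq_top_iff]
      refine le_trans ?_ (hcentr 2 Nat.prime_two _ hzb hπzq)
      intro g _
      rw [Subgroup.mem_centralizer_iff]
      intro y hy
      rw [Set.mem_singleton_iff] at hy
      subst hy
      exact (hcentral g).symm
    apply hLtop
    rw [hL, htop, Subgroup.comap_top]
  have hcyc : IsCyclic D := isCyclic_of_nilpotent_fpf_odd hH1 D hDnil hfpf hodd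
  -- index
  have hidx : ∃ n : ℕ, (H ⊔ D).index = p ^ n := by
    have h1 := Subgroup.index_mul_card (H ⊔ D)
    rw [hLcard, hGcard, ← mul_assoc] at h1
    have h2 : (H ⊔ D).index * p ^ h = p ^ k := Nat.eq_of_mul_eq_mul_right Nat.card_pos h1
    have h3 : (H ⊔ D).index ∣ p ^ k := Dvd.intro _ h2
    obtain ⟨n, -, hn⟩ := (Nat.dvd_prime_pow hpf.out).mp h3
    exact ⟨n, hn⟩
  refine ⟨hH1, D, hD1, hcyc, hodd, hDcop, hLn, hLtop, hidx, hfpf, ?_⟩
  intro x hx a ha ha1 hmem
  apply hx
  rw [hmemL]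
  -- π x commutes with π a
  have hcomm : π x * π a = π a * π x := by
    have h1 : π (x * a * x⁻¹ * a⁻¹) = 1 := by
      rw [hπ, QuotientGroup.mk'_apply, QuotientGroup.eq_one_iff]; exact hmem
    rw [map_mul, map_mul, map_mul, map_inv, map_inv] at h1
    have h2 : π x * π a = (π x * π a * (π x)⁻¹ * (π a)⁻¹) * (π a * π x) := by group
    rw [h2, h1, one_mul]
  have hπa1 : π a ≠ 1 := by
    intro h0
    rw [hπ, QuotientGroup.mk'_apply, QuotientGroup.eq_one_iff] at h0
    have : a ∈ D ⊓ H := ⟨ha, h0⟩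
    rw [hDH, Subgroup.mem_bot] at this
    exact ha1 this
  have hab : π a ∈ D.map π := Subgroup.mem_map_of_mem _ ha
  have ho1 : orderOf (π a) ≠ 1 := fun h1 => hπa1 (orderOf_eq_one_iff.mp h1)
  have ho0 : orderOf (π a) ≠ 0 := (orderOf_pos (π a)).ne'
  set q := (orderOf (π a)).minFac with hq
  have hqp : q.Prime := Nat.minFac_prime ho1
  have hqdvd : q ∣ orderOf (π a) := Nat.minFac_dvd _
  set z := (π a) ^ (orderOf (π a) / q) with hz
  have hzq : orderOf z = q := orderOf_pow_orderOf_div ho0 hqdvd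
  have hzb : z ∈ D.map π := Subgroup.pow_mem _ hab _
  apply hcentr q hqp z hzb hzq
  rw [Subgroup.mem_centralizer_iff]
  intro y hy
  rw [Set.mem_singleton_iff] at hy
  subst hy
  have hc : Commute (π a) (π x) := hcomm.symm
  exact (hc.pow_left _).eq

end Cfsg.Agent.Helper1.CNSolv
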