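import Mathlib

/-!
Ito's theorem on groups with two conjugacy class sizes, part 1: basic consequences of the
hypothesis (all noncentral centralizers have the same index).
-/

set_option autoImplicit false

namespace Cfsg.Agent.Helper1.Ito

open Subgroup

variable {G : Type*} [Group G]

/-- the hypothesis: every centralizer has index `1` or `n` -/
def TwoCS (G : Type*) [Group G] (n : ℕ) : Prop :=
  ∀ x : G, (centralizer ({x} : Set G)).index = 1 ∨ (centralizer ({x} : Set G)).index = n

/-- `x` is a `q`-element -/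
def IsQ (q : ℕ) (x : G) : Prop := ∃ k : ℕ, x ^ (q ^ k) = 1

theorem index_eq_one_iff {x : G} : (centralizer ({x} : Set G)).index = 1 ↔ x ∈ center G := by
  rw [index_eq_one, centralizer_eq_top_iff_subset, Set.singleton_subset_iff]
  rfl

theorem TwoCS.index_eq {n : ℕ} (h : TwoCS G n) {x : G} (hx : x ∉ center G) :
    (centralizer ({x} : Set G)).index = n := by
  rcases h x with h1 | h1
  · exact absurd (index_eq_one_iff.mp h1) hx
  · exact h1

theorem mem_cent {x g : G} : g ∈ centralizer ({x} : Set G) ↔ g * x = x * g :=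
  mem_centralizer_singleton_iff

theorem self_mem_cent (x : G) : x ∈ centralizer ({x} : Set G) := mem_cent.mpr rfl

theorem pow_mem_cent (x : G) (k : ℕ) : x ^ k ∈ centralizer ({x} : Set G) :=
  pow_mem (self_mem_cent x) k

theorem cent_le_cent_pow (x : G) (k : ℕ) :
    centralizer ({x} : Set G) ≤ centralizer ({x ^ k} : Set G) := by
  intro g hg
  rw [mem_cent] at hg ⊢
  exact ((Commute.pow_right (show Commute g x from hg) k)).eq

theorem center_le_cent (x : G) : center G ≤ centralizer ({x} : Set G) :=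
  center_le_centralizer _

/-- S1: comparable centralizers of noncentral elements are equal -/
theorem TwoCS.cent_eq [Finite G] {n : ℕ} (h : TwoCS G n) (hn : 1 < n) {x y : G}
    (hx : x ∉ center G) (hy : y ∉ center G)
    (hle : centralizer ({x} : Set G) ≤ centralizer ({y} : Set G)) :
    centralizer ({x} : Set G) = centralizer ({y} : Set G) := by
  apply le_antisymm hle
  have h1 := relIndex_mul_index hle
  rw [h.index_eq hx, h.index_eq hy] at h1
  have h2 : (centralizer ({x} : Set G)).relIndex (centralizer ({y} : Set G)) = 1 := by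
    have hn0 : 0 < n := by omega
    exact Nat.eq_of_mul_eq_mul_right hn0 (by rw [h1, one_mul])
  exact relIndex_eq_one.mp h2

/-- CRT for commuting elements of coprime orders -/
theorem exists_pow_eq_left [Finite G] {x y : G} (hc : Commute x y)
    (hcop : (orderOf x).Coprime (orderOf y)) : ∃ k : ℕ, (x * y) ^ k = x := by
  obtain ⟨k, hk1, hk2⟩ := Nat.chineseRemainder hcop 1 0
  refine ⟨k, ?_⟩
  rw [hc.mul_pow]
  have h1 : x ^ k = x ^ 1 := pow_eq_pow_iff_modEq.mpr hk1
  have h2 : y ^ k = 1 := by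
    rw [← orderOf_dvd_iff_pow_eq_one]
    exact (Nat.modEq_zero_iff_dvd).mp hk2
  rw [h1, h2, pow_one, mul_one]

/-- S2 -/
theorem TwoCS.cent_le_of_coprime [Finite G] {n : ℕ} (h : TwoCS G n) (hn : 1 < n) {x y : G}
    (hx : x ∉ center G) (hy : y ∈ centralizer ({x} : Set G))
    (hcop : (orderOf x).Coprime (orderOf y)) :
    centralizer ({x} : Set G) ≤ centralizer ({y} : Set G) := by
  have hc : Commute x y := (mem_cent.mp hy).symm
  obtain ⟨k, hk⟩ := exists_pow_eq_left hc hcop
  obtain ⟨j, hj⟩ := exists_pow_eq_left hc.symm hcop.symm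
  have hxy : x * y ∉ center G := by
    intro hmem
    apply hx
    rw [← hk]
    exact pow_mem hmem k
  have h1 : centralizer ({x * y} : Set G) ≤ centralizer ({x} : Set G) := by
    have := cent_le_cent_pow (x * y) k
    rwa [hk] at this
  have h2 : centralizer ({x * y} : Set G) ≤ centralizer ({y} : Set G) := by
    have := cent_le_cent_pow (x * y) j
    rw [hc.eq] at this
    rwa [hj, ← hc.eq] at this
  rw [← h.cent_eq hn hxy hx h1]
  exact h2

/-- splitting an element into its `q`-part and `q'`-part, both powers of it -/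
theorem exists_pow_split [Finite G] (x : G) (q : ℕ) (hq : q.Prime) :
    ∃ a b : ℕ, x = x ^ a * x ^ b ∧ IsQ q (x ^ a) ∧ (orderOf (x ^ b)).Coprime q := by
  obtain ⟨k, m, hm, hkm⟩ := Nat.exists_eq_pow_mul_and_not_dvd (orderOf_pos x).ne' q hq.ne_one
  have hcop : (q ^ k).Coprime m := Nat.Coprime.pow_left k ((Nat.Prime.coprime_iff_not_dvd hq).mpr hm)
  obtain ⟨a, ha1, ha2⟩ := Nat.chineseRemainder hcop 1 0
  obtain ⟨b, hb1, hb2⟩ := Nat.chineseRemainder hcop 0 1
  refine ⟨a, b, ?_, ⟨k, ?_⟩, ?_⟩
  · rw [← pow_add]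
    have h1 : a + b ≡ 1 [MOD q ^ k] := by simpa using ha1.add hb1
    have h2 : a + b ≡ 1 [MOD m] := by simpa using ha2.add hb2
    have h3 : a + b ≡ 1 [MOD orderOf x] := by
      rw [hkm]
      exact (Nat.modEq_and_modEq_iff_modEq_mul hcop).mp ⟨h1, h2⟩
    conv_lhs => rw [← pow_one x]
    exact (pow_eq_pow_iff_modEq.mpr h3).symm
  · rw [← pow_mul, ← orderOf_dvd_iff_pow_eq_one, hkm, mul_comm a]
    exact Nat.mul_dvd_mul_left _ ((Nat.modEq_zero_iff_dvd).mp ha2)
  · have hdvd : orderOf (x ^ b) ∣ m := by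
      apply orderOf_dvd_of_pow_eq_one
      rw [← pow_mul, ← orderOf_dvd_iff_pow_eq_one, hkm]
      exact Nat.mul_dvd_mul ((Nat.modEq_zero_iff_dvd).mp hb1) dvd_rfl
    exact Nat.Coprime.coprime_dvd_left hdvd ((Nat.Prime.coprime_iff_not_dvd hq).mpr hm).symm

theorem IsQ.orderOf_eq [Finite G] {q : ℕ} (hq : q.Prime) {x : G} (hx : IsQ q x) :
    ∃ k : ℕ, orderOf x = q ^ k := by
  obtain ⟨k, hk⟩ := hx
  exact (Nat.dvd_prime_pow hq).mp (orderOf_dvd_of_pow_eq_one hk) |>.imp fun _ h => h.2

theorem IsQ.coprime [Finite G] {q r : ℕ} (hq : q.Prime) (hr : r.Prime) (hqr : q ≠ r) {x y : G}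
    (hx : IsQ q x) (hy : IsQ r y) : (orderOf x).Coprime (orderOf y) := by
  obtain ⟨k, hk⟩ := hx.orderOf_eq hq
  obtain ⟨j, hj⟩ := hy.orderOf_eq hr
  rw [hk, hj]
  exact Nat.Coprime.pow k j ((Nat.coprime_primes hq hr).mpr hqr)

theorem IsQ.coprime' [Finite G] {q : ℕ} (hq : q.Prime) {x y : G}
    (hx : IsQ q x) (hy : (orderOf y).Coprime q) : (orderOf x).Coprime (orderOf y) := by
  obtain ⟨k, hk⟩ := hx.orderOf_eq hq
  rw [hk]
  exact (Nat.Coprime.pow_right k hy).symm

theorem IsQ.pow {q : ℕ} {x : G} (hx : IsQ q x) (j : ℕ) : IsQ q (x ^ j) := by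
  obtain ⟨k, hk⟩ := hx
  exact ⟨k, by rw [← pow_mul, mul_comm, pow_mul, hk, one_pow]⟩

/-- a noncentral element has a noncentral prime-power part -/
theorem exists_noncentral_part [Finite G] :
    ∀ (N : ℕ) (g : G), orderOf g ≤ N → g ∉ center G →
      ∃ (q : ℕ) (k : ℕ), q.Prime ∧ q ∣ orderOf g ∧ g ^ k ∉ center G ∧ IsQ q (g ^ k) := by
  intro N
  induction N with
  | zero =>
    intro g hg
    exact absurd hg (by have := orderOf_pos g; omega)
  | succ N ih =>
    intro g hg hgz
    have hg1 : orderOf g ≠ 1 := by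
      intro h
      rw [orderOf_eq_one_iff] at h
      exact hgz (h ▸ one_mem _)
    set q := (orderOf g).minFac with hq
    have hqp : q.Prime := Nat.minFac_prime hg1
    have hqd : q ∣ orderOf g := Nat.minFac_dvd _
    obtain ⟨a, b, hab, hQa, hcopb⟩ := exists_pow_split g q hqp
    by_cases ha : g ^ a ∈ center G
    · have hb : g ^ b ∉ center G := by
        intro hb
        apply hgz
        rw [hab]
        exact mul_mem ha hb
      have hdvd : orderOf (g ^ b) ∣ orderOf g := orderOf_pow_dvd b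
      have hlt : orderOf (g ^ b) < orderOf g := by
        apply lt_of_le_of_ne (Nat.le_of_dvd (orderOf_pos g) hdvd)
        intro heq
        rw [heq] at hcopb
        exact hqp.one_lt.ne' (Nat.Coprime.eq_one_of_dvd hcopb.symm hqd)
      obtain ⟨r, k, hr, hrd, hk1, hk2⟩ := ih (g ^ b) (by omega) hb
      refine ⟨r, b * k, hr, hrd.trans hdvd, ?_, ?_⟩
      · rwa [pow_mul]
      · rwa [pow_mul]
    · exact ⟨q, a, hqp, hqd, ha, hQa⟩

theorem exists_noncentral_part' [Finite G] {g : G} (hg : g ∉ center G) :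
    ∃ (q : ℕ) (k : ℕ), q.Prime ∧ q ∣ orderOf g ∧ g ^ k ∉ center G ∧ IsQ q (g ^ k) :=
  exists_noncentral_part (orderOf g) g le_rfl hg

/-- S3: a noncentral `q`-element commuting with a noncentral `r`-element, `q ≠ r`, has abelian
centralizer -/
theorem TwoCS.comm_of_mixed [Finite G] {n : ℕ} (h : TwoCS G n) (hn : 1 < n) {q r : ℕ}
    (hq : q.Prime) (hr : r.Prime) (hqr : q ≠ r) {x y : G}
    (hx : x ∉ center G) (hxq : IsQ q x) (hy : y ∉ center G) (hyr : IsQ r y)
    (hyx : y ∈ centralizer ({x} : Set G)) :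
    ∀ c ∈ centralizer ({x} : Set G), ∀ d ∈ centralizer ({x} : Set G), c * d = d * c := by
  have hle := h.cent_le_of_coprime hn hx hyx (hxq.coprime hq hr hqr hyr)
  have heq := h.cent_eq hn hx hy hle
  intro c hc d hd
  obtain ⟨a, b, hab, hQa, hcopb⟩ := exists_pow_split c q hq
  have hca : c ^ a ∈ centralizer ({y} : Set G) := heq ▸ pow_mem hc a
  have hcb : c ^ b ∈ centralizer ({x} : Set G) := pow_mem hc b
  have h1 := h.cent_le_of_coprime hn hy hca (hyr.coprime hr hq hqr.symm hQa)
  have h2 := h.cent_le_of_coprime hn hx hcb (hxq.coprime' hq hcopb)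
  have hd1 : d * c ^ a = c ^ a * d := mem_cent.mp (h1 (heq ▸ hd))
  have hd2 : d * c ^ b = c ^ b * d := mem_cent.mp (h2 hd)
  rw [hab, mul_assoc, ← hd2, ← mul_assoc, ← hd1, mul_assoc]

/-- S4: if there are noncentral elements for another prime, the centralizer of a noncentral
`q`-element contains a noncentral `q'`-element -/
theorem TwoCS.exists_noncentral_coprime [Finite G] {n : ℕ} (h : TwoCS G n) (hn : 1 < n) {q s : ℕ}
    (hq : q.Prime) (hs : s.Prime) (hqs : q ≠ s) {x y₀ : G}
    (hx : x ∉ center G) (hy₀ : y₀ ∉ center G) (hys : IsQ s y₀) :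
    ∃ y ∈ centralizer ({x} : Set G), y ∉ center G ∧ (orderOf y).Coprime q := by
  by_contra hcon
  push Not at hcon
  have : Fact s.Prime := ⟨hs⟩
  -- orders of the two centralizers agree
  have hcard : Nat.card (centralizer ({x} : Set G)) = Nat.card (centralizer ({y₀} : Set G)) := by
    have h1 := (centralizer ({x} : Set G)).card_mul_index
    have h2 := (centralizer ({y₀} : Set G)).card_mul_index
    rw [h.index_eq hx] at h1
    rw [h.index_eq hy₀] at h2
    have hn0 : 0 < n := by omega
    exact Nat.eq_of_mul_eq_mul_right hn0 (h1.trans h2.symm)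
  obtain ⟨T⟩ : Nonempty (Sylow s (centralizer ({x} : Set G))) := inferInstance
  set T' : Subgroup G := (T : Subgroup (centralizer ({x} : Set G))).map (centralizer ({x} : Set G)).subtype
    with hT'
  have hT'p : IsPGroup s T' := T.isPGroup'.map _
  have hT'card : Nat.card T' = s ^ (Nat.card (centralizer ({x} : Set G))).factorization s := by
    rw [hT', Subgroup.card_map_of_injective (Subgroup.subtype_injective _)]
    exact T.card_eq_multiplicity
  have hT'Z : T' ≤ center G := by
    intro t ht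
    by_contra htz
    have htC : t ∈ centralizer ({x} : Set G) := by
      rw [hT'] at ht
      obtain ⟨t', -, rfl⟩ := ht
      exact t'.2
    apply hcon t htC htz
    obtain ⟨k, hk⟩ := hT'p ⟨t, ht⟩
    have hk' : t ^ (s ^ k) = 1 := by simpa using congrArg Subtype.val hk
    have : orderOf t ∣ s ^ k := orderOf_dvd_of_pow_eq_one hk'
    exact Nat.Coprime.coprime_dvd_left this
      (Nat.Coprime.pow_left k ((Nat.coprime_primes hs hq).mpr hqs.symm))
  have hT'n : T'.Normal := by
    refine ⟨fun t ht g => ?_⟩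
    have := (Subgroup.mem_center_iff.mp (hT'Z ht)) g
    rw [this, mul_inv_cancel_right]
    exact ht
  have hyp : IsPGroup s (zpowers y₀) := by
    obtain ⟨k, hk⟩ := hys
    rw [IsPGroup]
    rintro ⟨_, ⟨j, rfl⟩⟩
    refine ⟨k, ?_⟩
    apply Subtype.ext
    show (y₀ ^ j) ^ (s ^ k) = 1
    rw [← zpow_natCast, ← zpow_mul, mul_comm, zpow_mul, zpow_natCast, hk, one_zpow]
  have hHp : IsPGroup s (T' ⊔ zpowers y₀ : Subgroup G) := IsPGroup.to_sup_of_normal_left hT'p hyp
  have hHle : T' ⊔ zpowers y₀ ≤ centralizer ({y₀} : Set G) := by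
    apply sup_le
    · exact hT'Z.trans (center_le_cent y₀)
    · rw [zpowers_le]
      exact self_mem_cent y₀
  have hlt : T' < T' ⊔ zpowers y₀ := by
    apply lt_of_le_of_ne le_sup_left
    intro heq
    apply hy₀
    apply hT'Z
    rw [heq]
    exact le_sup_right (a := T') (mem_zpowers y₀)
  obtain ⟨j, hj⟩ := IsPGroup.iff_card.mp hHp
  have hcardlt : Nat.card T' < Nat.card (T' ⊔ zpowers y₀ : Subgroup G) := by
    by_contra hge
    push Not at hge
    exact hlt.ne (Subgroup.eq_of_le_of_card_ge hlt.le hge)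
  rw [hT'card, hj] at hcardlt
  have hjk : (Nat.card (centralizer ({x} : Set G))).factorization s + 1 ≤ j := by
    by_contra hlt'
    push Not at hlt'
    have : s ^ j ≤ s ^ (Nat.card (centralizer ({x} : Set G))).factorization s :=
      Nat.pow_le_pow_right hs.pos (by omega)
    omega
  have hdvd : s ^ ((Nat.card (centralizer ({x} : Set G))).factorization s + 1) ∣
      Nat.card (centralizer ({x} : Set G)) := by
    refine (pow_dvd_pow s hjk).trans ?_
    rw [← hj, hcard]
    exact Subgroup.card_dvd_of_le hHle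
  exact Nat.pow_succ_factorization_not_dvd Nat.card_pos.ne' hs hdvd

end Cfsg.Agent.Helper1.Ito
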