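import Mathlib
import Cfsg.Agent.Helper1.Ito1

/-!
Disconnected class-size prime graph (Bertram–Herzog–Mann), part 1:
arithmetic of `π`-numbers and basic group-theoretic lemmas about class sizes.
-/

set_option autoImplicit false

namespace Cfsg.Agent.Helper1.ClsGraph

open Subgroup

/-- `k` is a `P`-number: all prime divisors satisfy `P` -/
def IsPi (P : ℕ → Prop) (k : ℕ) : Prop := ∀ r : ℕ, r.Prime → r ∣ k → P r

section arith

variable {P Q : ℕ → Prop}

theorem IsPi.of_dvd {k l : ℕ} (h : IsPi P k) (hd : l ∣ k) : IsPi P l :=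
  fun r hr hrl => h r hr (hrl.trans hd)

theorem IsPi.mul {k l : ℕ} (hk : IsPi P k) (hl : IsPi P l) : IsPi P (k * l) := by
  intro r hr hd
  rcases (Nat.Prime.dvd_mul hr).mp hd with h | h
  · exact hk r hr h
  · exact hl r hr h

theorem isPi_one : IsPi P 1 := by
  intro r hr hd
  exact absurd (Nat.dvd_one.mp hd) hr.ne_one

theorem IsPi.coprime (hdisj : ∀ r : ℕ, r.Prime → P r → Q r → False) {k l : ℕ}
    (hk : IsPi P k) (hl : IsPi Q l) : Nat.Coprime k l := by
  by_contra h
  obtain ⟨r, hr, h1, h2⟩ := Nat.Prime.not_coprime_iff_dvd.mp h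
  exact hdisj r hr (hk r hr h1) (hl r hr h2)

theorem IsPi.eq_one (hdisj : ∀ r : ℕ, r.Prime → P r → Q r → False) {k : ℕ}
    (hk : IsPi P k) (hl : IsPi Q k) : k = 1 := by
  have := IsPi.coprime hdisj hk hl
  exact (Nat.coprime_self k).mp this

theorem exists_isPi_split (hPQ : ∀ r : ℕ, r.Prime → P r ∨ Q r) (n : ℕ) (hn : n ≠ 0) :
    ∃ k l : ℕ, n = k * l ∧ IsPi P k ∧ IsPi Q l := by
  induction n using Nat.recOnMul with
  | zero => exact absurd rfl hn
  | one => exact ⟨1, 1, rfl, isPi_one, isPi_one⟩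
  | prime p hp =>
    rcases hPQ p hp with h | h
    · refine ⟨p, 1, (mul_one p).symm, ?_, isPi_one⟩
      intro r hr hd
      rw [(Nat.prime_dvd_prime_iff_eq hr hp).mp hd]; exact h
    · refine ⟨1, p, (one_mul p).symm, isPi_one, ?_⟩
      intro r hr hd
      rw [(Nat.prime_dvd_prime_iff_eq hr hp).mp hd]; exact h
  | mul a b iha ihb =>
    have ha : a ≠ 0 := fun h => hn (by rw [h, zero_mul])
    have hb : b ≠ 0 := fun h => hn (by rw [h, mul_zero])
    obtain ⟨k1, l1, e1, hk1, hl1⟩ := iha ha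
    obtain ⟨k2, l2, e2, hk2, hl2⟩ := ihb hb
    refine ⟨k1 * k2, l1 * l2, ?_, hk1.mul hk2, hl1.mul hl2⟩
    rw [e1, e2]; ring

end arith

section group

variable {G : Type*} [Group G]

/-- the class size of `g` -/
noncomputable def idx (g : G) : ℕ := (centralizer ({g} : Set G)).index

theorem idx_def (g : G) : idx g = (centralizer ({g} : Set G)).index := rfl

theorem idx_ne_zero [Finite G] (g : G) : idx g ≠ 0 := index_ne_zero_of_finite

theorem idx_eq_one_iff {g : G} : idx g = 1 ↔ g ∈ center G := Ito.index_eq_one_iff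

theorem idx_pow_dvd (g : G) (k : ℕ) : idx (g ^ k) ∣ idx g :=
  index_dvd_of_le (Ito.cent_le_cent_pow g k)

theorem mem_cent_conj {g x c : G} :
    c ∈ centralizer ({g * x * g⁻¹} : Set G) ↔ g⁻¹ * c * g ∈ centralizer ({x} : Set G) := by
  rw [Ito.mem_cent, Ito.mem_cent]
  constructor
  · intro h
    have e : g⁻¹ * c * g * x = g⁻¹ * (c * (g * x * g⁻¹)) * g := by group
    rw [e, h]; group
  · intro h
    have e : c * (g * x * g⁻¹) = g * (g⁻¹ * c * g * x) * g⁻¹ := by group
    rw [e, h]; group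

/-- splitting an element into commuting parts of `P`-order and `Q`-order, both powers of it -/
theorem exists_pi_split [Finite G] {P Q : ℕ → Prop} (hPQ : ∀ r : ℕ, r.Prime → P r ∨ Q r)
    (hdisj : ∀ r : ℕ, r.Prime → P r → Q r → False) (x : G) :
    ∃ a b : ℕ, x = x ^ a * x ^ b ∧ IsPi P (orderOf (x ^ a)) ∧ IsPi Q (orderOf (x ^ b)) := by
  obtain ⟨k, l, hkl, hk, hl⟩ := exists_isPi_split hPQ (orderOf x) (orderOf_pos x).ne'
  have hcop : Nat.Coprime k l := IsPi.coprime hdisj hk hl
  obtain ⟨a, ha1, ha2⟩ := Nat.chineseRemainder hcop 1 0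
  obtain ⟨b, hb1, hb2⟩ := Nat.chineseRemainder hcop 0 1
  refine ⟨a, b, ?_, ?_, ?_⟩
  · rw [← pow_add]
    have h1 : a + b ≡ 1 [MOD k] := by simpa using ha1.add hb1
    have h2 : a + b ≡ 1 [MOD l] := by simpa using ha2.add hb2
    have h3 : a + b ≡ 1 [MOD orderOf x] := by
      rw [hkl]
      exact (Nat.modEq_and_modEq_iff_modEq_mul hcop).mp ⟨h1, h2⟩
    conv_lhs => rw [← pow_one x]
    exact (pow_eq_pow_iff_modEq.mpr h3).symm
  · apply hk.of_dvd
    apply orderOf_dvd_of_pow_eq_one
    rw [← pow_mul, ← orderOf_dvd_iff_pow_eq_one, hkl, mul_comm a]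
    exact Nat.mul_dvd_mul_left _ ((Nat.modEq_zero_iff_dvd).mp ha2)
  · apply hl.of_dvd
    apply orderOf_dvd_of_pow_eq_one
    rw [← pow_mul, ← orderOf_dvd_iff_pow_eq_one, hkl]
    exact Nat.mul_dvd_mul ((Nat.modEq_zero_iff_dvd).mp hb1) dvd_rfl

/-- subgroups of coprime indices have product everything -/
theorem exists_mul_of_coprime_index [Finite G] (H K : Subgroup G)
    (h : Nat.Coprime H.index K.index) (g : G) : ∃ a ∈ H, ∃ b ∈ K, g = a * b := by
  have h1 : H.index ∣ (H ⊓ K).index := index_dvd_of_le inf_le_left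
  have h2 : K.index ∣ (H ⊓ K).index := index_dvd_of_le inf_le_right
  have h3 : H.index * K.index ∣ (H ⊓ K).index := h.mul_dvd_of_dvd_of_dvd h1 h2
  have h4 : (H ⊓ K).index ≤ H.index * K.index := index_inf_le
  have h5 : (H ⊓ K).index = H.index * K.index :=
    le_antisymm h4 (Nat.le_of_dvd (Nat.pos_of_ne_zero index_ne_zero_of_finite) h3)
  have h6 : K.relIndex H * H.index = (H ⊓ K).index := by
    rw [← inf_relIndex_left]
    exact relIndex_mul_index inf_le_left
  have h7 : K.relIndex H = K.index := by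
    rw [h5, mul_comm] at h6
    exact Nat.eq_of_mul_eq_mul_left (Nat.pos_of_ne_zero index_ne_zero_of_finite) h6
  -- the orbit of the base coset under `H`
  have hst : MulAction.stabilizer H ((1 : G) : G ⧸ K) = K.subgroupOf H := by
    ext x
    rw [MulAction.mem_stabilizer_iff, mem_subgroupOf]
    change ((x : G) • ((1 : G) : G ⧸ K)) = _ ↔ _
    rw [MulAction.Quotient.smul_mk, eq_comm, QuotientGroup.eq]
    simp
  have h8 : (MulAction.orbit H ((1 : G) : G ⧸ K)).ncard = Nat.card (G ⧸ K) := by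
    rw [← MulAction.index_stabilizer, hst]
    exact h7
  have h9 : MulAction.orbit H ((1 : G) : G ⧸ K) = Set.univ :=
    (Set.eq_univ_iff_ncard _).mpr h8
  have h10 : (g : G ⧸ K) ∈ MulAction.orbit H ((1 : G) : G ⧸ K) := by
    rw [h9]; exact Set.mem_univ _
  obtain ⟨a, ha⟩ := h10
  change ((a : G) • ((1 : G) : G ⧸ K)) = _ at ha
  rw [MulAction.Quotient.smul_mk, QuotientGroup.eq] at ha
  refine ⟨a, a.2, _, ha, ?_⟩
  simp

/-- `|HN|` divides `|H||N|` for `N` normal -/
theorem card_sup_dvd [Finite G] (H N : Subgroup G) [N.Normal] :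
    Nat.card (H ⊔ N : Subgroup G) ∣ Nat.card H * Nat.card N := by
  have h1 : N.relIndex (H ⊔ N) = N.relIndex H := relIndex_sup_right H N
  have h2 : Nat.card (N.subgroupOf (H ⊔ N)) * (N.subgroupOf (H ⊔ N)).index =
      Nat.card (H ⊔ N : Subgroup G) := card_mul_index _
  have h3 : Nat.card (N.subgroupOf (H ⊔ N)) = Nat.card N :=
    Nat.card_congr (subgroupOfEquivOfLe le_sup_right).toEquiv
  have h4 : (N.subgroupOf (H ⊔ N)).index = N.relIndex H := h1
  rw [h3, h4] at h2
  rw [← h2, mul_comm]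
  exact Nat.mul_dvd_mul (relIndex_dvd_card N H) dvd_rfl

/-- a normal subgroup of order coprime to a class size centralizes the element -/
theorem le_cent_of_coprime [Finite G] (N : Subgroup G) [N.Normal] (a : G)
    (h : Nat.Coprime (Nat.card N) (idx a)) : N ≤ centralizer ({a} : Set G) := by
  set C := centralizer ({a} : Set G) with hC
  have h1 : C.relIndex (C ⊔ N) ∣ idx a := relIndex_dvd_index_of_le le_sup_left
  have h2 : Nat.card (C.subgroupOf (C ⊔ N)) * (C.subgroupOf (C ⊔ N)).index =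
      Nat.card (C ⊔ N : Subgroup G) := card_mul_index _
  have h3 : Nat.card (C.subgroupOf (C ⊔ N)) = Nat.card C :=
    Nat.card_congr (subgroupOfEquivOfLe le_sup_left).toEquiv
  have h4 : Nat.card C * C.relIndex (C ⊔ N) ∣ Nat.card C * Nat.card N := by
    have := card_sup_dvd C N
    rw [← h2, h3] at this
    exact this
  have h5 : C.relIndex (C ⊔ N) ∣ Nat.card N :=
    Nat.dvd_of_mul_dvd_mul_left Nat.card_pos h4
  have h6 : C.relIndex (C ⊔ N) = 1 := Nat.eq_one_of_dvd_coprimes h h5 h1
  exact le_sup_right.trans (relIndex_eq_one.mp h6)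

/-- the class size is the number of conjugates -/
theorem ncard_conjugatesOf [Finite G] (g : G) : (conjugatesOf g).ncard = idx g := by
  have h1 : conjugatesOf g = MulAction.orbit (ConjAct G) g := by
    ext x
    rw [ConjAct.mem_orbit_conjAct]
    change IsConj g x ↔ IsConj x g
    exact isConj_comm
  rw [h1, ← MulAction.index_stabilizer]
  have h2 := card_mul_index (MulAction.stabilizer (ConjAct G) g)
  have h3 := card_mul_index (centralizer ({g} : Set G))
  have h4 : Nat.card (ConjAct G) = Nat.card G := rfl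
  rw [← nat_card_centralizer_nat_card_stabilizer, h4, ← h3] at h2
  exact Nat.eq_of_mul_eq_mul_left Nat.card_pos h2

theorem mem_conjugatesOf_iff' {a x : G} : x ∈ conjugatesOf a ↔ ∃ c : G, c * a * c⁻¹ = x :=
  isConj_iff

theorem idx_conj [Finite G] (g x : G) : idx (g * x * g⁻¹) = idx x := by
  rw [← ncard_conjugatesOf, ← ncard_conjugatesOf]
  congr 1
  apply IsConj.conjugatesOf_eq
  exact (isConj_iff.mpr ⟨g, rfl⟩).symm

/-- a finite group is not the union of the conjugates of a proper subgroup -/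
theorem eq_top_of_forall_conj_mem [Finite G] (H : Subgroup G)
    (h : ∀ x : G, ∃ g : G, g⁻¹ * x * g ∈ H) : H = ⊤ := by
  classical
  by_contra hne
  haveI : Fintype G := Fintype.ofFinite G
  haveI : Fintype (G ⧸ H) := Fintype.ofFinite _
  haveI : Fintype (Quotient (MulAction.orbitRel G (G ⧸ H))) := Fintype.ofFinite _
  have hB := MulAction.sum_card_fixedBy_eq_card_orbits_mul_card_group G (G ⧸ H)
  have h1 : Fintype.card (Quotient (MulAction.orbitRel G (G ⧸ H))) = 1 := by
    rw [Fintype.card_eq_one_iff]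
    refine ⟨Quotient.mk'' ((1 : G) : G ⧸ H), ?_⟩
    intro q
    induction q using Quotient.inductionOn' with
    | h a =>
      apply Quotient.sound'
      exact MulAction.exists_smul_eq G _ _
  rw [h1, one_mul] at hB
  have h2 : ∀ x : G, 1 ≤ Fintype.card (MulAction.fixedBy (G ⧸ H) x) := by
    intro x
    obtain ⟨g, hg⟩ := h x
    apply Fintype.card_pos_iff.mpr
    refine ⟨⟨(g : G ⧸ H), ?_⟩⟩
    rw [MulAction.mem_fixedBy, MulAction.Quotient.smul_mk, QuotientGroup.eq]
    have := H.inv_mem hg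
    simpa [smul_eq_mul, mul_assoc] using this
  have h3 : 2 ≤ Fintype.card (MulAction.fixedBy (G ⧸ H) (1 : G)) := by
    have e : Fintype.card (MulAction.fixedBy (G ⧸ H) (1 : G)) = Fintype.card (G ⧸ H) := by
      apply Fintype.card_congr
      exact (Equiv.subtypeUnivEquiv (fun a => by simp [MulAction.mem_fixedBy]))
    rw [e, ← Nat.card_eq_fintype_card, ← index_eq_card]
    have h0 : H.index ≠ 0 := index_ne_zero_of_finite
    have h1' : H.index ≠ 1 := fun h' => hne (index_eq_one.mp h')
    omega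
  have h4 : Fintype.card G + 1 ≤ ∑ a : G, Fintype.card (MulAction.fixedBy (G ⧸ H) a) := by
    have e := Finset.add_sum_erase Finset.univ
      (fun a : G => Fintype.card (MulAction.fixedBy (G ⧸ H) a)) (Finset.mem_univ (1 : G))
    rw [← e]
    have h5 : (Finset.univ.erase (1 : G)).card ≤
        ∑ a ∈ Finset.univ.erase (1 : G), Fintype.card (MulAction.fixedBy (G ⧸ H) a) := by
      rw [Finset.card_eq_sum_ones]
      exact Finset.sum_le_sum fun a _ => h2 a
    rw [Finset.card_erase_of_mem (Finset.mem_univ _), Finset.card_univ] at h5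
    have : 0 < Fintype.card G := Fintype.card_pos
    omega
  omega

/-- relative version: `M` is not covered by `M`-conjugates of a proper subgroup -/
theorem le_of_forall_conj_mem [Finite G] {M F : Subgroup G}
    (h : ∀ t ∈ M, ∃ u ∈ M, u * t * u⁻¹ ∈ F) : M ≤ F := by
  have h1 : F.subgroupOf M = ⊤ := by
    apply eq_top_of_forall_conj_mem
    intro x
    obtain ⟨u, hu, hut⟩ := h x x.2
    refine ⟨⟨u, hu⟩⁻¹, ?_⟩
    rw [mem_subgroupOf]
    simpa using hut
  exact subgroupOf_eq_top.mp h1

end group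

end Cfsg.Agent.Helper1.ClsGraph
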