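import Mathlib
import Cfsg.Agent.Helper7.PConstrainedLocal
import Cfsg.Agent.Helper7.RankGraph
import Cfsg.Agent.Helper15.EmbedA8
import Cfsg.Agent.Lead.GenCent
import Cfsg.Agent.Helper1.ClsGraph1

set_option autoImplicit false
set_option linter.style.haveILetI false
set_option linter.unusedSectionVars false

/-! # Early characteristic 2 type criteria (S3246) -/

namespace Cfsg.Agent.Helper1.CharTwoCrit

open Subgroup Cfsg

universe u

/-- An odd-order subgroup `Y` of a group `X` of characteristic 2, normalized by a 2-subgroup `R`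
such that `O_2(X) R` has order at most `2 |R|`, is trivial. -/
theorem lemK {X : Type*} [Group X] [Finite X] (hc : IsPConstrained 2 X) (hO : oddCore X = ⊥)
    (Y R : Subgroup X) (hYodd : Odd (Nat.card Y))
    (hRY : R ≤ normalizer (Y : Set X))
    (hidx : Nat.card ↥(pCore 2 X ⊔ R) ≤ 2 * Nat.card R) : Y = ⊥ := by
  haveI : Fact (Nat.Prime 2) := ⟨Nat.prime_two⟩
  set Q := pCore 2 X with hQ
  have hQn : Q.Normal := Cfsg.Agent.Helper14.pCore_normal 2
  have hQp : IsPGroup 2 ↥Q := Cfsg.Agent.Helper14.pCore_isPGroup 2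
  have hCQ : centralizer (Q : Set X) ≤ Q :=
    Cfsg.Agent.Helper15.centralizer_pCore_le_of_isPConstrained hc hO
  -- `Q ∩ Y = 1`
  have hQY : ∀ x, x ∈ Q → x ∈ Y → x = 1 := by
    intro x hxQ hxY
    have h1 : orderOf x ∣ Nat.card Y := by
      have := orderOf_dvd_natCard (⟨x, hxY⟩ : Y)
      rwa [Subgroup.orderOf_mk] at this
    obtain ⟨k, hk⟩ := (hQp.to_le le_rfl) ⟨x, hxQ⟩
    have h2 : orderOf x ∣ 2 ^ k := by
      apply orderOf_dvd_of_pow_eq_one
      have := congrArg Subtype.val hk
      simpa using this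
    have h3 : (Nat.card Y).Coprime (2 ^ k) := by
      apply Nat.Coprime.pow_right
      exact Nat.coprime_two_right.2 hYodd
    have h4 : orderOf x ∣ 1 := by
      have := Nat.dvd_gcd h1 h2
      rwa [h3] at this
    exact orderOf_eq_one_iff.1 (Nat.dvd_one.1 h4)
  set Q0 := Q ⊓ R with hQ0
  -- sub-claim 1
  have h1 : ∀ y ∈ Y, ∀ c ∈ Q0, y * c * y⁻¹ = c := by
    intro y hy c hc
    have hcQ : c ∈ Q := hc.1
    have hcR : c ∈ R := hc.2
    have hcy : c * y⁻¹ * c⁻¹ ∈ Y := by
      have := (mem_normalizer_iff.1 (hRY hcR) y⁻¹).1 (Y.inv_mem hy)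
      exact this
    have hA : y * c * y⁻¹ * c⁻¹ ∈ Y := by
      have : y * c * y⁻¹ * c⁻¹ = y * (c * y⁻¹ * c⁻¹) := by group
      rw [this]; exact Y.mul_mem hy hcy
    have hB : y * c * y⁻¹ * c⁻¹ ∈ Q := by
      exact Q.mul_mem (hQn.conj_mem c hcQ y) (Q.inv_mem hcQ)
    have := hQY _ hB hA
    calc y * c * y⁻¹ = (y * c * y⁻¹ * c⁻¹) * c := by group
      _ = c := by rw [this, one_mul]
  -- index
  have hcard : Nat.card Q ≤ 2 * Nat.card Q0 := by
    have h2 := Cfsg.Agent.Helper17.card_sup_mul_card_inf_of_normal Q R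
    have hRpos : 0 < Nat.card R := Nat.card_pos
    have : Nat.card Q * Nat.card R ≤ 2 * Nat.card R * Nat.card Q0 := by
      rw [← h2]
      exact Nat.mul_le_mul_right _ hidx
    nlinarith
  -- 2-elements killed by odd powers
  have hodd2 : ∀ c ∈ Q, ∀ n : ℕ, Odd n → c ^ n = 1 → c = 1 := by
    intro c hcQ n hn hcn
    obtain ⟨k, hk⟩ := (hQp.to_le le_rfl) ⟨c, hcQ⟩
    have h2 : orderOf c ∣ 2 ^ k := by
      apply orderOf_dvd_of_pow_eq_one
      have := congrArg Subtype.val hk
      simpa using this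
    have h3 : orderOf c ∣ n := orderOf_dvd_of_pow_eq_one hcn
    have h4 : (n).Coprime (2 ^ k) := Nat.Coprime.pow_right _ (Nat.coprime_two_right.2 hn)
    have h5 : orderOf c ∣ 1 := by
      have := Nat.dvd_gcd h3 h2
      rwa [h4] at this
    exact orderOf_eq_one_iff.1 (Nat.dvd_one.1 h5)
  -- sub-claim 2
  have key : ∀ y ∈ Y, ∀ q ∈ Q, q⁻¹ * (y * q * y⁻¹) ∈ Q0 := by
    intro y hy q hq
    have hconj : y * q * y⁻¹ ∈ Q := hQn.conj_mem q hq y
    by_cases hEq : Q0 = Q
    · rw [hEq]; exact Q.mul_mem (Q.inv_mem hq) hconj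
    · have hle : Q0 ≤ Q := inf_le_left
      have hlt : Q0 < Q := lt_of_le_of_ne hle hEq
      have hri : Q0.relIndex Q * Nat.card Q0 = Nat.card Q := by
        have := Cfsg.Agent.Helper17.relIndex_mul_card_inf Q0 Q
        rwa [inf_eq_left.2 hle] at this
      have hri2 : Q0.relIndex Q = 2 := by
        have hpos : 0 < Nat.card Q0 := Nat.card_pos
        have h1' : Q0.relIndex Q ≤ 2 := by
          by_contra hcon
          rw [not_le] at hcon
          have : 3 * Nat.card Q0 ≤ Q0.relIndex Q * Nat.card Q0 := Nat.mul_le_mul_right _ hcon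
          omega
        have h2' : Q0.relIndex Q ≠ 1 := by
          intro h
          rw [Subgroup.relIndex_eq_one] at h
          exact hEq (le_antisymm hle h)
        have h3' : Q0.relIndex Q ≠ 0 := by
          intro h
          rw [h, zero_mul] at hri
          have : 0 < Nat.card Q := Nat.card_pos
          omega
        omega
      have hidx2 : (Q0.subgroupOf Q).index = 2 := hri2
      have hiff := Subgroup.mul_mem_iff_of_index_two hidx2
        (a := (⟨q⁻¹, Q.inv_mem hq⟩ : Q)) (b := (⟨y * q * y⁻¹, hconj⟩ : Q))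
      have hgoal : (⟨q⁻¹, Q.inv_mem hq⟩ : Q) * ⟨y * q * y⁻¹, hconj⟩ ∈ Q0.subgroupOf Q := by
        rw [hiff]
        simp only [mem_subgroupOf]
        rw [Subgroup.inv_mem_iff]
        constructor
        · intro hq0
          rw [h1 y hy q hq0]; exact hq0
        · intro hq0
          have := h1 y⁻¹ (Y.inv_mem hy) _ hq0
          have h' : q = y * q * y⁻¹ := by
            rw [← this]; group
          rw [h']; exact hq0
      simpa [mem_subgroupOf] using hgoal
  have hcent : ∀ y ∈ Y, ∀ q ∈ Q, y * q * y⁻¹ = q := by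
    intro y hy q hq
    set c := q⁻¹ * (y * q * y⁻¹) with hc
    have hc0 : c ∈ Q0 := key y hy q hq
    have hcy : y * c * y⁻¹ = c := h1 y hy c hc0
    have hyq : y * q * y⁻¹ = q * c := by rw [hc]; group
    have hpow : ∀ k : ℕ, y ^ k * q * (y ^ k)⁻¹ = q * c ^ k := by
      intro k
      induction k with
      | zero => simp
      | succ k ih =>
        have : y ^ (k + 1) * q * (y ^ (k + 1))⁻¹ = y * (y ^ k * q * (y ^ k)⁻¹) * y⁻¹ := by
          rw [pow_succ']; group
        rw [this, ih]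
        have : y * (q * c ^ k) * y⁻¹ = (y * q * y⁻¹) * (y * c * y⁻¹) ^ k := by
          rw [conj_pow]; group
        rw [this, hyq, hcy, pow_succ', mul_assoc]
    have hk := hpow (orderOf y)
    rw [pow_orderOf_eq_one] at hk
    simp only [one_mul, inv_one, mul_one] at hk
    have hck : c ^ orderOf y = 1 := by
      have : q * c ^ orderOf y = q * 1 := by rw [mul_one]; exact hk.symm
      exact mul_left_cancel this
    have hoy : Odd (orderOf y) := by
      have hd : orderOf y ∣ Nat.card Y := by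
        have := orderOf_dvd_natCard (⟨y, hy⟩ : Y)
        rwa [Subgroup.orderOf_mk] at this
      exact Odd.of_dvd_nat hYodd hd
    have hc1 : c = 1 := hodd2 c hc0.1 _ hoy hck
    rw [hyq, hc1, mul_one]
  have hYC : Y ≤ centralizer (Q : Set X) := by
    intro y hy
    rw [mem_centralizer_iff]
    intro q hq
    have := hcent y hy q hq
    calc q * y = (y * q * y⁻¹) * y := by rw [this]
      _ = y * q := by group
  rw [eq_bot_iff]
  intro y hy
  rw [mem_bot]
  exact hQY y (hCQ (hYC hy)) hy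

/-- In a 2-group, an element of a normal subgroup of order 4 has centralizer of index at most 2. -/
theorem index_centralizer_le_two {P : Type*} [Group P] [Finite P] (hP : IsPGroup 2 P)
    (U : Subgroup P) [hU : U.Normal] (hU4 : Nat.card U = 4) (a : P) (haU : a ∈ U) (ha1 : a ≠ 1) :
    (centralizer ({a} : Set P)).index ≤ 2 := by
  haveI : Fact (Nat.Prime 2) := ⟨Nat.prime_two⟩
  have h1 := Cfsg.Agent.Helper1.ClsGraph.ncard_conjugatesOf a
  rw [Cfsg.Agent.Helper1.ClsGraph.idx_def] at h1
  have hsub : conjugatesOf a ⊆ (U : Set P) \ {1} := by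
    intro x hx
    rw [Cfsg.Agent.Helper1.ClsGraph.mem_conjugatesOf_iff'] at hx
    obtain ⟨c, rfl⟩ := hx
    refine ⟨hU.conj_mem a haU c, ?_⟩
    rw [Set.mem_singleton_iff]
    intro h
    apply ha1
    have : a = c⁻¹ * (c * a * c⁻¹) * c := by group
    rw [this, h]; group
  have h2 : (conjugatesOf a).ncard ≤ ((U : Set P) \ {1}).ncard :=
    Set.ncard_le_ncard hsub (Set.toFinite _)
  have h3 : ((U : Set P) \ {1}).ncard = 3 := by
    have h4 : ((U : Set P) \ {1}).ncard = (U : Set P).ncard - 1 :=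
      Set.ncard_sdiff_singleton_of_mem U.one_mem
    rw [h4]
    have : (U : Set P).ncard = 4 := by
      rw [← hU4]; rfl
    rw [this]
  obtain ⟨n, hn⟩ := hP.index (centralizer ({a} : Set P))
  rw [h1, h3, hn] at h2
  rw [hn]
  rcases n with _ | _ | n
  · norm_num
  · norm_num
  · exfalso
    have : 2 ^ 2 ≤ 2 ^ (n + 1 + 1) := Nat.pow_le_pow_right (by norm_num) (by omega)
    omega

/-- A 2-subgroup of a subgroup has order at most that of a Sylow 2-subgroup. -/
theorem card_le_card_sylow {G : Type*} [Group G] [Finite G] (S : Sylow 2 G) (H : Subgroup G)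
    (P : Subgroup ↥H) (hP : IsPGroup 2 P) : Nat.card P ≤ Nat.card S := by
  haveI : Fact (Nat.Prime 2) := ⟨Nat.prime_two⟩
  obtain ⟨k, hk⟩ := IsPGroup.iff_card.1 hP
  have h1 : Nat.card P ∣ Nat.card G :=
    (Subgroup.card_subgroup_dvd_card P).trans (Subgroup.card_subgroup_dvd_card H)
  rw [hk] at h1
  have h2 : k ≤ (Nat.card G).factorization 2 :=
    (Nat.Prime.pow_dvd_iff_le_factorization Nat.prime_two Nat.card_pos.ne').1 h1
  rw [hk, Sylow.card_eq_multiplicity]
  exact Nat.pow_le_pow_right (by norm_num) h2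

/-- Every 2-local subgroup lies in a maximal 2-local subgroup. -/
theorem exists_maximalTwoLocal_ge {G : Type*} [Group G] [Finite G] (N : Subgroup G)
    (hN : IsTwoLocal N) : ∃ M : Subgroup G, IsMaximalTwoLocal M ∧ N ≤ M := by
  set 𝒮 : Set (Subgroup G) := {M | IsTwoLocal M ∧ N ≤ M} with h𝒮
  have hN𝒮 : N ∈ 𝒮 := ⟨hN, le_rfl⟩
  obtain ⟨M, hNM, hM⟩ := Set.Finite.exists_le_maximal (Set.toFinite 𝒮) hN𝒮
  refine ⟨M, ⟨hM.1.1, ?_⟩, hNM⟩
  intro N' hN' hMN'
  exact le_antisymm (hM.2 ⟨hN', hNM.trans hMN'⟩ hMN') hMN'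

/-- The key step: if `C_G(a) ≤ H` with `H` of characteristic 2 and `C_S(a)` of index at most 2 in
the Sylow 2-subgroup `S`, then an `S`-invariant odd-order subgroup `X` has `C_X(a) = 1`. -/
theorem centralizer_inf_eq_bot {G : Type*} [Group G] [Finite G] (S : Sylow 2 G)
    (X : Subgroup G) (hX : Odd (Nat.card X)) (hSX : (S : Subgroup G) ≤ normalizer (X : Set G))
    (a : G) (hidx : Nat.card S ≤ 2 * Nat.card ↥((S : Subgroup G) ⊓ centralizer ({a} : Set G)))
    (H : Subgroup G) (hc : IsPConstrained 2 ↥H) (hO : oddCore ↥H = ⊥)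
    (hCH : centralizer ({a} : Set G) ≤ H) :
    X ⊓ centralizer ({a} : Set G) = ⊥ := by
  haveI : Fact (Nat.Prime 2) := ⟨Nat.prime_two⟩
  set Y := X ⊓ centralizer ({a} : Set G) with hY
  set Sa := (S : Subgroup G) ⊓ centralizer ({a} : Set G) with hSa
  have hYH : Y ≤ H := inf_le_right.trans hCH
  have hSaH : Sa ≤ H := inf_le_right.trans hCH
  have hSaP : IsPGroup 2 ↥Sa := S.isPGroup'.to_le inf_le_left
  have hYodd : Odd (Nat.card (Y.subgroupOf H)) := by
    rw [Cfsg.Agent.Helper17.card_subgroupOf_of_le hYH]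
    exact Odd.of_dvd_nat hX (Subgroup.card_dvd_of_le inf_le_left)
  -- normalization in `G`
  have hnorm : ∀ g ∈ Sa, ∀ y : G, y ∈ Y ↔ g * y * g⁻¹ ∈ Y := by
    intro g hg y
    have hgN : g ∈ normalizer (X : Set G) := hSX hg.1
    have hgC : g ∈ centralizer ({a} : Set G) := hg.2
    rw [hY, Subgroup.mem_inf, Subgroup.mem_inf, ← mem_normalizer_iff.1 hgN y]
    constructor
    · rintro ⟨h1, h2⟩
      exact ⟨h1, Subgroup.mul_mem _ (Subgroup.mul_mem _ hgC h2) (Subgroup.inv_mem _ hgC)⟩
    · rintro ⟨h1, h2⟩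
      refine ⟨h1, ?_⟩
      have : y = g⁻¹ * (g * y * g⁻¹) * g := by group
      rw [this]
      exact Subgroup.mul_mem _ (Subgroup.mul_mem _ (Subgroup.inv_mem _ hgC) h2) hgC
  have hRY : Sa.subgroupOf H ≤ normalizer ((Y.subgroupOf H : Subgroup ↥H) : Set ↥H) := by
    intro r hr
    rw [mem_subgroupOf] at hr
    rw [mem_normalizer_iff]
    intro y
    rw [mem_subgroupOf, mem_subgroupOf]
    exact hnorm (r : G) hr (y : G)
  have hidx' : Nat.card ↥(pCore 2 ↥H ⊔ Sa.subgroupOf H) ≤ 2 * Nat.card (Sa.subgroupOf H) := by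
    haveI : (pCore 2 ↥H).Normal := Cfsg.Agent.Helper14.pCore_normal 2
    have hp : IsPGroup 2 ↥(pCore 2 ↥H ⊔ Sa.subgroupOf H) :=
      IsPGroup.to_sup_of_normal_left (Cfsg.Agent.Helper14.pCore_isPGroup 2) hSaP.comap_subtype
    rw [Cfsg.Agent.Helper17.card_subgroupOf_of_le hSaH]
    exact (card_le_card_sylow S H _ hp).trans hidx
  have h := lemK hc hO (Y.subgroupOf H) (Sa.subgroupOf H) hYodd hRY hidx'
  rw [Subgroup.subgroupOf_eq_bot] at h
  exact le_bot_iff.1 (h le_rfl hYH)

/-- Every 2-local subgroup is 2-constrained (in the form `L_{2'} = 1`). -/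
theorem c2 {G : Type u} [Group G] [Finite G]
    (h : (∀ M : Subgroup G, IsMaximalTwoLocal M → IsPConstrained 2 ↥M ∧ oddCore ↥M = ⊥) ∨
      (∀ t : G, orderOf t = 2 → IsPConstrained 2 ↥(centralizer ({t} : Set G)) ∧
        oddCore ↥(centralizer ({t} : Set G)) = ⊥))
    (T : Subgroup G) (hT : IsPGroup 2 ↥T) (hT1 : T ≠ ⊥) :
    IsPConstrained 2 ↥(normalizer (T : Set G)) := by
  haveI : Fact (Nat.Prime 2) := ⟨Nat.prime_two⟩
  rw [Cfsg.Agent.Helper7.isPConstrained_iff]
  set N := normalizer (T : Set G) with hN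
  rcases h with h | h
  · set 𝒮 : Set (Subgroup G) := {M | IsTwoLocal M ∧ N ≤ M} with h𝒮
    have hN𝒮 : N ∈ 𝒮 := ⟨⟨T, hT, hT1, rfl⟩, le_rfl⟩
    obtain ⟨M, hNM, hM⟩ := Set.Finite.exists_le_maximal (Set.toFinite 𝒮) hN𝒮
    have hMmax : IsMaximalTwoLocal M := by
      refine ⟨hM.1.1, ?_⟩
      intro N' hN' hMN'
      exact le_antisymm (hM.2 ⟨hN', hNM.trans hMN'⟩ hMN') hMN'
    have hMc : pLayer 2 ↥M = ⊥ := Cfsg.Agent.Helper7.isPConstrained_iff.mp (h M hMmax).1
    have hTM : T ≤ M := le_normalizer.trans hNM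
    have := Cfsg.Agent.Helper7.pLayer_normalizer_inf_eq_bot hMc hT hTM
    rw [inf_eq_left.2 hNM] at this
    exact this
  · haveI : Nontrivial T := (nontrivial_iff_ne_bot T).2 hT1
    haveI : Nontrivial (center T) := hT.center_nontrivial
    have hZp : IsPGroup 2 (center T) := hT.to_subgroup _
    have hdvd : 2 ∣ Nat.card (center T) := by
      rcases hZp.card_eq_or_dvd with h1 | h1
      · exfalso
        have : Subsingleton (center T) := (Nat.card_eq_one_iff_unique.1 h1).1
        exact not_subsingleton (center T) this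
      · exact h1
    obtain ⟨z, hz⟩ := exists_prime_orderOf_dvd_card' 2 hdvd
    set x : G := ((z : T) : G) with hx
    have hxo : orderOf x = 2 := by
      rw [hx, Subgroup.orderOf_coe, Subgroup.orderOf_coe]; exact hz
    have hxT : x ∈ T := (z : T).2
    set C := centralizer ({x} : Set G) with hC
    have hTC : T ≤ C := by
      intro y hy
      rw [hC, mem_centralizer_singleton_iff]
      have := Subgroup.mem_center_iff.1 z.2 ⟨y, hy⟩
      exact (congrArg Subtype.val this)
    have hCc : pLayer 2 ↥C = ⊥ := Cfsg.Agent.Helper7.isPConstrained_iff.mp (h x hxo).1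
    have h1 := Cfsg.Agent.Helper7.pLayer_normalizer_inf_eq_bot hCc hT hTC
    have hxN : x ∈ N := le_normalizer hxT
    set x' : N := ⟨x, hxN⟩ with hx'
    have h2 : centralizer ({x'} : Set N) = C.subgroupOf N := by
      ext y
      rw [mem_centralizer_singleton_iff, mem_subgroupOf, hC, mem_centralizer_singleton_iff]
      constructor
      · intro hy
        exact congrArg Subtype.val hy
      · intro hy
        exact Subtype.ext hy
    have h3 : C.subgroupOf N = (N ⊓ C).subgroupOf N := by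
      rw [inf_comm, inf_subgroupOf_right]
    let e : ↥(N ⊓ C) ≃* ↥(centralizer ({x'} : Set N)) :=
      ((MulEquiv.subgroupCongr (h2.trans h3)).trans (subgroupOfEquivOfLe inf_le_left)).symm
    have h4 : pLayer 2 ↥(centralizer ({x'} : Set N)) = ⊥ :=
      Cfsg.Agent.Helper7.pLayer_eq_bot_of_mulEquiv e h1
    apply Cfsg.Agent.Helper7.pLayer_eq_bot_of_centralizer (x := x') _ h4
    have : T.subgroupOf N ≤ pCore 2 N :=
      Cfsg.Agent.Helper14.le_pCore 2 normal_in_normalizer hT.comap_subtype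
    exact this (mem_subgroupOf.2 hxT)

/-- In a cyclic group a subgroup of exponent 2 has order at most 2. -/
theorem card_le_two_of_isCyclic {A : Type*} [Group A] [Finite A] (hA : IsCyclic A)
    (B : Subgroup A) (hB : ∀ b ∈ B, b ^ 2 = 1) : Nat.card B ≤ 2 := by
  haveI : IsCyclic B := Subgroup.isCyclic B
  obtain ⟨g, hg⟩ := IsCyclic.exists_generator (α := B)
  have h1 : Nat.card B = orderOf g := (orderOf_eq_card_of_forall_mem_zpowers hg).symm
  have h2 : g ^ 2 = 1 := by
    apply Subtype.ext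
    have := hB (g : A) g.2
    simpa using this
  have h3 : orderOf g ∣ 2 := orderOf_dvd_of_pow_eq_one h2
  have h4 : orderOf g ≤ 2 := Nat.le_of_dvd (by norm_num) h3
  rw [h1]; exact h4

/-- A cyclic group has 2-rank at most 2 (indeed 1). -/
theorem pRankLE_of_isCyclic {A : Type*} [Group A] [Finite A] (hA : IsCyclic A) : PRankLE 2 2 A := by
  intro B _ hB
  have := card_le_two_of_isCyclic hA B hB
  omega

/-- `S` normalizes no nontrivial subgroup of odd order. -/
theorem c1 {G : Type u} [Group G] [Finite G]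
    (S : Sylow 2 G) (A : Subgroup G) (hA : IsSCN (S : Subgroup G) A) (hA3 : ¬ PRankLE 2 2 ↥A)
    (h : (∀ M : Subgroup G, IsMaximalTwoLocal M → IsPConstrained 2 ↥M ∧ oddCore ↥M = ⊥) ∨
      (∀ t : G, orderOf t = 2 → IsPConstrained 2 ↥(centralizer ({t} : Set G)) ∧
        oddCore ↥(centralizer ({t} : Set G)) = ⊥))
    (X : Subgroup G) (hX : Odd (Nat.card X))
    (hSX : (S : Subgroup G) ≤ normalizer (X : Set G)) : X = ⊥ := by
  haveI : Fact (Nat.Prime 2) := ⟨Nat.prime_two⟩
  obtain ⟨hAS, hSA, hCA⟩ := hA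
  have hSp : IsPGroup 2 ↥(S : Subgroup G) := S.isPGroup'
  -- the normal four-group
  have hAn : (A.subgroupOf (S : Subgroup G)).Normal := by
    constructor
    intro x hx g
    rw [mem_subgroupOf] at hx ⊢
    exact (mem_normalizer_iff.1 (hSA g.2) x).1 hx
  have hAcomm : ∀ x ∈ A, ∀ y ∈ A, x * y = y * x := by
    intro x hx y hy
    have : y ∈ centralizer (A : Set G) := by
      have : y ∈ (S : Subgroup G) ⊓ centralizer (A : Set G) := by rw [hCA]; exact hy
      exact this.2
    exact (mem_centralizer_iff.1 this x hx)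
  have hAc : IsMulCommutative (A.subgroupOf (S : Subgroup G)) := by
    refine ⟨⟨fun x y => ?_⟩⟩
    apply Subtype.ext
    apply Subtype.ext
    exact hAcomm _ x.2 _ y.2
  have hnc : ¬ IsCyclic (A.subgroupOf (S : Subgroup G)) := by
    intro hcyc
    apply hA3
    have : IsCyclic A :=
      isCyclic_of_surjective (subgroupOfEquivOfLe hAS) (subgroupOfEquivOfLe hAS).surjective
    exact pRankLE_of_isCyclic this
  obtain ⟨U, hUn, hUel, hU4⟩ :=
    Cfsg.Agent.Helper7.exists_normal_elemAb_sq_of_normal_abelian hSp _ hAn hAc hnc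
  have hU4' : Nat.card U = 4 := by rw [hU4]; norm_num
  set UG : Subgroup G := U.map (S : Subgroup G).subtype with hUG
  have hUGS : UG ≤ (S : Subgroup G) := map_subtype_le _
  have hUGcard : Nat.card UG = 4 := by
    rw [← hU4']
    exact (Nat.card_congr (U.equivMapOfInjective _
      (subtype_injective (S : Subgroup G))).toEquiv).symm
  have hUGsq : ∀ a ∈ UG, a ^ 2 = 1 := by
    rintro _ ⟨u, hu, rfl⟩
    have := hUel.2 u hu
    have h2 := congrArg Subtype.val this
    simpa using h2
  haveI hUGc : IsMulCommutative UG := by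
    refine ⟨⟨fun x y => ?_⟩⟩
    obtain ⟨x, ⟨u, hu, rfl⟩⟩ := x
    obtain ⟨y, ⟨v, hv, rfl⟩⟩ := y
    apply Subtype.ext
    have := hUel.1.is_comm.comm (⟨u, hu⟩ : U) ⟨v, hv⟩
    have h2 := congrArg (fun z : U => ((z : (S : Subgroup G)) : G)) this
    simpa using h2
  have hUGnc : ¬ IsCyclic UG := by
    intro hcyc
    have := card_le_two_of_isCyclic hcyc ⊤ (fun a _ => by
      apply Subtype.ext
      have := hUGsq (a : G) a.2
      simpa using this)
    rw [Subgroup.card_top, hUGcard] at this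
    omega
  have hUX : UG ≤ normalizer (X : Set G) := hUGS.trans hSX
  have hcop : (Nat.card UG).Coprime (Nat.card X) := by
    rw [hUGcard]
    have : (4 : ℕ) = 2 ^ 2 := by norm_num
    rw [this]
    exact Nat.Coprime.pow_left _ (Nat.coprime_two_left.2 hX)
  have hgen := Cfsg.Agent.Lead.generated_by_centralizers UG X hUGnc hUX hcop
  rw [← hgen, eq_bot_iff]
  apply iSup₂_le
  rintro a ⟨haU, ha1⟩
  rw [le_bot_iff]
  have ha2 : a ^ 2 = 1 := hUGsq a haU
  have hao : orderOf a = 2 := orderOf_eq_prime ha2 ha1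
  have haS : a ∈ (S : Subgroup G) := hUGS haU
  have hidx : Nat.card S ≤ 2 * Nat.card ↥((S : Subgroup G) ⊓ centralizer ({a} : Set G)) := by
    set a' : (S : Subgroup G) := ⟨a, haS⟩ with ha'
    have ha'U : a' ∈ U := by
      obtain ⟨u, hu, hua⟩ := haU
      have : u = a' := Subtype.ext hua
      rw [← this]; exact hu
    have ha'1 : a' ≠ 1 := fun h => ha1 (congrArg Subtype.val h)
    have h1 := index_centralizer_le_two hSp U hU4' a' ha'U ha'1
    have h2 := Subgroup.card_mul_index (centralizer ({a'} : Set (S : Subgroup G)))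
    have h3 : centralizer ({a'} : Set (S : Subgroup G)) =
        (centralizer ({a} : Set G)).subgroupOf (S : Subgroup G) := by
      ext y
      rw [mem_centralizer_singleton_iff, mem_subgroupOf, mem_centralizer_singleton_iff]
      constructor
      · intro hy; exact congrArg Subtype.val hy
      · intro hy; exact Subtype.ext hy
    rw [h3] at h1
    rw [h3, Cfsg.Agent.Helper17.card_subgroupOf, inf_comm] at h2
    have h4 : Nat.card S = Nat.card ↥(S : Subgroup G) := rfl
    rw [h4, ← h2, mul_comm]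
    exact Nat.mul_le_mul_right _ h1
  rcases h with h | h
  · have hzp : IsPGroup 2 ↥(zpowers a) := by
      apply IsPGroup.of_card (n := 1)
      rw [Nat.card_zpowers, hao, pow_one]
    have hz1 : zpowers a ≠ ⊥ := zpowers_ne_bot.2 ha1
    have hloc : IsTwoLocal (normalizer ((zpowers a : Subgroup G) : Set G)) :=
      ⟨zpowers a, hzp, hz1, rfl⟩
    obtain ⟨M, hMmax, hNM⟩ := exists_maximalTwoLocal_ge _ hloc
    obtain ⟨hc, hO⟩ := h M hMmax
    have hCM : centralizer ({a} : Set G) ≤ M := by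
      refine le_trans ?_ hNM
      rw [← Cfsg.Agent.Helper7.centralizer_zpowers_eq']
      exact centralizer_le_normalizer _
    exact centralizer_inf_eq_bot S X hX hSX a hidx M hc hO hCM
  · obtain ⟨hc, hO⟩ := h a hao
    exact centralizer_inf_eq_bot S X hX hSX a hidx _ hc hO le_rfl

end Cfsg.Agent.Helper1.CharTwoCrit
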