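import Mathlib
import Cfsg.Agent.Helper1.ClsGraph1

/-!
Disconnected class-size prime graph, part 2: the product of a class of maximal size with a class
of coprime size; elements whose class size is coprime to the maximal one commute pairwise.
-/

set_option autoImplicit false

namespace Cfsg.Agent.Helper1.ClsGraph

open Subgroup Pointwise

variable {G : Type*} [Group G]

theorem conj_mem_conjugatesOf {y z : G} (hz : z ∈ conjugatesOf y) (w : G) :
    w * z * w⁻¹ ∈ conjugatesOf y := by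
  obtain ⟨c, rfl⟩ := mem_conjugatesOf_iff'.mp hz
  exact mem_conjugatesOf_iff'.mpr ⟨w * c, by group⟩

/-- simultaneous conjugation of a pair with coprime class sizes -/
theorem mul_mem_conjugatesOf_mul [Finite G] {y a d c : G} (hcop : Nat.Coprime (idx y) (idx a))
    (hd : d ∈ conjugatesOf y) (hc : c ∈ conjugatesOf a) : d * c ∈ conjugatesOf (y * a) := by
  obtain ⟨g, rfl⟩ := mem_conjugatesOf_iff'.mp hd
  obtain ⟨h, rfl⟩ := mem_conjugatesOf_iff'.mp hc
  obtain ⟨u, hu, v, hv, huv⟩ := exists_mul_of_coprime_index _ _ hcop (g⁻¹ * h)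
  rw [mem_conjugatesOf_iff']
  refine ⟨g * u, ?_⟩
  have hu' : u * y = y * u := Ito.mem_cent.mp hu
  have hv' : v * a = a * v := Ito.mem_cent.mp hv
  have hh : h = g * u * v := by rw [mul_assoc, ← huv]; group
  have e1 : u * y * u⁻¹ = y := by rw [hu']; group
  have e2 : v * a * v⁻¹ = a := by rw [hv']; group
  calc g * u * (y * a) * (g * u)⁻¹
      = g * (u * y * u⁻¹) * g⁻¹ * ((g * u) * a * (g * u)⁻¹) := by group
    _ = g * y * g⁻¹ * ((g * u) * (v * a * v⁻¹) * (g * u)⁻¹) := by rw [e1, e2]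
    _ = g * y * g⁻¹ * (h * a * h⁻¹) := by rw [hh]; group

/-- the key consequence of maximality -/
theorem mul_mul_inv_mem [Finite G] {y a d c₁ c₂ : G} (hmax : ∀ g : G, idx g ≤ idx y)
    (hcop : Nat.Coprime (idx y) (idx a)) (hd : d ∈ conjugatesOf y)
    (h1 : c₁ ∈ conjugatesOf a) (h2 : c₂ ∈ conjugatesOf a) :
    d * c₁ * c₂⁻¹ ∈ conjugatesOf y := by
  have key : (fun d => d * c₂) '' (conjugatesOf y) = conjugatesOf (y * a) := by
    apply Set.eq_of_subset_of_ncard_le
    · rintro _ ⟨d', hd', rfl⟩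
      exact mul_mem_conjugatesOf_mul hcop hd' h2
    · rw [Set.ncard_image_of_injective _ (mul_left_injective c₂), ncard_conjugatesOf,
        ncard_conjugatesOf]
      exact hmax _
    · exact Set.toFinite _
  have h3 : d * c₁ ∈ conjugatesOf (y * a) := mul_mem_conjugatesOf_mul hcop hd h1
  rw [← key] at h3
  obtain ⟨d', hd', e⟩ := h3
  have e' : d * c₁ * c₂⁻¹ = d' := by
    have : d' * c₂ = d * c₁ := e
    rw [← this]; group
  rw [e']; exact hd'

/-- the right stabilizer of a set -/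
def rstab (D : Set G) : Subgroup G where
  carrier := {k | ∀ d ∈ D, d * k ∈ D ∧ d * k⁻¹ ∈ D}
  one_mem' := by
    intro d hd
    simp [hd]
  mul_mem' := by
    intro k1 k2 h1 h2 d hd
    constructor
    · rw [← mul_assoc]; exact (h2 _ (h1 d hd).1).1
    · rw [mul_inv_rev, ← mul_assoc]; exact (h1 _ (h2 d hd).2).2
  inv_mem' := by
    intro k h d hd
    rw [inv_inv]
    exact ⟨(h d hd).2, (h d hd).1⟩

theorem mem_rstab {D : Set G} {k : G} :
    k ∈ rstab D ↔ ∀ d ∈ D, d * k ∈ D ∧ d * k⁻¹ ∈ D := Iff.rfl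

theorem card_rstab_dvd (D : Set G) : Nat.card (rstab D) ∣ D.ncard := by
  have h := card_mul_eq_card_subgroup_mul_card_quotient (rstab D) D
  have e : D * (rstab D : Set G) = D := by
    ext x; constructor
    · rintro ⟨d, hd, k, hk, rfl⟩; exact (hk d hd).1
    · intro hx; exact ⟨x, hx, 1, (rstab D).one_mem, mul_one x⟩
  rw [e, Nat.card_coe_set_eq] at h
  rw [h]; exact dvd_mul_right _ _

instance rstab_normal (y : G) : (rstab (conjugatesOf y)).Normal := by
  constructor
  intro k hk g d hd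
  have h1 := hk _ (conj_mem_conjugatesOf hd g⁻¹)
  constructor
  · have e : d * (g * k * g⁻¹) = g * (g⁻¹ * d * g⁻¹⁻¹ * k) * g⁻¹ := by group
    rw [e]; exact conj_mem_conjugatesOf h1.1 g
  · have e : d * (g * k * g⁻¹)⁻¹ = g * (g⁻¹ * d * g⁻¹⁻¹ * k⁻¹) * g⁻¹ := by group
    rw [e]; exact conj_mem_conjugatesOf h1.2 g

theorem comm_mem_rstab [Finite G] {y a : G} (hmax : ∀ g : G, idx g ≤ idx y)
    (hcop : Nat.Coprime (idx y) (idx a)) (g : G) :
    g * a * g⁻¹ * a⁻¹ ∈ rstab (conjugatesOf y) := by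
  have ha : a ∈ conjugatesOf a := mem_conjugatesOf_self
  have hga : g * a * g⁻¹ ∈ conjugatesOf a := conj_mem_conjugatesOf ha g
  intro d hd
  constructor
  · have e : d * (g * a * g⁻¹ * a⁻¹) = d * (g * a * g⁻¹) * a⁻¹ := by group
    rw [e]; exact mul_mul_inv_mem hmax hcop hd hga ha
  · have e : d * (g * a * g⁻¹ * a⁻¹)⁻¹ = d * a * (g * a * g⁻¹)⁻¹ := by group
    rw [e]; exact mul_mul_inv_mem hmax hcop hd ha hga

theorem card_rstab_dvd_idx [Finite G] (y : G) : Nat.card (rstab (conjugatesOf y)) ∣ idx y := by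
  rw [← ncard_conjugatesOf]; exact card_rstab_dvd _

theorem rstab_le_cent [Finite G] {y a : G} (hcop : Nat.Coprime (idx y) (idx a)) :
    rstab (conjugatesOf y) ≤ centralizer ({a} : Set G) :=
  le_cent_of_coprime _ a (Nat.Coprime.coprime_dvd_left (card_rstab_dvd_idx y) hcop)

/-- the standing hypotheses -/
structure Setup (G : Type*) [Group G] (P Q : ℕ → Prop) : Prop where
  hPQ : ∀ r : ℕ, r.Prime → P r ∨ Q r
  hdisj : ∀ r : ℕ, r.Prime → P r → Q r → False
  htype : ∀ g : G, IsPi P (idx g) ∨ IsPi Q (idx g)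
  hmax : ∃ y : G, IsPi P (idx y) ∧ ∀ g : G, idx g ≤ idx y

variable {P Q : ℕ → Prop}

/-- an element of `Q`-order with `Q`-class size is central -/
theorem Setup.central_of_Q [Finite G] (S : Setup G P Q) {a : G} (ha : IsPi Q (idx a))
    (ho : IsPi Q (orderOf a)) : a ∈ center G := by
  obtain ⟨y, hy, hmax⟩ := S.hmax
  have hcop : Nat.Coprime (idx y) (idx a) := IsPi.coprime S.hdisj hy ha
  rw [mem_center_iff]
  intro g
  set k := g * a * g⁻¹ * a⁻¹ with hk
  have hkR : k ∈ rstab (conjugatesOf y) := comm_mem_rstab hmax hcop g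
  have hka : k * a = a * k := Ito.mem_cent.mp (rstab_le_cent hcop hkR)
  have hga : g * a * g⁻¹ = k * a := by rw [hk]; group
  have h1 : k ^ orderOf a = 1 := by
    have h2 : (g * a * g⁻¹) ^ orderOf a = 1 := by rw [conj_pow, pow_orderOf_eq_one]; group
    rw [hga, (show Commute k a from hka).mul_pow, pow_orderOf_eq_one, mul_one] at h2
    exact h2
  have h3 : IsPi Q (orderOf k) := ho.of_dvd (orderOf_dvd_of_pow_eq_one h1)
  have h4 : IsPi P (orderOf k) :=
    hy.of_dvd ((Subgroup.orderOf_dvd_natCard _ hkR).trans (card_rstab_dvd_idx y))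
  have h5 : orderOf k = 1 := IsPi.eq_one S.hdisj h4 h3
  have h6 : k = 1 := orderOf_eq_one_iff.mp h5
  rw [h6, one_mul] at hga
  calc g * a = g * a * g⁻¹ * g := by group
    _ = a * g := by rw [hga]

/-- elements with `Q`-class size commute pairwise -/
theorem Setup.commute_of_Q [Finite G] (S : Setup G P Q) {a b : G} (ha : IsPi Q (idx a))
    (hb : IsPi Q (idx b)) : a * b = b * a := by
  obtain ⟨y, hy, hmax⟩ := S.hmax
  obtain ⟨i, j, hsplit, hi, hj⟩ := exists_pi_split S.hPQ S.hdisj b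
  have hb1 : IsPi Q (idx (b ^ i)) := hb.of_dvd (idx_pow_dvd b i)
  have hb2 : IsPi Q (idx (b ^ j)) := hb.of_dvd (idx_pow_dvd b j)
  have hc2 : b ^ j ∈ center G := S.central_of_Q hb2 hj
  have hcop1 : Nat.Coprime (idx y) (idx (b ^ i)) := IsPi.coprime S.hdisj hy hb1
  set R := rstab (conjugatesOf y) with hR
  set N : Subgroup G := zpowers (b ^ i) ⊔ R with hN
  have hNn : N.Normal := by
    constructor
    intro n hn g
    have hmap : N.map (MulAut.conj g).toMonoidHom ≤ N := by
      rw [hN, Subgroup.map_sup]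
      apply sup_le
      · rw [MonoidHom.map_zpowers, Subgroup.zpowers_le]
        have e : (MulAut.conj g).toMonoidHom (b ^ i) =
            (g * b ^ i * g⁻¹ * (b ^ i)⁻¹) * b ^ i := by
          simp [MulAut.conj_apply]
        rw [e]
        exact (zpowers (b ^ i) ⊔ R).mul_mem (le_sup_right (a := zpowers (b ^ i))
          (comm_mem_rstab hmax hcop1 g)) (le_sup_left (b := R) (mem_zpowers (b ^ i)))
      · rintro _ ⟨k, hk, rfl⟩
        exact le_sup_right (a := zpowers (b ^ i)) ((rstab_normal y).conj_mem k hk g)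
    exact hmap ⟨n, hn, rfl⟩
  have hcard : IsPi P (Nat.card N) := by
    have h1 : Nat.card N ∣ Nat.card (zpowers (b ^ i)) * Nat.card R := card_sup_dvd _ _
    refine IsPi.of_dvd ?_ h1
    apply IsPi.mul
    · rw [Nat.card_zpowers]; exact hi
    · exact hy.of_dvd (card_rstab_dvd_idx y)
  have hle : N ≤ centralizer ({a} : Set G) :=
    le_cent_of_coprime N a (IsPi.coprime S.hdisj hcard ha)
  have h1 : b ^ i * a = a * b ^ i :=
    Ito.mem_cent.mp (hle (le_sup_left (b := R) (mem_zpowers (b ^ i))))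
  have h2 : b ^ j * a = a * b ^ j := (mem_center_iff.mp hc2 a).symm
  rw [hsplit]
  calc a * (b ^ i * b ^ j) = (a * b ^ i) * b ^ j := by group
    _ = b ^ i * (a * b ^ j) := by rw [← h1]; group
    _ = b ^ i * b ^ j * a := by rw [← h2]; group

end Cfsg.Agent.Helper1.ClsGraph
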