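import Mathlib
import Cfsg.Agent.Helper1.ClsGraph2

/-!
Disconnected class-size prime graph, part 3: the centralizer `M` of a noncentral element with
`Q`-class size is normal, independent of the element, and `G ⧸ M` is abelian.
-/

set_option autoImplicit false

namespace Cfsg.Agent.Helper1.ClsGraph

open Subgroup

variable {G : Type*} [Group G] {P Q : ℕ → Prop}

/-- a noncentral element with `Q`-class size and `P`-order -/
structure IsBase (P Q : ℕ → Prop) (x : G) : Prop where
  hidx : IsPi Q (idx x)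
  hord : IsPi P (orderOf x)
  hnc : x ∉ center G

/-- every element of `C(x)` commutes with every conjugate of `x` -/
theorem Setup.comm_conj [Finite G] (S : Setup G P Q) {x : G} (hx : IsPi Q (idx x)) {t : G}
    (ht : t ∈ centralizer ({x} : Set G)) (g : G) :
    t * (g * x * g⁻¹) = (g * x * g⁻¹) * t := by
  rcases S.htype t with h | h
  · have hcop : Nat.Coprime (idx t) (idx x) := IsPi.coprime S.hdisj h hx
    obtain ⟨c, hc, d, hd, hg⟩ := exists_mul_of_coprime_index _ _ hcop g
    have hc' : c * t = t * c := Ito.mem_cent.mp hc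
    have hd' : d * x = x * d := Ito.mem_cent.mp hd
    have ht' : t * x = x * t := Ito.mem_cent.mp ht
    have e1 : d * x * d⁻¹ = x := by rw [hd']; group
    have e : g * x * g⁻¹ = c * x * c⁻¹ := by
      rw [hg]
      calc c * d * x * (c * d)⁻¹ = c * (d * x * d⁻¹) * c⁻¹ := by group
        _ = c * x * c⁻¹ := by rw [e1]
    rw [e]
    have hc'' : c⁻¹ * t = t * c⁻¹ := by
      calc c⁻¹ * t = c⁻¹ * (t * c) * c⁻¹ := by group
        _ = t * c⁻¹ := by rw [← hc']; group
    calc t * (c * x * c⁻¹) = (t * c) * x * c⁻¹ := by group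
      _ = c * (t * x) * c⁻¹ := by rw [← hc']; group
      _ = c * x * (t * c⁻¹) := by rw [ht']; group
      _ = c * x * c⁻¹ * t := by rw [← hc'']; group
  · exact S.commute_of_Q h (by rw [idx_conj]; exact hx)

theorem Setup.cent_normal [Finite G] (S : Setup G P Q) {x : G} (hx : IsPi Q (idx x)) :
    (centralizer ({x} : Set G)).Normal := by
  constructor
  intro u hu g
  rw [Ito.mem_cent]
  have h := S.comm_conj hx hu g⁻¹
  rw [inv_inv] at h
  calc g * u * g⁻¹ * x = g * (u * (g⁻¹ * x * g)) * g⁻¹ := by group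
    _ = g * ((g⁻¹ * x * g) * u) * g⁻¹ := by rw [h]
    _ = x * (g * u * g⁻¹) := by group

/-- elements of `Q`-order in `C(x)` are central -/
theorem Setup.central_of_Q_order [Finite G] (S : Setup G P Q) {x : G} (hx : IsBase P Q x)
    {c : G} (hc : c ∈ centralizer ({x} : Set G)) (ho : IsPi Q (orderOf c)) : c ∈ center G := by
  have hcop : (orderOf x).Coprime (orderOf c) := IsPi.coprime S.hdisj hx.hord ho
  have hcomm : Commute x c := (Ito.mem_cent.mp hc).symm
  obtain ⟨k, hk⟩ := Ito.exists_pow_eq_left hcomm hcop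
  obtain ⟨j, hj⟩ := Ito.exists_pow_eq_left hcomm.symm hcop.symm
  have h1 : idx x ∣ idx (x * c) := by
    have := idx_pow_dvd (x * c) k
    rwa [hk] at this
  have h2 : idx c ∣ idx (x * c) := by
    have := idx_pow_dvd (c * x) j
    rw [hj, ← hcomm.eq] at this
    exact this
  rcases S.htype (x * c) with h | h
  · exfalso
    apply hx.hnc
    rw [← idx_eq_one_iff]
    exact IsPi.eq_one S.hdisj (h.of_dvd h1) hx.hidx
  · exact S.central_of_Q (h.of_dvd h2) ho

/-- elements of `P`-order lie in `C(x)` -/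
theorem Setup.mem_cent_of_P_order [Finite G] (S : Setup G P Q) {x : G} (hx : IsPi Q (idx x))
    {g : G} (hg : IsPi P (orderOf g)) : g ∈ centralizer ({x} : Set G) := by
  have := S.cent_normal hx
  set M := centralizer ({x} : Set G) with hM
  have h1 : orderOf (QuotientGroup.mk' M g) ∣ orderOf g := orderOf_map_dvd _ g
  have h2 : orderOf (QuotientGroup.mk' M g) ∣ idx x := by
    have := orderOf_dvd_natCard (QuotientGroup.mk' M g)
    rwa [← index_eq_card] at this
  have h3 : orderOf (QuotientGroup.mk' M g) = 1 :=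
    IsPi.eq_one S.hdisj (hg.of_dvd h1) (hx.of_dvd h2)
  have h4 := orderOf_eq_one_iff.mp h3
  rwa [QuotientGroup.mk'_apply, QuotientGroup.eq_one_iff] at h4

theorem Setup.cent_le_cent [Finite G] (S : Setup G P Q) {x x' : G} (hx : IsBase P Q x)
    (hx' : IsBase P Q x') : centralizer ({x} : Set G) ≤ centralizer ({x'} : Set G) := by
  intro g hg
  obtain ⟨a, b, hsplit, ha, hb⟩ := exists_pi_split S.hPQ S.hdisj g
  have h1 : g ^ b ∈ center G := S.central_of_Q_order hx (pow_mem hg b) hb
  have h2 : g ^ a ∈ centralizer ({x'} : Set G) := S.mem_cent_of_P_order hx'.hidx ha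
  rw [hsplit]
  exact mul_mem h2 (Ito.center_le_cent x' h1)

theorem Setup.cent_eq [Finite G] (S : Setup G P Q) {x x' : G} (hx : IsBase P Q x)
    (hx' : IsBase P Q x') : centralizer ({x} : Set G) = centralizer ({x'} : Set G) :=
  le_antisymm (S.cent_le_cent hx hx') (S.cent_le_cent hx' hx)

/-- every noncentral element with `Q`-class size has the same centralizer as a base element -/
theorem Setup.exists_base [Finite G] (S : Setup G P Q) {u : G} (hu : IsPi Q (idx u))
    (hnc : u ∉ center G) :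
    ∃ x' : G, IsBase P Q x' ∧ centralizer ({u} : Set G) = centralizer ({x'} : Set G) := by
  obtain ⟨a, b, hsplit, ha, hb⟩ := exists_pi_split S.hPQ S.hdisj u
  have hb2 : IsPi Q (idx (u ^ b)) := hu.of_dvd (idx_pow_dvd u b)
  have hc : u ^ b ∈ center G := S.central_of_Q hb2 hb
  refine ⟨u ^ a, ⟨hu.of_dvd (idx_pow_dvd u a), ha, ?_⟩, ?_⟩
  · intro h
    apply hnc
    rw [hsplit]
    exact mul_mem h hc
  · apply le_antisymm (Ito.cent_le_cent_pow u a)
    intro c hc'
    rw [Ito.mem_cent] at hc' ⊢
    have h2 : c * u ^ b = u ^ b * c := (mem_center_iff.mp hc c)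
    rw [hsplit]
    calc c * (u ^ a * u ^ b) = (c * u ^ a) * u ^ b := by group
      _ = u ^ a * (c * u ^ b) := by rw [hc']; group
      _ = u ^ a * u ^ b * c := by rw [h2]; group

theorem Setup.cent_eq_of_Q [Finite G] (S : Setup G P Q) {x : G} (hx : IsBase P Q x) {u : G}
    (hu : IsPi Q (idx u)) (hnc : u ∉ center G) :
    centralizer ({u} : Set G) = centralizer ({x} : Set G) := by
  obtain ⟨x', hx', e⟩ := S.exists_base hu hnc
  rw [e]
  exact S.cent_eq hx' hx

/-- elements with `Q`-class size lie in `C(x)` -/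
theorem Setup.Q_mem [Finite G] (S : Setup G P Q) {x : G} (hx : IsPi Q (idx x)) {u : G}
    (hu : IsPi Q (idx u)) : u ∈ centralizer ({x} : Set G) :=
  Ito.mem_cent.mpr (S.commute_of_Q hu hx)

/-- elements with `Q`-class size are central in `C(x)` -/
theorem Setup.Q_comm [Finite G] (S : Setup G P Q) {x : G} (hx : IsBase P Q x) {u : G}
    (hu : IsPi Q (idx u)) {t : G} (ht : t ∈ centralizer ({x} : Set G)) : u * t = t * u := by
  by_cases hc : u ∈ center G
  · exact (mem_center_iff.mp hc t).symm
  · rw [← S.cent_eq_of_Q hx hu hc] at ht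
    exact (Ito.mem_cent.mp ht).symm

/-- elements central in `C(x)` have `Q`-class size -/
theorem Setup.isPi_of_comm [Finite G] (_S : Setup G P Q) {x : G} (hx : IsPi Q (idx x)) {u : G}
    (h : ∀ t ∈ centralizer ({x} : Set G), u * t = t * u) : IsPi Q (idx u) := by
  have hle : centralizer ({x} : Set G) ≤ centralizer ({u} : Set G) := by
    intro t ht
    exact Ito.mem_cent.mpr (h t ht).symm
  exact hx.of_dvd (index_dvd_of_le hle)

/-- `G ⧸ C(x)` is abelian -/
theorem Setup.comm_mem [Finite G] (S : Setup G P Q) {x : G} (hx : IsPi Q (idx x)) (g h : G) :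
    g * h * g⁻¹ * h⁻¹ ∈ centralizer ({x} : Set G) := by
  have hn := S.cent_normal hx
  set M := centralizer ({x} : Set G) with hM
  by_cases hg : g ∈ M
  · have h1 : h * g⁻¹ * h⁻¹ ∈ M := hn.conj_mem _ (M.inv_mem hg) h
    have e : g * h * g⁻¹ * h⁻¹ = g * (h * g⁻¹ * h⁻¹) := by group
    rw [e]; exact M.mul_mem hg h1
  · have hgP : IsPi P (idx g) := by
      rcases S.htype g with h' | h'
      · exact h'
      · exact absurd (S.Q_mem hx h') hg
    have hcop : Nat.Coprime (idx g) M.index := IsPi.coprime S.hdisj hgP hx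
    obtain ⟨c, hc, u, hu, hcu⟩ := exists_mul_of_coprime_index _ _ hcop h
    have hc' : c * g = g * c := Ito.mem_cent.mp hc
    have h1 : g * u * g⁻¹ * u⁻¹ ∈ M := M.mul_mem (hn.conj_mem u hu g) (M.inv_mem hu)
    have e : g * h * g⁻¹ * h⁻¹ = c * (g * u * g⁻¹ * u⁻¹) * c⁻¹ := by
      rw [hcu]
      have hc'' : g * c = c * g := hc'.symm
      calc g * (c * u) * g⁻¹ * (c * u)⁻¹ = (g * c) * u * g⁻¹ * u⁻¹ * c⁻¹ := by group
        _ = c * (g * u * g⁻¹ * u⁻¹) * c⁻¹ := by rw [hc'']; group
    rw [e]
    exact hn.conj_mem _ h1 c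

end Cfsg.Agent.Helper1.ClsGraph
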