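import Mathlib
import Cfsg.Agent.Helper1.ClsGraph3

/-!
Disconnected class-size prime graph, part 4: every element of `M = C(x)` has `Q`-class size
(so `M` is abelian).
-/

set_option autoImplicit false

namespace Cfsg.Agent.Helper1.ClsGraph

open Subgroup

variable {G : Type*} [Group G] {P Q : ℕ → Prop}

theorem Setup.all_Q [Finite G] (S : Setup G P Q) {x : G} (hx : IsBase P Q x) {t₀ : G}
    (ht₀ : t₀ ∈ centralizer ({x} : Set G)) : IsPi Q (idx t₀) := by
  by_contra hnot
  have hn := S.cent_normal hx.hidx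
  set M := centralizer ({x} : Set G) with hM
  have hn1 : M.index ≠ 1 := fun h => hx.hnc (idx_eq_one_iff.mp h)
  obtain ⟨q, hq, hqn⟩ := Nat.exists_prime_and_dvd hn1
  have hqQ : Q q := hx.hidx q hq hqn
  have : Fact q.Prime := ⟨hq⟩
  let Sy : Sylow q G := default
  have hSy : ¬ (Sy : Subgroup G) ≤ M := by
    intro hle
    exact Sy.not_dvd_index (hqn.trans (index_dvd_of_le hle))
  obtain ⟨h, hhS, hhM⟩ := SetLike.not_le_iff_exists.mp hSy
  have hp : IsPGroup q (zpowers h) := Sy.2.to_le (zpowers_le.mpr hhS)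
  have hhP : IsPi P (idx h) := by
    rcases S.htype h with h' | h'
    · exact h'
    · exact absurd (S.Q_mem hx.hidx h') hhM
  have hcop : Nat.Coprime (idx h) M.index := IsPi.coprime S.hdisj hhP hx.hidx
  set F : Subgroup G := centralizer ({h} : Set G) ⊓ M with hF
  -- (J1)
  have hJ1 : ∀ t ∈ M, IsPi P (idx t) → ∃ u ∈ M, u * t * u⁻¹ ∈ F := by
    intro t htM htP
    have hqt : ¬ q ∣ Nat.card (G ⧸ centralizer ({t} : Set G)) := by
      rw [← index_eq_card]
      intro hd
      exact S.hdisj q hq (htP q hq hd) hqQ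
    obtain ⟨a, ha⟩ := hp.nonempty_fixed_point_of_prime_not_dvd_card
      (G ⧸ centralizer ({t} : Set G)) hqt
    induction a using QuotientGroup.induction_on with
    | H g =>
    have h1 := ha ⟨h, mem_zpowers h⟩
    change (h • (g : G ⧸ centralizer ({t} : Set G))) = _ at h1
    rw [MulAction.Quotient.smul_mk, QuotientGroup.eq, smul_eq_mul] at h1
    have h2 : g⁻¹ * h * g ∈ centralizer ({t} : Set G) := by
      have := inv_mem h1
      have e : ((h * g)⁻¹ * g)⁻¹ = g⁻¹ * h * g := by group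
      rwa [e] at this
    have h3 : g * t * g⁻¹ ∈ centralizer ({h} : Set G) := by
      rw [Ito.mem_cent] at h2 ⊢
      calc g * t * g⁻¹ * h = g * (t * (g⁻¹ * h * g)) * g⁻¹ := by group
        _ = g * ((g⁻¹ * h * g) * t) * g⁻¹ := by rw [h2]
        _ = h * (g * t * g⁻¹) := by group
    obtain ⟨c, hc, u, hu, hg⟩ := exists_mul_of_coprime_index _ _ hcop g
    refine ⟨u, hu, Subgroup.mem_inf.mpr ⟨?_, M.mul_mem (M.mul_mem hu htM) (M.inv_mem hu)⟩⟩
    have e : u * t * u⁻¹ = c⁻¹ * (g * t * g⁻¹) * c := by rw [hg]; group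
    rw [e]
    exact mul_mem (mul_mem (inv_mem hc) h3) hc
  set ZM : Subgroup G := M ⊓ centralizer (M : Set G) with hZM
  have hQZ : ∀ t ∈ M, IsPi Q (idx t) → t ∈ ZM := by
    intro t htM htQ
    refine Subgroup.mem_inf.mpr ⟨htM, ?_⟩
    rw [mem_centralizer_iff]
    intro m hm
    exact (S.Q_comm hx htQ hm).symm
  -- (J2)
  have hJ2 : M ≤ F ⊔ ZM := by
    apply le_of_forall_conj_mem
    intro t htM
    rcases S.htype t with h' | h'
    · obtain ⟨u, hu, hut⟩ := hJ1 t htM h'
      exact ⟨u, hu, le_sup_left (b := ZM) hut⟩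
    · refine ⟨1, M.one_mem, ?_⟩
      simp only [one_mul, inv_one, mul_one]
      exact le_sup_right (a := F) (hQZ t htM h')
  -- (J3)
  have hFM : F ≤ M := inf_le_right
  have hZn : ZM ≤ normalizer (F : Set G) := by
    intro z hz
    have hzc : ∀ m ∈ M, z * m * z⁻¹ = m := by
      intro m hm
      have := (mem_centralizer_iff.mp (Subgroup.mem_inf.mp hz).2) m hm
      rw [← this]; group
    rw [mem_normalizer_iff]
    intro f
    constructor
    · intro hf
      rw [hzc f (hFM hf)]; exact hf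
    · intro hf
      have h1 : z * (z * f * z⁻¹) * z⁻¹ = z * f * z⁻¹ := hzc _ (hFM hf)
      have h2 : z * f * z⁻¹ = f := by
        calc z * f * z⁻¹ = z⁻¹ * (z * (z * f * z⁻¹) * z⁻¹) * z := by group
          _ = z⁻¹ * (z * f * z⁻¹) * z := by rw [h1]
          _ = f := by group
      rw [h2] at hf; exact hf
  have hMn : M ≤ normalizer (F : Set G) := hJ2.trans (sup_le le_normalizer hZn)
  -- (J4)
  have hJ4 : ∀ t ∈ M, t ∈ ZM ∨ t ∈ F := by
    intro t htM
    rcases S.htype t with h' | h'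
    · right
      obtain ⟨u, hu, hut⟩ := hJ1 t htM h'
      have h1 : u⁻¹ ∈ normalizer (F : Set G) := inv_mem (hMn hu)
      have h2 := (mem_normalizer_iff.mp h1 _).mp hut
      have e : u⁻¹ * (u * t * u⁻¹) * u⁻¹⁻¹ = t := by group
      rwa [e] at h2
    · left; exact hQZ t htM h'
  -- (J5)
  have hJ5 : M ≤ ZM ∨ M ≤ F := by
    by_contra hcon
    push Not at hcon
    obtain ⟨a, haM, haZ⟩ := SetLike.not_le_iff_exists.mp hcon.1
    obtain ⟨b, hbM, hbF⟩ := SetLike.not_le_iff_exists.mp hcon.2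
    have haF : a ∈ F := (hJ4 a haM).resolve_left haZ
    have hbZ : b ∈ ZM := (hJ4 b hbM).resolve_right hbF
    rcases hJ4 (a * b) (M.mul_mem haM hbM) with h' | h'
    · apply haZ
      have e : a = a * b * b⁻¹ := by group
      rw [e]; exact mul_mem h' (inv_mem hbZ)
    · apply hbF
      have e : b = a⁻¹ * (a * b) := by group
      rw [e]; exact mul_mem (inv_mem haF) h'
  rcases hJ5 with h' | h'
  · apply hnot
    apply S.isPi_of_comm hx.hidx
    intro t ht
    have := (mem_centralizer_iff.mp (Subgroup.mem_inf.mp (h' ht₀)).2) t ht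
    exact this.symm
  · apply hhM
    have hxM : x ∈ M := Ito.self_mem_cent x
    have h1 : x ∈ centralizer ({h} : Set G) := (Subgroup.mem_inf.mp (h' hxM)).1
    rw [Ito.mem_cent] at h1 ⊢
    exact h1.symm

end Cfsg.Agent.Helper1.ClsGraph
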