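import Mathlib
import Cfsg.Agent.Helper1.ClsGraph4
import Cfsg.Agent.Helper1.PrimeGraph

/-!
Disconnected class-size prime graph, part 5: `G ⧸ Z(G)` is a Frobenius group with abelian kernel
and abelian complement.
-/

set_option autoImplicit false

namespace Cfsg.Agent.Helper1.ClsGraph

open Subgroup Pointwise

variable {G : Type*} [Group G] {P Q : ℕ → Prop}

theorem Setup.main [Finite G] (S : Setup G P Q) (hex : ∃ x : G, IsPi Q (idx x) ∧ idx x ≠ 1) :
    ∃ H : Subgroup (G ⧸ center G), Cfsg.IsFrobeniusComplement H ∧ IsMulCommutative H ∧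
      ∀ a ∈ Cfsg.frobeniusKernel H, ∀ b ∈ Cfsg.frobeniusKernel H, a * b = b * a := by
  obtain ⟨x0, hx0, hx01⟩ := hex
  have hx0nc : x0 ∉ center G := fun h => hx01 (idx_eq_one_iff.mpr h)
  obtain ⟨x, hx, -⟩ := S.exists_base hx0 hx0nc
  have hn := S.cent_normal hx.hidx
  set M := centralizer ({x} : Set G) with hM
  have hxM : x ∈ M := Ito.self_mem_cent x
  have hZM : center G ≤ M := Ito.center_le_cent x
  have hMQ : ∀ t ∈ M, IsPi Q (idx t) := fun t ht => S.all_Q hx ht
  have hMab : ∀ u ∈ M, ∀ v ∈ M, u * v = v * u := fun u hu v hv => S.Q_comm hx (hMQ u hu) hv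
  have hMcent : ∀ u ∈ M, u ∉ center G → centralizer ({u} : Set G) = M :=
    fun u hu hnc => S.cent_eq_of_Q hx (hMQ u hu) hnc
  obtain ⟨y, hy, hmax⟩ := S.hmax
  have hyM : y ∉ M := by
    intro h
    have h1 : idx y = 1 := IsPi.eq_one S.hdisj hy (hMQ y h)
    have h2 := hmax x
    have h3 : idx x ≠ 0 := idx_ne_zero x
    have h4 : idx x ≠ 1 := fun h => hx.hnc (idx_eq_one_iff.mp h)
    omega
  set H := centralizer ({y} : Set G) with hH
  have hyH : y ∈ H := Ito.self_mem_cent y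
  have hZH : center G ≤ H := Ito.center_le_cent y
  have hync : y ∉ center G := fun h => hyM (hZM h)
  have hHM : ∀ u, u ∈ H → u ∈ M → u ∈ center G := by
    intro u huH huM
    by_contra hnc
    apply hyM
    rw [← hMcent u huM hnc, Ito.mem_cent]
    exact (Ito.mem_cent.mp huH).symm
  have hcop : Nat.Coprime M.index (idx y) := (IsPi.coprime S.hdisj hy hx.hidx).symm
  have hprod : ∀ g : G, ∃ u ∈ M, ∃ c ∈ H, g = u * c :=
    fun g => exists_mul_of_coprime_index M H hcop g
  have hHab : ∀ h1 ∈ H, ∀ h2 ∈ H, h1 * h2 * h1⁻¹ * h2⁻¹ ∈ center G := by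
    intro h1 hh1 h2 hh2
    apply hHM _ _ (S.comm_mem hx.hidx h1 h2)
    exact H.mul_mem (H.mul_mem (H.mul_mem hh1 hh2) (H.inv_mem hh1)) (H.inv_mem hh2)
  -- fixed-point-freeness
  have hfpf : ∀ h, h ∉ M → ∀ u ∈ M, u * h * u⁻¹ * h⁻¹ ∈ center G → u ∈ center G := by
    intro h hh u hu hz
    set z := u * h * u⁻¹ * h⁻¹ with hzdef
    have hzc : ∀ w : G, z * w = w * z := fun w => (mem_center_iff.mp hz w).symm
    -- `z ^ n = 1`
    have h1 : z ^ M.index = 1 := by
      have hhn : h ^ M.index ∈ M := M.pow_index_mem h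
      have e1 : u * h * u⁻¹ = z * h := by rw [hzdef]; group
      have e2 : (u * h * u⁻¹) ^ M.index = h ^ M.index := by
        rw [conj_pow, hMab u hu _ hhn]; group
      rw [e1, (show Commute z h from hzc h).mul_pow] at e2
      exact mul_eq_right.mp e2
    -- `z ^ e = 1`
    obtain ⟨a, b, hsplit, ha, hb⟩ := exists_pi_split S.hPQ S.hdisj u
    have hub : u ^ b ∈ center G := S.central_of_Q_order hx (pow_mem hu b) hb
    set e := orderOf (u ^ a) with he
    have hue : u ^ e ∈ center G := by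
      have e1 : u ^ e = (u ^ a) ^ e * (u ^ b) ^ e := by
        rw [← ((Commute.refl u).pow_pow a b).mul_pow, ← hsplit]
      rw [e1, he, pow_orderOf_eq_one, one_mul]
      exact pow_mem hub _
    have h2 : z ^ e = 1 := by
      have e1 : h * u * h⁻¹ = z⁻¹ * u := by rw [hzdef]; group
      have hzi : Commute z⁻¹ u := by
        have := hzc u
        exact (show Commute z u from this).inv_left
      have e2 : (h * u * h⁻¹) ^ e = u ^ e := by
        rw [conj_pow]
        have := mem_center_iff.mp hue h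
        rw [this]; group
      rw [e1, hzi.mul_pow] at e2
      have e3 : z⁻¹ ^ e = 1 := mul_eq_right.mp e2
      rwa [inv_pow, inv_eq_one] at e3
    have h3 : orderOf z = 1 :=
      IsPi.eq_one S.hdisj (ha.of_dvd (orderOf_dvd_of_pow_eq_one h2))
        (hx.hidx.of_dvd (orderOf_dvd_of_pow_eq_one h1))
    have h4 : z = 1 := orderOf_eq_one_iff.mp h3
    have h5 : u * h = h * u := by
      have : u * h * u⁻¹ * h⁻¹ = 1 := h4
      calc u * h = (u * h * u⁻¹ * h⁻¹) * h * u := by group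
        _ = h * u := by rw [this, one_mul]
    by_contra hnc
    apply hh
    rw [← hMcent u hu hnc, Ito.mem_cent]
    exact h5.symm
  -- pass to the quotient
  set π := QuotientGroup.mk' (center G) with hπ
  have hπs : Function.Surjective π := QuotientGroup.mk'_surjective _
  have hπ1 : ∀ g : G, π g = 1 ↔ g ∈ center G := fun g => QuotientGroup.eq_one_iff g
  have hπeq : ∀ g g' : G, π g = π g' → g⁻¹ * g' ∈ center G := by
    intro g g' h
    exact QuotientGroup.eq.mp h
  set N' : Subgroup (G ⧸ center G) := M.map π with hN'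
  set C' : Subgroup (G ⧸ center G) := H.map π with hC'
  have : N'.Normal := hn.map π hπs
  have hdisj : Disjoint N' C' := by
    rw [Subgroup.disjoint_def]
    rintro _ ⟨u, hu, rfl⟩ ⟨c, hc, hcu⟩
    have h1 := hπeq c u hcu
    have hcM : c ∈ M := by
      have : c = u * (c⁻¹ * u)⁻¹ := by group
      rw [this]
      exact M.mul_mem hu (M.inv_mem (hZM h1))
    have hcZ : c ∈ center G := hHM c hc hcM
    rw [← hcu]
    exact (hπ1 c).mpr hcZ
  have hmul : (N' : Set (G ⧸ center G)) * (C' : Set (G ⧸ center G)) = Set.univ := by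
    rw [Set.eq_univ_iff_forall]
    intro g'
    obtain ⟨g, rfl⟩ := hπs g'
    obtain ⟨u, hu, c, hc, rfl⟩ := hprod g
    rw [map_mul]
    exact Set.mul_mem_mul (Subgroup.mem_map_of_mem π hu) (Subgroup.mem_map_of_mem π hc)
  have hcomp : IsComplement' N' C' := isComplement'_of_disjoint_and_mul_eq_univ hdisj hmul
  have hN'ne : N' ≠ ⊥ := by
    intro h
    have h1 : π x ∈ N' := Subgroup.mem_map_of_mem π hxM
    rw [h, Subgroup.mem_bot, hπ1] at h1
    exact hx.hnc h1
  have hC'ne : C' ≠ ⊥ := by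
    intro h
    have h1 : π y ∈ C' := Subgroup.mem_map_of_mem π hyH
    rw [h, Subgroup.mem_bot, hπ1] at h1
    exact hync h1
  have hfpf' : ∀ c ∈ C', c ≠ 1 → ∀ n ∈ N', c * n = n * c → n = 1 := by
    rintro _ ⟨c, hc, rfl⟩ hc1 _ ⟨u, hu, rfl⟩ hcomm
    rw [hπ1]
    have hcZ : c ∉ center G := fun h => hc1 ((hπ1 c).mpr h)
    have hcM : c ∉ M := fun h => hcZ (hHM c hc h)
    apply hfpf c hcM u hu
    rw [← hπ1]
    simp only [map_mul, map_inv]
    rw [← hcomm]; group
  obtain ⟨hfrob, hker⟩ := PrimeGraph.frobenius_of_fpf N' C' hcomp hN'ne hC'ne hfpf'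
  refine ⟨C', hfrob, ?_, ?_⟩
  · refine ⟨⟨fun a b => Subtype.ext ?_⟩⟩
    obtain ⟨_, ⟨h1, hh1, rfl⟩⟩ := a
    obtain ⟨_, ⟨h2, hh2, rfl⟩⟩ := b
    change π h1 * π h2 = π h2 * π h1
    have h3 := (hπ1 _).mpr (hHab h1 hh1 h2 hh2)
    simp only [map_mul, map_inv] at h3
    calc π h1 * π h2 = (π h1 * π h2 * (π h1)⁻¹ * (π h2)⁻¹) * π h2 * π h1 := by group
      _ = π h2 * π h1 := by rw [h3, one_mul]
  · rw [hker]
    rintro _ ⟨u, hu, rfl⟩ _ ⟨v, hv, rfl⟩
    rw [← map_mul, ← map_mul, hMab u hu v hv]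

end Cfsg.Agent.Helper1.ClsGraph
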