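import Mathlib
import Cfsg.Agent.Helper1.ClsGraph5

/-!
Two largest class sizes coprime (Bianchi–Gillio–Casolo), part 1: preliminary lemmas.
-/

set_option autoImplicit false

namespace Cfsg.Agent.Helper1.ClsGraph

open Subgroup

variable {G : Type*} [Group G]

theorem index_inf_of_coprime [Finite G] (H K : Subgroup G) (h : Nat.Coprime H.index K.index) :
    (H ⊓ K).index = H.index * K.index := by
  have h1 : H.index ∣ (H ⊓ K).index := index_dvd_of_le inf_le_left
  have h2 : K.index ∣ (H ⊓ K).index := index_dvd_of_le inf_le_right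
  have h3 : H.index * K.index ∣ (H ⊓ K).index := h.mul_dvd_of_dvd_of_dvd h1 h2
  have h4 : (H ⊓ K).index ≤ H.index * K.index := index_inf_le
  exact le_antisymm h4 (Nat.le_of_dvd (Nat.pos_of_ne_zero index_ne_zero_of_finite) h3)

theorem idx_mul_dvd [Finite G] {a b : G} (h : Nat.Coprime (idx a) (idx b)) :
    idx (a * b) ∣ idx a * idx b := by
  have e := index_inf_of_coprime (centralizer ({a} : Set G)) (centralizer ({b} : Set G)) h
  rw [idx_def a, idx_def b, ← e]
  apply index_dvd_of_le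
  intro g hg
  obtain ⟨h1, h2⟩ := Subgroup.mem_inf.mp hg
  rw [Ito.mem_cent] at h1 h2 ⊢
  calc g * (a * b) = (g * a) * b := by group
    _ = a * (g * b) := by rw [h1]; group
    _ = a * b * g := by rw [h2]; group

/-- subgroups with `H ≤ K` and equal index are equal -/
theorem eq_of_le_of_index_eq [Finite G] {H K : Subgroup G} (hle : H ≤ K) (h : H.index = K.index) :
    H = K := by
  apply le_antisymm hle
  have h1 := relIndex_mul_index hle
  rw [h] at h1
  have h2 : H.relIndex K = 1 := by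
    have hpos : 0 < K.index := Nat.pos_of_ne_zero index_ne_zero_of_finite
    exact Nat.eq_of_mul_eq_mul_right hpos (by rw [h1, one_mul])
  exact relIndex_eq_one.mp h2

/-- version of `mul_mul_inv_mem` with a weaker maximality hypothesis -/
theorem mul_mul_inv_mem' [Finite G] {y a d c₁ c₂ : G} (hle : idx (y * a) ≤ idx y)
    (hcop : Nat.Coprime (idx y) (idx a)) (hd : d ∈ conjugatesOf y)
    (h1 : c₁ ∈ conjugatesOf a) (h2 : c₂ ∈ conjugatesOf a) :
    d * c₁ * c₂⁻¹ ∈ conjugatesOf y := by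
  have key : (fun d => d * c₂) '' (conjugatesOf y) = conjugatesOf (y * a) := by
    apply Set.eq_of_subset_of_ncard_le
    · rintro _ ⟨d', hd', rfl⟩
      exact mul_mem_conjugatesOf_mul hcop hd' h2
    · rw [Set.ncard_image_of_injective _ (mul_left_injective c₂), ncard_conjugatesOf,
        ncard_conjugatesOf]
      exact hle
    · exact Set.toFinite _
  have h3 : d * c₁ ∈ conjugatesOf (y * a) := mul_mem_conjugatesOf_mul hcop hd h1
  rw [← key] at h3
  obtain ⟨d', hd', e⟩ := h3
  have e' : d * c₁ * c₂⁻¹ = d' := by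
    have : d' * c₂ = d * c₁ := e
    rw [← this]; group
  rw [e']; exact hd'

theorem comm_mem_rstab' [Finite G] {y a : G} (hle : idx (y * a) ≤ idx y)
    (hcop : Nat.Coprime (idx y) (idx a)) (g : G) :
    g * a * g⁻¹ * a⁻¹ ∈ rstab (conjugatesOf y) := by
  have ha : a ∈ conjugatesOf a := mem_conjugatesOf_self
  have hga : g * a * g⁻¹ ∈ conjugatesOf a := conj_mem_conjugatesOf ha g
  intro d hd
  constructor
  · have e : d * (g * a * g⁻¹ * a⁻¹) = d * (g * a * g⁻¹) * a⁻¹ := by group
    rw [e]; exact mul_mul_inv_mem' hle hcop hd hga ha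
  · have e : d * (g * a * g⁻¹ * a⁻¹)⁻¹ = d * a * (g * a * g⁻¹)⁻¹ := by group
    rw [e]; exact mul_mul_inv_mem' hle hcop hd ha hga

/-- conjugating a `q`-element into a subgroup of index prime to `q` -/
theorem exists_conj_mem_of_not_dvd_index [Finite G] {q : ℕ} [Fact q.Prime] {w : G}
    (hw : IsPGroup q (zpowers w)) (K : Subgroup G) (h : ¬ q ∣ K.index) :
    ∃ g : G, g⁻¹ * w * g ∈ K := by
  have hq : ¬ q ∣ Nat.card (G ⧸ K) := by rwa [← index_eq_card]
  obtain ⟨a, ha⟩ := hw.nonempty_fixed_point_of_prime_not_dvd_card (G ⧸ K) hq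
  induction a using QuotientGroup.induction_on with
  | H g =>
  have h1 := ha ⟨w, mem_zpowers w⟩
  change (w • (g : G ⧸ K)) = _ at h1
  rw [MulAction.Quotient.smul_mk, QuotientGroup.eq, smul_eq_mul] at h1
  refine ⟨g, ?_⟩
  have := inv_mem h1
  have e : ((w * g)⁻¹ * g)⁻¹ = g⁻¹ * w * g := by group
  rwa [e] at this

theorem isPGroup_zpowers_of_isQ {q : ℕ} {w : G} (hq : q.Prime) (hw : Ito.IsQ q w) :
    IsPGroup q (zpowers w) := by
  obtain ⟨k, hk⟩ := hw
  obtain ⟨j, -, hj⟩ := (Nat.dvd_prime_pow hq).mp (orderOf_dvd_of_pow_eq_one hk)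
  apply IsPGroup.of_card (n := j)
  rw [Nat.card_zpowers, hj]

theorem isQ_conj {q : ℕ} {w : G} (hw : Ito.IsQ q w) (g : G) : Ito.IsQ q (g * w * g⁻¹) := by
  obtain ⟨k, hk⟩ := hw
  exact ⟨k, by rw [conj_pow, hk]; group⟩

theorem conj_mem_center_iff {w : G} (g : G) : g * w * g⁻¹ ∈ center G ↔ w ∈ center G := by
  constructor
  · intro h
    have := (Subgroup.Normal.conj_mem (inferInstance : (center G).Normal) _ h g⁻¹)
    have e : g⁻¹ * (g * w * g⁻¹) * g⁻¹⁻¹ = w := by group
    rwa [e] at this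
  · intro h
    exact Subgroup.Normal.conj_mem (inferInstance : (center G).Normal) _ h g

/-- predicates attached to the largest class size -/
def Pm (m : ℕ) : ℕ → Prop := fun r => r ∣ m
def Qm (m : ℕ) : ℕ → Prop := fun r => ¬ r ∣ m

theorem hPQ_m (m : ℕ) : ∀ r : ℕ, r.Prime → Pm m r ∨ Qm m r := fun r _ => Classical.em _

theorem hdisj_m (m : ℕ) : ∀ r : ℕ, r.Prime → Pm m r → Qm m r → False := fun _ _ h1 h2 => h2 h1

theorem isPi_Pm_of_dvd {m k : ℕ} (h : k ∣ m) : IsPi (Pm m) k := fun _ _ hd => hd.trans h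

theorem isPi_Qm_iff {m k : ℕ} : IsPi (Qm m) k ↔ Nat.Coprime k m := by
  constructor
  · intro h
    by_contra hc
    obtain ⟨r, hr, h1, h2⟩ := Nat.Prime.not_coprime_iff_dvd.mp hc
    exact h r hr h1 h2
  · intro h r hr hd hm
    exact hr.one_lt.ne' (Nat.eq_one_of_dvd_coprimes h hd hm)

/-- the weak standing hypotheses: only the maximal class size matters -/
structure Setup0 (G : Type*) [Group G] (P Q : ℕ → Prop) : Prop where
  hPQ : ∀ r : ℕ, r.Prime → P r ∨ Q r
  hdisj : ∀ r : ℕ, r.Prime → P r → Q r → False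
  hmax : ∃ y : G, IsPi P (idx y) ∧ ∀ g : G, idx g ≤ idx y

variable {P Q : ℕ → Prop}

theorem Setup.toSetup0 (S : Setup G P Q) : Setup0 G P Q := ⟨S.hPQ, S.hdisj, S.hmax⟩

theorem Setup0.central_of_Q [Finite G] (S : Setup0 G P Q) {a : G} (ha : IsPi Q (idx a))
    (ho : IsPi Q (orderOf a)) : a ∈ center G := by
  obtain ⟨y, hy, hmax⟩ := S.hmax
  have hcop : Nat.Coprime (idx y) (idx a) := IsPi.coprime S.hdisj hy ha
  rw [mem_center_iff]
  intro g
  set k := g * a * g⁻¹ * a⁻¹ with hk
  have hkR : k ∈ rstab (conjugatesOf y) := comm_mem_rstab hmax hcop g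
  have hka : k * a = a * k := Ito.mem_cent.mp (rstab_le_cent hcop hkR)
  have hga : g * a * g⁻¹ = k * a := by rw [hk]; group
  have h1 : k ^ orderOf a = 1 := by
    have h2 : (g * a * g⁻¹) ^ orderOf a = 1 := by rw [conj_pow, pow_orderOf_eq_one]; group
    rw [hga, (show Commute k a from hka).mul_pow, pow_orderOf_eq_one, mul_one] at h2
    exact h2
  have h3 : IsPi Q (orderOf k) := ho.of_dvd (orderOf_dvd_of_pow_eq_one h1)
  have h4 : IsPi P (orderOf k) :=
    hy.of_dvd ((Subgroup.orderOf_dvd_natCard _ hkR).trans (card_rstab_dvd_idx y))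
  have h5 : orderOf k = 1 := IsPi.eq_one S.hdisj h4 h3
  have h6 : k = 1 := orderOf_eq_one_iff.mp h5
  rw [h6, one_mul] at hga
  calc g * a = g * a * g⁻¹ * g := by group
    _ = a * g := by rw [hga]

theorem Setup0.commute_of_Q [Finite G] (S : Setup0 G P Q) {a b : G} (ha : IsPi Q (idx a))
    (hb : IsPi Q (idx b)) : a * b = b * a := by
  obtain ⟨y, hy, hmax⟩ := S.hmax
  obtain ⟨i, j, hsplit, hi, hj⟩ := exists_pi_split S.hPQ S.hdisj b
  have hb1 : IsPi Q (idx (b ^ i)) := hb.of_dvd (idx_pow_dvd b i)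
  have hb2 : IsPi Q (idx (b ^ j)) := hb.of_dvd (idx_pow_dvd b j)
  have hc2 : b ^ j ∈ center G := S.central_of_Q hb2 hj
  have hcop1 : Nat.Coprime (idx y) (idx (b ^ i)) := IsPi.coprime S.hdisj hy hb1
  set R := rstab (conjugatesOf y) with hR
  set N : Subgroup G := zpowers (b ^ i) ⊔ R with hN
  have hNn : N.Normal := by
    constructor
    intro n hn g
    have hmap : N.map (MulAut.conj g).toMonoidHom ≤ N := by
      rw [hN, Subgroup.map_sup]
      apply sup_le
      · rw [MonoidHom.map_zpowers, Subgroup.zpowers_le]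
        have e : (MulAut.conj g).toMonoidHom (b ^ i) =
            (g * b ^ i * g⁻¹ * (b ^ i)⁻¹) * b ^ i := by
          simp [MulAut.conj_apply]
        rw [e]
        exact (zpowers (b ^ i) ⊔ R).mul_mem (le_sup_right (a := zpowers (b ^ i))
          (comm_mem_rstab hmax hcop1 g)) (le_sup_left (b := R) (mem_zpowers (b ^ i)))
      · rintro _ ⟨k, hk, rfl⟩
        exact le_sup_right (a := zpowers (b ^ i)) ((rstab_normal y).conj_mem k hk g)
    exact hmap ⟨n, hn, rfl⟩
  have hcard : IsPi P (Nat.card N) := by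
    have h1 : Nat.card N ∣ Nat.card (zpowers (b ^ i)) * Nat.card R := card_sup_dvd _ _
    refine IsPi.of_dvd ?_ h1
    apply IsPi.mul
    · rw [Nat.card_zpowers]; exact hi
    · exact hy.of_dvd (card_rstab_dvd_idx y)
  have hle : N ≤ centralizer ({a} : Set G) :=
    le_cent_of_coprime N a (IsPi.coprime S.hdisj hcard ha)
  have h1 : b ^ i * a = a * b ^ i :=
    Ito.mem_cent.mp (hle (le_sup_left (b := R) (mem_zpowers (b ^ i))))
  have h2 : b ^ j * a = a * b ^ j := (mem_center_iff.mp hc2 a).symm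
  rw [hsplit]
  calc a * (b ^ i * b ^ j) = (a * b ^ i) * b ^ j := by group
    _ = b ^ i * (a * b ^ j) := by rw [← h1]; group
    _ = b ^ i * b ^ j * a := by rw [← h2]; group

/-- the `P`-part of an element with `Q`-class size has the same centralizer -/
theorem Setup0.exists_P_part [Finite G] (S : Setup0 G P Q) {u : G} (hu : IsPi Q (idx u)) :
    ∃ a : ℕ, IsPi P (orderOf (u ^ a)) ∧
      centralizer ({u ^ a} : Set G) = centralizer ({u} : Set G) := by
  obtain ⟨a, b, hsplit, ha, hb⟩ := exists_pi_split S.hPQ S.hdisj u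
  have hb2 : IsPi Q (idx (u ^ b)) := hu.of_dvd (idx_pow_dvd u b)
  have hc : u ^ b ∈ center G := S.central_of_Q hb2 hb
  refine ⟨a, ha, ?_⟩
  apply le_antisymm _ (Ito.cent_le_cent_pow u a)
  intro c hc'
  rw [Ito.mem_cent] at hc' ⊢
  have h2 : c * u ^ b = u ^ b * c := (mem_center_iff.mp hc c)
  rw [hsplit]
  calc c * (u ^ a * u ^ b) = (c * u ^ a) * u ^ b := by group
    _ = u ^ a * (c * u ^ b) := by rw [hc']; group
    _ = u ^ a * u ^ b * c := by rw [h2]; group

end Cfsg.Agent.Helper1.ClsGraph
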