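import Mathlib
import Cfsg.Agent.Helper1.ClsGraph6

/-!
Two largest class sizes coprime, part 2: index lemmas and the norm-map argument.
-/

set_option autoImplicit false

namespace Cfsg.Agent.Helper1.ClsGraph

open Subgroup

variable {G : Type*} [Group G]

/-- `|CV : C| = |V : C ∩ V|` for `V` normal -/
theorem relIndex_sup_normal [Finite G] (C V : Subgroup G) [V.Normal] :
    C.relIndex (C ⊔ V) = C.relIndex V := by
  have h1 : V.relIndex (C ⊔ V) = V.relIndex C := relIndex_sup_right C V
  have e1 : (⊥ : Subgroup G).relIndex C * C.relIndex (C ⊔ V) = (⊥ : Subgroup G).relIndex (C ⊔ V) :=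
    relIndex_mul_relIndex _ _ _ bot_le le_sup_left
  have e2 : (⊥ : Subgroup G).relIndex V * V.relIndex (C ⊔ V) = (⊥ : Subgroup G).relIndex (C ⊔ V) :=
    relIndex_mul_relIndex _ _ _ bot_le le_sup_right
  have e3 : (⊥ : Subgroup G).relIndex (C ⊓ V) * (C ⊓ V).relIndex C = (⊥ : Subgroup G).relIndex C :=
    relIndex_mul_relIndex _ _ _ bot_le inf_le_left
  have e4 : (⊥ : Subgroup G).relIndex (C ⊓ V) * (C ⊓ V).relIndex V = (⊥ : Subgroup G).relIndex V :=
    relIndex_mul_relIndex _ _ _ bot_le inf_le_right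
  rw [inf_relIndex_left] at e3
  rw [inf_relIndex_right] at e4
  rw [h1] at e2
  have hpos : 0 < (⊥ : Subgroup G).relIndex C := by
    rw [relIndex_bot_left]; exact Nat.card_pos
  have key : (⊥ : Subgroup G).relIndex C * C.relIndex (C ⊔ V) =
      (⊥ : Subgroup G).relIndex C * C.relIndex V := by
    rw [e1, ← e2, ← e4, ← e3]; ring
  exact Nat.eq_of_mul_eq_mul_left hpos key

theorem relIndex_le_index' [Finite G] (K H : Subgroup G) : K.relIndex H ≤ K.index := by
  have := relIndex_le_of_le_right (H := K) (le_top : H ≤ ⊤)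
    (by rw [relIndex_top_right]; exact index_ne_zero_of_finite)
  rwa [relIndex_top_right] at this

/-- lower bound for an index through a normal subgroup and a second subgroup -/
theorem relIndex_mul_relIndex_le_index [Finite G] (C V H : Subgroup G) [V.Normal]
    (h : H ⊓ (C ⊔ V) ≤ C) : C.relIndex V * C.relIndex H ≤ C.index := by
  have h1 : C.relIndex (C ⊔ V) * (C ⊔ V).index = C.index := relIndex_mul_index le_sup_left
  rw [relIndex_sup_normal] at h1
  have h2 : (C ⊔ V).relIndex H ≤ (C ⊔ V).index := relIndex_le_index' _ _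
  have h3 : (C ⊔ V).relIndex H = C.relIndex H := by
    rw [← inf_relIndex_right (C ⊔ V) H, ← inf_relIndex_right C H]
    congr 1
    apply le_antisymm
    · exact le_inf (by rw [inf_comm]; exact h) inf_le_right
    · exact inf_le_inf_right _ le_sup_left
  rw [← h1, ← h3]
  exact Nat.mul_le_mul_left _ h2

/-- comparing relative indices through an injection of coset spaces -/
theorem relIndex_le_of_injOn [Finite G] {Z D W V : Subgroup G} (f : G → G)
    (hf : ∀ β ∈ D, f β ∈ V)
    (hwd : ∀ β ∈ D, ∀ β' ∈ D, β⁻¹ * β' ∈ Z → (f β)⁻¹ * f β' ∈ W)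
    (hinj : ∀ β ∈ D, ∀ β' ∈ D, (f β)⁻¹ * f β' ∈ W → β⁻¹ * β' ∈ Z) :
    Z.relIndex D ≤ W.relIndex V := by
  unfold relIndex index
  let F : (D ⧸ Z.subgroupOf D) → (V ⧸ W.subgroupOf V) :=
    Quotient.map' (fun β : D => (⟨f β, hf β β.2⟩ : V)) (by
      intro a b hab
      rw [QuotientGroup.leftRel_apply] at hab ⊢
      rw [mem_subgroupOf] at hab ⊢
      exact hwd a a.2 b b.2 hab)
  apply Nat.card_le_card_of_injective F
  intro a b
  induction a using Quotient.inductionOn' with
  | h a =>
  induction b using Quotient.inductionOn' with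
  | h b =>
  intro hab
  have h1 := Quotient.exact' hab
  apply Quotient.sound'
  rw [QuotientGroup.leftRel_apply] at h1 ⊢
  rw [mem_subgroupOf] at h1 ⊢
  exact hinj a a.2 b b.2 h1

section NormMap

variable {A : Type*} [CommGroup A]

/-- the norm map of an automorphism of an abelian group -/
def nrm (α : MulAut A) (e : ℕ) (a : A) : A := ∏ k ∈ Finset.range e, (α ^ k) a

theorem nrm_mul (α : MulAut A) (e : ℕ) (a b : A) :
    nrm α e (a * b) = nrm α e a * nrm α e b := by
  unfold nrm
  rw [← Finset.prod_mul_distrib]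
  apply Finset.prod_congr rfl
  intro k _
  exact map_mul _ a b

theorem nrm_fixed (α : MulAut A) (e : ℕ) (hα : α ^ e = 1) (a : A) :
    α (nrm α e a) = nrm α e a := by
  unfold nrm
  rw [map_prod]
  have h1 : ∀ k, α ((α ^ k) a) = (α ^ (k + 1)) a := by
    intro k
    rw [pow_succ']
    rfl
  simp_rw [h1]
  have h2 := Finset.prod_range_succ (fun k => (α ^ k) a) e
  have h3 := Finset.prod_range_succ' (fun k => (α ^ k) a) e
  rw [h2] at h3
  simp only [hα, pow_zero] at h3
  exact (mul_right_cancel h3).symm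

theorem pow_apply_of_fixed (α : MulAut A) (a : A) (ha : α a = a) (k : ℕ) : (α ^ k) a = a := by
  induction k with
  | zero => simp
  | succ k ih =>
    rw [pow_succ, MulAut.mul_apply, ha, ih]

theorem nrm_of_fixed (α : MulAut A) (e : ℕ) (a : A) (ha : α a = a) : nrm α e a = a ^ e := by
  unfold nrm
  simp_rw [pow_apply_of_fixed α a ha]
  simp

theorem nrm_comm (α γ : MulAut A) (h : Commute γ α) (e : ℕ) (a : A) :
    γ (nrm α e a) = nrm α e (γ a) := by
  unfold nrm
  rw [map_prod]
  apply Finset.prod_congr rfl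
  intro k _
  have h1 := (h.pow_right k).eq
  calc γ ((α ^ k) a) = (γ * α ^ k) a := rfl
    _ = (α ^ k * γ) a := by rw [h1]
    _ = (α ^ k) (γ a) := rfl

end NormMap

open scoped IsMulCommutative in
/-- the norm-map argument: an element of large class size in `V * u` -/
theorem exists_large_class [Finite G] (V H : Subgroup G) [V.Normal]
    (hVab : ∀ a ∈ V, ∀ b ∈ V, a * b = b * a)
    {x₁ u : G} (hx₁ : x₁ ∈ V) (hu : u ∈ H) {d e : ℕ} (hde : Nat.Coprime d e)
    (hVd : ∀ v ∈ V, v ^ d = 1) (hue : u ^ e = 1)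
    (hZH : center G ≤ H)
    (hVH : V ⊓ H ≤ center G) (hxH : centralizer ({x₁} : Set G) ⊓ H ≤ center G) :
    ∃ a ∈ V, a * u = u * a ∧ (center G).relIndex H ≤ idx (a * u) := by
  have : IsMulCommutative V := ⟨⟨fun a b => Subtype.ext (hVab a a.2 b b.2)⟩⟩
  set α : MulAut V := MulAut.conjNormal u with hα
  have hαe : α ^ e = 1 := by rw [hα, ← map_pow, hue, map_one]
  set X : V := ⟨x₁, hx₁⟩ with hX
  set av : V := nrm α e X with hav
  have hfix : α av = av := nrm_fixed α e hαe X
  have hau : (av : G) * u = u * av := by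
    have h1 : ((α av : V) : G) = (av : G) := by rw [hfix]
    rw [hα, MulAut.conjNormal_apply] at h1
    calc (av : G) * u = (u * av * u⁻¹) * u := by rw [h1]
      _ = u * av := by group
  refine ⟨av, av.2, hau, ?_⟩
  set a : G := (av : G) with ha
  have haV : a ∈ V := av.2
  have had : a ^ d = 1 := hVd a haV
  have hcop : (orderOf a).Coprime (orderOf u) :=
    Nat.Coprime.coprime_dvd_left (orderOf_dvd_of_pow_eq_one had)
      (Nat.Coprime.coprime_dvd_right (orderOf_dvd_of_pow_eq_one hue) hde)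
  have hcomm : Commute a u := hau
  obtain ⟨k, hk⟩ := Ito.exists_pow_eq_left hcomm hcop
  obtain ⟨j, hj⟩ := Ito.exists_pow_eq_left hcomm.symm hcop.symm
  set C := centralizer ({a * u} : Set G) with hC
  have hc1 : ∀ c ∈ C, c * a = a * c := by
    intro c hc
    have := Ito.cent_le_cent_pow (a * u) k hc
    rw [hk] at this
    exact Ito.mem_cent.mp this
  have hc2 : ∀ c ∈ C, c * u = u * c := by
    intro c hc
    have := Ito.cent_le_cent_pow (a * u) j hc
    rw [hcomm.eq, hj] at this
    exact Ito.mem_cent.mp this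
  have hcoprime_one : ∀ z : G, z ^ d = 1 → z ^ e = 1 → z = 1 := by
    intro z h1 h2
    have := Nat.dvd_gcd (orderOf_dvd_of_pow_eq_one h1) (orderOf_dvd_of_pow_eq_one h2)
    rw [hde] at this
    exact orderOf_eq_one_iff.mp (Nat.dvd_one.mp this)
  have hHC : H ⊓ (C ⊔ V) ≤ C := by
    intro h hh
    obtain ⟨hhH, hhCV⟩ := Subgroup.mem_inf.mp hh
    have hmem : h ∈ ((C ⊔ V : Subgroup G) : Set G) := hhCV
    rw [Subgroup.mul_normal, Set.mem_mul] at hmem
    obtain ⟨c, hc, v, hv, rfl⟩ := hmem
    have hca := hc1 c hc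
    have hcu := hc2 c hc
    have hva : v * a = a * v := hVab v hv a haV
    set z := (c * v) * u * (c * v)⁻¹ * u⁻¹ with hz
    have hzV : z ∈ V := by
      have hci : c⁻¹ * u⁻¹ = u⁻¹ * c⁻¹ := by rw [← mul_inv_rev, ← mul_inv_rev, hcu]
      have e1 : z = c * (v * (u * v⁻¹ * u⁻¹)) * c⁻¹ := by
        calc z = c * v * u * v⁻¹ * (c⁻¹ * u⁻¹) := by rw [hz]; group
          _ = c * v * u * v⁻¹ * (u⁻¹ * c⁻¹) := by rw [hci]
          _ = c * (v * (u * v⁻¹ * u⁻¹)) * c⁻¹ := by group
      rw [e1]
      have hn : V.Normal := inferInstance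
      exact hn.conj_mem _ (V.mul_mem hv (hn.conj_mem _ (V.inv_mem hv) u)) c
    have hzH : z ∈ H :=
      H.mul_mem (H.mul_mem (H.mul_mem hhH hu) (H.inv_mem hhH)) (H.inv_mem hu)
    have hzZ : z ∈ center G := hVH (Subgroup.mem_inf.mpr ⟨hzV, hzH⟩)
    have hzd : z ^ d = 1 := hVd z hzV
    have hze : z ^ e = 1 := by
      have e1 : (c * v) * u * (c * v)⁻¹ = z * u := by rw [hz]; group
      have e2 : ((c * v) * u * (c * v)⁻¹) ^ e = 1 := by rw [conj_pow, hue]; group
      rw [e1, (show Commute z u from (mem_center_iff.mp hzZ u).symm).mul_pow, hue, mul_one] at e2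
      exact e2
    have hz1 : z = 1 := hcoprime_one z hzd hze
    have hhu : (c * v) * u = u * (c * v) := by
      have h1 : (c * v) * u * (c * v)⁻¹ * u⁻¹ = 1 := by rw [← hz]; exact hz1
      calc (c * v) * u = ((c * v) * u * (c * v)⁻¹ * u⁻¹) * u * (c * v) := by group
        _ = u * (c * v) := by rw [h1, one_mul]
    have hha : (c * v) * a = a * (c * v) := by
      calc c * v * a = c * (v * a) := by group
        _ = c * (a * v) := by rw [hva]
        _ = (c * a) * v := by group
        _ = a * c * v := by rw [hca]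
        _ = a * (c * v) := by group
    rw [hC, Ito.mem_cent]
    calc c * v * (a * u) = (c * v * a) * u := by group
      _ = a * ((c * v) * u) := by rw [hha]; group
      _ = a * u * (c * v) := by rw [hhu]; group
  have hII := relIndex_mul_relIndex_le_index C V H hHC
  have hI : (center G).relIndex (C ⊓ H) ≤ (C ⊓ V).relIndex V := by
    apply relIndex_le_of_injOn (fun β => β * x₁ * β⁻¹)
    · intro β _
      exact (inferInstance : V.Normal).conj_mem x₁ hx₁ β
    · intro β _ β' _ hz
      have hzc := mem_center_iff.mp hz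
      have e : β' * x₁ * β'⁻¹ = β * x₁ * β⁻¹ := by
        calc β' * x₁ * β'⁻¹ = β * ((β⁻¹ * β') * x₁) * (β⁻¹ * β')⁻¹ * β⁻¹ := by group
          _ = β * (x₁ * (β⁻¹ * β')) * (β⁻¹ * β')⁻¹ * β⁻¹ := by rw [← hzc x₁]
          _ = β * x₁ * β⁻¹ := by group
      change (β * x₁ * β⁻¹)⁻¹ * (β' * x₁ * β'⁻¹) ∈ C ⊓ V
      rw [e, inv_mul_cancel]
      exact one_mem _
    · intro β hβ β' hβ' hω
      change (β * x₁ * β⁻¹)⁻¹ * (β' * x₁ * β'⁻¹) ∈ C ⊓ V at hω
      obtain ⟨hβC, hβH⟩ := Subgroup.mem_inf.mp hβ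
      obtain ⟨hβ'C, hβ'H⟩ := Subgroup.mem_inf.mp hβ'
      set γ : MulAut V := MulAut.conjNormal β with hγ
      set γ' : MulAut V := MulAut.conjNormal β' with hγ'
      have hγα : Commute γ α := by
        change γ * α = α * γ
        rw [hγ, hα, ← map_mul, ← map_mul, hc2 β hβC]
      have hγ'α : Commute γ' α := by
        change γ' * α = α * γ'
        rw [hγ', hα, ← map_mul, ← map_mul, hc2 β' hβ'C]
      have hγav : γ av = av := by
        apply Subtype.ext
        rw [hγ, MulAut.conjNormal_apply]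
        calc β * a * β⁻¹ = a * β * β⁻¹ := by rw [hc1 β hβC]
          _ = a := by group
      have hγ'av : γ' av = av := by
        apply Subtype.ext
        rw [hγ', MulAut.conjNormal_apply]
        calc β' * a * β'⁻¹ = a * β' * β'⁻¹ := by rw [hc1 β' hβ'C]
          _ = a := by group
      set ωv : V := (γ X)⁻¹ * (γ' X) with hωv
      have hωcoe : (ωv : G) = (β * x₁ * β⁻¹)⁻¹ * (β' * x₁ * β'⁻¹) := by
        rw [hωv, Subgroup.coe_mul, Subgroup.coe_inv, hγ, hγ', MulAut.conjNormal_apply,
          MulAut.conjNormal_apply]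
      have hωC : (ωv : G) ∈ C := by rw [hωcoe]; exact (Subgroup.mem_inf.mp hω).1
      have hωfix : α ωv = ωv := by
        apply Subtype.ext
        rw [hα, MulAut.conjNormal_apply]
        have := hc2 _ hωC
        calc u * (ωv : G) * u⁻¹ = ((ωv : G) * u) * u⁻¹ := by rw [this]
          _ = ωv := by group
      have h1 : nrm α e ωv = ωv ^ e := nrm_of_fixed α e ωv hωfix
      have h2 : γ' X = γ X * ωv := by rw [hωv]; group
      have h3 : nrm α e (γ' X) = nrm α e (γ X) * nrm α e ωv := by rw [h2, nrm_mul]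
      rw [← nrm_comm α γ' hγ'α, ← nrm_comm α γ hγα, ← hav, hγav, hγ'av, h1] at h3
      have h4 : ωv ^ e = 1 := by
        have := h3.symm
        exact mul_eq_left.mp this
      have h5 : (ωv : G) ^ e = 1 := by
        have := congrArg (fun t : V => (t : G)) h4
        simpa using this
      have h6 : (ωv : G) ^ d = 1 := hVd _ ωv.2
      have h7 : (ωv : G) = 1 := hcoprime_one _ h6 h5
      rw [hωcoe] at h7
      have h8 : β' * x₁ * β'⁻¹ = β * x₁ * β⁻¹ := (inv_mul_eq_one.mp h7).symm
      apply hxH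
      refine Subgroup.mem_inf.mpr ⟨?_, H.mul_mem (H.inv_mem hβH) hβ'H⟩
      rw [Ito.mem_cent]
      calc β⁻¹ * β' * x₁ = β⁻¹ * (β' * x₁ * β'⁻¹) * β' := by group
        _ = β⁻¹ * (β * x₁ * β⁻¹) * β' := by rw [h8]
        _ = x₁ * (β⁻¹ * β') := by group
  have hZD : center G ≤ C ⊓ H := le_inf (Ito.center_le_cent _) hZH
  have h1 : (center G).relIndex (C ⊓ H) * (C ⊓ H).relIndex H = (center G).relIndex H :=
    relIndex_mul_relIndex _ _ _ hZD inf_le_right
  rw [inf_relIndex_right] at h1 hI
  rw [idx_def]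
  calc (center G).relIndex H = (center G).relIndex (C ⊓ H) * C.relIndex H := h1.symm
    _ ≤ C.relIndex V * C.relIndex H := Nat.mul_le_mul_right _ hI
    _ ≤ C.index := hII

end Cfsg.Agent.Helper1.ClsGraph
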