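import Mathlib
import Cfsg.Agent.Helper1.ClsGraph7

/-!
Two largest class sizes coprime, part 3: the class sizes are `1`, `n`, `m`.
-/

set_option autoImplicit false

namespace Cfsg.Agent.Helper1.ClsGraph

open Subgroup

variable {G : Type*} [Group G]

theorem exists_conj_mem' [Finite G] {q : ℕ} [Fact q.Prime] {w : G}
    (hw : IsPGroup q (zpowers w)) (K : Subgroup G) (h : ¬ q ∣ K.index) :
    ∃ g : G, g * w * g⁻¹ ∈ K := by
  obtain ⟨g, hg⟩ := exists_conj_mem_of_not_dvd_index hw K h
  exact ⟨g⁻¹, by rw [inv_inv]; exact hg⟩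

theorem isQ_of_isPGroup {q : ℕ} {w : G} (hw : IsPGroup q (zpowers w)) : Ito.IsQ q w := by
  obtain ⟨k, hk⟩ := hw ⟨w, mem_zpowers w⟩
  refine ⟨k, ?_⟩
  have := congrArg (fun t : zpowers w => (t : G)) hk
  simpa using this

theorem isPi_Qm_of_isQ [Finite G] {m q : ℕ} {w : G} (hq : q.Prime) (hqm : ¬ q ∣ m)
    (hw : Ito.IsQ q w) : IsPi (Qm m) (orderOf w) := by
  obtain ⟨j, hj⟩ := hw.orderOf_eq hq
  rw [hj]
  intro s hs hsd
  have : s = q := (Nat.prime_dvd_prime_iff_eq hs hq).mp (hs.dvd_of_dvd_pow hsd)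
  rw [this]; exact hqm

theorem cent_eq_of_split_left {y : G} {a b : ℕ} (hsplit : y = y ^ a * y ^ b)
    (hc : y ^ a ∈ center G) : centralizer ({y ^ b} : Set G) = centralizer ({y} : Set G) := by
  apply le_antisymm _ (Ito.cent_le_cent_pow y b)
  intro c hc'
  rw [Ito.mem_cent] at hc' ⊢
  have h2 : c * y ^ a = y ^ a * c := (mem_center_iff.mp hc c)
  calc c * y = c * (y ^ a * y ^ b) := by rw [← hsplit]
    _ = (c * y ^ a) * y ^ b := by group
    _ = y ^ a * (c * y ^ b) := by rw [h2]; group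
    _ = y ^ a * y ^ b * c := by rw [hc']; group
    _ = y * c := by rw [← hsplit]

theorem cent_eq_of_split_right {y : G} {a b : ℕ} (hsplit : y = y ^ a * y ^ b)
    (hc : y ^ b ∈ center G) : centralizer ({y ^ a} : Set G) = centralizer ({y} : Set G) := by
  apply le_antisymm _ (Ito.cent_le_cent_pow y a)
  intro c hc'
  rw [Ito.mem_cent] at hc' ⊢
  have h2 : c * y ^ b = y ^ b * c := (mem_center_iff.mp hc c)
  calc c * y = c * (y ^ a * y ^ b) := by rw [← hsplit]
    _ = (c * y ^ a) * y ^ b := by group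
    _ = y ^ a * (c * y ^ b) := by rw [hc']; group
    _ = y ^ a * y ^ b * c := by rw [h2]; group
    _ = y * c := by rw [← hsplit]

/-- the two largest class sizes `m > n > 1` are coprime -/
structure Top2 (G : Type*) [Group G] (m n : ℕ) : Prop where
  hmn : n < m
  hn : 1 < n
  hcop : m.Coprime n
  htop : ∀ z : G, idx z ≤ m
  hsecond : ∀ z : G, idx z < m → idx z ≤ n
  hexn : ∃ x : G, idx x = n
  hexm : ∃ y : G, idx y = m

variable {m n : ℕ}

theorem Top2.setup0 (T : Top2 G m n) : Setup0 G (Pm m) (Qm m) := by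
  obtain ⟨y, hy⟩ := T.hexm
  exact ⟨hPQ_m m, hdisj_m m, ⟨y, isPi_Pm_of_dvd (by rw [hy]), fun g => by rw [hy]; exact T.htop g⟩⟩

theorem Top2.idx_cases (T : Top2 G m n) (g : G) : idx g = m ∨ idx g ≤ n := by
  rcases (T.htop g).lt_or_eq with h | h
  · right; exact T.hsecond g h
  · left; exact h

theorem Top2.not_dvd (T : Top2 G m n) : ¬ n ∣ m := by
  intro h
  have h1 := Nat.eq_one_of_dvd_coprimes T.hcop h dvd_rfl
  have := T.hn
  omega

theorem Top2.isQ_of_dvd (T : Top2 G m n) {k : ℕ} (h : k ∣ n) : IsPi (Qm m) k :=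
  isPi_Qm_iff.mpr (Nat.Coprime.coprime_dvd_left h T.hcop.symm)

/-- (L2) a class size prime to `n` is `1` or `m` -/
theorem Top2.central_of_coprime [Finite G] (T : Top2 G m n) {a : G}
    (h1 : Nat.Coprime (idx a) n) (h2 : idx a < m) : a ∈ center G := by
  obtain ⟨x, hx⟩ := T.hexn
  obtain ⟨y, hy⟩ := T.hexm
  have hcxa : Nat.Coprime (idx x) (idx a) := by rw [hx]; exact h1.symm
  have hdvd : idx (x * a) ∣ idx x * idx a := idx_mul_dvd hcxa
  have hne : idx (x * a) ≠ m := by
    intro h
    rw [h, hx] at hdvd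
    have h3 : m ∣ idx a := T.hcop.dvd_of_dvd_mul_left hdvd
    have h4 := Nat.le_of_dvd (Nat.pos_of_ne_zero (idx_ne_zero a)) h3
    omega
  have hle : idx (x * a) ≤ idx x := by
    rw [hx]
    rcases T.idx_cases (x * a) with h | h
    · exact absurd h hne
    · exact h
  have hmax : ∀ g : G, idx g ≤ idx y := fun g => by rw [hy]; exact T.htop g
  have hcyx : Nat.Coprime (idx y) (idx x) := by rw [hx, hy]; exact T.hcop
  rw [mem_center_iff]
  intro g
  set k := g * a * g⁻¹ * a⁻¹ with hk
  have hkR : k ∈ rstab (conjugatesOf x) := comm_mem_rstab' hle hcxa g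
  have hxk : x * k ∈ conjugatesOf x := (hkR x mem_conjugatesOf_self).1
  obtain ⟨c, hc⟩ := mem_conjugatesOf_iff'.mp hxk
  have hk2 : k = x⁻¹ * (c * x * c⁻¹ * x⁻¹) * x⁻¹⁻¹ := by rw [hc]; group
  have hkR2 : k ∈ rstab (conjugatesOf y) := by
    rw [hk2]
    exact (rstab_normal y).conj_mem _ (comm_mem_rstab hmax hcyx c) x⁻¹
  have ho1 : orderOf k ∣ n := by
    rw [← hx]; exact (Subgroup.orderOf_dvd_natCard _ hkR).trans (card_rstab_dvd_idx x)
  have ho2 : orderOf k ∣ m := by
    rw [← hy]; exact (Subgroup.orderOf_dvd_natCard _ hkR2).trans (card_rstab_dvd_idx y)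
  have h5 : orderOf k = 1 := Nat.eq_one_of_dvd_coprimes T.hcop ho2 ho1
  have h6 : k = 1 := orderOf_eq_one_iff.mp h5
  calc g * a = k * a * g := by rw [hk]; group
    _ = a * g := by rw [h6, one_mul]

/-- (L3) `π'`-elements of the centralizer of an element of class size `n` are central -/
theorem Top2.central_of_Q_order [Finite G] (T : Top2 G m n) {x c : G} (hx : idx x = n)
    (hc : c ∈ centralizer ({x} : Set G)) (ho : IsPi (Qm m) (orderOf c)) : c ∈ center G := by
  have S := T.setup0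
  have hxQ : IsPi (Qm m) (idx x) := by rw [hx]; exact T.isQ_of_dvd dvd_rfl
  obtain ⟨a, ha, hCa⟩ := S.exists_P_part hxQ
  set x1 := x ^ a with hx1
  have hidx1 : idx x1 = n := by rw [idx_def, hCa, ← idx_def, hx]
  have hc1 : c ∈ centralizer ({x1} : Set G) := by rw [hCa]; exact hc
  have hcop : (orderOf x1).Coprime (orderOf c) := IsPi.coprime S.hdisj ha ho
  have hcomm : Commute x1 c := (Ito.mem_cent.mp hc1).symm
  obtain ⟨k, hk⟩ := Ito.exists_pow_eq_left hcomm hcop
  obtain ⟨j, hj⟩ := Ito.exists_pow_eq_left hcomm.symm hcop.symm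
  have h1 : n ∣ idx (x1 * c) := by
    have := idx_pow_dvd (x1 * c) k
    rwa [hk, hidx1] at this
  have h2 : idx c ∣ idx (x1 * c) := by
    have := idx_pow_dvd (c * x1) j
    rw [hj, ← hcomm.eq] at this
    exact this
  have h3 : idx (x1 * c) = n := by
    rcases T.idx_cases (x1 * c) with h | h
    · rw [h] at h1; exact absurd h1 T.not_dvd
    · exact le_antisymm h (Nat.le_of_dvd (Nat.pos_of_ne_zero (idx_ne_zero _)) h1)
  rw [h3] at h2
  exact S.central_of_Q (T.isQ_of_dvd h2) ho

/-- Itô's argument for the largest class size -/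
theorem Top2.cent_le_of_coprime [Finite G] (T : Top2 G m n) {w c : G} (hw : idx w = m)
    (hc : c ∈ centralizer ({w} : Set G)) (hcop : (orderOf w).Coprime (orderOf c)) :
    centralizer ({w} : Set G) ≤ centralizer ({c} : Set G) := by
  have hcomm : Commute w c := (Ito.mem_cent.mp hc).symm
  obtain ⟨k, hk⟩ := Ito.exists_pow_eq_left hcomm hcop
  obtain ⟨j, hj⟩ := Ito.exists_pow_eq_left hcomm.symm hcop.symm
  have h1 : centralizer ({w * c} : Set G) ≤ centralizer ({w} : Set G) := by
    have := Ito.cent_le_cent_pow (w * c) k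
    rwa [hk] at this
  have h2 : centralizer ({w * c} : Set G) ≤ centralizer ({c} : Set G) := by
    have := Ito.cent_le_cent_pow (c * w) j
    rw [hj, ← hcomm.eq] at this
    exact this
  have h3 : idx (w * c) = m := by
    have h4 : idx w ∣ idx (w * c) := index_dvd_of_le h1
    rw [hw] at h4
    exact le_antisymm (T.htop _) (Nat.le_of_dvd (Nat.pos_of_ne_zero (idx_ne_zero _)) h4)
  have h5 : centralizer ({w * c} : Set G) = centralizer ({w} : Set G) :=
    eq_of_le_of_index_eq h1 (by rw [← idx_def, ← idx_def, h3, hw])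
  rw [← h5]; exact h2

/-- a noncentral element whose class size divides `m` has class size `m` -/
theorem Top2.idx_eq_of_dvd [Finite G] (T : Top2 G m n) {a : G} (h1 : idx a ∣ m)
    (hnc : a ∉ center G) : idx a = m := by
  by_contra hne
  have h2 : idx a < m := lt_of_le_of_ne (T.htop a) hne
  exact hnc (T.central_of_coprime (Nat.Coprime.coprime_dvd_left h1 T.hcop) h2)

/-- (L4b) `π`-elements do not have the largest class size -/
theorem Top2.idx_lt_of_P_order [Finite G] (T : Top2 G m n) {v : G}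
    (hv : IsPi (Pm m) (orderOf v)) : idx v < m := by
  by_contra hcon
  have hvm : idx v = m := le_antisymm (T.htop v) (not_lt.mp hcon)
  have hvnc : v ∉ center G := by
    intro h
    rw [← idx_eq_one_iff, hvm] at h
    have := T.hmn
    have := T.hn
    omega
  obtain ⟨r, k, hr, hrd, hnc, hQr⟩ := Ito.exists_noncentral_part' hvnc
  set v' := v ^ k with hv'
  have hrm : r ∣ m := hv r hr hrd
  have hv'm : idx v' = m := T.idx_eq_of_dvd (by rw [← hvm]; exact idx_pow_dvd v k) hnc
  obtain ⟨q, hq, hqn⟩ := Nat.exists_prime_and_dvd (show n ≠ 1 by have := T.hn; omega)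
  have hqm : ¬ q ∣ m := fun h => hq.ne_one (Nat.eq_one_of_dvd_coprimes T.hcop h hqn)
  have hrn : ¬ r ∣ n := fun h => hr.ne_one (Nat.eq_one_of_dvd_coprimes T.hcop hrm h)
  have hrq : r ≠ q := fun h => hqm (h ▸ hrm)
  have : Fact q.Prime := ⟨hq⟩
  obtain ⟨x, hx⟩ := T.hexn
  let Sy : Sylow q G := default
  have hSy : ¬ (Sy : Subgroup G) ≤ center G := by
    intro hle
    have h1 : (Sy : Subgroup G) ≤ centralizer ({x} : Set G) := hle.trans (Ito.center_le_cent x)
    apply Sy.not_dvd_index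
    have h2 : idx x ∣ (Sy : Subgroup G).index := index_dvd_of_le h1
    rw [hx] at h2
    exact hqn.trans h2
  obtain ⟨w0, hw0S, hw0Z⟩ := SetLike.not_le_iff_exists.mp hSy
  have hp0 : IsPGroup q (zpowers w0) := Sy.2.to_le (zpowers_le.mpr hw0S)
  obtain ⟨g, hg⟩ := exists_conj_mem' hp0 (centralizer ({v'} : Set G))
    (by rw [← idx_def, hv'm]; exact hqm)
  set w1 := g * w0 * g⁻¹ with hw1
  have hw1Z : w1 ∉ center G := fun h => hw0Z ((conj_mem_center_iff g).mp h)
  have hw1q : Ito.IsQ q w1 := isQ_conj (isQ_of_isPGroup hp0) g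
  have hcopo : (orderOf v').Coprime (orderOf w1) := Ito.IsQ.coprime hr hq hrq hQr hw1q
  have hle : centralizer ({v'} : Set G) ≤ centralizer ({w1} : Set G) :=
    T.cent_le_of_coprime hv'm hg hcopo
  have hw1m : idx w1 = m :=
    T.idx_eq_of_dvd (by rw [← hv'm]; exact index_dvd_of_le hle) hw1Z
  have heq : centralizer ({v'} : Set G) = centralizer ({w1} : Set G) :=
    eq_of_le_of_index_eq hle (by rw [← idx_def, ← idx_def, hv'm, hw1m])
  have : Fact r.Prime := ⟨hr⟩
  have hpv : IsPGroup r (zpowers v') := isPGroup_zpowers_of_isQ hr hQr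
  obtain ⟨g2, hg2⟩ := exists_conj_mem' hpv (centralizer ({x} : Set G))
    (by rw [← idx_def, hx]; exact hrn)
  set x' := g2⁻¹ * x * g2 with hx'
  have hx'n : idx x' = n := by
    have := idx_conj g2⁻¹ x
    rw [inv_inv] at this
    rw [hx', this, hx]
  have hv'x' : x' ∈ centralizer ({v'} : Set G) := by
    rw [Ito.mem_cent] at hg2 ⊢
    calc x' * v' = g2⁻¹ * (x * (g2 * v' * g2⁻¹)) * g2 := by rw [hx']; group
      _ = g2⁻¹ * ((g2 * v' * g2⁻¹) * x) * g2 := by rw [hg2]
      _ = v' * x' := by rw [hx']; group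
  rw [heq] at hv'x'
  have hw1x' : w1 ∈ centralizer ({x'} : Set G) := by
    rw [Ito.mem_cent] at hv'x' ⊢
    exact hv'x'.symm
  exact hw1Z (T.central_of_Q_order hx'n hw1x' (isPi_Qm_of_isQ hq hqm hw1q))

/-- (H1) `π`-elements centralizing a `π'`-element of largest class size are central -/
theorem Top2.central_of_P_order [Finite G] (T : Top2 G m n) {w v : G} (hw : idx w = m)
    (hwo : IsPi (Qm m) (orderOf w)) (hv : v ∈ centralizer ({w} : Set G))
    (hvo : IsPi (Pm m) (orderOf v)) : v ∈ center G := by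
  have hcop : (orderOf w).Coprime (orderOf v) := (IsPi.coprime (hdisj_m m) hvo hwo).symm
  have hle := T.cent_le_of_coprime hw hv hcop
  have h1 : idx v ∣ m := by rw [← hw]; exact index_dvd_of_le hle
  exact T.central_of_coprime (Nat.Coprime.coprime_dvd_left h1 T.hcop) (T.idx_lt_of_P_order hvo)

/-- (A8) the `π'`-part of an element of largest class size has the same centralizer -/
theorem Top2.exists_Q_part [Finite G] (T : Top2 G m n) {y : G} (hy : idx y = m) :
    ∃ b : ℕ, IsPi (Qm m) (orderOf (y ^ b)) ∧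
      centralizer ({y ^ b} : Set G) = centralizer ({y} : Set G) := by
  obtain ⟨a, b, hsplit, ha, hb⟩ := exists_pi_split (hPQ_m m) (hdisj_m m) y
  have h1 : idx (y ^ a) ∣ m := by rw [← hy]; exact idx_pow_dvd y a
  have hc : y ^ a ∈ center G :=
    T.central_of_coprime (Nat.Coprime.coprime_dvd_left h1 T.hcop) (T.idx_lt_of_P_order ha)
  exact ⟨b, hb, cent_eq_of_split_left hsplit hc⟩

/-- (H3) -/
theorem Top2.inf_le_center [Finite G] (T : Top2 G m n) {x w : G} (hx : idx x = n)
    (hw : idx w = m) (hwo : IsPi (Qm m) (orderOf w)) :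
    centralizer ({x} : Set G) ⊓ centralizer ({w} : Set G) ≤ center G := by
  intro c hc
  obtain ⟨hcx, hcw⟩ := Subgroup.mem_inf.mp hc
  obtain ⟨a, b, hsplit, ha, hb⟩ := exists_pi_split (hPQ_m m) (hdisj_m m) c
  have h1 : c ^ a ∈ center G := T.central_of_P_order hw hwo (pow_mem hcw a) ha
  have h2 : c ^ b ∈ center G := T.central_of_Q_order hx (pow_mem hcx b) hb
  rw [hsplit]
  exact mul_mem h1 h2

theorem Top2.relIndex_center [Finite G] (T : Top2 G m n) {w : G}
    (hw : idx w = m) (hwo : IsPi (Qm m) (orderOf w)) :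
    (center G).relIndex (centralizer ({w} : Set G)) = n := by
  obtain ⟨x, hx⟩ := T.hexn
  have h1 : centralizer ({x} : Set G) ⊓ centralizer ({w} : Set G) = center G :=
    le_antisymm (T.inf_le_center hx hw hwo) (le_inf (Ito.center_le_cent x) (Ito.center_le_cent w))
  have h2 := index_inf_of_coprime (centralizer ({x} : Set G)) (centralizer ({w} : Set G))
    (by rw [← idx_def, ← idx_def, hx, hw]; exact T.hcop.symm)
  rw [h1, ← idx_def, ← idx_def, hx, hw] at h2
  have h3 := relIndex_mul_index (Ito.center_le_cent w)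
  rw [h2, ← idx_def, hw] at h3
  have hpos : 0 < m := by have := T.hmn; omega
  exact Nat.eq_of_mul_eq_mul_right hpos h3

end Cfsg.Agent.Helper1.ClsGraph
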