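import Mathlib
import Cfsg.Agent.Helper1.ClsGraph8

/-!
Two largest class sizes coprime, part 4: the class sizes are `1`, `n`, `m`.
-/

set_option autoImplicit false

namespace Cfsg.Agent.Helper1.ClsGraph

open Subgroup

variable {G : Type*} [Group G] {P Q : ℕ → Prop}

/-- the normal closure of an element with `Q`-class size is abelian -/
theorem Setup0.normalClosure_comm [Finite G] (S : Setup0 G P Q) {x1 : G}
    (h : IsPi Q (idx x1)) : ∀ a ∈ normalClosure ({x1} : Set G),
      ∀ b ∈ normalClosure ({x1} : Set G), a * b = b * a := by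
  have hgen : ∀ s ∈ Group.conjugatesOfSet ({x1} : Set G), IsPi Q (idx s) := by
    intro s hs
    rw [Group.mem_conjugatesOfSet_iff] at hs
    obtain ⟨x, hx, hconj⟩ := hs
    rw [Set.mem_singleton_iff] at hx
    subst hx
    obtain ⟨c, rfl⟩ := isConj_iff.mp hconj
    rw [idx_conj]; exact h
  have h1 : ∀ s ∈ Group.conjugatesOfSet ({x1} : Set G),
      normalClosure ({x1} : Set G) ≤ centralizer ({s} : Set G) := by
    intro s hs
    apply (Subgroup.closure_le _).mpr
    intro t ht
    exact Ito.mem_cent.mpr (S.commute_of_Q (hgen t ht) (hgen s hs))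
  intro a ha b hb
  have h2 : normalClosure ({x1} : Set G) ≤ centralizer ({a} : Set G) := by
    apply (Subgroup.closure_le _).mpr
    intro t ht
    have := h1 t ht ha
    rw [SetLike.mem_coe, Ito.mem_cent]
    exact (Ito.mem_cent.mp this).symm
  exact (Ito.mem_cent.mp (h2 hb)).symm

theorem normalClosure_pow_eq_one {x1 : G}
    (hab : ∀ a ∈ normalClosure ({x1} : Set G), ∀ b ∈ normalClosure ({x1} : Set G), a * b = b * a)
    {d : ℕ} (hx : x1 ^ d = 1) : ∀ v ∈ normalClosure ({x1} : Set G), v ^ d = 1 := by
  intro v hv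
  have key : ∀ v (hv : v ∈ closure (Group.conjugatesOfSet ({x1} : Set G))), v ^ d = 1 := by
    intro v hv
    refine Subgroup.closure_induction (p := fun v _ => v ^ d = 1) ?_ ?_ ?_ ?_ hv
    · intro s hs
      rw [Group.mem_conjugatesOfSet_iff] at hs
      obtain ⟨x, hx', hconj⟩ := hs
      rw [Set.mem_singleton_iff] at hx'
      subst hx'
      obtain ⟨c, rfl⟩ := isConj_iff.mp hconj
      rw [conj_pow, hx]; group
    · exact one_pow d
    · intro a b ha hb h1 h2
      rw [(show Commute a b from hab a ha b hb).mul_pow, h1, h2, one_mul]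
    · intro a _ h1
      rw [inv_pow, h1, inv_one]
  exact key v hv

variable {m n : ℕ}

/-- (*) every noncentral element of `C(w)` has the largest class size -/
theorem Top2.idx_eq_of_mem [Finite G] (T : Top2 G m n) {w u : G} (hw : idx w = m)
    (hwo : IsPi (Qm m) (orderOf w)) (hu : u ∈ centralizer ({w} : Set G))
    (hnc : u ∉ center G) : idx u = m := by
  have S := T.setup0
  -- reduce to a `π'`-element
  obtain ⟨a0, b0, hsplit, ha0, hb0⟩ := exists_pi_split (hPQ_m m) (hdisj_m m) u
  have hc0 : u ^ a0 ∈ center G := T.central_of_P_order hw hwo (pow_mem hu a0) ha0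
  have hCu : centralizer ({u ^ b0} : Set G) = centralizer ({u} : Set G) :=
    cent_eq_of_split_left hsplit hc0
  set u' := u ^ b0 with hu'
  have hu'H : u' ∈ centralizer ({w} : Set G) := pow_mem hu b0
  have hu'nc : u' ∉ center G := by
    intro h
    apply hnc
    rw [hsplit]
    exact mul_mem hc0 h
  rw [idx_def, ← hCu, ← idx_def]
  -- the element `x1`
  obtain ⟨x, hx⟩ := T.hexn
  have hxQ : IsPi (Qm m) (idx x) := by rw [hx]; exact T.isQ_of_dvd dvd_rfl
  obtain ⟨a, ha, hCa⟩ := S.exists_P_part hxQ
  set x1 := x ^ a with hx1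
  have hidx1 : idx x1 = n := by rw [idx_def, hCa, ← idx_def, hx]
  have hx1Q : IsPi (Qm m) (idx x1) := by rw [hidx1]; exact T.isQ_of_dvd dvd_rfl
  set V := normalClosure ({x1} : Set G) with hV
  have hVab := S.normalClosure_comm hx1Q
  have hVd := normalClosure_pow_eq_one hVab (pow_orderOf_eq_one x1)
  have hx1V : x1 ∈ V := subset_normalClosure (Set.mem_singleton x1)
  have hVle : V ≤ centralizer ({x1} : Set G) := by
    intro v hv
    exact Ito.mem_cent.mpr (hVab v hv x1 hx1V)
  have hxH : centralizer ({x1} : Set G) ⊓ centralizer ({w} : Set G) ≤ center G :=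
    T.inf_le_center hidx1 hw hwo
  have hVH : V ⊓ centralizer ({w} : Set G) ≤ center G :=
    (inf_le_inf_right _ hVle).trans hxH
  have hde : Nat.Coprime (orderOf x1) (orderOf u') := IsPi.coprime (hdisj_m m) ha hb0
  obtain ⟨c, hcV, hcu, hle⟩ := exists_large_class V (centralizer ({w} : Set G)) hVab hx1V hu'H
    hde hVd (pow_orderOf_eq_one u') (Ito.center_le_cent w) hVH hxH
  rw [T.relIndex_center hw hwo] at hle
  have hco : orderOf c ∣ orderOf x1 := orderOf_dvd_of_pow_eq_one (hVd c hcV)
  have hcP : IsPi (Pm m) (orderOf c) := ha.of_dvd hco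
  have hcop : (orderOf c).Coprime (orderOf u') := Nat.Coprime.coprime_dvd_left hco hde
  have hcomm : Commute c u' := hcu
  obtain ⟨k, hk⟩ := Ito.exists_pow_eq_left hcomm hcop
  rcases T.idx_cases (c * u') with h | h
  · -- class size `m`
    have h1 : idx c ∣ m := by
      have := idx_pow_dvd (c * u') k
      rwa [hk, h] at this
    have hcZ : c ∈ center G :=
      T.central_of_coprime (Nat.Coprime.coprime_dvd_left h1 T.hcop) (T.idx_lt_of_P_order hcP)
    have h2 : centralizer ({u'} : Set G) ≤ centralizer ({c * u'} : Set G) := by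
      intro g hg
      rw [Ito.mem_cent] at hg ⊢
      have h3 : g * c = c * g := mem_center_iff.mp hcZ g
      calc g * (c * u') = (g * c) * u' := by group
        _ = c * (g * u') := by rw [h3]; group
        _ = c * u' * g := by rw [hg]; group
    have h4 : idx (c * u') ∣ idx u' := index_dvd_of_le h2
    rw [h] at h4
    exact le_antisymm (T.htop _) (Nat.le_of_dvd (Nat.pos_of_ne_zero (idx_ne_zero _)) h4)
  · -- class size `n`: impossible
    exfalso
    have h1 : idx (c * u') = n := le_antisymm h hle
    have h2 : u' ∈ centralizer ({c * u'} : Set G) := by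
      rw [Ito.mem_cent]
      calc u' * (c * u') = (u' * c) * u' := by group
        _ = c * u' * u' := by rw [← hcu]
    exact hu'nc (T.central_of_Q_order h1 h2 hb0)

/-- noncentral `π'`-elements have the largest class size -/
theorem Top2.idx_eq_of_Q_order [Finite G] (T : Top2 G m n) {u : G}
    (hu : IsPi (Qm m) (orderOf u)) (hnc : u ∉ center G) : idx u = m := by
  obtain ⟨q, k, hq, hqd, hknc, hQ⟩ := Ito.exists_noncentral_part' hnc
  have hqm : ¬ q ∣ m := hu q hq hqd
  obtain ⟨y, hy⟩ := T.hexm
  obtain ⟨b, hb, hCb⟩ := T.exists_Q_part hy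
  set w := y ^ b with hw
  have hwm : idx w = m := by rw [idx_def, hCb, ← idx_def, hy]
  have : Fact q.Prime := ⟨hq⟩
  obtain ⟨g, hg⟩ := exists_conj_mem' (isPGroup_zpowers_of_isQ hq hQ) (centralizer ({w} : Set G))
    (by rw [← idx_def, hwm]; exact hqm)
  have h1 : g * u ^ k * g⁻¹ ∉ center G := fun h => hknc ((conj_mem_center_iff g).mp h)
  have h2 := T.idx_eq_of_mem hwm hb hg h1
  rw [idx_conj] at h2
  have h3 : idx (u ^ k) ∣ idx u := idx_pow_dvd u k
  rw [h2] at h3
  exact le_antisymm (T.htop _) (Nat.le_of_dvd (Nat.pos_of_ne_zero (idx_ne_zero _)) h3)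

/-- (K) a `π`-element commuting with a noncentral `π'`-element is central -/
theorem Top2.central_of_commute [Finite G] (T : Top2 G m n) {t u : G}
    (ht : IsPi (Pm m) (orderOf t)) (hu : IsPi (Qm m) (orderOf u)) (hcomm : t * u = u * t)
    (hnc : u ∉ center G) : t ∈ center G :=
  T.central_of_P_order (T.idx_eq_of_Q_order hu hnc) hu (Ito.mem_cent.mpr hcomm) ht

/-- noncentral `π`-elements have class size `n` -/
theorem Top2.idx_eq_of_P_order [Finite G] (T : Top2 G m n) {t : G}
    (ht : IsPi (Pm m) (orderOf t)) (hnc : t ∉ center G) : idx t = n := by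
  obtain ⟨y, hy⟩ := T.hexm
  obtain ⟨b, hb, hCb⟩ := T.exists_Q_part hy
  set w := y ^ b with hw
  have hwm : idx w = m := by rw [idx_def, hCb, ← idx_def, hy]
  set H := centralizer ({w} : Set G) with hH
  have hCH : centralizer ({t} : Set G) ⊓ H ≤ center G := by
    intro h hh
    obtain ⟨h1, h2⟩ := Subgroup.mem_inf.mp hh
    obtain ⟨a0, b0, hsplit, ha0, hb0⟩ := exists_pi_split (hPQ_m m) (hdisj_m m) h
    have hc0 : h ^ a0 ∈ center G := T.central_of_P_order hwm hb (pow_mem h2 a0) ha0
    have hc1 : h ^ b0 ∈ center G := by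
      by_contra hcon
      apply hnc
      have h3 : h ^ b0 ∈ centralizer ({t} : Set G) := pow_mem h1 b0
      exact T.central_of_commute ht hb0 (Ito.mem_cent.mp h3).symm hcon
    rw [hsplit]
    exact mul_mem hc0 hc1
  have heq : centralizer ({t} : Set G) ⊓ H = center G :=
    le_antisymm hCH (le_inf (Ito.center_le_cent t) (Ito.center_le_cent w))
  have h1 : (centralizer ({t} : Set G)).relIndex H = n := by
    rw [← inf_relIndex_right, heq]
    exact T.relIndex_center hwm hb
  have h2 : n ≤ idx t := by
    rw [← h1, idx_def]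
    exact relIndex_le_index' _ _
  rcases T.idx_cases t with h | h
  · exact absurd h (T.idx_lt_of_P_order ht).ne
  · exact le_antisymm h h2

/-- every class size is a `π`-number or a `π'`-number -/
theorem Top2.htype [Finite G] (T : Top2 G m n) (g : G) :
    IsPi (Pm m) (idx g) ∨ IsPi (Qm m) (idx g) := by
  obtain ⟨a, b, hsplit, ha, hb⟩ := exists_pi_split (hPQ_m m) (hdisj_m m) g
  by_cases hbc : g ^ b ∈ center G
  · have hC : centralizer ({g ^ a} : Set G) = centralizer ({g} : Set G) :=
      cent_eq_of_split_right hsplit hbc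
    by_cases hac : g ^ a ∈ center G
    · left
      have : idx g = 1 := by
        rw [idx_eq_one_iff, hsplit]
        exact mul_mem hac hbc
      rw [this]; exact isPi_one
    · right
      have h1 := T.idx_eq_of_P_order ha hac
      rw [idx_def, hC, ← idx_def] at h1
      rw [h1]; exact T.isQ_of_dvd dvd_rfl
  · left
    have hcomm : g ^ a * g ^ b = g ^ b * g ^ a := ((Commute.refl g).pow_pow a b).eq
    have hac : g ^ a ∈ center G := T.central_of_commute ha hb hcomm hbc
    have hC : centralizer ({g ^ b} : Set G) = centralizer ({g} : Set G) :=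
      cent_eq_of_split_left hsplit hac
    have h1 := T.idx_eq_of_Q_order hb hbc
    rw [idx_def, hC, ← idx_def] at h1
    rw [h1]; exact isPi_Pm_of_dvd dvd_rfl

theorem Top2.setup [Finite G] (T : Top2 G m n) : Setup G (Pm m) (Qm m) :=
  ⟨hPQ_m m, hdisj_m m, T.htype, T.setup0.hmax⟩

end Cfsg.Agent.Helper1.ClsGraph
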