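import Mathlib

/-!
Piece (PA) of the defect-one cluster: elementary group theory around a Sylow subgroup of prime order.
-/

set_option autoImplicit false
set_option linter.style.haveILetI false
set_option linter.unusedSectionVars false

namespace Cfsg.Agent.Helper1.D1PA

variable {G : Type*} [Group G] [Finite G] {p : ℕ} [Fact p.Prime]

omit [Finite G] in
theorem comm_of_card_prime (P : Sylow p G) (hP : Nat.card P = p) {x y : G}
    (hx : x ∈ (P : Subgroup G)) (hy : y ∈ (P : Subgroup G)) : x * y = y * x := by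
  haveI : IsCyclic (P : Subgroup G) := isCyclic_of_prime_card hP
  have h := (IsCyclic.commGroup (α := (P : Subgroup G))).mul_comm ⟨x, hx⟩ ⟨y, hy⟩
  exact congrArg Subtype.val h

omit [Finite G] in
theorem le_centralizer (P : Sylow p G) (hP : Nat.card P = p) :
    (P : Subgroup G) ≤ Subgroup.centralizer ((P : Subgroup G) : Set G) := by
  intro x hx
  rw [Subgroup.mem_centralizer_iff]
  intro y hy
  exact comm_of_card_prime P hP hy hx

theorem zpowers_eq (P : Sylow p G) (hP : Nat.card P = p) {u : G} (hu : u ∈ (P : Subgroup G))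
    (hu1 : u ≠ 1) : Subgroup.zpowers u = (P : Subgroup G) := by
  have hle : Subgroup.zpowers u ≤ (P : Subgroup G) := Subgroup.zpowers_le.mpr hu
  have hord : orderOf u ∣ p := by
    have := orderOf_dvd_natCard (⟨u, hu⟩ : (P : Subgroup G))
    rwa [Subgroup.orderOf_mk, hP] at this
  have hp : p.Prime := Fact.out
  have hord' : orderOf u = p := by
    rcases (Nat.dvd_prime hp).mp hord with h1 | h1
    · exact absurd (orderOf_eq_one_iff.mp h1) hu1
    · exact h1
  apply Subgroup.eq_of_le_of_card_ge hle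
  rw [Nat.card_zpowers, hord', hP]

theorem exists_zpow (P : Sylow p G) (hP : Nat.card P = p) {u y : G} (hu : u ∈ (P : Subgroup G))
    (hu1 : u ≠ 1) (hy : y ∈ (P : Subgroup G)) : ∃ k : ℤ, u ^ k = y := by
  rw [← zpowers_eq P hP hu hu1] at hy
  exact Subgroup.mem_zpowers_iff.mp hy

theorem centralizer_singleton_eq (P : Sylow p G) (hP : Nat.card P = p) {u : G}
    (hu : u ∈ (P : Subgroup G)) (hu1 : u ≠ 1) :
    Subgroup.centralizer ({u} : Set G) = Subgroup.centralizer ((P : Subgroup G) : Set G) := by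
  apply le_antisymm
  · intro g hg
    rw [Subgroup.mem_centralizer_singleton_iff] at hg
    rw [Subgroup.mem_centralizer_iff]
    intro y hy
    obtain ⟨k, rfl⟩ := exists_zpow P hP hu hu1 hy
    have hc : Commute g u := hg
    exact (hc.zpow_right k).eq.symm
  · apply Subgroup.centralizer_le
    intro x hx
    rw [Set.mem_singleton_iff] at hx
    rw [hx]; exact hu

omit [Finite G] in
/-- a `p`-element of `C_G(P)` lies in `P` -/
theorem mem_of_pow_eq_one (P : Sylow p G) {x : G}
    (hx : x ∈ Subgroup.centralizer ((P : Subgroup G) : Set G)) {k : ℕ} (hxk : x ^ (p ^ k) = 1) :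
    x ∈ (P : Subgroup G) := by
  have h1 : IsPGroup p (Subgroup.zpowers x) := by
    rw [IsPGroup]
    rintro ⟨y, hy⟩
    obtain ⟨j, rfl⟩ := Subgroup.mem_zpowers_iff.mp hy
    refine ⟨k, Subtype.ext ?_⟩
    rw [Subgroup.coe_pow, Subgroup.coe_one]
    change (x ^ j) ^ (p ^ k) = 1
    rw [← zpow_natCast, ← zpow_mul, mul_comm, zpow_mul, zpow_natCast, hxk, one_zpow]
  have h2 : Subgroup.zpowers x ≤ Subgroup.normalizer ((P : Subgroup G) : Set G) := by
    apply Subgroup.zpowers_le.mpr
    exact Subgroup.centralizer_le_normalizer _ hx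
  have h3 : IsPGroup p (Subgroup.zpowers x ⊔ (P : Subgroup G) : Subgroup G) :=
    IsPGroup.to_sup_of_normal_right' h1 P.isPGroup' h2
  have h4 := P.is_maximal' h3 le_sup_right
  have : x ∈ Subgroup.zpowers x ⊔ (P : Subgroup G) :=
    (le_sup_left : Subgroup.zpowers x ≤ _) (Subgroup.mem_zpowers x)
  rwa [h4] at this

theorem orderOf_dvd_of_mem (P : Sylow p G) (hP : Nat.card P = p) {u : G}
    (hu : u ∈ (P : Subgroup G)) : orderOf u ∣ p := by
  have := orderOf_dvd_natCard (⟨u, hu⟩ : (P : Subgroup G))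
  rwa [Subgroup.orderOf_mk, hP] at this

/-- for `u ∈ P` and a `p`-regular `y ∈ C_G(P)`: if `u * y` is `p`-regular then `u = 1` -/
theorem eq_one_of_regular (P : Sylow p G) (hP : Nat.card P = p) {u y : G}
    (hu : u ∈ (P : Subgroup G)) (hy : y ∈ Subgroup.centralizer ((P : Subgroup G) : Set G))
    (hyp : ¬ p ∣ orderOf y) (huy : ¬ p ∣ orderOf (u * y)) : u = 1 := by
  have hp : p.Prime := Fact.out
  by_contra hu1
  have hord : orderOf u = p := by
    rcases (Nat.dvd_prime hp).mp (orderOf_dvd_of_mem P hP hu) with h1 | h1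
    · exact absurd (orderOf_eq_one_iff.mp h1) hu1
    · exact h1
  have hc : Commute u y := by
    rw [Subgroup.mem_centralizer_iff] at hy
    exact (hy u hu)
  have hcop : (orderOf u).Coprime (orderOf y) := by
    rw [hord]; exact (Nat.Prime.coprime_iff_not_dvd hp).mpr hyp
  have := hc.orderOf_mul_eq_mul_orderOf_of_coprime hcop
  apply huy
  rw [this, hord]
  exact dvd_mul_right p _

theorem pow_mem_centralizer (S : Set G) {c : G} (hc : c ∈ Subgroup.centralizer S) (k : ℤ) :
    c ^ k ∈ Subgroup.centralizer S := Subgroup.zpow_mem _ hc k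

/-- (2) -/
theorem exists_decomp (P : Sylow p G) {c : G}
    (hc : c ∈ Subgroup.centralizer ((P : Subgroup G) : Set G)) :
    ∃ u ∈ (P : Subgroup G), ∃ y ∈ Subgroup.centralizer ((P : Subgroup G) : Set G),
      c = u * y ∧ ¬ p ∣ orderOf y := by
  have hp : p.Prime := Fact.out
  have hn : orderOf c ≠ 0 := (orderOf_pos c).ne'
  obtain ⟨a, m, hm, hnm⟩ := Nat.exists_eq_pow_mul_and_not_dvd hn p hp.ne_one
  have hcop : Nat.Coprime (p ^ a) m := Nat.Coprime.pow_left a ((Nat.Prime.coprime_iff_not_dvd hp).mpr hm)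
  have hbez := Nat.gcd_eq_gcd_ab (p ^ a) m
  rw [hcop.gcd_eq_one] at hbez
  set r := (p ^ a).gcdA m
  set s := (p ^ a).gcdB m
  refine ⟨c ^ ((m : ℤ) * s), ?_, c ^ (((p ^ a : ℕ) : ℤ) * r), Subgroup.zpow_mem _ hc _, ?_, ?_⟩
  · apply mem_of_pow_eq_one P (Subgroup.zpow_mem _ hc _) (k := a)
    rw [← zpow_natCast, ← zpow_mul]
    have : (m : ℤ) * s * ((p ^ a : ℕ) : ℤ) = ((orderOf c : ℕ) : ℤ) * s := by
      rw [hnm]; push_cast; ring
    rw [this, zpow_mul, zpow_natCast, pow_orderOf_eq_one, one_zpow]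
  · rw [← zpow_add]
    have : (m : ℤ) * s + ((p ^ a : ℕ) : ℤ) * r = 1 := by
      rw [add_comm]; exact_mod_cast hbez.symm
    rw [this, zpow_one]
  · intro hdiv
    apply hm
    apply hdiv.trans
    apply orderOf_dvd_of_pow_eq_one
    rw [← zpow_natCast, ← zpow_mul]
    have : ((p ^ a : ℕ) : ℤ) * r * (m : ℤ) = ((orderOf c : ℕ) : ℤ) * r := by
      rw [hnm]; push_cast; ring
    rw [this, zpow_mul, zpow_natCast, pow_orderOf_eq_one, one_zpow]

/-- (3) -/
theorem decomp_unique (P : Sylow p G) (hP : Nat.card P = p) {u u' y y' : G}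
    (hu : u ∈ (P : Subgroup G)) (hu' : u' ∈ (P : Subgroup G))
    (hy : y ∈ Subgroup.centralizer ((P : Subgroup G) : Set G))
    (_hy' : y' ∈ Subgroup.centralizer ((P : Subgroup G) : Set G))
    (hyp : ¬ p ∣ orderOf y) (hyp' : ¬ p ∣ orderOf y') (h : u * y = u' * y') : u = u' ∧ y = y' := by
  have hv : u'⁻¹ * u ∈ (P : Subgroup G) := Subgroup.mul_mem _ (Subgroup.inv_mem _ hu') hu
  have hy'eq : y' = u'⁻¹ * u * y := by
    rw [mul_assoc, h, inv_mul_cancel_left]
  have h1 : u'⁻¹ * u = 1 := by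
    apply eq_one_of_regular P hP hv hy hyp
    rw [← hy'eq]; exact hyp'
  have huu : u = u' := by
    have := congrArg (fun t => u' * t) h1
    simpa using this
  refine ⟨huu, ?_⟩
  rw [hy'eq, h1, one_mul]

/-- (1) -/
theorem mem_normalizer_of_conj_mem (P : Sylow p G) (hP : Nat.card P = p) {c : G}
    (hc : c ∈ Subgroup.centralizer ((P : Subgroup G) : Set G)) (hpc : p ∣ orderOf c) (g : G)
    (hg : g * c * g⁻¹ ∈ Subgroup.centralizer ((P : Subgroup G) : Set G)) :
    g ∈ Subgroup.normalizer ((P : Subgroup G) : Set G) := by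
  have hp : p.Prime := Fact.out
  have hn : orderOf c ≠ 0 := (orderOf_pos c).ne'
  set x := c ^ (orderOf c / p) with hxdef
  have hxord : orderOf x = p := orderOf_pow_orderOf_div hn hpc
  have hx1 : x ≠ 1 := by
    intro h
    rw [h, orderOf_one] at hxord
    exact hp.ne_one hxord.symm
  have hxp : x ^ (p ^ 1) = 1 := by
    rw [pow_one, ← hxord]; exact pow_orderOf_eq_one x
  have hxP : x ∈ (P : Subgroup G) := mem_of_pow_eq_one P (Subgroup.pow_mem _ hc _) hxp
  have hconj : g * x * g⁻¹ = (g * c * g⁻¹) ^ (orderOf c / p) := by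
    rw [conj_pow]
  have hgxP : g * x * g⁻¹ ∈ (P : Subgroup G) := by
    have hmem : g * x * g⁻¹ ∈ Subgroup.centralizer ((P : Subgroup G) : Set G) := by
      rw [hconj]; exact Subgroup.pow_mem _ hg _
    have hpow : (g * x * g⁻¹) ^ (p ^ 1) = 1 := by
      rw [conj_pow, hxp]; simp
    exact mem_of_pow_eq_one P hmem hpow
  apply Subgroup.mem_normalizer_fintype
  intro y hy
  obtain ⟨k, rfl⟩ := exists_zpow P hP hxP hx1 hy
  rw [SetLike.mem_coe, ← conj_zpow]
  exact Subgroup.zpow_mem _ hgxP k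

/-- (5) -/
theorem mem_centralizer_of_fix (P : Sylow p G) (hP : Nat.card P = p) {n u : G}
    (hu : u ∈ (P : Subgroup G)) (hu1 : u ≠ 1) (h : n * u * n⁻¹ = u) :
    n ∈ Subgroup.centralizer ((P : Subgroup G) : Set G) := by
  rw [← centralizer_singleton_eq P hP hu hu1, Subgroup.mem_centralizer_singleton_iff]
  have := congrArg (fun t => t * n) h
  simpa using this

theorem sylow_prime_facts {G : Type*} [Group G] [Finite G] {p : ℕ} [Fact p.Prime] (P : Sylow p G)
    (hP : Nat.card P = p) :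
    -- (1) p-singular elements of C_G(P) control fusion
    (∀ c ∈ Subgroup.centralizer ((P : Subgroup G) : Set G), p ∣ orderOf c → ∀ g : G,
      g * c * g⁻¹ ∈ Subgroup.centralizer ((P : Subgroup G) : Set G) →
      g ∈ Subgroup.normalizer ((P : Subgroup G) : Set G)) ∧
    -- (2) decomposition into p-part in P and p-regular part
    (∀ c ∈ Subgroup.centralizer ((P : Subgroup G) : Set G), ∃ u ∈ (P : Subgroup G),
      ∃ y ∈ Subgroup.centralizer ((P : Subgroup G) : Set G), c = u * y ∧ ¬ p ∣ orderOf y) ∧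
    -- (3) uniqueness of the decomposition
    (∀ u ∈ (P : Subgroup G), ∀ u' ∈ (P : Subgroup G),
      ∀ y ∈ Subgroup.centralizer ((P : Subgroup G) : Set G),
      ∀ y' ∈ Subgroup.centralizer ((P : Subgroup G) : Set G),
      ¬ p ∣ orderOf y → ¬ p ∣ orderOf y' → u * y = u' * y' → u = u' ∧ y = y') ∧
    -- (4) u * y is p-regular only if u = 1
    (∀ u ∈ (P : Subgroup G), ∀ y ∈ Subgroup.centralizer ((P : Subgroup G) : Set G),
      ¬ p ∣ orderOf y → ¬ p ∣ orderOf (u * y) → u = 1) ∧
    -- (5) free action of the normalizer on P minus 1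
    (∀ n ∈ Subgroup.normalizer ((P : Subgroup G) : Set G), ∀ u ∈ (P : Subgroup G), u ≠ 1 →
      n * u * n⁻¹ = u → n ∈ Subgroup.centralizer ((P : Subgroup G) : Set G)) ∧
    -- (6) P is contained in its centralizer, and the centralizer of a nonidentity element of P
    -- is the centralizer of P
    ((P : Subgroup G) ≤ Subgroup.centralizer ((P : Subgroup G) : Set G)) ∧
    (∀ u ∈ (P : Subgroup G), u ≠ 1 → Subgroup.centralizer ({u} : Set G) =
      Subgroup.centralizer ((P : Subgroup G) : Set G)) := by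
  refine ⟨fun c hc hpc g hg => mem_normalizer_of_conj_mem P hP hc hpc g hg,
    fun c hc => exists_decomp P hc,
    fun u hu u' hu' y hy y' hy' hyp hyp' h => decomp_unique P hP hu hu' hy hy' hyp hyp' h,
    fun u hu y hy hyp huy => eq_one_of_regular P hP hu hy hyp huy,
    fun n _ u hu hu1 h => mem_centralizer_of_fix P hP hu hu1 h,
    le_centralizer P hP,
    fun u hu hu1 => centralizer_singleton_eq P hP hu hu1⟩

end Cfsg.Agent.Helper1.D1PA
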