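import Mathlib
import Cfsg.Agent.Helper8.D1Base
import Cfsg.Agent.Helper8.PConjAction
import Cfsg.Agent.Helper1.D1PA
import Cfsg.Agent.Helper11.D1QLb
import Cfsg.Agent.Helper29.D1QG

/-!
Defect-one cluster (helper8's plan), piece QT2: the Galois twist by a unit `k ≡ 1 (mod d)`
(`|G| = p d`) of the numbers `Dnum`, and its triviality on `p`-regular elements.
-/

set_option autoImplicit false
set_option linter.unusedSectionVars false
set_option linter.unusedVariables false
set_option linter.style.haveILetI false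

namespace Cfsg.Agent.Helper1.D1QT2

open Cfsg Cfsg.Agent.Helper8.D1

/-- a `p`-regular element of a group of order `p d` is fixed by the `k`-th power map when
`k ≡ 1 (mod d)` -/
theorem pow_eq_self_of_regular {G : Type*} [Group G] [Finite G] {p : ℕ} [Fact p.Prime]
    (d : ℕ) (hNd : Nat.card G = p * d) {n : ℕ} (hn : n % d = 1 % d)
    (x : G) (hx : ¬ p ∣ orderOf x) : x ^ n = x := by
  have hp : p.Prime := Fact.out
  have h1 : orderOf x ∣ p * d := hNd ▸ orderOf_dvd_natCard x
  have hcop : Nat.Coprime (orderOf x) p :=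
    (Nat.coprime_comm.mp ((Nat.Prime.coprime_iff_not_dvd hp).mpr hx))
  have h2 : orderOf x ∣ d := hcop.dvd_of_dvd_mul_left h1
  have h3 : n ≡ 1 [MOD orderOf x] := Nat.ModEq.of_dvd h2 hn
  have := (pow_eq_pow_iff_modEq (x := x)).mpr h3
  rwa [pow_one] at this

theorem twist_apply_regular {G : Type*} [Group G] [Finite G] {p : ℕ} [Fact p.Prime]
    (d : ℕ) (hNd : Nat.card G = p * d) (hd : d ∣ Nat.card G)
    (k : (ZMod (Nat.card G))ˣ) (hk : k ∈ Cfsg.Agent.Helper8.PConj.oneMod (Nat.card G) d hd)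
    (χ : IrrCharacter G) (x : G) (hx : ¬ p ∣ orderOf x) :
    ((Cfsg.Agent.Helper8.PConj.twist k χ : IrrCharacter G) : G → ℂ) x = (χ : G → ℂ) x := by
  haveI : NeZero (Nat.card G) := ⟨Nat.card_pos.ne'⟩
  rw [Cfsg.Agent.Helper8.PConj.mem_oneMod] at hk
  rw [Cfsg.Agent.Helper8.PConj.twist_apply, pow_eq_self_of_regular d hNd hk x hx]

/-- an irreducible character is invariant under multiplication by a central element of its
kernel -/
theorem irr_mul_of_central {X : Type*} [Group X] (ξ : IrrCharacter X) {z : X}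
    (hz : z ∈ Subgroup.center X) (hz1 : (ξ : X → ℂ) z = (ξ : X → ℂ) 1) (x : X) :
    (ξ : X → ℂ) (z * x) = (ξ : X → ℂ) x := by
  obtain ⟨c, hc0, hc⟩ := Cfsg.Agent.Helper11.D1QL.irr_central ξ hz
  have h1 := hc 1
  rw [mul_one, hz1] at h1
  have h2 : (c - 1) * (ξ : X → ℂ) 1 = 0 := by linear_combination -h1
  rcases mul_eq_zero.mp h2 with h3 | h3
  · have hc1 : c = 1 := by linear_combination h3
    rw [hc, hc1, one_mul]
  · exact absurd h3 (Cfsg.Agent.Helper11.D1QL.irr_one_ne_zero ξ)

/-- `θ(c ^ n) = θ(c)` for `n ≡ 1 (mod d)` when `P ≤ ker θ` -/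
theorem theta_pow {G : Type*} [Group G] [Finite G] {p : ℕ} [Fact p.Prime]
    (P : Sylow p G) (hP : Nat.card P = p) (d : ℕ) (hNd : Nat.card G = p * d)
    (θ : IrrCharacter (Subgroup.centralizer ((P : Subgroup G) : Set G)))
    (hθP : ∀ x : Subgroup.centralizer ((P : Subgroup G) : Set G), (x : G) ∈ (P : Subgroup G) →
      (θ : Subgroup.centralizer ((P : Subgroup G) : Set G) → ℂ) x =
        (θ : Subgroup.centralizer ((P : Subgroup G) : Set G) → ℂ) 1)
    {n : ℕ} (hn : n % d = 1 % d) (c : Subgroup.centralizer ((P : Subgroup G) : Set G)) :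
    (θ : Subgroup.centralizer ((P : Subgroup G) : Set G) → ℂ) (c ^ n) =
      (θ : Subgroup.centralizer ((P : Subgroup G) : Set G) → ℂ) c := by
  obtain ⟨u, hu, y, hy, hcuy, hyp⟩ := Cfsg.Agent.Helper1.D1PA.exists_decomp P c.2
  have huC : u ∈ Subgroup.centralizer ((P : Subgroup G) : Set G) :=
    Cfsg.Agent.Helper1.D1PA.le_centralizer P hP hu
  set u' : Subgroup.centralizer ((P : Subgroup G) : Set G) := ⟨u, huC⟩ with hu'
  set y' : Subgroup.centralizer ((P : Subgroup G) : Set G) := ⟨y, hy⟩ with hy'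
  have hc : c = u' * y' := Subtype.ext hcuy
  have hcomm : Commute u' y' := by
    apply Subtype.ext
    show u * y = y * u
    exact ((Subgroup.mem_centralizer_iff.mp hy) u hu)
  have hcent : ∀ m : ℕ, u' ^ m ∈ Subgroup.center (Subgroup.centralizer ((P : Subgroup G) : Set G)) := by
    intro m
    rw [Subgroup.mem_center_iff]
    intro g
    apply Subtype.ext
    show (g : G) * ((u' ^ m : Subgroup.centralizer ((P : Subgroup G) : Set G)) : G) = _ * (g : G)
    rw [Subgroup.coe_pow]
    have : u ^ m ∈ (P : Subgroup G) := Subgroup.pow_mem _ hu m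
    exact ((Subgroup.mem_centralizer_iff.mp g.2) _ this).symm
  have hmem : ∀ m : ℕ, ((u' ^ m : Subgroup.centralizer ((P : Subgroup G) : Set G)) : G) ∈
      (P : Subgroup G) := by
    intro m
    rw [Subgroup.coe_pow]
    exact Subgroup.pow_mem _ hu m
  have hy'reg : ¬ p ∣ orderOf y' := by
    rw [hy', Subgroup.orderOf_mk]
    exact hyp
  have hyn : y ^ n = y := pow_eq_self_of_regular d hNd hn y hyp
  have hy'n : y' ^ n = y' := Subtype.ext (by rw [Subgroup.coe_pow]; exact hyn)
  rw [hc, hcomm.mul_pow, hy'n, irr_mul_of_central θ (hcent n) (hθP _ (hmem n))]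
  have h1 := irr_mul_of_central θ (hcent 1) (hθP _ (hmem 1)) y'
  rw [pow_one] at h1
  rw [h1]

theorem Dnum_twist {G : Type*} [Group G] [Finite G] {p : ℕ} [Fact p.Prime]
    (P : Sylow p G) (hP : Nat.card P = p) (d : ℕ) (hNd : Nat.card G = p * d) (hd : d ∣ Nat.card G)
    (θ : IrrCharacter (Subgroup.centralizer ((P : Subgroup G) : Set G)))
    (hθP : ∀ x : Subgroup.centralizer ((P : Subgroup G) : Set G), (x : G) ∈ (P : Subgroup G) →
      (θ : Subgroup.centralizer ((P : Subgroup G) : Set G) → ℂ) x =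
        (θ : Subgroup.centralizer ((P : Subgroup G) : Set G) → ℂ) 1)
    (μ : Subgroup.centralizer ((P : Subgroup G) : Set G) → ℂ) (hμ : IsPLin p μ)
    (k : (ZMod (Nat.card G))ˣ) (hk : k ∈ Cfsg.Agent.Helper8.PConj.oneMod (Nat.card G) d hd)
    (χ : IrrCharacter G) :
    Dnum (Subgroup.centralizer ((P : Subgroup G) : Set G))
        (fun c => μ (c ^ (k : ZMod (Nat.card G)).val))
        (θ : Subgroup.centralizer ((P : Subgroup G) : Set G) → ℂ)
        ((Cfsg.Agent.Helper8.PConj.twist k χ : IrrCharacter G) : G → ℂ) =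
      Dnum (Subgroup.centralizer ((P : Subgroup G) : Set G)) μ
        (θ : Subgroup.centralizer ((P : Subgroup G) : Set G) → ℂ) (χ : G → ℂ) := by
  classical
  haveI : NeZero (Nat.card G) := ⟨Nat.card_pos.ne'⟩
  haveI : Fintype (Subgroup.centralizer ((P : Subgroup G) : Set G)) := Fintype.ofFinite _
  have hk' := (Cfsg.Agent.Helper8.PConj.mem_oneMod hd k).mp hk
  rw [Cfsg.Agent.Helper29.D1QG.Dnum_eq, Cfsg.Agent.Helper29.D1QG.Dnum_eq]
  congr 1
  have hcop : Nat.Coprime (Nat.card (Subgroup.centralizer ((P : Subgroup G) : Set G)))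
      (k : ZMod (Nat.card G)).val := by
    have h1 : Nat.Coprime (k : ZMod (Nat.card G)).val (Nat.card G) := ZMod.val_coe_unit_coprime k
    exact Nat.Coprime.coprime_dvd_left (Subgroup.card_subgroup_dvd_card _) h1.symm
  have hsum := Equiv.sum_comp (powCoprime hcop)
    (fun c : Subgroup.centralizer ((P : Subgroup G) : Set G) =>
      (χ : G → ℂ) c * (starRingEnd ℂ) ((μ c - 1) *
        (θ : Subgroup.centralizer ((P : Subgroup G) : Set G) → ℂ) c))
  rw [← hsum]
  apply Finset.sum_congr rfl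
  intro c _
  rw [Cfsg.Agent.Helper8.PConj.twist_apply, powCoprime_apply,
    theta_pow P hP d hNd θ hθP hk' c, Subgroup.coe_pow]

end Cfsg.Agent.Helper1.D1QT2
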