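import Mathlib

set_option autoImplicit false

namespace Cfsg.Agent.Helper1

open DihedralGroup

section
variable {G : Type*} [Group G]

/-- `ρ ^ i` for `i : ZMod (orderOf ρ)`. -/
noncomputable def zmodPow (ρ : G) (i : ZMod (orderOf ρ)) : G := ρ ^ (ZMod.cast i : ℤ)

theorem zmodPow_intCast (ρ : G) (k : ℤ) : zmodPow ρ (k : ZMod (orderOf ρ)) = ρ ^ k := by
  unfold zmodPow
  rw [zpow_eq_zpow_iff_modEq, ZMod.coe_intCast]
  exact Int.emod_emod_of_dvd _ (dvd_refl _)

theorem zmodPow_add (ρ : G) (i j : ZMod (orderOf ρ)) :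
    zmodPow ρ (i + j) = zmodPow ρ i * zmodPow ρ j := by
  obtain ⟨a, rfl⟩ := ZMod.intCast_surjective i
  obtain ⟨b, rfl⟩ := ZMod.intCast_surjective j
  rw [← Int.cast_add, zmodPow_intCast, zmodPow_intCast, zmodPow_intCast, zpow_add]

theorem zmodPow_neg (ρ : G) (i : ZMod (orderOf ρ)) :
    zmodPow ρ (-i) = (zmodPow ρ i)⁻¹ := by
  obtain ⟨a, rfl⟩ := ZMod.intCast_surjective i
  rw [← Int.cast_neg, zmodPow_intCast, zmodPow_intCast, zpow_neg]

theorem zmodPow_sub (ρ : G) (i j : ZMod (orderOf ρ)) :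
    zmodPow ρ (i - j) = zmodPow ρ i * (zmodPow ρ j)⁻¹ := by
  rw [sub_eq_add_neg, zmodPow_add, zmodPow_neg]

theorem zmodPow_zero (ρ : G) : zmodPow ρ 0 = 1 := by
  have := zmodPow_intCast ρ 0
  simpa using this

theorem zmodPow_one (ρ : G) : zmodPow ρ 1 = ρ := by
  have := zmodPow_intCast ρ 1
  simpa using this

theorem zmodPow_mem_zpowers (ρ : G) (i : ZMod (orderOf ρ)) : zmodPow ρ i ∈ Subgroup.zpowers ρ :=
  ⟨_, rfl⟩

theorem zmodPow_eq_one_iff (ρ : G) (i : ZMod (orderOf ρ)) : zmodPow ρ i = 1 ↔ i = 0 := by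
  obtain ⟨a, rfl⟩ := ZMod.intCast_surjective i
  rw [zmodPow_intCast, ZMod.intCast_zmod_eq_zero_iff_dvd, orderOf_dvd_iff_zpow_eq_one]

/-- conjugation by an involution-like element inverting `ρ` -/
theorem conj_zmodPow {x ρ : G} (h : x * ρ * x⁻¹ = ρ⁻¹) (i : ZMod (orderOf ρ)) :
    x * zmodPow ρ i * x⁻¹ = (zmodPow ρ i)⁻¹ := by
  obtain ⟨a, rfl⟩ := ZMod.intCast_surjective i
  rw [zmodPow_intCast]
  have := map_zpow (MulAut.conj x) ρ a
  simp only [MulAut.conj_apply] at this
  rw [this, h, inv_zpow]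

theorem zmodPow_comm (ρ : G) (i j : ZMod (orderOf ρ)) :
    zmodPow ρ i * zmodPow ρ j = zmodPow ρ j * zmodPow ρ i := by
  rw [← zmodPow_add, ← zmodPow_add, add_comm]

variable (x y : G)

/-- The map from the dihedral group to the group generated by two involutions. -/
noncomputable def dihedralFun : DihedralGroup (orderOf (x * y)) → G
  | r i => zmodPow (x * y) i
  | sr i => x * zmodPow (x * y) i

variable {x y}

theorem conj_xy (hx : x * x = 1) (hy : y * y = 1) : x * (x * y) * x⁻¹ = (x * y)⁻¹ := by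
  have hx' : x⁻¹ = x := inv_eq_of_mul_eq_one_right hx
  have hy' : y⁻¹ = y := inv_eq_of_mul_eq_one_right hy
  rw [mul_inv_rev, hx', hy', ← mul_assoc, hx, one_mul]

/-- The homomorphism from the dihedral group to a group containing two involutions `x`, `y`. -/
noncomputable def dihedralHom (hx : x * x = 1) (hy : y * y = 1) :
    DihedralGroup (orderOf (x * y)) →* G where
  toFun := dihedralFun x y
  map_one' := by
    show dihedralFun x y (r 0) = 1
    simp [dihedralFun, zmodPow_zero]
  map_mul' := by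
    have hx' : x⁻¹ = x := inv_eq_of_mul_eq_one_right hx
    have hc := conj_zmodPow (conj_xy hx hy)
    have hc' : ∀ i, zmodPow (x * y) i * x = x * (zmodPow (x * y) i)⁻¹ := by
      intro i
      have := hc i
      rw [← this, hx', ← mul_assoc, ← mul_assoc, hx, one_mul]
    rintro (i | i) (j | j)
    · simp only [r_mul_r, dihedralFun, zmodPow_add]
    · simp only [r_mul_sr, dihedralFun, zmodPow_sub]
      rw [← mul_assoc _ x, hc' i, mul_assoc, ← zmodPow_neg, zmodPow_comm]
    · simp only [sr_mul_r, dihedralFun, zmodPow_add, mul_assoc]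
    · simp only [sr_mul_sr, dihedralFun, zmodPow_sub]
      rw [mul_assoc, ← mul_assoc _ x, hc' i, mul_assoc, ← mul_assoc x x, hx, one_mul,
        ← zmodPow_neg, zmodPow_comm]

theorem dihedralHom_r (hx : x * x = 1) (hy : y * y = 1) (i : ZMod (orderOf (x * y))) :
    dihedralHom hx hy (r i) = zmodPow (x * y) i := rfl

theorem dihedralHom_sr (hx : x * x = 1) (hy : y * y = 1) (i : ZMod (orderOf (x * y))) :
    dihedralHom hx hy (sr i) = x * zmodPow (x * y) i := rfl

theorem dihedralHom_range (hx : x * x = 1) (hy : y * y = 1) :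
    (dihedralHom hx hy).range = Subgroup.closure ({x, y} : Set G) := by
  have hx' : x⁻¹ = x := inv_eq_of_mul_eq_one_right hx
  apply le_antisymm
  · rintro _ ⟨d, rfl⟩
    have hxm : x ∈ Subgroup.closure ({x, y} : Set G) := Subgroup.subset_closure (by simp)
    have hym : y ∈ Subgroup.closure ({x, y} : Set G) := Subgroup.subset_closure (by simp)
    have hρ : Subgroup.zpowers (x * y) ≤ Subgroup.closure ({x, y} : Set G) := by
      rw [Subgroup.zpowers_le]; exact Subgroup.mul_mem _ hxm hym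
    cases d with
    | r i => exact hρ (zmodPow_mem_zpowers _ _)
    | sr i => exact Subgroup.mul_mem _ hxm (hρ (zmodPow_mem_zpowers _ _))
  · rw [Subgroup.closure_le]
    rintro z (rfl | rfl)
    · exact ⟨sr 0, by rw [dihedralHom_sr, zmodPow_zero, mul_one]⟩
    · refine ⟨sr 1, ?_⟩
      rw [dihedralHom_sr, zmodPow_one, ← mul_assoc, hx, one_mul]

theorem not_mem_zpowers_of_ne (hx : x * x = 1) (hy : y * y = 1) (hx1 : x ≠ 1) (hy1 : y ≠ 1) :
    x ∉ Subgroup.zpowers (x * y) := by
  have hx' : x⁻¹ = x := inv_eq_of_mul_eq_one_right hx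
  have hy' : y⁻¹ = y := inv_eq_of_mul_eq_one_right hy
  intro hmem
  -- x commutes with x * y
  have hcomm : x * (x * y) = (x * y) * x := by
    obtain ⟨k, hk⟩ := hmem
    have h1 : Commute ((x * y) ^ k) (x * y) := (Commute.refl (x * y)).zpow_left k
    have hk' : (x * y) ^ k = x := hk
    rw [hk'] at h1
    exact h1.eq
  have hyx : y = x * y * x := by
    rw [← hcomm, ← mul_assoc, hx, one_mul]
  -- hence (x*y)^2 = 1
  have hsq : (x * y) * (x * y) = 1 := by
    calc (x * y) * (x * y) = (x * y * x) * y := by group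
      _ = y * y := by rw [← hyx]
      _ = 1 := hy
  -- so zpowers (x*y) = {1, x*y}
  obtain ⟨k, hk⟩ := hmem
  have hcases : ∀ k : ℤ, (x * y) ^ k = 1 ∨ (x * y) ^ k = x * y := by
    intro k
    rcases Int.even_or_odd k with ⟨m, hm⟩ | ⟨m, hm⟩
    · left
      rw [hm, ← two_mul, zpow_mul, zpow_two, hsq, one_zpow]
    · right
      rw [hm, zpow_add, zpow_mul, zpow_two, hsq, one_zpow, one_mul, zpow_one]
  rcases hcases k with h | h
  · simp only at hk; rw [h] at hk; exact hx1 hk.symm
  · simp only at hk; rw [h] at hk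
    have : y = 1 := by
      have := congrArg (fun z => x⁻¹ * z) hk
      simpa using this
    exact hy1 this

theorem dihedralHom_injective (hx : x * x = 1) (hy : y * y = 1) (hx1 : x ≠ 1) (hy1 : y ≠ 1) :
    Function.Injective (dihedralHom hx hy) := by
  rw [injective_iff_map_eq_one]
  intro d hd
  cases d with
  | r i =>
    rw [dihedralHom_r, zmodPow_eq_one_iff] at hd
    rw [hd]; rfl
  | sr i =>
    exfalso
    rw [dihedralHom_sr] at hd
    apply not_mem_zpowers_of_ne hx hy hx1 hy1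
    have h1 : x = (zmodPow (x * y) i)⁻¹ := eq_inv_of_mul_eq_one_left hd
    have h2 : (zmodPow (x * y) i)⁻¹ ∈ Subgroup.zpowers (x * y) :=
      Subgroup.inv_mem _ (zmodPow_mem_zpowers _ _)
    rw [← h1] at h2
    exact h2

theorem sq_eq_one_of_orderOf_eq_two {z : G} (hz : orderOf z = 2) : z * z = 1 := by
  rw [← pow_two, ← hz]; exact pow_orderOf_eq_one z

theorem ne_one_of_orderOf_eq_two {z : G} (hz : orderOf z = 2) : z ≠ 1 := by
  intro h; rw [h, orderOf_one] at hz; omega

end

end Cfsg.Agent.Helper1
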