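import Mathlib
import Cfsg.Agent.Helper1.FpfCompl
import Cfsg.Agent.Lead.RelQuot
import Cfsg.Agent.Helper29.Schmidt
import Cfsg.Agent.Helper26.Basic
import Cfsg.Agent.Helper19.Cores
import Cfsg.Agent.Helper15.NoncycCentralizes

set_option autoImplicit false

/-! Groups in which every element has prime power order (EPPO groups): basic facts and Higman's
theorem that a solvable EPPO group has order divisible by at most two primes. -/

namespace Cfsg.Agent.Helper1.EPPO

universe u

/-- every nonidentity element has prime power order -/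
def IsEPPO (G : Type*) [Group G] : Prop := ∀ g : G, g ≠ 1 → IsPrimePow (orderOf g)

section basics

variable {G : Type*} [Group G]

theorem IsEPPO.subgroup (h : IsEPPO G) (H : Subgroup G) : IsEPPO H := by
  intro g hg
  rw [← Subgroup.orderOf_coe]
  apply h
  intro h1
  apply hg
  exact Subtype.ext h1

theorem IsEPPO.of_surjective {K : Type*} [Group K] (h : IsEPPO G) (f : G →* K)
    (hf : Function.Surjective f) : IsEPPO K := by
  intro k hk
  obtain ⟨g, rfl⟩ := hf k
  have hg : g ≠ 1 := by
    rintro rfl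
    exact hk (map_one f)
  obtain ⟨r, m, hr, hm, hrm⟩ := (isPrimePow_nat_iff _).mp (h g hg)
  have hdvd : orderOf (f g) ∣ r ^ m := by
    rw [hrm]; exact orderOf_map_dvd f g
  obtain ⟨j, hj, hj'⟩ := (Nat.dvd_prime_pow hr).mp hdvd
  rw [hj']
  have hj0 : j ≠ 0 := by
    rintro rfl
    rw [pow_zero, orderOf_eq_one_iff] at hj'
    exact hk hj'
  exact (Nat.Prime.isPrimePow hr).pow hj0

/-- no two commuting nonidentity elements of coprime orders -/
theorem IsEPPO.not_commute (h : IsEPPO G) {x y : G} (hc : Commute x y) (hx : x ≠ 1) (hy : y ≠ 1)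
    (hcop : (orderOf x).Coprime (orderOf y)) : False := by
  have hord := hc.orderOf_mul_eq_mul_orderOf_of_coprime hcop
  have hx1 : orderOf x ≠ 1 := fun h1 => hx (orderOf_eq_one_iff.mp h1)
  have hy1 : orderOf y ≠ 1 := fun h1 => hy (orderOf_eq_one_iff.mp h1)
  have hxy : x * y ≠ 1 := by
    intro h1
    rw [h1, orderOf_one] at hord
    exact hx1 (Nat.eq_one_of_mul_eq_one_right hord.symm)
  have hpp := h _ hxy
  rw [hord] at hpp
  have hx0 : 0 < orderOf x := by
    rcases Nat.eq_zero_or_pos (orderOf x) with h0 | h0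
    · rw [h0, zero_mul] at hpp; exact absurd hpp not_isPrimePow_zero
    · exact h0
  have hy0 : 0 < orderOf y := by
    rcases Nat.eq_zero_or_pos (orderOf y) with h0 | h0
    · rw [h0, mul_zero] at hpp; exact absurd hpp not_isPrimePow_zero
    · exact h0
  rcases (hcop.isPrimePow_dvd_mul hpp).mp dvd_rfl with h1 | h1
  · have := Nat.le_of_dvd hx0 h1
    have : orderOf y ≤ 1 := by nlinarith
    omega
  · have := Nat.le_of_dvd hy0 h1
    have : orderOf x ≤ 1 := by nlinarith
    omega

/-- elements of order prime to `p` act fixed-point-freely on `p`-subgroups -/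
theorem IsEPPO.fpf (h : IsEPPO G) {p : ℕ} [hp : Fact p.Prime] (N : Subgroup G) (hN : IsPGroup p N)
    {a : G} (ha : a ≠ 1) (hcop : (orderOf a).Coprime p) :
    N ⊓ Subgroup.centralizer {a} = ⊥ := by
  rw [eq_bot_iff]
  intro x hx
  rw [Subgroup.mem_bot]
  by_contra hx1
  obtain ⟨hxN, hxa⟩ := Subgroup.mem_inf.mp hx
  obtain ⟨k, hk⟩ := (IsPGroup.iff_orderOf.mp hN) ⟨x, hxN⟩
  rw [Subgroup.orderOf_mk] at hk
  have hc : Commute a x := by
    rw [Subgroup.mem_centralizer_iff] at hxa
    exact (hxa a (Set.mem_singleton a))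
  apply h.not_commute hc ha hx1
  rw [hk]
  exact Nat.Coprime.pow_right k hcop

/-- if `N` is a nontrivial normal `p`-subgroup of the EPPO group `G`, then `s`-subgroups of `G`,
`s ≠ p`, have at most one subgroup of order `s` -/
theorem IsEPPO.unique_of_normal [Finite G] (h : IsEPPO G) {p : ℕ} [hp : Fact p.Prime]
    (N : Subgroup G) [N.Normal] (hN1 : N ≠ ⊥) (hN : IsPGroup p N) {s : ℕ} [hs : Fact s.Prime]
    (hsp : s ≠ p) (Q : Subgroup G) (hQ : IsPGroup s Q) (X Y : Subgroup G) (hX : X ≤ Q) (hY : Y ≤ Q)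
    (hXs : Nat.card X = s) (hYs : Nat.card Y = s) : X = Y := by
  apply fpf_pgroup_unique hN1 Q hQ _ X Y hX hY hXs hYs
  intro a ha a1
  apply h.fpf N hN a1
  obtain ⟨k, hk⟩ := (IsPGroup.iff_orderOf.mp hQ) ⟨a, ha⟩
  rw [Subgroup.orderOf_mk] at hk
  rw [hk]
  exact Nat.Coprime.pow_left k ((Nat.coprime_primes hs.out hp.out).mpr hsp)

end basics


theorem not_isPrimePow_mul_primes {r q : ℕ} (hr : r.Prime) (hq : q.Prime) (hrq : r ≠ q) :
    ¬ IsPrimePow (r * q) := by
  intro h
  obtain ⟨p, k, hp, -, hpk⟩ := (isPrimePow_nat_iff _).mp h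
  have h1 : r ∣ p ^ k := by rw [hpk]; exact dvd_mul_right r q
  have h2 : q ∣ p ^ k := by rw [hpk]; exact dvd_mul_left q r
  have h3 := (Nat.prime_dvd_prime_iff_eq hr hp).mp (hr.dvd_of_dvd_pow h1)
  have h4 := (Nat.prime_dvd_prime_iff_eq hq hp).mp (hq.dvd_of_dvd_pow h2)
  exact hrq (h3.trans h4.symm)

/-- Higman: a solvable EPPO group has order divisible by at most two primes -/
theorem higman_aux : ∀ (n : ℕ) (H : Type u) [Group H] [Finite H] [Group.IsSolvable H],
    Nat.card H = n → IsEPPO H → (Nat.card H).primeFactors.card ≤ 2 := by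
  intro n
  induction n using Nat.strong_induction_on with
  | _ n IH =>
  intro H _ _ _ hn hE
  by_cases hnt : Nontrivial H
  swap
  · rw [not_nontrivial_iff_subsingleton] at hnt
    have : Nat.card H = 1 := Nat.card_eq_one_iff_unique.mpr ⟨hnt, ⟨1⟩⟩
    rw [this]; simp
  obtain ⟨M, hMn, hMr⟩ := Cfsg.Agent.Helper29.exists_normal_prime_index (G := H)
  set r := M.index with hr
  have hcard : Nat.card H = Nat.card M * r := (Subgroup.card_mul_index M).symm
  have hMpos : 0 < Nat.card M := Nat.card_pos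
  have hlt : Nat.card M < n := by
    rw [← hn, hcard]
    have := hMr.two_le
    nlinarith
  have hIH := IH _ hlt M rfl (hE.subgroup M)
  have hpf : (Nat.card H).primeFactors = (Nat.card M).primeFactors ∪ {r} := by
    rw [hcard, Nat.primeFactors_mul hMpos.ne' hMr.ne_zero, hMr.primeFactors]
  by_cases hrM : r ∣ Nat.card M
  · rw [hpf, Finset.union_eq_left.mpr]
    · exact hIH
    · rw [Finset.singleton_subset_iff]
      exact Nat.mem_primeFactors.mpr ⟨hMr, hrM, hMpos.ne'⟩
  by_cases h1 : (Nat.card M).primeFactors.card ≤ 1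
  · rw [hpf]
    calc ((Nat.card M).primeFactors ∪ {r}).card
        ≤ (Nat.card M).primeFactors.card + ({r} : Finset ℕ).card := Finset.card_union_le _ _
      _ ≤ 2 := by rw [Finset.card_singleton]; omega
  exfalso
  have h2 : 1 < (Nat.card M).primeFactors.card := by omega
  have hMbot : M ≠ ⊥ := by
    rintro rfl
    rw [Subgroup.card_bot] at h2
    simp at h2
  obtain ⟨p, hp, N, hNM, hN1, hNp, hNn⟩ :=
    Cfsg.Agent.Lead.exists_pgroup_normalizer_le (G := M) inferInstance hMbot
  have : Fact p.Prime := ⟨hp⟩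
  have hNnormal : N.Normal := by
    rw [← Subgroup.normalizer_eq_top_iff, eq_top_iff]
    refine le_trans ?_ hNn
    rw [Subgroup.normalizer_eq_top_iff.mpr hMn]
  have hpM : p ∣ Nat.card M := by
    obtain ⟨k, hk⟩ := IsPGroup.iff_card.mp hNp
    have hk0 : k ≠ 0 := by
      rintro rfl
      rw [pow_zero] at hk
      exact hN1 (Subgroup.card_eq_one.mp hk)
    have h3 : p ∣ Nat.card N := by rw [hk]; exact dvd_pow_self p hk0
    exact h3.trans (Subgroup.card_dvd_of_le hNM)
  obtain ⟨q, hq_mem, hqp⟩ := Finset.exists_mem_ne h2 p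
  have hq : q.Prime := Nat.prime_of_mem_primeFactors hq_mem
  have hqM : q ∣ Nat.card M := Nat.dvd_of_mem_primeFactors hq_mem
  have : Fact q.Prime := ⟨hq⟩
  have : Fact r.Prime := ⟨hMr⟩
  have hrp : r ≠ p := by rintro h; exact hrM (h ▸ hpM)
  have hrq : r ≠ q := by rintro h; exact hrM (h ▸ hqM)
  let Q0 : Sylow q M := default
  set Q : Subgroup H := (Q0 : Subgroup M).map M.subtype with hQdef
  have hQq : IsPGroup q Q := Q0.isPGroup'.map _
  have hfrat : Subgroup.normalizer (Q : Set H) ⊔ M = ⊤ := Sylow.normalizer_sup_eq_top Q0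
  have hrK : r ∣ Nat.card (Subgroup.normalizer (Q : Set H)) := by
    have hdvd := Cfsg.Agent.Helper19.card_sup_dvd_mul (Subgroup.normalizer (Q : Set H)) M
    rw [hfrat, Subgroup.card_top] at hdvd
    have h3 : r ∣ Nat.card (Subgroup.normalizer (Q : Set H)) * Nat.card M :=
      (Dvd.intro_left _ hcard.symm).trans hdvd
    exact ((Nat.Prime.dvd_mul hMr).mp h3).resolve_right hrM
  obtain ⟨y, hy⟩ := exists_prime_orderOf_dvd_card' r hrK
  have hyord : orderOf (y : H) = r := by rw [Subgroup.orderOf_coe]; exact hy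
  have hqQ : q ∣ Nat.card Q := by
    rw [hQdef, Subgroup.card_map_of_injective M.subtype_injective, Q0.card_eq_multiplicity]
    exact dvd_pow_self q (hq.factorization_pos_of_dvd hMpos.ne' hqM).ne'
  obtain ⟨z, hz⟩ := exists_prime_orderOf_dvd_card' q hqQ
  have hzord : orderOf (z : H) = q := by rw [Subgroup.orderOf_coe]; exact hz
  set Z : Subgroup H := Subgroup.zpowers (z : H) with hZdef
  have hZcard : Nat.card Z = q := by rw [hZdef, Nat.card_zpowers, hzord]
  have hZQ : Z ≤ Q := by rw [hZdef, Subgroup.zpowers_le]; exact z.2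
  have huniq : ∀ X Y : Subgroup H, X ≤ Q → Y ≤ Q → Nat.card X = q → Nat.card Y = q → X = Y :=
    fun X Y hX hY hXq hYq => hE.unique_of_normal N hN1 hNp hqp Q hQq X Y hX hY hXq hYq
  -- `y` normalizes `Z`
  have hconj : ∀ g : H, g ∈ Subgroup.normalizer (Q : Set H) →
      Z.map (MulAut.conj g).toMonoidHom = Z := by
    intro g hg
    apply huniq _ _ _ hZQ _ hZcard
    · rintro _ ⟨x, hx, rfl⟩
      exact (Subgroup.mem_normalizer_iff.mp hg x).mp (hZQ hx)
    · rw [Subgroup.card_map_of_injective (MulAut.conj g).injective, hZcard]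
  have hyZ : Subgroup.zpowers (y : H) ≤ Subgroup.normalizer (Z : Set H) := by
    apply Cfsg.Agent.Helper15.le_normalizer_of_conj_mem
    intro a ha x hx
    have haN : a ∈ Subgroup.normalizer (Q : Set H) := by
      obtain ⟨k, rfl⟩ := Subgroup.mem_zpowers_iff.mp ha
      exact Subgroup.zpow_mem _ y.2 k
    rw [← hconj a haN]
    exact ⟨x, hx, rfl⟩
  set A : Subgroup H := Subgroup.zpowers (y : H) ⊔ Z with hAdef
  have hYcard : Nat.card (Subgroup.zpowers (y : H)) = r := by rw [Nat.card_zpowers, hyord]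
  have hcop : (Nat.card (Subgroup.zpowers (y : H))).Coprime (Nat.card Z) := by
    rw [hYcard, hZcard]
    exact (Nat.coprime_primes hMr hq).mpr hrq
  have hcardA : Nat.card A = r * q := by
    have h3 := Cfsg.Agent.Helper26.card_sup_mul_card_inf hyZ
    rw [(Subgroup.disjoint_of_coprime_natCard hcop).eq_bot, Subgroup.card_bot, mul_one, hYcard, hZcard] at h3
    exact h3
  have hfpf : ∀ a ∈ A, a ≠ 1 → N ⊓ Subgroup.centralizer {a} = ⊥ := by
    intro a ha a1
    apply hE.fpf N hNp a1
    have h3 : orderOf a ∣ r * q := by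
      rw [← hcardA, ← Subgroup.orderOf_mk a ha]
      exact orderOf_dvd_natCard _
    apply Nat.Coprime.coprime_dvd_left h3
    exact Nat.Coprime.mul_left ((Nat.coprime_primes hMr hp).mpr hrp)
      ((Nat.coprime_primes hq hp).mpr hqp)
  have hcyc : IsCyclic A := fpf_subgroup_cyclic hN1 A hfpf (Or.inr ⟨r, q, hMr, hq, hcardA⟩)
  obtain ⟨g, hg⟩ := hcyc.exists_generator
  have hgord : orderOf g = r * q := by
    rw [orderOf_eq_card_of_forall_mem_zpowers hg, hcardA]
  have hg1 : g ≠ 1 := by
    rintro rfl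
    rw [orderOf_one] at hgord
    have := hMr.two_le
    have := hq.two_le
    nlinarith
  have := hE.subgroup A g hg1
  rw [hgord] at this
  exact not_isPrimePow_mul_primes hMr hq hrq this

theorem higman {H : Type u} [Group H] [Finite H] [Group.IsSolvable H] (hE : IsEPPO H) :
    (Nat.card H).primeFactors.card ≤ 2 :=
  higman_aux _ H rfl hE

end Cfsg.Agent.Helper1.EPPO
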