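import Mathlib
import Cfsg.Agent.Helper1.EPPO1
import Cfsg.Agent.Helper18.ZStar6
import Cfsg.Agent.Helper23.PSeries
import Cfsg.Agent.Helper7.Fitting

set_option autoImplicit false

/-! EPPO groups whose `s`-subgroups have at most one subgroup of order `s` are solvable (via
Glauberman's `Z*`-theorem); the solvable radical of a nonsolvable EPPO group is a `p`-group; an EPPO
group with trivial solvable radical has a unique minimal normal subgroup, which is simple. -/

namespace Cfsg.Agent.Helper1.EPPO

universe u

/-- every `s`-subgroup has at most one subgroup of order `s` -/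
def RankOne (G : Type*) [Group G] : Prop :=
  ∀ (s : ℕ) [Fact s.Prime] (Q X Y : Subgroup G), IsPGroup s Q → X ≤ Q → Y ≤ Q →
    Nat.card X = s → Nat.card Y = s → X = Y

theorem RankOne.of_injective {G L : Type*} [Group G] [Group L] (h : RankOne G) (f : L →* G)
    (hf : Function.Injective f) : RankOne L := by
  intro s _ Q X Y hQ hX hY hXs hYs
  apply Subgroup.map_injective hf
  apply h s (Q.map f) (X.map f) (Y.map f) (hQ.map f) (Subgroup.map_mono hX) (Subgroup.map_mono hY)
  · rw [Subgroup.card_map_of_injective hf]; exact hXs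
  · rw [Subgroup.card_map_of_injective hf]; exact hYs

theorem RankOne.isZGroup {L : Type u} [Group L] [Finite L] (h : RankOne L)
    (hodd : ¬ 2 ∣ Nat.card L) : IsZGroup L := by
  constructor
  intro p hp' P
  have hp : Fact p.Prime := ⟨hp'⟩
  by_cases hp2 : p = 2
  · subst hp2
    have h1 : Nat.card (P : Subgroup L) = 1 := by
      rw [P.card_eq_multiplicity, Nat.factorization_eq_zero_of_not_dvd hodd, pow_zero]
    have : Subsingleton (P : Subgroup L) := (Nat.card_eq_one_iff_unique.mp h1).1
    infer_instance
  · apply UniqP.odd_case hp2 _ (P : Subgroup L) rfl P.isPGroup'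
    intro X Y hX hY
    have hinj : Function.Injective (P : Subgroup L).subtype := Subgroup.subtype_injective _
    apply Subgroup.map_injective hinj
    apply h p P _ _ P.isPGroup' (Subgroup.map_subtype_le X) (Subgroup.map_subtype_le Y)
    · rw [Subgroup.card_map_of_injective hinj]; exact hX
    · rw [Subgroup.card_map_of_injective hinj]; exact hY

theorem mem_zpowers_of_orderOf_two {K : Type*} [Group K] {z w : K} (hz : orderOf z = 2)
    (hw : w ∈ Subgroup.zpowers z) : w = 1 ∨ w = z := by
  obtain ⟨k, rfl⟩ := Subgroup.mem_zpowers_iff.mp hw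
  have h1 := zpow_mod_orderOf z k
  rw [hz] at h1
  rcases Int.emod_two_eq_zero_or_one k with h2 | h2
  · left
    rw [← h1]
    norm_num [h2]
  · right
    rw [← h1]
    norm_num [h2]

/-- an EPPO group all of whose `s`-subgroups have at most one subgroup of order `s` is solvable -/
theorem solvable_of_rankOne {K : Type u} [Group K] [Finite K] (hE : IsEPPO K) (hR : RankOne K) :
    Group.IsSolvable K := by
  by_cases h2 : 2 ∣ Nat.card K
  swap
  · have := hR.isZGroup h2
    infer_instance
  have : Fact (Nat.Prime 2) := ⟨Nat.prime_two⟩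
  obtain ⟨z, hz⟩ := exists_prime_orderOf_dvd_card' 2 h2
  have hzp : IsPGroup 2 (Subgroup.zpowers z) :=
    IsPGroup.of_card (n := 1) (by rw [Nat.card_zpowers, hz, pow_one])
  obtain ⟨T, hT⟩ := hzp.exists_le_sylow
  have hzT : z ∈ T := hT (Subgroup.mem_zpowers z)
  have hz1 : z ≠ 1 := by
    rintro rfl
    rw [orderOf_one] at hz
    omega
  have hiso : Cfsg.IsIsolated z := by
    apply Cfsg.Agent.Helper18.ZS.isolated_of_sylow' T ⟨1, by rw [hz, pow_one]⟩
    intro g hg
    have hord : orderOf (g * z * g⁻¹) = 2 := by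
      have := (MulAut.conj g).orderOf_eq z
      rw [MulAut.conj_apply] at this
      rw [this, hz]
    have heq : Subgroup.zpowers (g * z * g⁻¹) = Subgroup.zpowers z := by
      apply hR 2 T _ _ T.isPGroup'
      · rw [Subgroup.zpowers_le]; exact hg
      · rw [Subgroup.zpowers_le]; exact hzT
      · rw [Nat.card_zpowers, hord]
      · rw [Nat.card_zpowers, hz]
    have hmem : g * z * g⁻¹ ∈ Subgroup.zpowers z := heq ▸ Subgroup.mem_zpowers _
    rcases mem_zpowers_of_orderOf_two hz hmem with h1 | h1
    · rw [h1, orderOf_one] at hord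
      omega
    · exact h1
  have hZ : Cfsg.InZStar 2 z :=
    Cfsg.Agent.Helper18.ZS.zstar_gen z ⟨1, by rw [hz, pow_one]⟩ hiso
  set O := Cfsg.pPrimeCore 2 K with hOdef
  have hcop : (Nat.card O).Coprime 2 := Cfsg.Agent.Helper23.pPrimeCore_card_coprime 2 K
  have hEq : IsEPPO (K ⧸ O) := hE.of_surjective (QuotientGroup.mk' O) (QuotientGroup.mk'_surjective O)
  have hzO : z ∉ O := by
    intro hzO
    have := Subgroup.orderOf_dvd_natCard O hzO
    rw [hz] at this
    have := Nat.Coprime.eq_one_of_dvd hcop.symm this
    omega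
  set zb := QuotientGroup.mk' O z with hzb
  have hzb1 : zb ≠ 1 := by
    intro h
    rw [hzb, QuotientGroup.mk'_apply, QuotientGroup.eq_one_iff] at h
    exact hzO h
  have hzbord : orderOf zb = 2 := by
    have h1 : orderOf zb ∣ 2 := by
      have h0 : orderOf zb ∣ orderOf z := orderOf_map_dvd _ z
      rwa [hz] at h0
    rcases (Nat.dvd_prime Nat.prime_two).mp h1 with h3 | h3
    · exact absurd (orderOf_eq_one_iff.mp h3) hzb1
    · exact h3
  have hzbc : ∀ y : K ⧸ O, Commute zb y := by
    intro y
    obtain ⟨g, rfl⟩ := QuotientGroup.mk'_surjective O y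
    have h1 : QuotientGroup.mk' O (g * z * g⁻¹ * z⁻¹) = 1 := by
      rw [QuotientGroup.mk'_apply, QuotientGroup.eq_one_iff]; exact hZ g
    rw [map_mul, map_mul, map_mul, map_inv, map_inv] at h1
    show zb * QuotientGroup.mk' O g = QuotientGroup.mk' O g * zb
    calc zb * QuotientGroup.mk' O g
        = (QuotientGroup.mk' O g * zb * (QuotientGroup.mk' O g)⁻¹ * zb⁻¹)⁻¹ *
            (QuotientGroup.mk' O g * zb) := by group
      _ = QuotientGroup.mk' O g * zb := by rw [h1, inv_one, one_mul]
  have hq2 : IsPGroup 2 (K ⧸ O) := by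
    intro y
    by_cases hy1 : y = 1
    · exact ⟨0, by rw [hy1, one_pow]⟩
    obtain ⟨r, m, hr, hm, hrm⟩ := (isPrimePow_nat_iff _).mp (hEq y hy1)
    by_cases hr2 : r = 2
    · refine ⟨m, ?_⟩
      have h0 := pow_orderOf_eq_one y
      rw [← hrm, hr2] at h0
      exact h0
    · exfalso
      apply hEq.not_commute (hzbc y) hzb1 hy1
      rw [hzbord, ← hrm]
      apply Nat.Coprime.pow_right
      exact (Nat.coprime_primes Nat.prime_two hr).mpr (Ne.symm hr2)
  have hqs : Group.IsSolvable (K ⧸ O) := by
    have := hq2.isNilpotent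
    infer_instance
  have hOs : Group.IsSolvable O := by
    have hRO : RankOne O := hR.of_injective O.subtype O.subtype_injective
    have hodd : ¬ 2 ∣ Nat.card O := by
      intro h
      have := Nat.Coprime.eq_one_of_dvd hcop.symm h
      omega
    have := hRO.isZGroup hodd
    infer_instance
  exact Group.isSolvable_of_ker_le_range O.subtype (QuotientGroup.mk' O)
    (by rw [QuotientGroup.ker_mk', Subgroup.range_subtype])

end Cfsg.Agent.Helper1.EPPO
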