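import Mathlib
import Cfsg.Agent.Helper1.EPPO2

set_option autoImplicit false

/-! The solvable radical of a nonsolvable EPPO group is a `p`-group; an EPPO group with trivial
solvable radical has a unique minimal normal subgroup, which is nonabelian simple. -/

namespace Cfsg.Agent.Helper1.EPPO

universe u

/-- a solvable normal subgroup of a nonsolvable EPPO group is a `p`-group -/
theorem radical_isPGroup {G : Type u} [Group G] [Finite G] (hns : ¬ Group.IsSolvable G)
    (hE : IsEPPO G) (R : Subgroup G) [hRn : R.Normal] (hRs : Group.IsSolvable R) :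
    ∃ p : ℕ, p.Prime ∧ IsPGroup p R := by
  by_cases hR1 : R = ⊥
  · subst hR1
    exact ⟨2, Nat.prime_two, IsPGroup.of_bot⟩
  obtain ⟨p, hp, N, hNR, hN1, hNp, hNn⟩ := Cfsg.Agent.Lead.exists_pgroup_normalizer_le hRs hR1
  have : Fact p.Prime := ⟨hp⟩
  have hNnormal : N.Normal := by
    rw [← Subgroup.normalizer_eq_top_iff, eq_top_iff]
    refine le_trans ?_ hNn
    rw [Subgroup.normalizer_eq_top_iff.mpr hRn]
  refine ⟨p, hp, ?_⟩
  by_contra hnot
  have hex : ∃ q : ℕ, q.Prime ∧ q ≠ p ∧ q ∣ Nat.card R := by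
    by_contra h
    push Not at h
    apply hnot
    have hcard := Nat.eq_prime_pow_of_unique_prime_dvd (n := Nat.card R) (p := p)
      Nat.card_pos.ne' (fun {d} hd hdvd => by
        by_contra hne
        exact h d hd hne hdvd)
    exact IsPGroup.of_card hcard
  obtain ⟨q, hq, hqp, hqR⟩ := hex
  have : Fact q.Prime := ⟨hq⟩
  let Q0 : Sylow q R := default
  set Q : Subgroup G := (Q0 : Subgroup R).map R.subtype with hQdef
  have hQq : IsPGroup q Q := Q0.isPGroup'.map _
  set K := Subgroup.normalizer (Q : Set G) with hKdef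
  have hfrat : K ⊔ R = ⊤ := Sylow.normalizer_sup_eq_top Q0
  have hQ1 : Q ≠ ⊥ := by
    intro h
    have h1 : Nat.card Q = 1 := by rw [h, Subgroup.card_bot]
    rw [hQdef, Subgroup.card_map_of_injective R.subtype_injective, Q0.card_eq_multiplicity] at h1
    have hpos : 0 < (Nat.card R).factorization q :=
      hq.factorization_pos_of_dvd Nat.card_pos.ne' hqR
    have : 1 < q ^ (Nat.card R).factorization q := Nat.one_lt_pow hpos.ne' hq.one_lt
    omega
  have hQK : Q ≤ K := Subgroup.le_normalizer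
  have hQkn : (Q.subgroupOf K).Normal := Subgroup.normal_in_normalizer
  have hQk1 : Q.subgroupOf K ≠ ⊥ := by
    intro h
    apply hQ1
    have h1 : Nat.card (Q.subgroupOf K) = 1 := by rw [h, Subgroup.card_bot]
    rw [Nat.card_congr (Subgroup.subgroupOfEquivOfLe hQK).toEquiv] at h1
    exact Subgroup.card_eq_one.mp h1
  have hQkq : IsPGroup q (Q.subgroupOf K) := hQq.comap_subtype
  have hEK : IsEPPO K := hE.subgroup K
  have hRank : RankOne K := by
    intro s hs Q' X Y hQ' hX hY hXs hYs
    by_cases hsq : s = q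
    · subst hsq
      have hinj : Function.Injective K.subtype := K.subtype_injective
      apply Subgroup.map_injective hinj
      apply hE.unique_of_normal N hN1 hNp hqp (Q'.map K.subtype) (hQ'.map _) _ _
        (Subgroup.map_mono hX) (Subgroup.map_mono hY)
      · rw [Subgroup.card_map_of_injective hinj]; exact hXs
      · rw [Subgroup.card_map_of_injective hinj]; exact hYs
    · exact hEK.unique_of_normal (Q.subgroupOf K) hQk1 hQkq hsq Q' hQ' X Y hX hY hXs hYs
  have hKs : Group.IsSolvable K := solvable_of_rankOne hEK hRank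
  apply hns
  let f : K →* G ⧸ R := (QuotientGroup.mk' R).comp K.subtype
  have hsurj : Function.Surjective f := by
    intro y
    obtain ⟨g, rfl⟩ := QuotientGroup.mk'_surjective R y
    have hg : g ∈ K ⊔ R := by rw [hfrat]; exact Subgroup.mem_top g
    rw [← SetLike.mem_coe, Subgroup.mul_normal] at hg
    obtain ⟨k, hk, r, hr, rfl⟩ := Set.mem_mul.mp hg
    refine ⟨⟨k, hk⟩, ?_⟩
    show QuotientGroup.mk' R k = QuotientGroup.mk' R (k * r)
    rw [map_mul]
    have : QuotientGroup.mk' R r = 1 := by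
      rw [QuotientGroup.mk'_apply, QuotientGroup.eq_one_iff]; exact hr
    rw [this, mul_one]
  have hqs : Group.IsSolvable (G ⧸ R) := Group.isSolvable_of_surjective hsurj
  exact Group.isSolvable_of_ker_le_range R.subtype (QuotientGroup.mk' R)
    (by rw [QuotientGroup.ker_mk', Subgroup.range_subtype])


section minimal

variable {X : Type u} [Group X] [Finite X]

/-- if `X` has no nontrivial solvable normal subgroup, nontrivial subnormal subgroups have order
divisible by two primes -/
theorem exists_two_primes (hX : ∀ N : Subgroup X, N.Normal → Group.IsSolvable N → N = ⊥)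
    (S : Subgroup X) (hS1 : S ≠ ⊥) (hSsub : S.IsSubnormal) :
    ∃ a b : ℕ, a.Prime ∧ b.Prime ∧ a ≠ b ∧ a ∣ Nat.card S ∧ b ∣ Nat.card S := by
  have hc1 : Nat.card S ≠ 1 := fun h => hS1 (Subgroup.card_eq_one.mp h)
  have ha : (Nat.card S).minFac.Prime := Nat.minFac_prime hc1
  set a := (Nat.card S).minFac with hadef
  by_contra hcon
  push Not at hcon
  have : Fact a.Prime := ⟨ha⟩
  have hcard := Nat.eq_prime_pow_of_unique_prime_dvd (n := Nat.card S) (p := a)
    Nat.card_pos.ne' (fun {d} hd hdvd => by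
      by_contra hne
      exact hcon a d ha hd (Ne.symm hne) (Nat.minFac_dvd _) hdvd)
  have hSp : IsPGroup a S := IsPGroup.of_card hcard
  have hle : S ≤ Cfsg.pCore a X := Cfsg.Agent.Helper7.subnormal_pGroup_le_pCore hSsub hSp
  have hcp : IsPGroup a (Cfsg.pCore a X) := Cfsg.Agent.Helper14.pCore_isPGroup a
  have hsolv : Group.IsSolvable (Cfsg.pCore a X) := by
    have := hcp.isNilpotent
    infer_instance
  have := hX _ (Cfsg.pCore_normal a X) hsolv
  rw [this, le_bot_iff] at hle
  exact hS1 hle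

theorem exists_unique_minimal [Nontrivial X] (hE : IsEPPO X)
    (hX : ∀ N : Subgroup X, N.Normal → Group.IsSolvable N → N = ⊥) :
    ∃ M : Subgroup X, M.Normal ∧ IsSimpleGroup M ∧ ¬ IsMulCommutative M ∧
      ∀ N : Subgroup X, N.Normal → N ≠ ⊥ → M ≤ N := by
  classical
  -- a minimal normal subgroup `M`
  let S1 : Set (Subgroup X) := {M | M.Normal ∧ M ≠ ⊥}
  obtain ⟨M, hMS1, hMmin⟩ := wellFounded_lt.has_min S1 ⟨⊤, inferInstance, top_ne_bot⟩
  obtain ⟨hMn, hM1⟩ := hMS1
  -- a minimal `M`-invariant subgroup `S` of `M`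
  let S2 : Set (Subgroup X) := {S | S ≤ M ∧ S ≠ ⊥ ∧ M ≤ Subgroup.normalizer (S : Set X)}
  obtain ⟨S, hSS2, hSmin⟩ := wellFounded_lt.has_min S2
    ⟨M, le_rfl, hM1, Subgroup.le_normalizer⟩
  obtain ⟨hSM, hS1, hSnorm⟩ := hSS2
  have hSsub : S.IsSubnormal :=
    Subgroup.IsSubnormal.step S M hSM hMn.isSubnormal
      ((Subgroup.normal_subgroupOf_iff_le_normalizer hSM).mpr hSnorm)
  obtain ⟨a, b, ha, hb, hab, haS, hbS⟩ := exists_two_primes hX S hS1 hSsub
  have : Fact a.Prime := ⟨ha⟩
  have : Fact b.Prime := ⟨hb⟩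
  -- `S` is normal in `X`
  have hconj : ∀ g : X, S.map (MulAut.conj g).toMonoidHom = S := by
    intro g
    by_contra hne
    set S' := S.map (MulAut.conj g).toMonoidHom with hS'def
    have hcardS' : Nat.card S' = Nat.card S :=
      Subgroup.card_map_of_injective (MulAut.conj g).injective
    have hS'M : S' ≤ M := by
      rintro _ ⟨x, hx, rfl⟩
      exact hMn.conj_mem x (hSM hx) g
    have hS'norm : M ≤ Subgroup.normalizer (S' : Set X) := by
      apply Cfsg.Agent.Helper15.le_normalizer_of_conj_mem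
      rintro m hm _ ⟨x, hx, rfl⟩
      have hm' : g⁻¹ * m * g ∈ M := by
        have := hMn.conj_mem m hm g⁻¹
        rwa [inv_inv] at this
      have h1 : (g⁻¹ * m * g) * x * (g⁻¹ * m * g)⁻¹ ∈ S :=
        (Subgroup.mem_normalizer_iff.mp (hSnorm hm') x).mp hx
      refine ⟨(g⁻¹ * m * g) * x * (g⁻¹ * m * g)⁻¹, h1, ?_⟩
      simp only [MulEquiv.coe_toMonoidHom, MulAut.conj_apply]
      group
    have hinf : S ⊓ S' = ⊥ := by
      by_contra hinf
      have hmem : S ⊓ S' ∈ S2 := by
        refine ⟨inf_le_left.trans hSM, hinf, ?_⟩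
        apply Cfsg.Agent.Helper15.le_normalizer_of_conj_mem
        intro m hm x hx
        exact Subgroup.mem_inf.mpr
          ⟨(Subgroup.mem_normalizer_iff.mp (hSnorm hm) x).mp (Subgroup.mem_inf.mp hx).1,
           (Subgroup.mem_normalizer_iff.mp (hS'norm hm) x).mp (Subgroup.mem_inf.mp hx).2⟩
      have hnlt := hSmin _ hmem
      have heq : S ⊓ S' = S := by
        by_contra h
        exact hnlt (lt_of_le_of_ne inf_le_left h)
      have hle : S ≤ S' := by rw [← heq]; exact inf_le_right
      exact hne (Subgroup.eq_of_le_of_card_ge hle hcardS'.le).symm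
    have hcomm : ∀ x ∈ S, ∀ y ∈ S', Commute x y := by
      intro x hx y hy
      have h1 : x * y * x⁻¹ * y⁻¹ ∈ S := by
        have : y * x⁻¹ * y⁻¹ ∈ S :=
          (Subgroup.mem_normalizer_iff.mp (hSnorm (hS'M hy)) x⁻¹).mp (S.inv_mem hx)
        have h2 : x * y * x⁻¹ * y⁻¹ = x * (y * x⁻¹ * y⁻¹) := by group
        rw [h2]
        exact S.mul_mem hx this
      have h2 : x * y * x⁻¹ * y⁻¹ ∈ S' := by
        have : x * y * x⁻¹ ∈ S' :=
          (Subgroup.mem_normalizer_iff.mp (hS'norm (hSM hx)) y).mp hy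
        exact S'.mul_mem this (S'.inv_mem hy)
      have h3 : x * y * x⁻¹ * y⁻¹ ∈ S ⊓ S' := Subgroup.mem_inf.mpr ⟨h1, h2⟩
      rw [hinf, Subgroup.mem_bot] at h3
      show x * y = y * x
      calc x * y = (x * y * x⁻¹ * y⁻¹) * (y * x) := by group
        _ = y * x := by rw [h3, one_mul]
    obtain ⟨x, hx⟩ := exists_prime_orderOf_dvd_card' a haS
    obtain ⟨y, hy⟩ := exists_prime_orderOf_dvd_card' b (hcardS' ▸ hbS)
    have hxo : orderOf (x : X) = a := by rw [Subgroup.orderOf_coe]; exact hx
    have hyo : orderOf (y : X) = b := by rw [Subgroup.orderOf_coe]; exact hy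
    apply hE.not_commute (hcomm x x.2 y y.2)
    · intro h
      rw [h, orderOf_one] at hxo
      exact ha.one_lt.ne hxo
    · intro h
      rw [h, orderOf_one] at hyo
      exact hb.one_lt.ne hyo
    · rw [hxo, hyo]
      exact (Nat.coprime_primes ha hb).mpr hab
  have hSn : S.Normal := by
    constructor
    intro x hx g
    rw [← hconj g]
    exact ⟨x, hx, rfl⟩
  have hSeq : S = M := by
    by_contra h
    exact hMmin S ⟨hSn, hS1⟩ (lt_of_le_of_ne hSM h)
  subst hSeq
  refine ⟨S, hMn, ?_, ?_, ?_⟩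
  · have : Nontrivial S := (Subgroup.nontrivial_iff_ne_bot S).mpr hM1
    refine ⟨fun H hH => ?_⟩
    by_cases hH1 : H = ⊥
    · exact Or.inl hH1
    right
    have hinj : Function.Injective S.subtype := S.subtype_injective
    have hmem : H.map S.subtype ∈ S2 := by
      refine ⟨Subgroup.map_subtype_le H, ?_, ?_⟩
      · intro h
        exact hH1 ((Subgroup.map_eq_bot_iff_of_injective H hinj).mp h)
      · apply Cfsg.Agent.Helper15.le_normalizer_of_conj_mem
        rintro m hm _ ⟨x, hx, rfl⟩
        exact ⟨⟨m, hm⟩ * x * ⟨m, hm⟩⁻¹, hH.conj_mem x hx ⟨m, hm⟩, rfl⟩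
    have hnlt := hSmin _ hmem
    have heq : H.map S.subtype = S := by
      by_contra h
      exact hnlt (lt_of_le_of_ne (Subgroup.map_subtype_le H) h)
    rw [eq_top_iff]
    intro x _
    have hx : (x : X) ∈ H.map S.subtype := by rw [heq]; exact x.2
    obtain ⟨h, hh, hhx⟩ := hx
    have : h = x := Subtype.ext hhx
    rw [← this]; exact hh
  · intro hcomm
    apply hM1
    apply hX S hMn
    exact Group.isSolvable_of_comm (fun a b => mul_comm' a b)
  · intro N hNn hN1
    by_contra hSN
    have hinf : S ⊓ N = ⊥ := by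
      by_contra hinf
      have hmem : S ⊓ N ∈ S1 := ⟨Subgroup.normal_inf_normal S N, hinf⟩
      have hnlt := hMmin _ hmem
      have heq : S ⊓ N = S := by
        by_contra h
        exact hnlt (lt_of_le_of_ne inf_le_left h)
      exact hSN (by rw [← heq]; exact inf_le_right)
    have hcomm := Subgroup.commute_of_normal_of_disjoint S N hMn hNn (disjoint_iff.mpr hinf)
    have hc1 : Nat.card N ≠ 1 := fun h => hN1 (Subgroup.card_eq_one.mp h)
    have hc : (Nat.card N).minFac.Prime := Nat.minFac_prime hc1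
    set c := (Nat.card N).minFac with hcdef
    have : Fact c.Prime := ⟨hc⟩
    obtain ⟨y, hy⟩ := exists_prime_orderOf_dvd_card' c (Nat.minFac_dvd (Nat.card N))
    have hyo : orderOf (y : X) = c := by rw [Subgroup.orderOf_coe]; exact hy
    have hy1 : (y : X) ≠ 1 := by
      intro h
      rw [h, orderOf_one] at hyo
      exact hc.one_lt.ne hyo
    -- choose a prime of `|S|` different from `c`
    obtain ⟨a', ha', ha'c, ha'S⟩ : ∃ a' : ℕ, a'.Prime ∧ a' ≠ c ∧ a' ∣ Nat.card S := by
      by_cases hac : a = c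
      · exact ⟨b, hb, fun h => hab (hac.trans h.symm), hbS⟩
      · exact ⟨a, ha, hac, haS⟩
    have : Fact a'.Prime := ⟨ha'⟩
    obtain ⟨x, hx⟩ := exists_prime_orderOf_dvd_card' a' ha'S
    have hxo : orderOf (x : X) = a' := by rw [Subgroup.orderOf_coe]; exact hx
    apply hE.not_commute (hcomm x y x.2 y.2)
    · intro h
      rw [h, orderOf_one] at hxo
      exact ha'.one_lt.ne hxo
    · exact hy1
    · rw [hxo, hyo]
      exact (Nat.coprime_primes ha' hc).mpr ha'c

end minimal

end Cfsg.Agent.Helper1.EPPO
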