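import Mathlib

set_option autoImplicit false

/-! Counting homomorphisms into `ℤˣ = {±1}` (the dual of the Frattini quotient of a `2`-group). -/

namespace Cfsg.Agent.Helper1.FratBound

universe u

section homs

variable {H : Type*} [Group H] [Finite H]

/-- restriction of `±1`-valued homomorphisms to a subgroup -/
noncomputable def resHom (K : Subgroup H) : (H →* ℤˣ) →* (↥K →* ℤˣ) :=
  MonoidHom.compHom' K.subtype

theorem mem_ker_resHom {K : Subgroup H} {l : H →* ℤˣ} :
    l ∈ (resHom K).ker ↔ ∀ k ∈ K, l k = 1 := by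
  rw [MonoidHom.mem_ker]
  constructor
  · intro h k hk
    have := DFunLike.congr_fun h ⟨k, hk⟩
    simpa [resHom] using this
  · intro h
    ext ⟨k, hk⟩
    simp [resHom, h k hk]

theorem card_units_int : Nat.card ℤˣ = 2 := by
  rw [Nat.card_eq_fintype_card, Fintype.card_units_int]

/-- the basic inequality: `e(H) ≤ e(H;K) e(K)` -/
theorem card_hom_le_mul (K : Subgroup H) :
    Nat.card (H →* ℤˣ) ≤ Nat.card (resHom K).ker * Nat.card (↥K →* ℤˣ) := by
  rw [← Subgroup.card_mul_index (resHom K).ker, Subgroup.index_ker]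
  exact Nat.mul_le_mul_left _ (Subgroup.card_le_card_group _)

/-- a subgroup of index two kills at most two homomorphisms -/
theorem card_ker_resHom_le_two (K : Subgroup H) (g : H)
    (hidx : ∀ h : H, h ∈ K ∨ g⁻¹ * h ∈ K) : Nat.card (resHom K).ker ≤ 2 := by
  rw [← card_units_int]
  apply Nat.card_le_card_of_injective (fun l : (resHom K).ker => (l : H →* ℤˣ) g)
  intro l l' hll
  apply Subtype.ext
  ext h
  have hl := mem_ker_resHom.mp l.2
  have hl' := mem_ker_resHom.mp l'.2
  rcases hidx h with hh | hh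
  · rw [hl h hh, hl' h hh]
  · have h1 : (l : H →* ℤˣ) h = (l : H →* ℤˣ) g * (l : H →* ℤˣ) (g⁻¹ * h) := by
      rw [← map_mul]; congr 1; group
    have h2 : (l' : H →* ℤˣ) h = (l' : H →* ℤˣ) g * (l' : H →* ℤˣ) (g⁻¹ * h) := by
      rw [← map_mul]; congr 1; group
    rw [h1, h2, hl _ hh, hl' _ hh]
    have hll' : (l : H →* ℤˣ) g = (l' : H →* ℤˣ) g := hll
    rw [hll']

/-- the kernel of a homomorphism `f` kills at most `e(range f)` homomorphisms -/
theorem card_ker_resHom_ker_le {G' : Type*} [Group G'] (f : H →* G') :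
    Nat.card (resHom f.ker).ker ≤ Nat.card (↥f.range →* ℤˣ) := by
  let Φ := MonoidHom.liftOfSurjective (G₃ := ℤˣ) f.rangeRestrict f.rangeRestrict_surjective
  have : Finite ↥f.range := Finite.of_surjective f.rangeRestrict f.rangeRestrict_surjective
  apply Nat.card_le_card_of_injective
    (fun l : (resHom f.ker).ker => Φ ⟨(l : H →* ℤˣ), by
      rw [MonoidHom.ker_rangeRestrict]
      intro k hk
      rw [MonoidHom.mem_ker]
      exact mem_ker_resHom.mp l.2 k hk⟩)
  intro l l' hll
  have := Φ.injective hll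
  apply Subtype.ext
  exact Subtype.mk.inj this

theorem card_hom_le_of_hom {G' : Type*} [Group G'] (f : H →* G') :
    Nat.card (H →* ℤˣ) ≤ Nat.card (↥f.range →* ℤˣ) * Nat.card (↥f.ker →* ℤˣ) :=
  (card_hom_le_mul f.ker).trans (Nat.mul_le_mul_right _ (card_ker_resHom_ker_le f))

theorem card_hom_congr {H' : Type*} [Group H'] (e : H ≃* H') :
    Nat.card (H →* ℤˣ) = Nat.card (H' →* ℤˣ) :=
  Nat.card_congr (MulEquiv.monoidHomCongrLeft e).toEquiv

/-- a group generated by one element has at most two homomorphisms to `±1` -/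
theorem card_hom_le_two (a : H) (h : Subgroup.closure {a} = ⊤) : Nat.card (H →* ℤˣ) ≤ 2 := by
  rw [← card_units_int]
  apply Nat.card_le_card_of_injective (fun l : H →* ℤˣ => l a)
  intro l l' hll
  apply MonoidHom.eq_of_eqOn_dense h
  intro x hx
  rw [Set.mem_singleton_iff] at hx
  rw [hx]; exact hll

/-- a group generated by two elements has at most four homomorphisms to `±1` -/
theorem card_hom_le_four (a b : H) (h : Subgroup.closure {a, b} = ⊤) :
    Nat.card (H →* ℤˣ) ≤ 4 := by
  have h4 : Nat.card (ℤˣ × ℤˣ) = 4 := by rw [Nat.card_prod, card_units_int]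
  rw [← h4]
  apply Nat.card_le_card_of_injective (fun l : H →* ℤˣ => (l a, l b))
  intro l l' hll
  apply MonoidHom.eq_of_eqOn_dense h
  intro x hx
  rcases hx with rfl | hx
  · exact (Prod.ext_iff.mp hll).1
  · rw [Set.mem_singleton_iff] at hx
    rw [hx]; exact (Prod.ext_iff.mp hll).2

end homs

/-- the bounding function -/
def phi (w : ℕ) : ℕ := max 2 ((w - 1) / 2)

theorem two_le_phi (w : ℕ) : 2 ≤ phi w := le_max_left _ _

theorem phi_le_pred {w : ℕ} (hw : 3 ≤ w) : phi w ≤ w - 1 := by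
  unfold phi
  omega

theorem four_le_phi {w : ℕ} (hw : 9 ≤ w) : 4 ≤ phi w := by
  unfold phi
  omega

theorem phi_mul {a b : ℕ} (ha : 3 ≤ a) (hb : 3 ≤ b) (hao : Odd a) (hbo : Odd b) :
    phi a * phi b ≤ phi (a * b) := by
  obtain ⟨i, rfl⟩ := hao
  obtain ⟨j, rfl⟩ := hbo
  have hab : (2 * i + 1) * (2 * j + 1) - 1 = 2 * (2 * i * j + i + j) := by
    have : (2 * i + 1) * (2 * j + 1) = 2 * (2 * i * j + i + j) + 1 := by ring
    omega
  unfold phi
  rw [hab]
  have h1 : (2 * i + 1 - 1) / 2 = i := by omega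
  have h2 : (2 * j + 1 - 1) / 2 = j := by omega
  have h3 : 2 * (2 * i * j + i + j) / 2 = 2 * i * j + i + j := by omega
  rw [h1, h2, h3]
  have hi : 1 ≤ i := by omega
  have hj : 1 ≤ j := by omega
  apply le_max_of_le_right
  rcases le_total 2 i with hi2 | hi2
  · rcases le_total 2 j with hj2 | hj2
    · rw [max_eq_right hi2, max_eq_right hj2]; nlinarith
    · rw [max_eq_right hi2, max_eq_left hj2]; nlinarith
  · rcases le_total 2 j with hj2 | hj2
    · rw [max_eq_left hi2, max_eq_right hj2]; nlinarith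
    · rw [max_eq_left hi2, max_eq_left hj2]
      have : i = 1 ∨ i = 2 := by omega
      have : j = 1 ∨ j = 2 := by omega
      rcases ‹i = 1 ∨ i = 2› with rfl | rfl <;> rcases ‹j = 1 ∨ j = 2› with rfl | rfl <;> norm_num

/-- the imprimitive step: `2 φ(w)² ≤ φ(w²)` for odd `w ≥ 5` -/
theorem two_mul_phi_sq {w : ℕ} (hw : 5 ≤ w) (hwo : Odd w) : 2 * (phi w * phi w) ≤ phi (w * w) := by
  obtain ⟨i, rfl⟩ := hwo
  have hab : (2 * i + 1) * (2 * i + 1) - 1 = 2 * (2 * i * i + i + i) := by
    have : (2 * i + 1) * (2 * i + 1) = 2 * (2 * i * i + i + i) + 1 := by ring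
    omega
  unfold phi
  rw [hab]
  have h1 : (2 * i + 1 - 1) / 2 = i := by omega
  have h3 : 2 * (2 * i * i + i + i) / 2 = 2 * i * i + i + i := by omega
  rw [h1, h3]
  have hi : 2 ≤ i := by omega
  rw [max_eq_right hi]
  apply le_max_of_le_right
  nlinarith

end Cfsg.Agent.Helper1.FratBound
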