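import Mathlib
import Cfsg.Agent.Helper1.NormalAbelianCyclic
import Cfsg.Agent.Helper1.UniqueOrderP
import Cfsg.Agent.Helper1.FratBound1
import Cfsg.Agent.Helper23.PGroup
import Cfsg.Agent.Helper9.NormalSeries

set_option autoImplicit false

/-! Structure of `2`-groups: either a cyclic subgroup of index at most two, or a normal four-group. -/

namespace Cfsg.Agent.Helper1.FratBound

open Cfsg.Agent.Helper1.CyclicMax2 Cfsg.Agent.Helper1.NAC

/-- a `2`-group all of whose normal abelian subgroups are cyclic is cyclic or has a cyclic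
subgroup of index two -/
theorem cyclic_or_index_two {P : Type*} [Group P] [Finite P] (hP : IsPGroup 2 P)
    (hn : ∀ A : Subgroup P, A.Normal → IsMulCommutative A → IsCyclic A) :
    IsCyclic P ∨ ∃ a : P, (Subgroup.zpowers a).index = 2 := by
  by_cases hnc : IsCyclic P
  · exact Or.inl hnc
  right
  obtain ⟨A, hAn, hAc, hCA⟩ := Cfsg.Agent.Helper23.exists_normal_abelian_centralizer_le hP
  have hAcyc := hn A hAn hAc
  obtain ⟨a, ha⟩ := (Subgroup.isCyclic_iff_exists_zpowers_eq_top A).mp hAcyc
  have hAn' : (Subgroup.zpowers a).Normal := ha ▸ hAn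
  have hcent : ∀ g : P, g * a = a * g → g ∈ Subgroup.zpowers a := by
    intro g hg
    rw [ha]
    apply hCA
    rw [Subgroup.mem_centralizer_iff]
    intro c hc
    rw [SetLike.mem_coe, ← ha] at hc
    obtain ⟨t, rfl⟩ := Subgroup.mem_zpowers_iff.mp hc
    exact ((show Commute g a from hg).zpow_right t).eq.symm
  obtain ⟨k, hk⟩ := IsPGroup.iff_card.mp (hP.to_subgroup A)
  have hord : orderOf a = 2 ^ k := by rw [← Nat.card_zpowers, ha, hk]
  have hAtop : A ≠ ⊤ := by
    intro h
    apply hnc
    have e : A ≃* P := h ▸ Subgroup.topEquiv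
    exact isCyclic_of_surjective e e.surjective
  obtain ⟨x, hxA⟩ : ∃ x : P, x ∉ A := by
    by_contra hcon
    exact hAtop (eq_top_iff.mpr fun x _ => by_contra fun hx => hcon ⟨x, hx⟩)
  have hxa : x ∉ Subgroup.zpowers a := by rwa [ha]
  have hnormg : ∀ g : P, g * a * g⁻¹ ∈ Subgroup.zpowers a := fun g =>
    hAn'.conj_mem a (Subgroup.mem_zpowers a) g
  have hncg : ∀ g : P, g ∉ Subgroup.zpowers a → g * a * g⁻¹ ≠ a := by
    intro g hg h
    apply hg
    apply hcent
    calc g * a = (g * a * g⁻¹) * g := by group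
      _ = a * g := by rw [h]
  -- `|A| ≥ 4`
  have hk2 : 2 ≤ k := by
    by_contra hk2
    have hk01 : k = 0 ∨ k = 1 := by omega
    obtain ⟨v, hv⟩ := Subgroup.mem_zpowers_iff.mp (hnormg x)
    rcases hk01 with rfl | rfl
    · rw [pow_zero, orderOf_eq_one_iff] at hord
      apply hncg x hxa
      rw [hord]; group
    · have haa : a * a = 1 := by rw [← pow_two, ← pow_one 2, ← hord, pow_orderOf_eq_one]
      have ha1 : a ≠ 1 := by
        intro h
        rw [h, orderOf_one] at hord
        norm_num at hord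
      rcases zpow_of_mul_self_eq_one haa v with h | h
      · rw [h] at hv
        apply ha1
        calc a = x⁻¹ * (x * a * x⁻¹) * x := by group
          _ = 1 := by rw [← hv]; group
      · rw [h] at hv
        exact hncg x hxa hv.symm
  obtain ⟨m, rfl⟩ : ∃ m, k = m + 1 := ⟨k - 1, by omega⟩
  have hm1 : 1 ≤ m := by omega
  -- exponents of outside elements are `≡ 3 mod 4`
  have hthree : ∀ g : P, g ∉ Subgroup.zpowers a → ∀ u : ℤ, g * a * g⁻¹ = a ^ u →
      u ≡ 3 [ZMOD 4] := by
    intro g hg u hu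
    have h1 := not_modEq_one_four hn a m hord hAn' hcent hP hm1 g hg u hu
    obtain ⟨t, ht⟩ := odd_of_conj a m hord g u hu
    unfold Int.ModEq at h1 ⊢
    omega
  exact ⟨a, index_two_of_three a m hord hAn' hcent x hxa hthree⟩

/-- a cyclic group has at most two homomorphisms to `±1` -/
theorem card_hom_le_two_of_isCyclic {H : Type*} [Group H] [Finite H] (h : IsCyclic H) :
    Nat.card (H →* ℤˣ) ≤ 2 := by
  obtain ⟨g, hg⟩ := h.exists_generator
  apply card_hom_le_two g
  rw [eq_top_iff]
  intro x _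
  rw [← Subgroup.zpowers_eq_closure]
  exact hg x

/-- a `2`-group all of whose normal abelian subgroups are cyclic has at most four homomorphisms
to `±1` -/
theorem card_hom_le_four_of_normal_abelian_cyclic {P : Type*} [Group P] [Finite P]
    (hP : IsPGroup 2 P)
    (hn : ∀ A : Subgroup P, A.Normal → IsMulCommutative A → IsCyclic A) :
    Nat.card (P →* ℤˣ) ≤ 4 := by
  rcases cyclic_or_index_two hP hn with h | ⟨a, ha⟩
  · exact (card_hom_le_two_of_isCyclic h).trans (by norm_num)
  · obtain ⟨x, hx, hxb⟩ := Subgroup.index_eq_two_iff_exists_notMem_and.mp ha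
    have h1 : Nat.card (resHom (Subgroup.zpowers a)).ker ≤ 2 := by
      apply card_ker_resHom_le_two (Subgroup.zpowers a) x
      intro h
      rcases hxb h⁻¹ with h2 | h2
      · right
        have := (Subgroup.zpowers a).inv_mem h2
        rwa [mul_inv_rev, inv_inv] at this
      · left
        have := (Subgroup.zpowers a).inv_mem h2
        rwa [inv_inv] at this
    have h2 : Nat.card (↥(Subgroup.zpowers a) →* ℤˣ) ≤ 2 :=
      card_hom_le_two_of_isCyclic inferInstance
    calc Nat.card (P →* ℤˣ) ≤ Nat.card (resHom (Subgroup.zpowers a)).ker *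
          Nat.card (↥(Subgroup.zpowers a) →* ℤˣ) := card_hom_le_mul _
      _ ≤ 2 * 2 := Nat.mul_le_mul h1 h2
      _ = 4 := by norm_num

/-- a normal abelian noncyclic subgroup of a `2`-group yields a normal four-group containing a
central involution -/
theorem exists_klein_data {P : Type*} [Group P] [Finite P] (hP : IsPGroup 2 P)
    (A : Subgroup P) (hAn : A.Normal) (hAc : IsMulCommutative A) (hAnc : ¬ IsCyclic A) :
    ∃ z a : P, z ≠ 1 ∧ z * z = 1 ∧ (∀ h : P, h * z = z * h) ∧ a ≠ 1 ∧ a ≠ z ∧ a * a = 1 ∧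
      ∀ h : P, h * a * h⁻¹ = a ∨ h * a * h⁻¹ = a * z := by
  have hcomm : ∀ x ∈ A, ∀ y ∈ A, x * y = y * x := by
    intro x hx y hy
    have := mul_comm' (⟨x, hx⟩ : A) ⟨y, hy⟩
    exact congrArg Subtype.val this
  -- the subgroup of elements of `A` of order at most two
  let Ω : Subgroup P :=
    { carrier := {x | x ∈ A ∧ x * x = 1}
      one_mem' := ⟨A.one_mem, by simp⟩
      mul_mem' := by
        rintro x y ⟨hx, hx2⟩ ⟨hy, hy2⟩
        refine ⟨A.mul_mem hx hy, ?_⟩
        calc x * y * (x * y) = x * (y * x) * y := by group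
          _ = x * (x * y) * y := by rw [hcomm y hy x hx]
          _ = (x * x) * (y * y) := by group
          _ = 1 := by rw [hx2, hy2, one_mul]
      inv_mem' := by
        rintro x ⟨hx, hx2⟩
        refine ⟨A.inv_mem hx, ?_⟩
        rw [← mul_inv_rev, hx2, inv_one] }
  have hΩmem : ∀ x, x ∈ Ω ↔ x ∈ A ∧ x * x = 1 := fun x => Iff.rfl
  have hΩn : Ω.Normal := by
    constructor
    intro x hx g
    rw [hΩmem] at hx ⊢
    refine ⟨hAn.conj_mem x hx.1 g, ?_⟩
    calc g * x * g⁻¹ * (g * x * g⁻¹) = g * (x * x) * g⁻¹ := by group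
      _ = 1 := by rw [hx.2]; group
  -- `Ω` has at least four elements
  have hΩ4 : 2 ^ 2 ≤ Nat.card Ω := by
    obtain ⟨k, hk⟩ := IsPGroup.iff_card.mp (hP.to_subgroup Ω)
    rw [hk]
    apply Nat.pow_le_pow_right (by norm_num)
    by_contra hk2
    have hle : Nat.card Ω ≤ 2 := by
      rw [hk]
      calc 2 ^ k ≤ 2 ^ 1 := Nat.pow_le_pow_right (by norm_num) (by omega)
        _ = 2 := by norm_num
    apply hAnc
    apply UniqP.isCyclic_of_isMulCommutative (p := 2) (hP.to_subgroup A)
    intro H K hH hK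
    have key : ∀ H : Subgroup A, Nat.card H = 2 → H.map A.subtype = Ω := by
      intro H hH
      apply Subgroup.eq_of_le_of_card_ge
      · rintro _ ⟨x, hx, rfl⟩
        rw [hΩmem]
        refine ⟨x.2, ?_⟩
        have h1 : (⟨x, hx⟩ : H) ^ 2 = 1 := by rw [← hH]; exact pow_card_eq_one'
        have h2 : (x : A) ^ 2 = 1 := by
          have := congrArg Subtype.val h1
          simpa using this
        have h3 : ((x : A) : P) ^ 2 = 1 := by
          have := congrArg Subtype.val h2
          simpa using this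
        rw [← pow_two]; exact h3
      · rw [Subgroup.card_map_of_injective A.subtype_injective, hH]; exact hle
    apply Subgroup.map_injective A.subtype_injective
    rw [key H hH, key K hK]
  obtain ⟨E, hEn, hEΩ, hE4⟩ :=
    Cfsg.Agent.Helper9.exists_normal_le_card_eq hP Ω 2 hΩ4
  have hEbot : E ≠ ⊥ := by
    intro h
    rw [h, Subgroup.card_bot] at hE4
    norm_num at hE4
  obtain ⟨z, hzE, hzc, hz1⟩ := Cfsg.Agent.Helper23.exists_mem_inf_center_ne_one hP E hEbot
  have hzz : z * z = 1 := ((hΩmem z).mp (hEΩ hzE)).2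
  have hzcomm : ∀ h : P, h * z = z * h := fun h => (Subgroup.mem_center_iff.mp hzc h)
  have hzo : orderOf z = 2 := orderOf_eq_prime (by rw [pow_two, hzz]) hz1
  have hZE : Subgroup.zpowers z ≤ E := Subgroup.zpowers_le.mpr hzE
  have hZmem : ∀ y ∈ Subgroup.zpowers z, y = 1 ∨ y = z := by
    intro y hy
    obtain ⟨k, rfl⟩ := Subgroup.mem_zpowers_iff.mp hy
    exact zpow_of_mul_self_eq_one hzz k
  -- an element of `E` outside `⟨z⟩`
  obtain ⟨a, haE, haZ⟩ : ∃ a ∈ E, a ∉ Subgroup.zpowers z := by
    by_contra hcon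
    push Not at hcon
    have : Nat.card E ≤ Nat.card (Subgroup.zpowers z) := Subgroup.card_le_of_le hcon
    rw [hE4, Nat.card_zpowers, hzo] at this
    norm_num at this
  have haa : a * a = 1 := ((hΩmem a).mp (hEΩ haE)).2
  have hidx : ((Subgroup.zpowers z).subgroupOf E).index = 2 := by
    have h1 := Subgroup.relIndex_mul_relIndex ⊥ (Subgroup.zpowers z) E bot_le hZE
    rw [Subgroup.relIndex_bot_left, Subgroup.relIndex_bot_left, Nat.card_zpowers, hzo, hE4] at h1
    have : (Subgroup.zpowers z).relIndex E = 2 := by omega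
    exact this
  refine ⟨z, a, hz1, hzz, hzcomm, ?_, ?_, haa, ?_⟩
  · intro h; exact haZ (h ▸ Subgroup.one_mem _)
  · intro h; exact haZ (h ▸ Subgroup.mem_zpowers z)
  · intro h
    have hbE : h * a * h⁻¹ ∈ E := hEn.conj_mem a haE h
    have hbZ : h * a * h⁻¹ ∉ Subgroup.zpowers z := by
      intro hb
      apply haZ
      have h1 : a = h⁻¹ * (h * a * h⁻¹) * h := by group
      rw [h1]
      rcases hZmem _ hb with h2 | h2
      · rw [h2]; simp
      · rw [h2]
        have : h⁻¹ * z * h = z := by
          rw [mul_assoc, ← hzcomm h]; group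
        rw [this]; exact Subgroup.mem_zpowers z
    have h3 := Subgroup.mul_mem_iff_of_index_two hidx (a := (⟨a, haE⟩ : E))
      (b := (⟨h * a * h⁻¹, hbE⟩ : E))
    rw [Subgroup.mem_subgroupOf, Subgroup.mem_subgroupOf, Subgroup.mem_subgroupOf] at h3
    have h4 : a * (h * a * h⁻¹) ∈ Subgroup.zpowers z := by
      apply h3.mpr
      constructor
      · intro h; exact absurd h haZ
      · intro h; exact absurd h hbZ
    have hainv : a⁻¹ = a := inv_eq_of_mul_eq_one_right haa
    rcases hZmem _ h4 with h5 | h5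
    · left
      calc h * a * h⁻¹ = a⁻¹ * (a * (h * a * h⁻¹)) := by group
        _ = a := by rw [h5, mul_one, hainv]
    · right
      calc h * a * h⁻¹ = a⁻¹ * (a * (h * a * h⁻¹)) := by group
        _ = a * z := by rw [h5, hainv]

end Cfsg.Agent.Helper1.FratBound
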