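import Mathlib
import Cfsg.Agent.Helper1.FratBound1

set_option autoImplicit false

/-! Actions `ι : L →* MulAut V` on an abelian group of odd order: restriction to invariant
subgroups, fixed points and inverted points of an involution. -/

namespace Cfsg.Agent.Helper1.FratBound

universe u

section act

variable {V : Type*} [CommGroup V] {L : Type*} [Group L]

/-- restriction of an action to an invariant subgroup -/
def resOf (ι : L →* MulAut V) (W : Subgroup V) (h : ∀ l : L, ∀ w ∈ W, ι l w ∈ W) :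
    L →* MulAut ↥W where
  toFun l :=
    { toFun := fun w => ⟨ι l w, h l w w.2⟩
      invFun := fun w => ⟨ι l⁻¹ w, h l⁻¹ w w.2⟩
      left_inv := fun w => Subtype.ext (by simp)
      right_inv := fun w => Subtype.ext (by simp)
      map_mul' := fun w1 w2 => Subtype.ext (by simp) }
  map_one' := by ext w; simp
  map_mul' := fun l1 l2 => by ext w; simp

@[simp] theorem resOf_apply (ι : L →* MulAut V) (W : Subgroup V)
    (h : ∀ l : L, ∀ w ∈ W, ι l w ∈ W) (l : L) (w : W) :
    ((resOf ι W h l w : W) : V) = ι l w := rfl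

theorem mem_ker_resOf (ι : L →* MulAut V) (W : Subgroup V)
    (h : ∀ l : L, ∀ w ∈ W, ι l w ∈ W) (l : L) :
    l ∈ (resOf ι W h).ker ↔ ∀ w ∈ W, ι l w = w := by
  rw [MonoidHom.mem_ker]
  constructor
  · intro hl w hw
    have := congrArg (fun α : MulAut W => ((α ⟨w, hw⟩ : W) : V)) hl
    simpa using this
  · intro hl
    ext w
    simp [hl w.1 w.2]

/-- two automorphisms agreeing on two subgroups which generate agree everywhere -/
theorem eq_of_eqOn_sup (α β : MulAut V) (W1 W2 : Subgroup V) (h : W1 ⊔ W2 = ⊤)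
    (h1 : ∀ w ∈ W1, α w = β w) (h2 : ∀ w ∈ W2, α w = β w) : α = β := by
  have hle : W1 ⊔ W2 ≤ MonoidHom.eqLocus α.toMonoidHom β.toMonoidHom :=
    sup_le (fun w hw => h1 w hw) (fun w hw => h2 w hw)
  ext v
  have hv : v ∈ W1 ⊔ W2 := h ▸ Subgroup.mem_top v
  exact hle hv

/-- fixed points -/
def fixS (α : MulAut V) : Subgroup V where
  carrier := {v | α v = v}
  one_mem' := map_one α
  mul_mem' := by
    intro a b ha hb
    simp only [Set.mem_ofPred_eq] at *
    rw [map_mul, ha, hb]
  inv_mem' := by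
    intro a ha
    simp only [Set.mem_ofPred_eq] at *
    rw [map_inv, ha]

/-- inverted points -/
def invS (α : MulAut V) : Subgroup V where
  carrier := {v | α v = v⁻¹}
  one_mem' := by simp
  mul_mem' := by
    intro a b ha hb
    simp only [Set.mem_ofPred_eq] at *
    rw [map_mul, ha, hb, mul_inv]
  inv_mem' := by
    intro a ha
    simp only [Set.mem_ofPred_eq] at *
    rw [map_inv, ha]

theorem mem_fixS {α : MulAut V} {v : V} : v ∈ fixS α ↔ α v = v := Iff.rfl

theorem mem_invS {α : MulAut V} {v : V} : v ∈ invS α ↔ α v = v⁻¹ := Iff.rfl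

theorem eq_one_of_mul_self [Finite V] (hodd : Odd (Nat.card V)) (v : V) (h : v * v = 1) :
    v = 1 := by
  obtain ⟨k, hk⟩ := hodd
  have h1 : v ^ Nat.card V = 1 := pow_card_eq_one'
  rw [hk, pow_succ, pow_mul, pow_two, h, one_pow, one_mul] at h1
  exact h1

theorem fixS_inf_invS [Finite V] (hodd : Odd (Nat.card V)) (α : MulAut V) :
    fixS α ⊓ invS α = ⊥ := by
  rw [eq_bot_iff]
  intro v hv
  rw [Subgroup.mem_bot]
  have h1 := mem_fixS.mp hv.1
  have h2 := mem_invS.mp hv.2
  apply eq_one_of_mul_self hodd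
  have : v = v⁻¹ := h1.symm.trans h2
  calc v * v = v * v⁻¹ := by rw [← this]
    _ = 1 := mul_inv_cancel v

theorem fixS_sup_invS [Finite V] (hodd : Odd (Nat.card V)) (α : MulAut V)
    (hα : ∀ v, α (α v) = v) : fixS α ⊔ invS α = ⊤ := by
  rw [eq_top_iff]
  intro v _
  obtain ⟨k, hk⟩ := hodd
  rw [Subgroup.mem_sup]
  refine ⟨(v * α v) ^ (k + 1), ?_, (v * (α v)⁻¹) ^ (k + 1), ?_, ?_⟩
  · rw [mem_fixS, map_pow, map_mul, hα, mul_comm]
  · rw [mem_invS, map_pow, map_mul, map_inv, hα, ← inv_pow, mul_inv, inv_inv, mul_comm]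
  · rw [← mul_pow]
    have h1 : v * α v * (v * (α v)⁻¹) = v ^ 2 := by
      rw [pow_two]
      calc v * α v * (v * (α v)⁻¹) = v * v * (α v * (α v)⁻¹) := by
            rw [mul_mul_mul_comm]
        _ = v * v := by rw [mul_inv_cancel, mul_one]
    rw [h1, ← pow_mul]
    have h2 : 2 * (k + 1) = Nat.card V + 1 := by omega
    rw [h2, pow_succ, pow_card_eq_one', one_mul]

theorem card_mul_of_compl [Finite V] (W1 W2 : Subgroup V) (hinf : W1 ⊓ W2 = ⊥)
    (hsup : W1 ⊔ W2 = ⊤) : Nat.card W1 * Nat.card W2 = Nat.card V := by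
  apply Subgroup.IsComplement'.card_mul_card
  apply Subgroup.isComplement'_of_disjoint_and_mul_eq_univ (disjoint_iff.mpr hinf)
  rw [← Subgroup.mul_normal, hsup, Subgroup.coe_top]

end act

section card3

/-- an injective endomorphism of a group of order three is trivial or the inversion -/
theorem end_card_three {W : Type*} [Group W] (h : Nat.card W = 3) (α : W →* W)
    (hα : Function.Injective α) : (∀ v, α v = v) ∨ (∀ v, α v = v⁻¹) := by
  have : Fact (Nat.Prime 3) := ⟨by norm_num⟩
  have hfin : Finite W := Nat.finite_of_card_ne_zero (by rw [h]; norm_num)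
  have hnt : Nontrivial W := (Finite.one_lt_card_iff_nontrivial).mp (by rw [h]; norm_num)
  obtain ⟨x, hx⟩ := exists_ne (1 : W)
  have htop : Subgroup.zpowers x = ⊤ := zpowers_eq_top_of_prime_card h hx
  have hx3 : x ^ 3 = 1 := by rw [← h]; exact pow_card_eq_one'
  have hord : orderOf x = 3 := orderOf_eq_prime hx3 hx
  have hxinv : x ^ 2 = x⁻¹ := by
    apply eq_inv_of_mul_eq_one_left
    rw [← pow_succ]; exact hx3
  have hmem : α x ∈ Subgroup.zpowers x := htop ▸ Subgroup.mem_top _
  obtain ⟨k, hk⟩ := Subgroup.mem_zpowers_iff.mp hmem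
  have hk' : x ^ (k % 3) = α x := by
    have := zpow_mod_orderOf x k
    rw [hord] at this
    rw [← hk, ← this]; rfl
  have h0 : 0 ≤ k % 3 := Int.emod_nonneg k (by norm_num)
  have h3 : k % 3 < 3 := Int.emod_lt_of_pos k (by norm_num)
  have hall : ∀ v : W, ∃ j : ℤ, x ^ j = v := fun v =>
    Subgroup.mem_zpowers_iff.mp (htop ▸ Subgroup.mem_top v)
  have hcases : k % 3 = 0 ∨ k % 3 = 1 ∨ k % 3 = 2 := by omega
  rcases hcases with hc | hc | hc
  · exfalso
    rw [hc, zpow_zero] at hk'
    apply hx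
    have : α x = α 1 := by rw [← hk', map_one]
    exact hα this
  · left
    rw [hc, zpow_one] at hk'
    intro v
    obtain ⟨j, rfl⟩ := hall v
    rw [map_zpow, ← hk']
  · right
    rw [hc] at hk'
    have hk2 : α x = x⁻¹ := by
      rw [← hk', ← hxinv]; exact zpow_ofNat x 2
    intro v
    obtain ⟨j, rfl⟩ := hall v
    rw [map_zpow, hk2, inv_zpow]

/-- an automorphism preserving a subgroup of order three acts on it as `±1` -/
theorem aut_card_three_sub {V : Type*} [Group V] (α : MulAut V) (W : Subgroup V)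
    (hW : ∀ w ∈ W, α w ∈ W) (h : Nat.card W = 3) :
    (∀ v ∈ W, α v = v) ∨ (∀ v ∈ W, α v = v⁻¹) := by
  let f : W →* W := MonoidHom.mk' (fun w : W => (⟨α w, hW w w.2⟩ : W))
    (fun a b => Subtype.ext (by simp))
  have hf : Function.Injective f := by
    intro a b hab
    have := congrArg Subtype.val hab
    exact Subtype.ext (α.injective this)
  rcases end_card_three h f hf with t | t
  · left
    intro v hv
    exact congrArg Subtype.val (t ⟨v, hv⟩)
  · right
    intro v hv
    exact congrArg Subtype.val (t ⟨v, hv⟩)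

end card3

end Cfsg.Agent.Helper1.FratBound
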