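import Mathlib
import Cfsg.Agent.Helper1.FratBound1
import Cfsg.Agent.Helper1.FratBound2
import Cfsg.Agent.Helper1.FratBound3

set_option autoImplicit false

/-! The main induction: a `2`-group acting faithfully on an abelian group of odd order `n` has at
most `max 2 ((n - 1) / 2)` homomorphisms to `±1`. -/

namespace Cfsg.Agent.Helper1.FratBound

universe u

/-- the bound for all faithful actions of `2`-groups on abelian groups of odd order `m` -/
def Bound (m : ℕ) : Prop :=
  ∀ (V : Type u) [CommGroup V] [Finite V], Nat.card V = m → Odd m →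
    ∀ (L : Type u) [Group L] [Finite L], IsPGroup 2 L → ∀ ι : L →* MulAut V,
      Function.Injective ι → Nat.card (L →* ℤˣ) ≤ phi m

section

variable {V : Type u} [CommGroup V] [Finite V] {L : Type u} [Group L] [Finite L]

/-- the product step -/
theorem step_two (hodd : Odd (Nat.card V)) (hL : IsPGroup 2 L)
    (ι : L →* MulAut V) (hι : Function.Injective ι) (W1 W2 : Subgroup V)
    (h1 : ∀ l : L, ∀ w ∈ W1, ι l w ∈ W1) (h2 : ∀ l : L, ∀ w ∈ W2, ι l w ∈ W2)
    (hsup : W1 ⊔ W2 = ⊤) (hB1 : Bound.{u} (Nat.card W1)) (hB2 : Bound.{u} (Nat.card W2)) :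
    Nat.card (L →* ℤˣ) ≤ phi (Nat.card W1) * phi (Nat.card W2) := by
  have ho1 : Odd (Nat.card W1) := hodd.of_dvd_nat (Subgroup.card_subgroup_dvd_card W1)
  have ho2 : Odd (Nat.card W2) := hodd.of_dvd_nat (Subgroup.card_subgroup_dvd_card W2)
  set f2 := resOf ι W2 h2 with hf2
  have hfin : Finite ↥f2.range := Finite.of_surjective f2.rangeRestrict f2.rangeRestrict_surjective
  have e1 : Nat.card (↥f2.range →* ℤˣ) ≤ phi (Nat.card W2) :=
    hB2 ↥W2 rfl ho2 ↥f2.range
      (IsPGroup.of_surjective hL f2.rangeRestrict f2.rangeRestrict_surjective)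
      f2.range.subtype f2.range.subtype_injective
  have e2 : Nat.card (↥f2.ker →* ℤˣ) ≤ phi (Nat.card W1) := by
    apply hB1 ↥W1 rfl ho1 ↥f2.ker (hL.to_subgroup _) ((resOf ι W1 h1).comp f2.ker.subtype)
    rw [injective_iff_map_eq_one]
    intro k hk
    have hk1 : (k : L) ∈ (resOf ι W1 h1).ker := by
      rw [MonoidHom.mem_ker]; exact hk
    have hk2 : (k : L) ∈ (resOf ι W2 h2).ker := k.2
    rw [mem_ker_resOf] at hk1 hk2
    have h3 : ι (k : L) = 1 :=
      eq_of_eqOn_sup _ _ W1 W2 hsup (fun w hw => by simpa using hk1 w hw)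
        (fun w hw => by simpa using hk2 w hw)
    have h4 : (k : L) = 1 := hι (by rw [h3, map_one])
    exact Subtype.ext h4
  calc Nat.card (L →* ℤˣ) ≤ Nat.card (↥f2.range →* ℤˣ) * Nat.card (↥f2.ker →* ℤˣ) :=
        card_hom_le_of_hom f2
    _ ≤ phi (Nat.card W2) * phi (Nat.card W1) := Nat.mul_le_mul e1 e2
    _ = phi (Nat.card W1) * phi (Nat.card W2) := mul_comm _ _

omit [Finite V] [Finite L] in
theorem fixS_invariant_of_commute (ι : L →* MulAut V) {l c : L} (h : l * c = c * l) {w : V}
    (hw : w ∈ fixS (ι c)) : ι l w ∈ fixS (ι c) := by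
  rw [mem_fixS] at hw ⊢
  calc ι c (ι l w) = (ι c * ι l) w := rfl
    _ = (ι l * ι c) w := by rw [← map_mul, ← map_mul, h]
    _ = ι l (ι c w) := rfl
    _ = ι l w := by rw [hw]

omit [Finite V] [Finite L] in
theorem invS_invariant_of_commute (ι : L →* MulAut V) {l c : L} (h : l * c = c * l) {w : V}
    (hw : w ∈ invS (ι c)) : ι l w ∈ invS (ι c) := by
  rw [mem_invS] at hw ⊢
  calc ι c (ι l w) = (ι c * ι l) w := rfl
    _ = (ι l * ι c) w := by rw [← map_mul, ← map_mul, h]
    _ = ι l (ι c w) := rfl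
    _ = (ι l w)⁻¹ := by rw [hw, map_inv]

omit [Finite V] [Finite L] in
theorem involution_apply (ι : L →* MulAut V) {c : L} (hc : c * c = 1) (v : V) :
    ι c (ι c v) = v := by
  calc ι c (ι c v) = (ι c * ι c) v := rfl
    _ = v := by rw [← map_mul, hc, map_one]; rfl

omit [Finite L] in
theorem card_ge_three_of_ne_bot (hodd : Odd (Nat.card V)) (W : Subgroup V) (hW : W ≠ ⊥) :
    3 ≤ Nat.card W := by
  have ho : Odd (Nat.card W) := hodd.of_dvd_nat (Subgroup.card_subgroup_dvd_card W)
  have h1 : 1 < Nat.card W := (Subgroup.one_lt_card_iff_ne_bot W).mpr hW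
  obtain ⟨k, hk⟩ := ho
  omega

/-- the imprimitive step -/
theorem step_klein (hodd : Odd (Nat.card V)) (hL : IsPGroup 2 L)
    (ι : L →* MulAut V) (hι : Function.Injective ι)
    (hA : ∀ W1 W2 : Subgroup V, (∀ l : L, ∀ w ∈ W1, ι l w ∈ W1) →
      (∀ l : L, ∀ w ∈ W2, ι l w ∈ W2) → W1 ⊓ W2 = ⊥ → W1 ⊔ W2 = ⊤ → W1 = ⊥ ∨ W2 = ⊥)
    (z a : L) (hz1 : z ≠ 1) (hzz : z * z = 1) (hzc : ∀ h : L, h * z = z * h) (ha1 : a ≠ 1)
    (haz : a ≠ z) (haa : a * a = 1) (hconj : ∀ h : L, h * a * h⁻¹ = a ∨ h * a * h⁻¹ = a * z)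
    (IH : ∀ m < Nat.card V, Bound.{u} m) :
    Nat.card (L →* ℤˣ) ≤ phi (Nat.card V) := by
  -- `z` inverts `V`
  have hzinv : ∀ v, ι z v = v⁻¹ := by
    have hinv := hA (fixS (ι z)) (invS (ι z))
      (fun l w hw => fixS_invariant_of_commute ι (hzc l) hw)
      (fun l w hw => invS_invariant_of_commute ι (hzc l) hw)
      (fixS_inf_invS hodd _) (fixS_sup_invS hodd _ (involution_apply ι hzz))
    have hsup := fixS_sup_invS hodd (ι z) (involution_apply ι hzz)
    rcases hinv with h | h
    · rw [h, bot_sup_eq] at hsup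
      intro v
      exact mem_invS.mp (hsup ▸ Subgroup.mem_top v)
    · exfalso
      rw [h, sup_bot_eq] at hsup
      apply hz1
      apply hι
      rw [map_one]
      ext v
      exact mem_fixS.mp (hsup ▸ Subgroup.mem_top v)
  have hinf : fixS (ι a) ⊓ invS (ι a) = ⊥ := fixS_inf_invS hodd _
  have hsup : fixS (ι a) ⊔ invS (ι a) = ⊤ := fixS_sup_invS hodd _ (involution_apply ι haa)
  have hW1bot : fixS (ι a) ≠ ⊥ := by
    intro h
    rw [h, bot_sup_eq] at hsup
    apply haz
    apply hι
    ext v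
    rw [hzinv]
    exact mem_invS.mp (hsup ▸ Subgroup.mem_top v)
  have hW2bot : invS (ι a) ≠ ⊥ := by
    intro h
    rw [h, sup_bot_eq] at hsup
    apply ha1
    apply hι
    rw [map_one]
    ext v
    exact mem_fixS.mp (hsup ▸ Subgroup.mem_top v)
  -- the centralizer of `a`
  have hMmem : ∀ l, l ∈ Subgroup.centralizer ({a} : Set L) ↔ l * a = a * l := by
    intro l
    rw [Subgroup.mem_centralizer_iff]
    constructor
    · intro h; exact (h a rfl).symm
    · intro h y hy
      rw [Set.mem_singleton_iff] at hy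
      rw [hy]; exact h.symm
  obtain ⟨g, hg⟩ : ∃ g, g ∉ Subgroup.centralizer ({a} : Set L) := by
    by_contra hcon
    push Not at hcon
    rcases hA (fixS (ι a)) (invS (ι a))
      (fun l w hw => fixS_invariant_of_commute ι ((hMmem l).mp (hcon l)) hw)
      (fun l w hw => invS_invariant_of_commute ι ((hMmem l).mp (hcon l)) hw) hinf hsup with h | h
    · exact hW1bot h
    · exact hW2bot h
  have hnotM : ∀ h, h ∉ Subgroup.centralizer ({a} : Set L) → h * a * h⁻¹ = a * z := by
    intro h hh
    rcases hconj h with h1 | h1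
    · exfalso; apply hh; rw [hMmem]
      calc h * a = (h * a * h⁻¹) * h := by group
        _ = a * h := by rw [h1]
    · exact h1
  have hga := hnotM g hg
  have hidx : ∀ h, h ∈ Subgroup.centralizer ({a} : Set L) ∨
      g⁻¹ * h ∈ Subgroup.centralizer ({a} : Set L) := by
    intro h
    by_cases hh : h ∈ Subgroup.centralizer ({a} : Set L)
    · exact Or.inl hh
    · right
      rw [hMmem]
      have h1 := hnotM h hh
      have h2 : (g⁻¹ * h) * a * (g⁻¹ * h)⁻¹ = a := by
        calc (g⁻¹ * h) * a * (g⁻¹ * h)⁻¹ = g⁻¹ * (h * a * h⁻¹) * g := by group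
          _ = g⁻¹ * (g * a * g⁻¹) * g := by rw [h1, hga]
          _ = a := by group
      calc g⁻¹ * h * a = ((g⁻¹ * h) * a * (g⁻¹ * h)⁻¹) * (g⁻¹ * h) := by group
        _ = a * (g⁻¹ * h) := by rw [h2]
  have hag : a * g = g * a * z := by
    have h1 : g * a = a * z * g := by
      calc g * a = (g * a * g⁻¹) * g := by group
        _ = a * z * g := by rw [hga]
    rw [h1]
    calc a * g = a * g * (z * z) := by rw [hzz, mul_one]
      _ = a * (g * z) * z := by group
      _ = a * (z * g) * z := by rw [hzc g]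
      _ = a * z * g * z := by group
  have hιag : ∀ v, ι a (ι g v) = (ι g (ι a v))⁻¹ := by
    intro v
    calc ι a (ι g v) = (ι (a * g)) v := by rw [map_mul]; rfl
      _ = ι (g * a * z) v := by rw [hag]
      _ = ι g (ι a (ι z v)) := by rw [map_mul, map_mul]; rfl
      _ = (ι g (ι a v))⁻¹ := by rw [hzinv, map_inv, map_inv]
  have hg12 : ∀ v ∈ fixS (ι a), ι g v ∈ invS (ι a) := by
    intro v hv
    rw [mem_invS, hιag, mem_fixS.mp hv]
  have hg21 : ∀ v ∈ invS (ι a), ι g v ∈ fixS (ι a) := by
    intro v hv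
    rw [mem_fixS, hιag, mem_invS.mp hv, map_inv, inv_inv]
  have hc12 : Nat.card (fixS (ι a)) ≤ Nat.card (invS (ι a)) :=
    Nat.card_le_card_of_injective
      (fun v : fixS (ι a) => (⟨ι g v, hg12 v v.2⟩ : invS (ι a)))
      (by
        intro v v' h
        have := congrArg Subtype.val h
        exact Subtype.ext ((ι g).injective this))
  have hc21 : Nat.card (invS (ι a)) ≤ Nat.card (fixS (ι a)) :=
    Nat.card_le_card_of_injective
      (fun v : invS (ι a) => (⟨ι g v, hg21 v v.2⟩ : fixS (ι a)))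
      (by
        intro v v' h
        have := congrArg Subtype.val h
        exact Subtype.ext ((ι g).injective this))
  have hw2 : Nat.card (invS (ι a)) = Nat.card (fixS (ι a)) := le_antisymm hc21 hc12
  have hmul := card_mul_of_compl _ _ hinf hsup
  rw [hw2] at hmul
  have hw3 := card_ge_three_of_ne_bot hodd _ hW1bot
  have hwodd : Odd (Nat.card (fixS (ι a))) :=
    hodd.of_dvd_nat (Subgroup.card_subgroup_dvd_card _)
  -- invariance under the centralizer
  have hM1 : ∀ l : ↥(Subgroup.centralizer ({a} : Set L)), ∀ w ∈ fixS (ι a),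
      (ι.comp (Subgroup.centralizer ({a} : Set L)).subtype) l w ∈ fixS (ι a) :=
    fun l w hw => fixS_invariant_of_commute ι ((hMmem l).mp l.2) hw
  have hM2 : ∀ l : ↥(Subgroup.centralizer ({a} : Set L)), ∀ w ∈ invS (ι a),
      (ι.comp (Subgroup.centralizer ({a} : Set L)).subtype) l w ∈ invS (ι a) :=
    fun l w hw => invS_invariant_of_commute ι ((hMmem l).mp l.2) hw
  have hιM : Function.Injective (ι.comp (Subgroup.centralizer ({a} : Set L)).subtype) := by
    rw [MonoidHom.coe_comp]
    exact hι.comp (Subgroup.subtype_injective _)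
  by_cases h5 : 5 ≤ Nat.card (fixS (ι a))
  · have hlt : Nat.card (fixS (ι a)) < Nat.card V := by nlinarith
    have eM := step_two hodd (hL.to_subgroup (Subgroup.centralizer ({a} : Set L)))
      (ι.comp (Subgroup.centralizer ({a} : Set L)).subtype) hιM (fixS (ι a)) (invS (ι a))
      hM1 hM2 hsup (IH _ hlt) (hw2 ▸ IH _ hlt)
    rw [hw2] at eM
    calc Nat.card (L →* ℤˣ)
        ≤ Nat.card (resHom (Subgroup.centralizer ({a} : Set L))).ker *
          Nat.card (↥(Subgroup.centralizer ({a} : Set L)) →* ℤˣ) := card_hom_le_mul _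
      _ ≤ 2 * (phi (Nat.card (fixS (ι a))) * phi (Nat.card (fixS (ι a)))) :=
          Nat.mul_le_mul (card_ker_resHom_le_two _ g hidx) eM
      _ ≤ phi (Nat.card (fixS (ι a)) * Nat.card (fixS (ι a))) := two_mul_phi_sq h5 hwodd
      _ = phi (Nat.card V) := by rw [hmul]
  · have hw : Nat.card (fixS (ι a)) = 3 := by
      obtain ⟨k, hk⟩ := hwodd
      omega
    have hV9 : Nat.card V = 9 := by rw [← hmul, hw]
    have hphi : phi (Nat.card V) = 4 := by rw [hV9]; decide
    rw [hphi]
    apply card_hom_le_four a g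
    rw [eq_top_iff]
    have haC : a ∈ Subgroup.closure ({a, g} : Set L) := Subgroup.subset_closure (by simp)
    have hgC : g ∈ Subgroup.closure ({a, g} : Set L) := Subgroup.subset_closure (by simp)
    have hzC : z ∈ Subgroup.closure ({a, g} : Set L) := by
      have : z = a⁻¹ * (g * a * g⁻¹) := by rw [hga]; group
      rw [this]
      exact Subgroup.mul_mem _ (Subgroup.inv_mem _ haC)
        (Subgroup.mul_mem _ (Subgroup.mul_mem _ hgC haC) (Subgroup.inv_mem _ hgC))
    have hMC : ∀ m ∈ Subgroup.centralizer ({a} : Set L), m ∈ Subgroup.closure ({a, g} : Set L) := by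
      intro m hm
      have hc : m * a = a * m := (hMmem m).mp hm
      have t1 := aut_card_three_sub (ι m) (fixS (ι a))
        (fun w hw => fixS_invariant_of_commute ι hc hw) hw
      have t2 := aut_card_three_sub (ι m) (invS (ι a))
        (fun w hw => invS_invariant_of_commute ι hc hw) (hw2.trans hw)
      rcases t1 with t1 | t1 <;> rcases t2 with t2 | t2
      · have : ι m = ι 1 := by
          apply eq_of_eqOn_sup _ _ _ _ hsup
          · intro w hw; rw [t1 w hw, map_one]; rfl
          · intro w hw; rw [t2 w hw, map_one]; rfl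
        rw [hι this]; exact Subgroup.one_mem _
      · have : ι m = ι a := by
          apply eq_of_eqOn_sup _ _ _ _ hsup
          · intro w hw; rw [t1 w hw, mem_fixS.mp hw]
          · intro w hw; rw [t2 w hw, mem_invS.mp hw]
        rw [hι this]; exact haC
      · have : ι m = ι (a * z) := by
          apply eq_of_eqOn_sup _ _ _ _ hsup
          · intro w hw
            rw [t1 w hw, map_mul]
            show w⁻¹ = ι a (ι z w)
            rw [hzinv, map_inv, mem_fixS.mp hw]
          · intro w hw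
            rw [t2 w hw, map_mul]
            show w = ι a (ι z w)
            rw [hzinv, map_inv, mem_invS.mp hw, inv_inv]
        rw [hι this]; exact Subgroup.mul_mem _ haC hzC
      · have : ι m = ι z := by
          apply eq_of_eqOn_sup _ _ _ _ hsup
          · intro w hw; rw [t1 w hw, hzinv]
          · intro w hw; rw [t2 w hw, hzinv]
        rw [hι this]; exact hzC
    intro h _
    rcases hidx h with hh | hh
    · exact hMC h hh
    · have : h = g * (g⁻¹ * h) := by group
      rw [this]
      exact Subgroup.mul_mem _ hgC (hMC _ hh)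

end

/-- the main bound -/
theorem bound_all (n : ℕ) : Bound.{u} n := by
  induction n using Nat.strong_induction_on with
  | _ n IH =>
  intro V _ _ hcard hodd L _ _ hL ι hι
  have hoddV : Odd (Nat.card V) := hcard ▸ hodd
  by_cases hA : ∃ W1 W2 : Subgroup V, (∀ l : L, ∀ w ∈ W1, ι l w ∈ W1) ∧
      (∀ l : L, ∀ w ∈ W2, ι l w ∈ W2) ∧ W1 ⊓ W2 = ⊥ ∧ W1 ⊔ W2 = ⊤ ∧ W1 ≠ ⊥ ∧ W2 ≠ ⊥
  · -- the decomposable case
    obtain ⟨W1, W2, h1, h2, hinf, hsup, hW1, hW2⟩ := hA
    have hmul := card_mul_of_compl W1 W2 hinf hsup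
    have hc1 := card_ge_three_of_ne_bot hoddV W1 hW1
    have hc2 := card_ge_three_of_ne_bot hoddV W2 hW2
    have ho1 : Odd (Nat.card W1) := hoddV.of_dvd_nat (Subgroup.card_subgroup_dvd_card W1)
    have ho2 : Odd (Nat.card W2) := hoddV.of_dvd_nat (Subgroup.card_subgroup_dvd_card W2)
    have hlt1 : Nat.card W1 < n := by rw [← hcard, ← hmul]; nlinarith
    have hlt2 : Nat.card W2 < n := by rw [← hcard, ← hmul]; nlinarith
    calc Nat.card (L →* ℤˣ) ≤ phi (Nat.card W1) * phi (Nat.card W2) :=
          step_two hoddV hL ι hι W1 W2 h1 h2 hsup (IH _ hlt1) (IH _ hlt2)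
      _ ≤ phi (Nat.card W1 * Nat.card W2) := phi_mul hc1 hc2 ho1 ho2
      _ = phi n := by rw [hmul, hcard]
  · have hA' : ∀ W1 W2 : Subgroup V, (∀ l : L, ∀ w ∈ W1, ι l w ∈ W1) →
        (∀ l : L, ∀ w ∈ W2, ι l w ∈ W2) → W1 ⊓ W2 = ⊥ → W1 ⊔ W2 = ⊤ → W1 = ⊥ ∨ W2 = ⊥ := by
      intro W1 W2 h1 h2 hinf hsup
      by_contra hcon
      push Not at hcon
      exact hA ⟨W1, W2, h1, h2, hinf, hsup, hcon.1, hcon.2⟩
    by_cases hB : ∀ A : Subgroup L, A.Normal → IsMulCommutative A → IsCyclic A
    · have h4 := card_hom_le_four_of_normal_abelian_cyclic hL hB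
      by_cases h9 : 9 ≤ n
      · exact h4.trans (four_le_phi h9)
      · -- `V` is cyclic, hence `L` is commutative, hence cyclic
        have hn : n = 1 ∨ n = 3 ∨ n = 5 ∨ n = 7 := by
          obtain ⟨k, rfl⟩ := hodd
          omega
        have hVc : IsCyclic V := by
          rcases hn with rfl | rfl | rfl | rfl
          · have : Subsingleton V := (Finite.card_le_one_iff_subsingleton).mp hcard.le
            exact isCyclic_of_subsingleton
          · have : Fact (Nat.Prime 3) := ⟨by norm_num⟩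
            exact isCyclic_of_prime_card hcard
          · have : Fact (Nat.Prime 5) := ⟨by norm_num⟩
            exact isCyclic_of_prime_card hcard
          · have : Fact (Nat.Prime 7) := ⟨by norm_num⟩
            exact isCyclic_of_prime_card hcard
        have hcomm : ∀ α β : MulAut V, α * β = β * α := by
          intro α β
          apply (IsCyclic.mulAutMulEquiv V).injective
          rw [map_mul, map_mul, mul_comm]
        have hLcomm : ∀ l1 l2 : L, l1 * l2 = l2 * l1 := by
          intro l1 l2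
          apply hι
          rw [map_mul, map_mul, hcomm]
        have htopc : IsMulCommutative ↥(⊤ : Subgroup L) :=
          ⟨⟨fun x y => Subtype.ext (hLcomm x y)⟩⟩
        have hcyc : IsCyclic ↥(⊤ : Subgroup L) := hB ⊤ inferInstance htopc
        have hLc : IsCyclic L :=
          isCyclic_of_surjective Subgroup.topEquiv Subgroup.topEquiv.surjective
        exact (card_hom_le_two_of_isCyclic hLc).trans (two_le_phi n)
    · push Not at hB
      obtain ⟨A, hAn, hAc, hAnc⟩ := hB
      obtain ⟨z, a, hz1, hzz, hzc, ha1, haz, haa, hconj⟩ := exists_klein_data hL A hAn hAc hAnc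
      have := step_klein hoddV hL ι hι hA' z a hz1 hzz hzc ha1 haz haa hconj
        (fun m hm => IH m (hcard ▸ hm))
      rwa [hcard] at this

end Cfsg.Agent.Helper1.FratBound
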