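import Mathlib
import Cfsg.Agent.Helper1.PGroup
import Cfsg.Agent.Helper1.FratBound4

set_option autoImplicit false

/-! The Frattini quotient of a `2`-group is dual to its `±1`-valued homomorphisms; the bound for
faithful actions. -/

namespace Cfsg.Agent.Helper1.FratBound

universe u

theorem frattini_index_le_card_hom {P : Type*} [Group P] [Finite P] (hP : IsPGroup 2 P) :
    (frattini P).index ≤ Nat.card (P →* ℤˣ) := by
  have hsq : ∀ q : P ⧸ frattini P, q * q = 1 := by
    intro q
    obtain ⟨x, rfl⟩ := QuotientGroup.mk_surjective q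
    rw [← QuotientGroup.mk_mul, QuotientGroup.eq_one_iff, ← pow_two]
    exact Cfsg.Agent.Helper1.IsPGroup.pow_mem_frattini hP x
  let _ : CommGroup (P ⧸ frattini P) :=
    { (inferInstance : Group (P ⧸ frattini P)) with
      mul_comm := fun a b => by
        have h1 := hsq (a * b)
        have ha : a⁻¹ = a := inv_eq_of_mul_eq_one_right (hsq a)
        have hb : b⁻¹ = b := inv_eq_of_mul_eq_one_right (hsq b)
        calc a * b = (a * b)⁻¹ := (inv_eq_of_mul_eq_one_right h1).symm
          _ = b⁻¹ * a⁻¹ := mul_inv_rev a b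
          _ = b * a := by rw [ha, hb] }
  have hexp : Monoid.exponent (P ⧸ frattini P) ∣ 2 :=
    Monoid.exponent_dvd_of_forall_pow_eq_one (fun q => by rw [pow_two]; exact hsq q)
  have h2 : HasEnoughRootsOfUnity ℤ 2 :=
    ⟨⟨-1, IsPrimitiveRoot.neg_one 0 (by norm_num)⟩, inferInstance⟩
  have h3 : HasEnoughRootsOfUnity ℤ (Monoid.exponent (P ⧸ frattini P)) :=
    HasEnoughRootsOfUnity.of_dvd ℤ hexp
  have hcard := CommGroup.card_monoidHom_of_hasEnoughRootsOfUnity (P ⧸ frattini P) ℤ
  rw [Subgroup.index_eq_card, ← hcard]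
  apply Nat.card_le_card_of_injective
    (fun l : (P ⧸ frattini P) →* ℤˣ => l.comp (QuotientGroup.mk' (frattini P)))
  intro l l' h
  ext q
  exact congrArg Units.val (DFunLike.congr_fun h q)

/-- a `2`-group acting faithfully on an abelian group `V ≠ 1` of odd order has Frattini quotient of
order at most `|V| - 1` -/
theorem frattini_index_le_of_faithful {P V : Type u} [Group P] [Finite P] [CommGroup V] [Finite V]
    (hP : IsPGroup 2 P) (hodd : Odd (Nat.card V)) (hV : 3 ≤ Nat.card V) (ι : P →* MulAut V)
    (hι : Function.Injective ι) : (frattini P).index ≤ Nat.card V - 1 :=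
  calc (frattini P).index ≤ Nat.card (P →* ℤˣ) := frattini_index_le_card_hom hP
    _ ≤ phi (Nat.card V) := bound_all (Nat.card V) V rfl hodd P hP ι hι
    _ ≤ Nat.card V - 1 := phi_le_pred hV

end Cfsg.Agent.Helper1.FratBound
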