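import Mathlib
import Cfsg.Agent.Helper29.S3fDefs

/-!
# S4305, case (b): abstract core, part 1 (basic set-up)

`S` an elementary abelian `s`-group (a type), `P` an abelian `q`-group (a type) acting
faithfully on `S` through `ι`, `A0 = S₃` acting on both through `α`, `β`, compatibly.
-/

set_option autoImplicit false

namespace Cfsg.Agent.Helper1.S3fCaseB

open Cfsg.Agent.Helper29.S3f

/-- a reflection (transposition) of `A0` -/
def IsRefl (r : A0) : Prop := r * r = 1 ∧ r ≠ 1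

instance : DecidablePred IsRefl := fun r => by unfold IsRefl; infer_instance

theorem A0_ne_one_cases : ∀ a : A0, a ≠ 1 → a = f0 ∨ a = f0⁻¹ ∨ IsRefl a := by decide

theorem refl_conj_f0 : ∀ r : A0, IsRefl r → r * f0 * r⁻¹ = f0⁻¹ := by decide

theorem refl_mul_f0 : ∀ r : A0, IsRefl r → r * f0 = f0⁻¹ * r := by decide

theorem refl_mul_f0_inv : ∀ r : A0, IsRefl r → r * f0⁻¹ = f0 * r := by decide

theorem refl_inv : ∀ r : A0, IsRefl r → r⁻¹ = r := by decide

theorem refl_words : ∀ r : A0, IsRefl r → ∀ a : A0,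
    a = 1 ∨ a = f0 ∨ a = f0 * f0 ∨ a = r ∨ a = f0 * r ∨ a = f0 * f0 * r := by decide

theorem conj_f0_cases : ∀ a : A0, a⁻¹ * f0 * a = f0 ∨ a⁻¹ * f0 * a = f0⁻¹ := by decide

theorem f0_mul_conj_cases : ∀ a : A0, f0 * a = a * f0 ∨ f0 * a = a * f0⁻¹ := by decide

theorem refl_decomp : ∀ r : A0, IsRefl r → r * (f0 * r * f0⁻¹) = f0 := by decide

theorem refl_decomp' : ∀ r : A0, IsRefl r → r * (f0⁻¹ * r * f0) = f0⁻¹ := by decide

theorem refl_ne_f0 : ∀ r : A0, IsRefl r → f0 ≠ r ∧ f0 ≠ r⁻¹ := by decide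

theorem isRefl_t0 : IsRefl t0 := by decide
theorem isRefl_f0t0 : IsRefl (f0 * t0) := by decide
theorem isRefl_f0f0t0 : IsRefl (f0 * f0 * t0) := by decide

theorem refl_list : ∀ r : A0, IsRefl r → r = t0 ∨ r = f0 * t0 ∨ r = f0 * f0 * t0 := by decide

set_option synthInstance.maxSize 2000 in
set_option synthInstance.maxHeartbeats 200000 in
set_option maxRecDepth 100000 in
theorem gen_words : ∀ a b : A0, a ≠ 1 → b ≠ 1 → a ≠ b → a ≠ b⁻¹ → ∀ c : A0,
    c = 1 ∨ c = a ∨ c = b ∨ c = a * a ∨ c = b * b ∨ c = a * b ∨ c = b * a ∨ c = a * b * a ∨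
      c = a * a * b ∨ c = b * b * a := by decide

end Cfsg.Agent.Helper1.S3fCaseB
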