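import Mathlib
import Cfsg.Agent.Helper1.S3fCaseB1

/-!
# S4305, case (b): abstract core, part 2 (configuration, norms, stabilizers)
-/

set_option autoImplicit false

namespace Cfsg.Agent.Helper1.S3fCaseB

open Cfsg.Agent.Helper29.S3f

/-- coprime exponents kill an element -/
theorem eq_one_of_pow_coprime {G : Type*} [Monoid G] (y : G) {m n : ℕ} (h : m.Coprime n)
    (hm : y ^ m = 1) (hn : y ^ n = 1) : y = 1 := by
  have h1 : orderOf y ∣ m := orderOf_dvd_of_pow_eq_one hm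
  have h2 : orderOf y ∣ n := orderOf_dvd_of_pow_eq_one hn
  have h3 : orderOf y = 1 := Nat.Coprime.eq_one_of_dvd (Nat.Coprime.coprime_dvd_left h1 h) h2
  exact orderOf_eq_one_iff.mp h3

/-- fixed points of an automorphism, as a subgroup -/
def fixSub {X : Type*} [Group X] (e : MulAut X) : Subgroup X where
  carrier := {x | e x = x}
  mul_mem' := by
    intro a b ha hb
    simp only [Set.mem_ofPred_eq] at *
    rw [map_mul, ha, hb]
  one_mem' := map_one e
  inv_mem' := by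
    intro a ha
    simp only [Set.mem_ofPred_eq] at *
    rw [map_inv, ha]

theorem mem_fixSub {X : Type*} [Group X] (e : MulAut X) (x : X) : x ∈ fixSub e ↔ e x = x :=
  Iff.rfl

section gens

variable {X : Type*} [Mul X] (γ : A0 →* MulAut X)

theorem act_mul (a b : A0) (y : X) : γ (a * b) y = γ a (γ b y) := by
  rw [map_mul, MulAut.mul_apply]

theorem act_one (y : X) : γ 1 y = y := by
  rw [map_one, MulAut.one_apply]

theorem act_inv_act (a : A0) (y : X) : γ a⁻¹ (γ a y) = y := by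
  rw [← act_mul, inv_mul_cancel, act_one]

theorem act_act_inv (a : A0) (y : X) : γ a (γ a⁻¹ y) = y := by
  rw [← act_mul, mul_inv_cancel, act_one]

theorem act_inv_fixed (a : A0) (y : X) (h : γ a y = y) : γ a⁻¹ y = y := by
  have := act_inv_act γ a y
  rw [h] at this
  exact this

/-- a point fixed by `f0` and a reflection is fixed by everything -/
theorem fixed_of_gens (r : A0) (hr : IsRefl r) (y : X) (hf : γ f0 y = y) (ht : γ r y = y) :
    ∀ a : A0, γ a y = y := by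
  intro a
  rcases refl_words r hr a with rfl | rfl | rfl | rfl | rfl | rfl
  · exact act_one γ y
  · exact hf
  · rw [act_mul, hf, hf]
  · exact ht
  · rw [act_mul, ht, hf]
  · rw [act_mul, act_mul, ht, hf, hf]

end gens

/-- The abstract configuration of case (b). -/
structure Cfg (S P T : Type*) [CommGroup S] [CommGroup P] [CommGroup T] (s q : ℕ) where
  α : A0 →* MulAut S
  β : A0 →* MulAut P
  ι : P →* MulAut S
  compat : ∀ (a : A0) (x : P) (u : S), α a (ι x u) = ι (β a x) (α a u)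
  faith : ∀ x : P, (∀ u : S, ι x u = u) → x = 1
  sprime : s.Prime
  qprime : q.Prime
  hq : 5 ≤ q
  hs2 : s ≠ 2
  hsq : s ≠ q
  hSexp : ∀ u : S, u ^ s = 1
  hSne : ∃ u : S, u ≠ 1
  hP : IsPGroup q P
  hCSP : ∀ u : S, (∀ x : P, ι x u = u) → u = 1
  hSirr : ∀ S1 : Subgroup S, (∀ x : P, ∀ u ∈ S1, ι x u ∈ S1) →
    (∀ a : A0, ∀ u ∈ S1, α a u ∈ S1) → S1 = ⊥ ∨ S1 = ⊤
  hPirr : ∀ P1 : Subgroup P, (∀ a : A0, ∀ x ∈ P1, β a x ∈ P1) → P1 = ⊥ ∨ P1 = ⊤
  hfpfS : ∀ u : S, (∀ a : A0, α a u = u) → u = 1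
  hfpfP : ∀ x : P, (∀ a : A0, β a x = x) → x = 1
  Λ : Set (S →* T)
  hΛne : Λ.Nonempty
  hΛ1 : ∀ χ ∈ Λ, χ ≠ 1
  hΛP : ∀ χ ∈ Λ, ∀ x : P, χ.comp (ι x : S ≃* S).toMonoidHom ∈ Λ
  hnorm : ∀ χ ∈ Λ, ∃ a : A0, a ≠ 1 ∧ ∀ u : S, χ (α a u) = χ u

namespace Cfg

variable {S P T : Type*} [CommGroup S] [CommGroup P] [CommGroup T] {s q : ℕ}
variable (c : Cfg S P T s q)
include c

theorem ι_mul (x y : P) (u : S) : c.ι (x * y) u = c.ι x (c.ι y u) := by
  rw [map_mul, MulAut.mul_apply]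

theorem ι_one (u : S) : c.ι 1 u = u := by
  rw [map_one, MulAut.one_apply]

theorem ι_inv_ι (x : P) (u : S) : c.ι x⁻¹ (c.ι x u) = u := by
  rw [← c.ι_mul, inv_mul_cancel, c.ι_one]

theorem ι_ι_inv (x : P) (u : S) : c.ι x (c.ι x⁻¹ u) = u := by
  rw [← c.ι_mul, mul_inv_cancel, c.ι_one]

theorem ι_comm (x y : P) (u : S) : c.ι x (c.ι y u) = c.ι y (c.ι x u) := by
  rw [← c.ι_mul, ← c.ι_mul, mul_comm]

/-- `P` is nontrivial. -/
theorem exists_ne_one : ∃ x : P, x ≠ 1 := by
  by_contra h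
  rw [not_exists] at h
  obtain ⟨u, hu⟩ := c.hSne
  apply hu
  apply c.hCSP
  intro x
  have : x = 1 := by
    by_contra hx
    exact h x hx
  rw [this, c.ι_one]

theorem coprime_q_two : Nat.Coprime 2 q := by
  have := c.hq
  rw [Nat.coprime_comm, Nat.Prime.coprime_iff_not_dvd c.qprime]
  intro h
  have := Nat.le_of_dvd (by norm_num) h
  omega

theorem pow_eq_one_P (x : P) {m : ℕ} (hm : m.Coprime q) (h : x ^ m = 1) : x = 1 := by
  obtain ⟨k, hk⟩ := c.hP x
  exact eq_one_of_pow_coprime x (Nat.Coprime.pow_right k hm) h hk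

theorem sq_eq_one_P (x : P) (h : x * x = 1) : x = 1 :=
  c.pow_eq_one_P x c.coprime_q_two (by rw [pow_two]; exact h)

theorem coprime_q_s : Nat.Coprime q s :=
  (Nat.coprime_primes c.qprime c.sprime).mpr (Ne.symm c.hsq)

variable [Finite P]

/-- cardinalities of subgroups of `P` are coprime to `s` -/
theorem card_coprime (L : Subgroup P) : (Nat.card L).Coprime s := by
  have : Fact q.Prime := ⟨c.qprime⟩
  obtain ⟨n, hn⟩ := IsPGroup.iff_card.mp (c.hP.to_subgroup L)
  rw [hn]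
  exact Nat.Coprime.pow_left n c.coprime_q_s

/-- a nontrivial subgroup of `P` has at least `5` elements -/
theorem five_le_card (L : Subgroup P) (hL : L ≠ ⊥) : 5 ≤ Nat.card L := by
  have : Fact q.Prime := ⟨c.qprime⟩
  rcases (c.hP.to_subgroup L).card_eq_or_dvd with h | h
  · exact absurd (Subgroup.card_eq_one.mp h) hL
  · have := Nat.le_of_dvd Nat.card_pos h
    have := c.hq
    omega

end Cfg

end Cfsg.Agent.Helper1.S3fCaseB
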