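import Mathlib
import Cfsg.Agent.Helper1.S3fCaseB2

/-!
# S4306, Step 3 (abstract core), part 1: facts about a non-abelian group of order `l * h`
and generalities on actions `γ : A →* MulAut X`.
-/

set_option autoImplicit false

namespace Cfsg.Agent.Helper1.FrobFpfB

open Cfsg.Agent.Helper1.S3fCaseB (eq_one_of_pow_coprime fixSub mem_fixSub)

section actions

variable {A : Type*} [Group A] {X : Type*} [Mul X] (γ : A →* MulAut X)

theorem gact_mul (a b : A) (y : X) : γ (a * b) y = γ a (γ b y) := by
  rw [map_mul, MulAut.mul_apply]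

theorem gact_one (y : X) : γ 1 y = y := by
  rw [map_one, MulAut.one_apply]

theorem gact_inv_act (a : A) (y : X) : γ a⁻¹ (γ a y) = y := by
  rw [← gact_mul, inv_mul_cancel, gact_one]

theorem gact_act_inv (a : A) (y : X) : γ a (γ a⁻¹ y) = y := by
  rw [← gact_mul, mul_inv_cancel, gact_one]

/-- the subgroup of `A` fixing a point -/
def fixer (y : X) : Subgroup A where
  carrier := {a | γ a y = y}
  mul_mem' := by
    intro a b ha hb
    simp only [Set.mem_ofPred_eq] at *
    rw [gact_mul, hb, ha]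
  one_mem' := gact_one γ y
  inv_mem' := by
    intro a ha
    simp only [Set.mem_ofPred_eq] at *
    have := gact_inv_act γ a y
    rwa [ha] at this

theorem mem_fixer (y : X) (a : A) : a ∈ fixer γ y ↔ γ a y = y := Iff.rfl

theorem fixed_of_mem_zpowers (y : X) (b c : A) (hb : γ b y = y) (hc : c ∈ Subgroup.zpowers b) :
    γ c y = y := by
  have : Subgroup.zpowers b ≤ fixer γ y := by
    rw [Subgroup.zpowers_le]
    exact hb
  exact this hc

end actions

section Afacts

variable {A : Type*} [Group A] [Finite A] (F : Subgroup A) [F.Normal] {l h : ℕ}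

theorem card_quot (hl : l.Prime) (hcardF : Nat.card F = l) (hcardA : Nat.card A = l * h) :
    Nat.card (A ⧸ F) = h := by
  have := Subgroup.card_eq_card_quotient_mul_card_subgroup F
  rw [hcardA, hcardF, Nat.mul_comm] at this
  exact (Nat.eq_of_mul_eq_mul_right hl.pos this).symm

theorem pow_h_mem (hl : l.Prime) (hcardF : Nat.card F = l) (hcardA : Nat.card A = l * h) (a : A) :
    a ^ h ∈ F := by
  rw [← QuotientGroup.eq_one_iff, QuotientGroup.mk_pow, ← card_quot F hl hcardF hcardA]
  exact pow_card_eq_one'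

theorem pow_h_eq_one (hl : l.Prime) (hcardF : Nat.card F = l) (hcardA : Nat.card A = l * h)
    (hnc : ∀ a : A, a ∉ F → ∀ f ∈ F, a * f = f * a → f = 1) (a : A) (ha : a ∉ F) : a ^ h = 1 :=
  hnc a ha (a ^ h) (pow_h_mem F hl hcardF hcardA a) (by rw [← pow_succ', ← pow_succ])

/-- a subgroup containing `F` and an element outside `F` is everything -/
theorem eq_top_of_le (hl : l.Prime) (hh : h.Prime) (hcardF : Nat.card F = l)
    (hcardA : Nat.card A = l * h) (B : Subgroup A) (hFB : F ≤ B) (a : A) (haB : a ∈ B)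
    (haF : a ∉ F) : B = ⊤ := by
  apply Subgroup.eq_top_of_card_eq
  have h1 : l ∣ Nat.card B := by rw [← hcardF]; exact Subgroup.card_dvd_of_le hFB
  have h2 : Nat.card B ∣ l * h := by rw [← hcardA]; exact Subgroup.card_subgroup_dvd_card B
  obtain ⟨d, hd⟩ := h1
  rw [hd] at h2
  have h3 : d ∣ h := Nat.dvd_of_mul_dvd_mul_left hl.pos h2
  rcases (Nat.dvd_prime hh).mp h3 with h4 | h4
  · exfalso
    apply haF
    have : F = B := by
      apply Subgroup.eq_of_le_of_card_ge hFB
      rw [hd, h4, mul_one, hcardF]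
    rw [this]; exact haB
  · rw [hd, h4, hcardA]

/-- a proper nontrivial subgroup has prime order -/
theorem card_prime_of_ne (hl : l.Prime) (hh : h.Prime) (hcardA : Nat.card A = l * h)
    (B : Subgroup A) (hB1 : B ≠ ⊥) (hB2 : B ≠ ⊤) : (Nat.card B).Prime := by
  have h2 : Nat.card B ∣ l * h := by rw [← hcardA]; exact Subgroup.card_subgroup_dvd_card B
  obtain ⟨k1, k2, hk1, hk2, hk⟩ := (Nat.dvd_mul).mp h2
  rcases (Nat.dvd_prime hl).mp hk1 with e1 | e1 <;> rcases (Nat.dvd_prime hh).mp hk2 with e2 | e2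
  · exfalso
    apply hB1
    rw [← Subgroup.card_eq_one, ← hk, e1, e2]
  · rw [← hk, e1, e2, one_mul]; exact hh
  · rw [← hk, e1, e2, mul_one]; exact hl
  · exfalso
    apply hB2
    apply Subgroup.eq_top_of_card_eq
    rw [← hk, e1, e2, hcardA]

/-- in a subgroup of prime order every element is a power of any nonidentity element -/
theorem mem_zpowers_of_prime_card {A : Type*} [Group A] (B : Subgroup A)
    (hB : (Nat.card B).Prime) (b : A) (hb : b ∈ B) (hb1 : b ≠ 1) (c : A) (hc : c ∈ B) :
    c ∈ Subgroup.zpowers b := by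
  haveI : Fact (Nat.card B).Prime := ⟨hB⟩
  have h1 : Subgroup.zpowers (⟨b, hb⟩ : B) = ⊤ := by
    apply zpowers_eq_top_of_prime_card rfl
    intro h
    apply hb1
    exact congrArg Subtype.val h
  have h2 : (⟨c, hc⟩ : B) ∈ Subgroup.zpowers (⟨b, hb⟩ : B) := by rw [h1]; trivial
  obtain ⟨k, hk⟩ := Subgroup.mem_zpowers_iff.mp h2
  rw [Subgroup.mem_zpowers_iff]
  refine ⟨k, ?_⟩
  have := congrArg Subtype.val hk
  rwa [Subgroup.coe_zpow] at this

theorem exists_notMem (hh : h.Prime) (hcardF : Nat.card F = l) (hcardA : Nat.card A = l * h)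
    (hl : l.Prime) : ∃ a : A, a ∉ F := by
  by_contra hcon
  rw [not_exists] at hcon
  have : F = ⊤ := by
    rw [eq_top_iff]
    intro a _
    exact not_not.mp (hcon a)
  have h1 : Nat.card F = Nat.card A := by rw [this, Subgroup.card_top]
  rw [hcardF, hcardA] at h1
  have h2 : h = 1 := by
    have := Nat.eq_of_mul_eq_mul_left hl.pos (by rw [mul_one]; exact h1 : l * 1 = l * h)
    exact this.symm
  exact hh.one_lt.ne' h2

end Afacts

end Cfsg.Agent.Helper1.FrobFpfB
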