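import Mathlib
import Cfsg.Agent.Helper1.FrobFpfB1

/-!
# S4306, Step 3 (abstract core), part 2: the configuration, norm maps, stabilizers.
-/

set_option autoImplicit false

namespace Cfsg.Agent.Helper1.FrobFpfB

open Cfsg.Agent.Helper1.S3fCaseB (eq_one_of_pow_coprime fixSub mem_fixSub)

/-- The abstract configuration of Step 3: `A` non-abelian of order `l * h` with normal subgroup
`F` of order `l`, acting on the abelian `s`-group `S` and on the abelian `q`-group `P`, which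
acts faithfully on `S`. -/
structure GCfg (A S P T : Type*) [Group A] [CommGroup S] [CommGroup P] [CommGroup T]
    (s q l h : ℕ) where
  α : A →* MulAut S
  β : A →* MulAut P
  ι : P →* MulAut S
  compat : ∀ (a : A) (x : P) (u : S), α a (ι x u) = ι (β a x) (α a u)
  faith : ∀ x : P, (∀ u : S, ι x u = u) → x = 1
  F : Subgroup A
  hFn : F.Normal
  sprime : s.Prime
  qprime : q.Prime
  lprime : l.Prime
  hprime : h.Prime
  hcardF : Nat.card F = l
  hcardA : Nat.card A = l * h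
  hnc : ∀ a : A, a ∉ F → ∀ f ∈ F, a * f = f * a → f = 1
  hsq : s ≠ q
  hsl : s ≠ l
  hsh : s ≠ h
  hql : q ≠ l
  hqh : q ≠ h
  hS : IsPGroup s S
  hSne : ∃ u : S, u ≠ 1
  hP : IsPGroup q P
  hCSP : ∀ u : S, (∀ x : P, ι x u = u) → u = 1
  hSirr : ∀ S1 : Subgroup S, (∀ x : P, ∀ u ∈ S1, ι x u ∈ S1) →
    (∀ a : A, ∀ u ∈ S1, α a u ∈ S1) → S1 = ⊥ ∨ S1 = ⊤
  hPirr : ∀ P1 : Subgroup P, (∀ a : A, ∀ x ∈ P1, β a x ∈ P1) → P1 = ⊥ ∨ P1 = ⊤
  hfpfS : ∀ u : S, (∀ a : A, α a u = u) → u = 1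
  hfpfP : ∀ x : P, (∀ a : A, β a x = x) → x = 1
  Λ : Set (S →* T)
  hΛne : Λ.Nonempty
  hΛ1 : ∀ χ ∈ Λ, χ ≠ 1
  hΛP : ∀ χ ∈ Λ, ∀ x : P, χ.comp (ι x : S ≃* S).toMonoidHom ∈ Λ
  hnorm : ∀ χ ∈ Λ, ∃ a : A, a ≠ 1 ∧ ∀ u : S, χ (α a u) = χ u

namespace GCfg

variable {A S P T : Type*} [Group A] [CommGroup S] [CommGroup P] [CommGroup T] {s q l h : ℕ}
variable (c : GCfg A S P T s q l h)
include c

theorem ι_mul (x y : P) (u : S) : c.ι (x * y) u = c.ι x (c.ι y u) := by
  rw [map_mul, MulAut.mul_apply]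

theorem ι_one (u : S) : c.ι 1 u = u := by
  rw [map_one, MulAut.one_apply]

theorem ι_inv_ι (x : P) (u : S) : c.ι x⁻¹ (c.ι x u) = u := by
  rw [← c.ι_mul, inv_mul_cancel, c.ι_one]

theorem ι_ι_inv (x : P) (u : S) : c.ι x (c.ι x⁻¹ u) = u := by
  rw [← c.ι_mul, mul_inv_cancel, c.ι_one]

theorem ι_comm (x y : P) (u : S) : c.ι x (c.ι y u) = c.ι y (c.ι x u) := by
  rw [← c.ι_mul, ← c.ι_mul, mul_comm]

theorem exists_ne_one : ∃ x : P, x ≠ 1 := by
  by_contra hcon
  rw [not_exists] at hcon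
  obtain ⟨u, hu⟩ := c.hSne
  apply hu
  apply c.hCSP
  intro x
  have : x = 1 := by
    by_contra hx
    exact hcon x hx
  rw [this, c.ι_one]

theorem pow_eq_one_P (x : P) {m : ℕ} (hm : m.Coprime q) (hx : x ^ m = 1) : x = 1 := by
  obtain ⟨k, hk⟩ := c.hP x
  exact eq_one_of_pow_coprime x (Nat.Coprime.pow_right k hm) hx hk

theorem eq_one_of_pow_S (u : S) {m : ℕ} (hm : m.Coprime s) (hu : u ^ m = 1) : u = 1 := by
  obtain ⟨k, hk⟩ := c.hS u
  exact eq_one_of_pow_coprime u (Nat.Coprime.pow_right k hm) hu hk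

theorem chi_eq_one_of_pow (χ : S →* T) (u : S) {m : ℕ} (hm : m.Coprime s) (hu : χ u ^ m = 1) :
    χ u = 1 := by
  obtain ⟨k, hk⟩ := c.hS u
  have : χ u ^ s ^ k = 1 := by rw [← map_pow, hk, map_one]
  exact eq_one_of_pow_coprime (χ u) (Nat.Coprime.pow_right k hm) hu this

theorem coprime_q_s : Nat.Coprime q s :=
  (Nat.coprime_primes c.qprime c.sprime).mpr (Ne.symm c.hsq)

theorem coprime_l_s : Nat.Coprime l s :=
  (Nat.coprime_primes c.lprime c.sprime).mpr (Ne.symm c.hsl)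

theorem coprime_h_s : Nat.Coprime h s :=
  (Nat.coprime_primes c.hprime c.sprime).mpr (Ne.symm c.hsh)

theorem coprime_l_q : Nat.Coprime l q :=
  (Nat.coprime_primes c.lprime c.qprime).mpr (Ne.symm c.hql)

theorem coprime_h_q : Nat.Coprime h q :=
  (Nat.coprime_primes c.hprime c.qprime).mpr (Ne.symm c.hqh)

theorem coprime_cardA_s : (Nat.card A).Coprime s := by
  rw [c.hcardA]
  exact Nat.Coprime.mul_left c.coprime_l_s c.coprime_h_s

theorem coprime_cardA_q : (Nat.card A).Coprime q := by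
  rw [c.hcardA]
  exact Nat.Coprime.mul_left c.coprime_l_q c.coprime_h_q

theorem card_coprime [Finite P] (L : Subgroup P) : (Nat.card L).Coprime s := by
  have : Fact q.Prime := ⟨c.qprime⟩
  obtain ⟨n, hn⟩ := IsPGroup.iff_card.mp (c.hP.to_subgroup L)
  rw [hn]
  exact Nat.Coprime.pow_left n c.coprime_q_s

theorem card_P_coprime [Finite P] : (Nat.card P).Coprime s := by
  have := c.card_coprime ⊤
  rwa [Subgroup.card_top] at this

/-- the norm map of a subgroup `L` of `P` on `S` -/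
noncomputable def nrm [Finite P] (L : Subgroup P) (u : S) : S :=
  @Finset.prod L S _ (@Finset.univ L (Fintype.ofFinite L)) (fun k => c.ι (k : P) u)

theorem nrm_eq [Finite P] (L : Subgroup P) [Fintype L] (u : S) :
    c.nrm L u = ∏ k : L, c.ι (k : P) u := by
  unfold nrm
  congr 1
  exact congrArg (fun i => @Finset.univ L i) (Subsingleton.elim _ _)

theorem nrm_mul [Finite P] (L : Subgroup P) (u v : S) :
    c.nrm L (u * v) = c.nrm L u * c.nrm L v := by
  let _ := Fintype.ofFinite L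
  rw [c.nrm_eq, c.nrm_eq, c.nrm_eq, ← Finset.prod_mul_distrib]
  apply Finset.prod_congr rfl
  intro k _
  rw [map_mul]

theorem nrm_one [Finite P] (L : Subgroup P) : c.nrm L 1 = 1 := by
  let _ := Fintype.ofFinite L
  rw [c.nrm_eq]
  apply Finset.prod_eq_one
  intro k _
  exact map_one _

theorem nrm_fixed [Finite P] (L : Subgroup P) (u : S) (y : P) (hy : y ∈ L) :
    c.ι y (c.nrm L u) = c.nrm L u := by
  let _ := Fintype.ofFinite L
  rw [c.nrm_eq, map_prod]
  exact Fintype.prod_equiv (Equiv.mulLeft (⟨y, hy⟩ : L)) _ _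
    (fun k => by rw [Equiv.coe_mulLeft, Subgroup.coe_mul, c.ι_mul])

theorem nrm_of_fixed [Finite P] (L : Subgroup P) (u : S) (hu : ∀ k ∈ L, c.ι k u = u) :
    c.nrm L u = u ^ Nat.card L := by
  let _ := Fintype.ofFinite L
  rw [c.nrm_eq, Finset.prod_congr rfl (fun (k : L) _ => hu (k : P) k.2), Finset.prod_const,
    Finset.card_univ, Nat.card_eq_fintype_card]

theorem chi_nrm [Finite P] (L : Subgroup P) (χ : S →* T)
    (hL : ∀ k ∈ L, ∀ v : S, χ (c.ι k v) = χ v) (u : S) : χ (c.nrm L u) = χ u ^ Nat.card L := by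
  let _ := Fintype.ofFinite L
  rw [c.nrm_eq, map_prod, Finset.prod_congr rfl (fun (k : L) _ => hL (k : P) k.2 u),
    Finset.prod_const, Finset.card_univ, Nat.card_eq_fintype_card]

theorem nrm_mem [Finite P] (L : Subgroup P) (W : Subgroup S)
    (hW : ∀ k ∈ L, ∀ w ∈ W, c.ι k w ∈ W) (u : S) (hu : u ∈ W) : c.nrm L u ∈ W := by
  let _ := Fintype.ofFinite L
  rw [c.nrm_eq]
  exact Subgroup.prod_mem W (fun (k : L) _ => hW (k : P) k.2 u hu)

/-- the norm of all of `P` is trivial -/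
theorem nrm_top [Finite P] (u : S) : c.nrm ⊤ u = 1 := by
  apply c.hCSP
  intro x
  exact c.nrm_fixed ⊤ u x trivial

/-- the stabilizer in `P` of a character -/
def stabP (χ : S →* T) : Subgroup P where
  carrier := {x | ∀ u : S, χ (c.ι x u) = χ u}
  mul_mem' := by
    intro a b ha hb u
    rw [c.ι_mul, ha, hb]
  one_mem' := by
    intro u
    rw [c.ι_one]
  inv_mem' := by
    intro a ha u
    have := ha (c.ι a⁻¹ u)
    rw [c.ι_ι_inv] at this
    exact this.symm

theorem mem_stabP (χ : S →* T) (x : P) : x ∈ c.stabP χ ↔ ∀ u : S, χ (c.ι x u) = χ u := Iff.rfl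

theorem stabP_ne_top [Finite P] (χ : S →* T) (hχ : χ ≠ 1) : c.stabP χ ≠ ⊤ := by
  intro htop
  apply hχ
  ext u
  have hall : ∀ k ∈ (⊤ : Subgroup P), ∀ v : S, χ (c.ι k v) = χ v := by
    intro k _ v
    have : k ∈ c.stabP χ := by rw [htop]; trivial
    exact this v
  have h2 := c.chi_nrm ⊤ χ hall u
  rw [c.nrm_top, map_one] at h2
  have := c.chi_eq_one_of_pow χ u (c.card_coprime ⊤) h2.symm
  rw [this]
  rfl

/-- a character invariant under all of `A` is trivial -/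
theorem chi_eq_one_of_invariant [Finite A] (χ : S →* T) (hχ : ∀ (a : A) (u : S), χ (c.α a u) = χ u) :
    χ = 1 := by
  let _ := Fintype.ofFinite A
  ext u
  have h1 : (∏ a : A, c.α a u) = 1 := by
    apply c.hfpfS
    intro b
    rw [map_prod]
    exact Fintype.prod_equiv (Equiv.mulLeft b) _ _
      (fun a => by rw [Equiv.coe_mulLeft, gact_mul])
  have h2 : χ (∏ a : A, c.α a u) = χ u ^ Nat.card A := by
    rw [map_prod, Finset.prod_congr rfl (fun a _ => hχ a u), Finset.prod_const, Finset.card_univ,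
      Nat.card_eq_fintype_card]
  rw [h1, map_one] at h2
  have := c.chi_eq_one_of_pow χ u c.coprime_cardA_s h2.symm
  rw [this]
  rfl

/-- the translate of a character by an element of `P` -/
def tr (χ : S →* T) (x : P) : S →* T := χ.comp (c.ι x : S ≃* S).toMonoidHom

theorem tr_apply (χ : S →* T) (x : P) (u : S) : c.tr χ x u = χ (c.ι x u) := rfl

theorem tr_mem (χ : S →* T) (hχ : χ ∈ c.Λ) (x : P) : c.tr χ x ∈ c.Λ := c.hΛP χ hχ x

theorem stabP_tr (χ : S →* T) (x : P) : c.stabP (c.tr χ x) = c.stabP χ := by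
  ext k
  rw [mem_stabP, mem_stabP]
  constructor
  · intro hk u
    have := hk (c.ι x⁻¹ u)
    rw [tr_apply, tr_apply, c.ι_comm, c.ι_ι_inv] at this
    exact this
  · intro hk u
    rw [tr_apply, tr_apply, c.ι_comm, hk]

/-- `x ∈ X_a`: the translate `χ ∘ x` is `a`-invariant -/
def inX (χ : S →* T) (a : A) (x : P) : Prop := ∀ v : S, χ (c.ι x (c.α a v)) = χ (c.ι x v)

/-- the stabilizer in `A` of the translate `χ ∘ x`, as a subgroup -/
def stabA (χ : S →* T) (x : P) : Subgroup A where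
  carrier := {a | c.inX χ a x}
  mul_mem' := by
    intro a b ha hb v
    rw [gact_mul, ha, hb]
  one_mem' := by
    intro v
    rw [gact_one]
  inv_mem' := by
    intro a ha v
    have := ha (c.α a⁻¹ v)
    rw [gact_act_inv] at this
    exact this.symm

theorem mem_stabA (χ : S →* T) (x : P) (a : A) : a ∈ c.stabA χ x ↔ c.inX χ a x := Iff.rfl

theorem exists_mem_stabA (χ : S →* T) (hχ : χ ∈ c.Λ) (x : P) : ∃ a : A, a ≠ 1 ∧ c.inX χ a x := by
  obtain ⟨a, ha1, ha⟩ := c.hnorm _ (c.tr_mem χ hχ x)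
  exact ⟨a, ha1, fun v => ha v⟩

/-- the commutator map `x ↦ a(x)/x` on `P` -/
def D (a : A) : P →* P := (c.β a : P ≃* P).toMonoidHom / MonoidHom.id P

theorem D_apply (a : A) (x : P) : c.D a x = c.β a x / x := rfl

theorem D_mul (a b : A) (x : P) : c.D (a * b) x = c.D a (c.β b x) * c.D b x := by
  rw [D_apply, D_apply, D_apply, gact_mul, div_mul_div_cancel]

theorem D_mul' (a b : A) (x : P) : c.D (a * b) x = c.β a (c.D b x) * c.D a x := by
  rw [D_apply, D_apply, D_apply, gact_mul, map_div, div_mul_div_cancel]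

theorem D_inv (a : A) (x : P) : c.D a⁻¹ x = (c.D a (c.β a⁻¹ x))⁻¹ := by
  rw [D_apply, D_apply, gact_act_inv, inv_div]

theorem D_surj [Finite P] (g : A) (hg : ∀ x : P, c.β g x = x → x = 1) :
    Function.Surjective (c.D g) := by
  apply Finite.injective_iff_surjective.mp
  rw [injective_iff_map_eq_one]
  intro x hx
  rw [D_apply, div_eq_one] at hx
  exact hg x hx

theorem D_mem_stabP (χ : S →* T) (a : A) (x y : P) (hx : c.inX χ a x) (hy : c.inX χ a y) :
    c.D a (x⁻¹ * y) ∈ c.stabP χ := by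
  rw [← c.stabP_tr χ x, mem_stabP]
  intro w
  set z := x⁻¹ * y with hz
  have h1 : ∀ v : S, χ (c.ι x (c.ι z (c.α a v))) = χ (c.ι x (c.ι z v)) := by
    intro v
    rw [← c.ι_mul, ← c.ι_mul, hz, mul_inv_cancel_left]
    exact hy v
  rw [tr_apply, tr_apply, D_apply, div_eq_mul_inv, c.ι_mul]
  set v := c.α a⁻¹ (c.ι z⁻¹ w) with hv
  have h2 : c.ι z⁻¹ w = c.α a v := by rw [hv, gact_act_inv]
  have h3 : c.ι (c.β a z) (c.ι z⁻¹ w) = c.α a (c.ι z v) := by
    rw [c.compat, ← h2]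
  rw [h3, hx, ← h1, ← h2, c.ι_ι_inv]

theorem normalizes_of_inX (χ : S →* T) (a : A) (x : P) (hx : c.inX χ a x) (k : P)
    (hk : k ∈ c.stabP χ) : c.β a k ∈ c.stabP χ := by
  rw [← c.stabP_tr χ x] at hk ⊢
  rw [mem_stabP] at hk ⊢
  intro w
  have hx' : c.inX χ a⁻¹ x := (c.stabA χ x).inv_mem hx
  rw [tr_apply, tr_apply]
  have h1 : c.ι (c.β a k) w = c.α a (c.ι k (c.α a⁻¹ w)) := by
    rw [c.compat, gact_act_inv]
  rw [h1, hx]
  have := hk (c.α a⁻¹ w)
  rw [tr_apply, tr_apply] at this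
  rw [this, hx']

end GCfg

end Cfsg.Agent.Helper1.FrobFpfB
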