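import Mathlib
import Cfsg.Agent.Helper1.FrobFpfB2

/-!
# S4306, Step 3 (abstract core), part 3: the stabilizer in `P ⋊ A`, its image in `A`,
and the cocycle argument.
-/

set_option autoImplicit false

namespace Cfsg.Agent.Helper1.FrobFpfB

open Cfsg.Agent.Helper1.S3fCaseB (eq_one_of_pow_coprime fixSub mem_fixSub)

/-- the stabilizer of `χ` in `MulAut S` -/
def stabM {S T : Type*} [CommGroup S] [CommGroup T] (χ : S →* T) : Subgroup (MulAut S) where
  carrier := {g | ∀ u : S, χ (g u) = χ u}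
  mul_mem' := by
    intro a b ha hb u
    rw [MulAut.mul_apply, ha, hb]
  one_mem' := by
    intro u
    rw [MulAut.one_apply]
  inv_mem' := by
    intro a ha u
    have := ha (a⁻¹ u)
    rw [MulAut.apply_inv_self] at this
    exact this.symm

theorem mem_stabM {S T : Type*} [CommGroup S] [CommGroup T] (χ : S →* T) (g : MulAut S) :
    g ∈ stabM χ ↔ ∀ u : S, χ (g u) = χ u := Iff.rfl

namespace GCfg

variable {A S P T : Type*} [Group A] [CommGroup S] [CommGroup P] [CommGroup T] {s q l h : ℕ}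
variable (c : GCfg A S P T s q l h)
include c

theorem ι_mem_stabM (χ : S →* T) (x : P) : c.ι x ∈ stabM χ ↔ x ∈ c.stabP χ := Iff.rfl

theorem compatM (a : A) (x : P) : c.α a * c.ι x = c.ι (c.β a x) * c.α a := by
  ext u
  rw [MulAut.mul_apply, MulAut.mul_apply, c.compat]

theorem compatM' (a : A) (x : P) : c.α a * c.ι x * (c.α a)⁻¹ = c.ι (c.β a x) := by
  rw [c.compatM, mul_inv_cancel_right]

/-- the image in `A` of the stabilizer of `χ` in `P ⋊ A` -/
def imA (χ : S →* T) : Subgroup A where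
  carrier := {a | ∃ y : P, c.ι y * c.α a ∈ stabM χ}
  mul_mem' := by
    rintro a b ⟨y, hy⟩ ⟨z, hz⟩
    refine ⟨y * c.β a z, ?_⟩
    have := (stabM χ).mul_mem hy hz
    have e : c.ι y * c.α a * (c.ι z * c.α b) = c.ι (y * c.β a z) * c.α (a * b) := by
      rw [map_mul, map_mul, mul_assoc, ← mul_assoc (c.α a), c.compatM, mul_assoc, mul_assoc]
    rwa [e] at this
  one_mem' := ⟨1, by rw [map_one, map_one, mul_one]; exact (stabM χ).one_mem⟩
  inv_mem' := by
    rintro a ⟨y, hy⟩
    refine ⟨c.β a⁻¹ y⁻¹, ?_⟩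
    have := (stabM χ).inv_mem hy
    have e : (c.ι y * c.α a)⁻¹ = c.ι (c.β a⁻¹ y⁻¹) * c.α a⁻¹ := by
      rw [mul_inv_rev, ← map_inv, ← map_inv, c.compatM]
    rwa [e] at this

theorem mem_imA (χ : S →* T) (a : A) : a ∈ c.imA χ ↔ ∃ y : P, c.ι y * c.α a ∈ stabM χ :=
  Iff.rfl

theorem inX_iff (χ : S →* T) (a : A) (x : P) :
    c.inX χ a x ↔ c.ι (c.D a x)⁻¹ * c.α a ∈ stabM χ := by
  have key : ∀ u : S, (c.ι (c.D a x)⁻¹ * c.α a) u = c.ι x (c.α a (c.ι x⁻¹ u)) := by
    intro u
    rw [MulAut.mul_apply, D_apply, inv_div, div_eq_mul_inv, ← map_inv (c.β a), c.ι_mul, ← c.compat]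
  constructor
  · intro hx u
    rw [key, hx, c.ι_ι_inv]
  · intro hx v
    have := hx (c.ι x v)
    rw [key, c.ι_inv_ι] at this
    exact this

theorem stabA_le_imA (χ : S →* T) (x : P) : c.stabA χ x ≤ c.imA χ := by
  intro a ha
  exact ⟨_, (c.inX_iff χ a x).mp ha⟩

theorem unique_of_stabP_bot (χ : S →* T) (hK : c.stabP χ = ⊥) (a : A) (y z : P)
    (hy : c.ι y * c.α a ∈ stabM χ) (hz : c.ι z * c.α a ∈ stabM χ) : y = z := by
  have := (stabM χ).mul_mem hy ((stabM χ).inv_mem hz)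
  have e : c.ι y * c.α a * (c.ι z * c.α a)⁻¹ = c.ι (y * z⁻¹) := by
    rw [mul_inv_rev, mul_assoc, mul_inv_cancel_left, map_mul, map_inv]
  rw [e, ι_mem_stabM, hK, Subgroup.mem_bot] at this
  exact mul_inv_eq_one.mp this

/-- if the stabilizer maps onto `A` then its intersection with `P` is `A`-invariant -/
theorem stabP_invariant_of_imA_top (χ : S →* T) (htop : c.imA χ = ⊤) (a : A) (k : P)
    (hk : k ∈ c.stabP χ) : c.β a k ∈ c.stabP χ := by
  have ha : a ∈ c.imA χ := by rw [htop]; trivial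
  obtain ⟨y, hy⟩ := ha
  have := (stabM χ).mul_mem ((stabM χ).mul_mem hy ((c.ι_mem_stabM χ k).mpr hk))
    ((stabM χ).inv_mem hy)
  have e : c.ι y * c.α a * c.ι k * (c.ι y * c.α a)⁻¹ = c.ι (c.β a k) := by
    rw [mul_inv_rev, mul_assoc (c.ι y), c.compatM, mul_assoc, mul_assoc, mul_inv_cancel_left,
      ← map_inv, ← map_mul, ← map_mul, mul_comm (c.β a k), mul_inv_cancel_left]
  rwa [e] at this

/-- the cocycle argument: the stabilizer cannot be a complement of `P` -/
theorem imA_ne_top [Finite A] [Finite P] (χ : S →* T) (hχ : χ ∈ c.Λ) : c.imA χ ≠ ⊤ := by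
  intro htop
  have hK : c.stabP χ = ⊥ := by
    rcases c.hPirr _ (c.stabP_invariant_of_imA_top χ htop) with h1 | h1
    · exact h1
    · exact absurd h1 (c.stabP_ne_top χ (c.hΛ1 χ hχ))
  have hex : ∀ a : A, ∃ y : P, c.ι y * c.α a ∈ stabM χ := by
    intro a
    have ha : a ∈ c.imA χ := by rw [htop]; trivial
    exact ha
  choose cy hcy using hex
  have hcoc : ∀ a b : A, cy (a * b) = cy a * c.β a (cy b) := by
    intro a b
    apply c.unique_of_stabP_bot χ hK (a * b) _ _ (hcy (a * b))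
    have := (stabM χ).mul_mem (hcy a) (hcy b)
    have e : c.ι (cy a) * c.α a * (c.ι (cy b) * c.α b) = c.ι (cy a * c.β a (cy b)) * c.α (a * b) := by
      rw [map_mul, map_mul, mul_assoc, ← mul_assoc (c.α a), c.compatM, mul_assoc, mul_assoc]
    rwa [e] at this
  let _ := Fintype.ofFinite A
  set n := Nat.card A with hn
  set y0 : P := ∏ b : A, cy b with hy0
  have h1 : ∀ a : A, c.β a y0 = (cy a ^ n)⁻¹ * y0 := by
    intro a
    have e1 : ∀ b : A, c.β a (cy b) = (cy a)⁻¹ * cy (a * b) := by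
      intro b
      rw [hcoc, inv_mul_cancel_left]
    rw [hy0, map_prod, Finset.prod_congr rfl (fun b _ => e1 b), Finset.prod_mul_distrib,
      Finset.prod_const, Finset.card_univ, ← Nat.card_eq_fintype_card, inv_pow]
    congr 1
    exact Fintype.prod_equiv (Equiv.mulLeft a) _ _ (fun b => by rw [Equiv.coe_mulLeft])
  have hcop : (Nat.card P).Coprime n := by
    have : Fact q.Prime := ⟨c.qprime⟩
    obtain ⟨m, hm⟩ := IsPGroup.iff_card.mp c.hP
    rw [hm]
    exact Nat.Coprime.pow_left m c.coprime_cardA_q.symm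
  obtain ⟨x, hx⟩ := (powCoprime hcop).surjective y0
  rw [powCoprime_apply] at hx
  have h2 : ∀ a : A, (c.D a x)⁻¹ = cy a := by
    intro a
    apply (powCoprime hcop).injective
    rw [powCoprime_apply, powCoprime_apply, D_apply, inv_div, div_pow, ← map_pow, hx, h1,
      div_eq_mul_inv, mul_inv_rev, inv_inv, mul_inv_cancel_left]
  have hall : ∀ (a : A) (u : S), c.tr χ x (c.α a u) = c.tr χ x u := by
    intro a u
    have : c.inX χ a x := by
      rw [c.inX_iff, h2]
      exact hcy a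
    exact this u
  exact c.hΛ1 _ (c.tr_mem χ hχ x) (c.chi_eq_one_of_invariant _ hall)

/-- in the remaining case a single nonidentity element of `A` fixes all translates of `χ` -/
theorem exists_common_stab [Finite A] [Finite P] (χ : S →* T) (hχ : χ ∈ c.Λ) :
    ∃ e : A, e ≠ 1 ∧ ∀ x : P, c.inX χ e x := by
  obtain ⟨e, he1, he⟩ := c.exists_mem_stabA χ hχ 1
  refine ⟨e, he1, ?_⟩
  have hI2 := c.imA_ne_top χ hχ
  have heI : e ∈ c.imA χ := c.stabA_le_imA χ 1 he
  have hI1 : c.imA χ ≠ ⊥ := by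
    intro hbot
    rw [hbot, Subgroup.mem_bot] at heI
    exact he1 heI
  have hprime := card_prime_of_ne c.lprime c.hprime c.hcardA (c.imA χ) hI1 hI2
  intro x
  obtain ⟨a, ha1, ha⟩ := c.exists_mem_stabA χ hχ x
  have haI : a ∈ c.imA χ := c.stabA_le_imA χ x ha
  have h3 : e ∈ Subgroup.zpowers a := mem_zpowers_of_prime_card (c.imA χ) hprime a haI ha1 e heI
  have h4 : Subgroup.zpowers a ≤ c.stabA χ x := by
    rw [Subgroup.zpowers_le]
    exact ha
  exact h4 h3

end GCfg

end Cfsg.Agent.Helper1.FrobFpfB
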