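import Mathlib
import Cfsg.Agent.Helper1.FrobFpfB3

/-!
# S4306, Step 3 (abstract core), part 4: case (II), `F` fixed-point-free on `P`.
-/

set_option autoImplicit false

namespace Cfsg.Agent.Helper1.FrobFpfB

open Cfsg.Agent.Helper1.S3fCaseB (eq_one_of_pow_coprime fixSub mem_fixSub)

/-- points fixed by a subgroup `F` under an action on a group -/
def fixBy {A X : Type*} [Group A] [Group X] (γ : A →* MulAut X) (F : Subgroup A) : Subgroup X where
  carrier := {x | ∀ f ∈ F, γ f x = x}
  mul_mem' := by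
    intro a b ha hb f hf
    rw [map_mul, ha f hf, hb f hf]
  one_mem' := fun f _ => map_one _
  inv_mem' := by
    intro a ha f hf
    rw [map_inv, ha f hf]

theorem mem_fixBy {A X : Type*} [Group A] [Group X] (γ : A →* MulAut X) (F : Subgroup A) (x : X) :
    x ∈ fixBy γ F ↔ ∀ f ∈ F, γ f x = x := Iff.rfl

theorem fixBy_invariant {A X : Type*} [Group A] [Group X] (γ : A →* MulAut X) (F : Subgroup A)
    [F.Normal] (a : A) (x : X) (hx : x ∈ fixBy γ F) : γ a x ∈ fixBy γ F := by
  intro f hf
  have h1 : a⁻¹ * f * a ∈ F := by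
    have := Subgroup.Normal.conj_mem (inferInstance : F.Normal) f hf a⁻¹
    rwa [inv_inv] at this
  have h2 : f * a = a * (a⁻¹ * f * a) := by group
  rw [← gact_mul, h2, gact_mul, hx _ h1]

namespace GCfg

variable {A S P T : Type*} [Group A] [CommGroup S] [CommGroup P] [CommGroup T] {s q l h : ℕ}
variable (c : GCfg A S P T s q l h)
include c

/-- fixed by `F` and by one element outside `F` implies fixed by `A` -/
theorem fixed_by_all [Finite A] {X : Type*} [Mul X] (γ : A →* MulAut X) (y : X)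
    (hF : ∀ f ∈ c.F, γ f y = y) (a : A) (haF : a ∉ c.F) (ha : γ a y = y) (b : A) : γ b y = y := by
  have := c.hFn
  have : fixer γ y = ⊤ :=
    eq_top_of_le c.F c.lprime c.hprime c.hcardF c.hcardA (fixer γ y) (fun f hf => hF f hf) a ha haF
  have hb : b ∈ fixer γ y := by rw [this]; trivial
  exact hb

/-- fixed by one nonidentity element of `F` implies fixed by `F` -/
theorem fixed_by_F {X : Type*} [Mul X] (γ : A →* MulAut X) (y : X) (f : A) (hf : f ∈ c.F)
    (hf1 : f ≠ 1) (hfy : γ f y = y) (f' : A) (hf' : f' ∈ c.F) : γ f' y = y := by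
  have hprime : (Nat.card c.F).Prime := by rw [c.hcardF]; exact c.lprime
  exact fixed_of_mem_zpowers γ y f f' hfy (mem_zpowers_of_prime_card c.F hprime f hf hf1 f' hf')

/-- the norm as a homomorphism -/
noncomputable def nrmHom [Finite P] (L : Subgroup P) : S →* S where
  toFun := c.nrm L
  map_one' := c.nrm_one L
  map_mul' := c.nrm_mul L

theorem nrmHom_apply [Finite P] (L : Subgroup P) (u : S) : c.nrmHom L u = c.nrm L u := rfl

/-- case (II): the final contradiction -/
theorem caseII_false [Finite A] [Finite P]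
    (hII : ∀ x : P, (∀ f ∈ c.F, c.β f x = x) → x = 1) : False := by
  have := c.hFn
  obtain ⟨χ, hχ⟩ := c.hΛne
  have hKtop : c.stabP χ ≠ ⊤ := c.stabP_ne_top χ (c.hΛ1 χ hχ)
  obtain ⟨e, he1, hall⟩ := c.exists_common_stab χ hχ
  have hfpfF : ∀ f ∈ c.F, f ≠ 1 → ∀ x : P, c.β f x = x → x = 1 := by
    intro f hf hf1 x hx
    exact hII x (c.fixed_by_F c.β x f hf hf1 hx)
  have hDK : ∀ (a : A), a ∈ c.stabA χ 1 → (∀ x : P, c.inX χ a x) → ∀ y : P, c.D a y ∈ c.stabP χ := by
    intro a _ hax y
    have := c.D_mem_stabP χ a 1 y (hax 1) (hax y)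
    rwa [inv_one, one_mul] at this
  have hDe : ∀ y : P, c.D e y ∈ c.stabP χ := hDK e (hall 1) hall
  by_cases heF : e ∈ c.F
  · -- `e ∈ F`: then `K = P`
    apply hKtop
    rw [eq_top_iff]
    intro y _
    obtain ⟨z, rfl⟩ := c.D_surj e (hfpfF e heF he1) y
    exact hDe z
  -- `e ∉ F`
  have hNorm : ∀ a ∈ c.stabA χ 1, ∀ k ∈ c.stabP χ, c.β a k ∈ c.stabP χ :=
    fun a ha k hk => c.normalizes_of_inX χ a 1 ha k hk
  have hχinv : ∀ a ∈ c.stabA χ 1, ∀ v : S, χ (c.α a v) = χ v := by
    intro a ha v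
    have := ha v
    rwa [c.ι_one, c.ι_one] at this
  have he_mem : e ∈ c.stabA χ 1 := hall 1
  -- K-fixed points are preserved by elements normalizing K
  have hKfix : ∀ a ∈ c.stabA χ 1, ∀ u : S, (∀ k ∈ c.stabP χ, c.ι k u = u) →
      ∀ k ∈ c.stabP χ, c.ι k (c.α a u) = c.α a u := by
    intro a ha u hu k hk
    have h1 := c.compat a (c.β a⁻¹ k) u
    rw [gact_act_inv] at h1
    rw [← h1, hu _ (hNorm a⁻¹ ((c.stabA χ 1).inv_mem ha) k hk)]
  -- the T-lemma
  have hT : ∀ f ∈ c.F, f ≠ 1 → ∀ u : S, (∀ k ∈ c.stabP χ, c.ι k u = u) →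
      (∀ k ∈ c.stabP χ, c.ι k (c.α f⁻¹ u) = c.α f⁻¹ u) → u = 1 := by
    intro f hf hf1 u h1 h2
    apply c.hCSP
    intro x
    set b := f * e⁻¹ * f⁻¹ with hb
    set g := e * b with hg
    have hgF : g ∈ c.F := by
      have h3 : e * f * e⁻¹ ∈ c.F := Subgroup.Normal.conj_mem c.hFn f hf e
      have h4 : g = e * f * e⁻¹ * f⁻¹ := by rw [hg, hb]; group
      rw [h4]
      exact c.F.mul_mem h3 (c.F.inv_mem hf)
    have hg1 : g ≠ 1 := by
      intro h3
      apply hf1
      apply c.hnc e heF f hf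
      have h4 : e * f = g * (f * e) := by rw [hg, hb]; group
      rw [h4, h3, one_mul]
    obtain ⟨y, rfl⟩ := c.D_surj g (hfpfF g hgF hg1) x
    have e1 : c.D b y = c.β f (c.D e⁻¹ (c.β f⁻¹ y)) := by
      rw [D_apply, D_apply, map_div, hb, gact_mul, gact_mul, gact_act_inv]
    have e2 : c.D e⁻¹ (c.β f⁻¹ y) ∈ c.stabP χ := by
      rw [D_inv]
      exact (c.stabP χ).inv_mem (hDe _)
    rw [hg, D_mul, e1, c.ι_mul]
    have e3 : c.ι (c.β f (c.D e⁻¹ (c.β f⁻¹ y))) u = u := by
      have := c.compat f (c.D e⁻¹ (c.β f⁻¹ y)) (c.α f⁻¹ u)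
      rw [gact_act_inv, h2 _ e2, gact_act_inv] at this
      exact this.symm
    rw [e3]
    exact h1 _ (hDe _)
  -- the Y-lemma
  have hY : ∀ u : S, c.α e u = u → (∀ k ∈ c.stabP χ, c.ι k u = u) → u = 1 := by
    intro u heu hKu
    let _ := Fintype.ofFinite c.F
    set v : S := ∏ f : c.F, c.α (f : A) u with hv
    have hvF : ∀ f' ∈ c.F, c.α f' v = v := by
      intro f' hf'
      rw [hv, map_prod]
      exact Fintype.prod_equiv (Equiv.mulLeft (⟨f', hf'⟩ : c.F)) _ _
        (fun f => by rw [Equiv.coe_mulLeft, Subgroup.coe_mul, gact_mul])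
    have hve : c.α e v = v := by
      rw [hv, map_prod]
      refine Fintype.prod_equiv (MulAut.conjNormal e : MulAut c.F).toEquiv _ _ (fun f => ?_)
      rw [MulEquiv.toEquiv_eq_coe, MulEquiv.coe_toEquiv, MulAut.conjNormal_apply]
      have heu' : c.α e⁻¹ u = u := by
        have := gact_inv_act c.α e u
        rwa [heu] at this
      rw [gact_mul, gact_mul, heu']
    have hv1 : v = 1 := c.hfpfS v (c.fixed_by_all c.α v hvF e heF hve)
    have hN : c.nrmHom (c.stabP χ) v = 1 := by rw [hv1, map_one]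
    rw [hv, map_prod] at hN
    rw [Finset.prod_eq_single (1 : c.F)] at hN
    · rw [Subgroup.coe_one, gact_one, nrmHom_apply, c.nrm_of_fixed _ u hKu] at hN
      exact c.eq_one_of_pow_S u (c.card_coprime _) hN
    · intro f _ hf1
      rw [nrmHom_apply]
      have hf1' : (f : A) ≠ 1 := by
        intro h3
        apply hf1
        exact Subtype.ext h3
      apply hT (f : A) f.2 hf1'
      · intro k hk
        exact c.nrm_fixed _ _ k hk
      · let W : Subgroup S :=
          { carrier := {w | ∀ k ∈ c.stabP χ, c.ι k (c.α (f : A)⁻¹ w) = c.α (f : A)⁻¹ w}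
            mul_mem' := by
              intro a b ha hb k hk
              rw [map_mul, map_mul, ha k hk, hb k hk]
            one_mem' := by
              intro k _
              rw [map_one, map_one]
            inv_mem' := by
              intro a ha k hk
              rw [map_inv, map_inv, ha k hk] }
        have hWP : ∀ k ∈ c.stabP χ, ∀ w ∈ W, c.ι k w ∈ W := by
          intro k _ w hw k' hk'
          rw [c.compat, c.ι_comm, hw k' hk']
        have hmem : c.nrm (c.stabP χ) (c.α (f : A) u) ∈ W := by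
          apply c.nrm_mem _ W hWP
          intro k hk
          rw [gact_inv_act]
          exact hKu k hk
        exact hmem
    · intro h3
      exact absurd (Finset.mem_univ _) h3
  -- `e` is fixed-point-free on `C_S(K)`, so `χ` kills it
  have hpow : e ^ h = 1 := pow_h_eq_one c.F c.lprime c.hcardF c.hcardA c.hnc e heF
  have hkill : ∀ u : S, (∀ k ∈ c.stabP χ, c.ι k u = u) → χ u = 1 := by
    intro u hKu
    set w : S := ∏ i ∈ Finset.range h, c.α (e ^ i) u with hw
    have hpowmem : ∀ i : ℕ, e ^ i ∈ c.stabA χ 1 := fun i => (c.stabA χ 1).pow_mem he_mem i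
    have hwe : c.α e w = w := by
      rw [hw, map_prod]
      have h3 : ∀ i, c.α e (c.α (e ^ i) u) = c.α (e ^ (i + 1)) u := by
        intro i
        rw [← gact_mul, ← pow_succ']
      rw [Finset.prod_congr rfl (fun i _ => h3 i)]
      have h4 := Finset.prod_range_succ (fun i => c.α (e ^ i) u) h
      have h5 := Finset.prod_range_succ' (fun i => c.α (e ^ i) u) h
      rw [h4] at h5
      rw [hpow, pow_zero] at h5
      exact (mul_right_cancel h5).symm
    have hwK : ∀ k ∈ c.stabP χ, c.ι k w = w := by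
      intro k hk
      rw [hw, map_prod]
      apply Finset.prod_congr rfl
      intro i _
      exact hKfix _ (hpowmem i) u hKu k hk
    have hw1 : w = 1 := hY w hwe hwK
    have h6 : χ w = χ u ^ h := by
      rw [hw, map_prod, Finset.prod_congr rfl (fun i _ => hχinv _ (hpowmem i) u),
        Finset.prod_const, Finset.card_range]
    rw [hw1, map_one] at h6
    exact c.chi_eq_one_of_pow χ u c.coprime_h_s h6.symm
  -- `χ` is trivial
  apply c.hΛ1 χ hχ
  ext u
  have h7 := c.chi_nrm (c.stabP χ) χ (fun k hk v => hk v) u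
  rw [hkill _ (fun k hk => c.nrm_fixed _ _ k hk)] at h7
  have := c.chi_eq_one_of_pow χ u (c.card_coprime _) h7.symm
  rw [this]
  rfl

end GCfg

end Cfsg.Agent.Helper1.FrobFpfB
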