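import Mathlib
import Cfsg.Agent.Helper1.FrobFpfB4

/-!
# S4306, Step 3 (abstract core), part 5: case (I), `F` centralizes `P`.
-/

set_option autoImplicit false

namespace Cfsg.Agent.Helper1.FrobFpfB

open Cfsg.Agent.Helper1.S3fCaseB (eq_one_of_pow_coprime fixSub mem_fixSub)

namespace GCfg

variable {A S P T : Type*} [Group A] [CommGroup S] [CommGroup P] [CommGroup T] {s q l h : ℕ}
variable (c : GCfg A S P T s q l h)
include c

/-- a character invariant under a fixed-point-free automorphism is trivial -/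
theorem chi_eq_one_of_fpf [Finite S] (a : A) (ha : ∀ u : S, c.α a u = u → u = 1) (χ : S →* T)
    (hχ : ∀ u : S, χ (c.α a u) = χ u) : χ = 1 := by
  let E : S →* S := (c.α a : S ≃* S).toMonoidHom / MonoidHom.id S
  have hE : ∀ v : S, E v = c.α a v / v := fun v => rfl
  have hEinj : Function.Injective E := by
    rw [injective_iff_map_eq_one]
    intro v hv
    rw [hE, div_eq_one] at hv
    exact ha v hv
  have hEsurj : Function.Surjective E := Finite.injective_iff_surjective.mp hEinj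
  ext u
  obtain ⟨v, rfl⟩ := hEsurj u
  rw [hE, map_div, hχ, div_self']
  rfl

/-- in case (I) elements outside `F` are fixed-point-free on `P` -/
theorem caseI_fpf_P [Finite A] (hI : ∀ f ∈ c.F, ∀ x : P, c.β f x = x) (a : A) (ha : a ∉ c.F)
    (x : P) (hx : c.β a x = x) : x = 1 :=
  c.hfpfP x (c.fixed_by_all c.β x (fun f hf => hI f hf x) a ha hx)

theorem pow_card_F (f : A) (hf : f ∈ c.F) : f ^ l = 1 := by
  have : (⟨f, hf⟩ : c.F) ^ Nat.card c.F = 1 := pow_card_eq_one'
  rw [c.hcardF] at this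
  exact congrArg Subtype.val this

/-- in case (I): an element `ι y * α f` (`f ∈ F`) of the stabilizer has `y` in the stabilizer -/
theorem caseI_mem_stabP (hI : ∀ f ∈ c.F, ∀ x : P, c.β f x = x) (χ : S →* T) (f : A)
    (hf : f ∈ c.F) (y : P) (hy : c.ι y * c.α f ∈ stabM χ) : y ∈ c.stabP χ := by
  have hcomm : Commute (c.ι y) (c.α f) := by
    have := c.compatM f y
    rw [hI f hf y] at this
    exact this.symm
  have h1 := (stabM χ).pow_mem hy l
  rw [hcomm.mul_pow, ← map_pow, ← map_pow, c.pow_card_F f hf, map_one, mul_one, ι_mem_stabM] at h1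
  have hcop : l.Coprime (orderOf y) := by
    obtain ⟨k, hk⟩ := c.hP y
    exact Nat.Coprime.coprime_dvd_right (orderOf_dvd_of_pow_eq_one hk)
      (Nat.Coprime.pow_right k c.coprime_l_q)
  obtain ⟨m, hm⟩ := exists_pow_eq_self_of_coprime hcop
  rw [← hm]
  exact (c.stabP χ).pow_mem h1 m

/-- case (I-ii) -/
theorem caseIii_false [Finite A] [Finite S] [Finite P] (hI : ∀ f ∈ c.F, ∀ x : P, c.β f x = x)
    (hS : ∀ u : S, (∀ f ∈ c.F, c.α f u = u) → u = 1) : False := by
  have hFn := c.hFn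
  obtain ⟨χ, hχ⟩ := c.hΛne
  have hKtop : c.stabP χ ≠ ⊤ := c.stabP_ne_top χ (c.hΛ1 χ hχ)
  -- stabilizing elements are outside `F`
  have hout : ∀ (x : P) (a : A), a ≠ 1 → c.inX χ a x → a ∉ c.F := by
    intro x a ha1 hax haF
    apply c.hΛ1 _ (c.tr_mem χ hχ x)
    apply c.chi_eq_one_of_fpf a _ _ (fun u => hax u)
    intro u hu
    exact hS u (c.fixed_by_F c.α u a haF ha1 hu)
  obtain ⟨η, hη1, hη⟩ := c.exists_mem_stabA χ hχ 1
  have hηF : η ∉ c.F := hout 1 η hη1 hη
  have hηM : c.α η ∈ stabM χ := by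
    have := (c.inX_iff χ η 1).mp hη
    rwa [D_apply, map_one, div_one, inv_one, map_one, one_mul] at this
  apply hKtop
  rw [eq_top_iff]
  intro z _
  obtain ⟨x, rfl⟩ := c.D_surj η (c.caseI_fpf_P hI η hηF) z
  obtain ⟨a, ha1, ha⟩ := c.exists_mem_stabA χ hχ x
  have haF : a ∉ c.F := hout x a ha1 ha
  -- find a power of `a` in the coset `η F`
  have hcq : Nat.card (A ⧸ c.F) = h := card_quot c.F c.lprime c.hcardF c.hcardA
  have hqprime : (Nat.card (⊤ : Subgroup (A ⧸ c.F))).Prime := by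
    rw [Subgroup.card_top, hcq]; exact c.hprime
  have hane : (QuotientGroup.mk a : A ⧸ c.F) ≠ 1 := by
    intro h1
    exact haF ((QuotientGroup.eq_one_iff a).mp h1)
  have hmem := mem_zpowers_of_prime_card (⊤ : Subgroup (A ⧸ c.F)) hqprime
    (QuotientGroup.mk a) trivial hane (QuotientGroup.mk η) trivial
  obtain ⟨k, hk⟩ := Subgroup.mem_zpowers_iff.mp hmem
  rw [← QuotientGroup.mk_zpow, QuotientGroup.eq] at hk
  set a' := a ^ k with ha'
  have ha'x : c.inX χ a' x := (c.stabA χ x).zpow_mem ha k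
  -- `η = a' * f` with `f ∈ F`
  set f := a'⁻¹ * η with hf
  have hfF : f ∈ c.F := hk
  have hM := (c.inX_iff χ a' x).mp ha'x
  have hM2 := (stabM χ).mul_mem hM ((stabM χ).inv_mem hηM)
  have e1 : c.ι (c.D a' x)⁻¹ * c.α a' * (c.α η)⁻¹ = c.ι (c.D a' x)⁻¹ * c.α (a' * η⁻¹) := by
    rw [map_mul, map_inv (c.α) η, mul_assoc]
  rw [e1] at hM2
  have hf2 : a' * η⁻¹ ∈ c.F := by
    have h3 : a' * η⁻¹ = a' * f⁻¹ * a'⁻¹ := by rw [hf]; group
    rw [h3]
    exact Subgroup.Normal.conj_mem hFn _ (c.F.inv_mem hfF) a'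
  have h4 := c.caseI_mem_stabP hI χ _ hf2 _ hM2
  have h5 : c.D a' x = c.D η x := by
    have h6 : a' = η * f⁻¹ := by rw [hf]; group
    rw [D_apply, D_apply, h6, gact_mul, hI _ (c.F.inv_mem hfF)]
  rw [← h5]
  have := (c.stabP χ).inv_mem h4
  rwa [inv_inv] at this

end GCfg

end Cfsg.Agent.Helper1.FrobFpfB
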