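import Mathlib
import Cfsg.Agent.Helper1.FrobFpfB5

/-!
# S4306, Step 3 (abstract core), part 6: case (I-i), `F` centralizes `P` and `S`; the main
contradiction `GCfg.false`.
-/

set_option autoImplicit false

namespace Cfsg.Agent.Helper1.FrobFpfB

open Cfsg.Agent.Helper1.S3fCaseB (eq_one_of_pow_coprime fixSub mem_fixSub)

namespace GCfg

variable {A S P T : Type*} [Group A] [CommGroup S] [CommGroup P] [CommGroup T] {s q l h : ℕ}
variable (c : GCfg A S P T s q l h)
include c

/-- the partial norms `x * η x * ... * η^(i-1) x` -/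
def pn (η : A) : ℕ → P → P
  | 0, _ => 1
  | (i + 1), x => x * c.β η (pn η i x)

theorem pn_zero (η : A) (x : P) : c.pn η 0 x = 1 := rfl

theorem pn_succ (η : A) (i : ℕ) (x : P) : c.pn η (i + 1) x = x * c.β η (c.pn η i x) := rfl

theorem D_comm_act (η : A) (y : P) : c.D η (c.β η y) = c.β η (c.D η y) := by
  rw [D_apply, D_apply, map_div]

theorem D_pn (η : A) (i : ℕ) (x : P) : c.D η (c.pn η i x) = c.D (η ^ i) x := by
  induction i with
  | zero =>
    rw [pn_zero, map_one, pow_zero, D_apply, gact_one, div_self']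
  | succ i ih =>
    rw [pn_succ, map_mul, c.D_comm_act, ih, pow_succ', c.D_mul', mul_comm]

/-- powers of an element outside `F` stay outside `F` -/
theorem pow_notMem [Finite A] (η : A) (hη : η ∉ c.F) (i : ℕ) (hi0 : 0 < i) (hih : i < h) :
    η ^ i ∉ c.F := by
  have := c.hFn
  intro hmem
  apply hη
  have hcop : Nat.Coprime i h := by
    rw [Nat.coprime_comm]
    exact (Nat.Prime.coprime_iff_not_dvd c.hprime).mpr (Nat.not_dvd_of_pos_of_lt hi0 hih)
  have hηh : η ^ h = 1 := pow_h_eq_one c.F c.lprime c.hcardF c.hcardA c.hnc η hη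
  have hord : orderOf η ∣ h := orderOf_dvd_of_pow_eq_one hηh
  have hcop2 : Nat.Coprime i (orderOf η) := Nat.Coprime.coprime_dvd_right hord hcop
  obtain ⟨m, hm⟩ := exists_pow_eq_self_of_coprime hcop2
  rw [← hm]
  exact c.F.pow_mem hmem m

theorem pn_injective [Finite A] (hI : ∀ f ∈ c.F, ∀ x : P, c.β f x = x) (η : A) (hη : η ∉ c.F)
    (i : ℕ) (hi0 : 0 < i) (hih : i < h) : Function.Injective (c.pn η i) := by
  intro x y hxy
  have h1 : c.D (η ^ i) x = c.D (η ^ i) y := by
    rw [← c.D_pn, ← c.D_pn, hxy]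
  have h2 : c.D (η ^ i) (x / y) = 1 := by
    rw [map_div, h1, div_self']
  rw [D_apply, div_eq_one] at h2
  have := c.caseI_fpf_P hI (η ^ i) (c.pow_notMem η hη i hi0 hih) (x / y) h2
  exact div_eq_one.mp this

theorem pn_h [Finite A] (hI : ∀ f ∈ c.F, ∀ x : P, c.β f x = x) (η : A) (hη : η ∉ c.F) (x : P) :
    c.pn η h x = 1 := by
  have := c.hFn
  have hηh : η ^ h = 1 := pow_h_eq_one c.F c.lprime c.hcardF c.hcardA c.hnc η hη
  have h1 := c.D_pn η h x
  rw [hηh, D_apply, D_apply, gact_one, div_self', div_eq_one] at h1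
  exact c.caseI_fpf_P hI η hη _ h1

/-- the terms of the Frobenius product -/
def term (η : A) (u : S) (x : P) (i : ℕ) : S := c.ι (c.pn η i x) (c.α (η ^ i) u)

theorem term_zero (η : A) (u : S) (x : P) : c.term η u x 0 = u := by
  unfold term
  rw [pn_zero, pow_zero, gact_one c.α, c.ι_one]

theorem term_succ (η : A) (u : S) (x : P) (i : ℕ) :
    c.term η u x (i + 1) = c.ι x (c.α η (c.term η u x i)) := by
  unfold term
  rw [pn_succ, c.ι_mul, c.compat, ← gact_mul c.α, ← pow_succ']

theorem term_h [Finite A] (hI : ∀ f ∈ c.F, ∀ x : P, c.β f x = x) (η : A) (hη : η ∉ c.F) (u : S)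
    (x : P) : c.term η u x h = u := by
  have := c.hFn
  have hηh : η ^ h = 1 := pow_h_eq_one c.F c.lprime c.hcardF c.hcardA c.hnc η hη
  unfold term
  rw [c.pn_h hI η hη, hηh, gact_one c.α, c.ι_one]

/-- `ι x * α η` is fixed-point-free on `S` -/
theorem twisted_fpf [Finite A] [Finite P] (hI : ∀ f ∈ c.F, ∀ x : P, c.β f x = x)
    (hSF : ∀ f ∈ c.F, ∀ u : S, c.α f u = u) (η : A) (hη : η ∉ c.F) (x : P) (u : S)
    (hu : c.ι x (c.α η u) = u) : u = 1 := by
  obtain ⟨y, hy⟩ := c.D_surj η (c.caseI_fpf_P hI η hη) x⁻¹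
  have hx : x = y / c.β η y := by
    rw [D_apply] at hy
    rw [← inv_inj, ← hy, inv_div]
  have hx' : c.β η y⁻¹ = y⁻¹ * x := by
    rw [hx, map_inv, div_eq_mul_inv, inv_mul_cancel_left]
  have h1 : c.α η (c.ι y⁻¹ u) = c.ι y⁻¹ u := by
    rw [c.compat, hx', c.ι_mul, hu]
  have h2 : c.ι y⁻¹ u = 1 := by
    apply c.hfpfS
    exact c.fixed_by_all c.α _ (fun f hf => hSF f hf _) η hη h1
  have := congrArg (c.ι y) h2
  rwa [c.ι_ι_inv, map_one] at this

/-- the Frobenius product vanishes -/
theorem prod_term [Finite A] [Finite P] (hI : ∀ f ∈ c.F, ∀ x : P, c.β f x = x)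
    (hSF : ∀ f ∈ c.F, ∀ u : S, c.α f u = u) (η : A) (hη : η ∉ c.F) (u : S) (x : P) :
    ∏ i ∈ Finset.range h, c.term η u x i = 1 := by
  apply c.twisted_fpf hI hSF η hη x
  rw [map_prod, map_prod]
  have e1 : ∏ i ∈ Finset.range h, c.ι x (c.α η (c.term η u x i))
      = ∏ i ∈ Finset.range h, c.term η u x (i + 1) :=
    Finset.prod_congr rfl (fun i _ => (c.term_succ η u x i).symm)
  rw [e1]
  have e2 := Finset.prod_range_succ (fun i => c.term η u x i) h
  have e3 := Finset.prod_range_succ' (fun i => c.term η u x i) h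
  rw [e3, c.term_zero, c.term_h hI η hη] at e2
  exact mul_right_cancel e2

/-- case (I-i) -/
theorem caseIi_false [Finite A] [Finite S] [Finite P] (hI : ∀ f ∈ c.F, ∀ x : P, c.β f x = x)
    (hSF : ∀ f ∈ c.F, ∀ u : S, c.α f u = u) : False := by
  have := c.hFn
  let _ := Fintype.ofFinite P
  obtain ⟨η, hη⟩ := exists_notMem c.F c.hprime c.hcardF c.hcardA c.lprime
  obtain ⟨u, hu⟩ := c.hSne
  apply hu
  have hall : ∏ x : P, ∏ i ∈ Finset.range h, c.term η u x i = 1 :=
    Finset.prod_eq_one (fun x _ => c.prod_term hI hSF η hη u x)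
  rw [Finset.prod_comm] at hall
  have hsingle : ∏ i ∈ Finset.range h, ∏ x : P, c.term η u x i = ∏ x : P, c.term η u x 0 := by
    apply Finset.prod_eq_single 0
    · intro i hi hi0
      have hih : i < h := Finset.mem_range.mp hi
      have hbij : Function.Bijective (c.pn η i) :=
        Finite.injective_iff_bijective.mp
          (c.pn_injective hI η hη i (Nat.pos_of_ne_zero hi0) hih)
      have e1 : ∏ x : P, c.term η u x i = ∏ y : P, c.ι y (c.α (η ^ i) u) :=
        Fintype.prod_equiv (Equiv.ofBijective _ hbij) _ _ (fun x => rfl)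
      rw [e1]
      apply c.hCSP
      intro z
      rw [map_prod]
      exact Fintype.prod_equiv (Equiv.mulLeft z) _ _
        (fun y => by rw [Equiv.coe_mulLeft, c.ι_mul])
    · intro h0
      exfalso
      exact h0 (Finset.mem_range.mpr c.hprime.pos)
  rw [hsingle, Finset.prod_congr rfl (fun x _ => c.term_zero η u x), Finset.prod_const,
    Finset.card_univ, ← Nat.card_eq_fintype_card] at hall
  exact c.eq_one_of_pow_S u c.card_P_coprime hall

/-- **Step 3**: the configuration is contradictory. -/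
theorem false [Finite A] [Finite S] [Finite P] : False := by
  have := c.hFn
  rcases c.hPirr (fixBy c.β c.F) (fun a x hx => fixBy_invariant c.β c.F a x hx) with h1 | h1
  · apply c.caseII_false
    intro x hx
    have : x ∈ fixBy c.β c.F := hx
    rw [h1] at this
    exact Subgroup.mem_bot.mp this
  · have hI : ∀ f ∈ c.F, ∀ x : P, c.β f x = x := by
      intro f hf x
      have : x ∈ fixBy c.β c.F := by rw [h1]; trivial
      exact this f hf
    have hPinv : ∀ x : P, ∀ u ∈ fixBy c.α c.F, c.ι x u ∈ fixBy c.α c.F := by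
      intro x u hu f hf
      rw [c.compat, hI f hf, hu f hf]
    rcases c.hSirr (fixBy c.α c.F) hPinv (fun a u hu => fixBy_invariant c.α c.F a u hu)
      with h2 | h2
    · apply c.caseIii_false hI
      intro u hu
      have : u ∈ fixBy c.α c.F := hu
      rw [h2] at this
      exact Subgroup.mem_bot.mp this
    · apply c.caseIi_false hI
      intro f hf u
      have : u ∈ fixBy c.α c.F := by rw [h2]; trivial
      exact this f hf

end GCfg

end Cfsg.Agent.Helper1.FrobFpfB
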