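import Mathlib
import Cfsg.Prelude.Def_FusionSystem
import Cfsg.Prelude.Def_PLocal
import Cfsg.Agent.Helper25.FusionBasic
import Cfsg.Agent.Helper25.FusionAut

/-!
S5220 (helper26's plan), piece TR: transport of automizers along a common map.
-/

set_option autoImplicit false

namespace Cfsg.Agent.Helper1.GenF

open Cfsg Cfsg.FusionSystem Cfsg.Agent.Helper25

variable {Ω : Type*} [Group Ω]

theorem autGroup_le_of_conj {S : Subgroup Ω} (F E : FusionSystem S) {P : Subgroup Ω} (χ : P →* Ω)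
    (hχF : χ ∈ F.Hom P) (hχE : χ ∈ E.Hom P)
    (h : ∀ θ ∈ F.Hom χ.range, θ.range = χ.range → θ ∈ E.Hom χ.range) :
    F.autGroup P ≤ E.autGroup P := by
  have hPS : P ≤ S := (F.le_of_mem hχF).1
  intro α hα
  rw [mem_autGroup_iff F hPS] at hα
  rw [mem_autGroup_iff E hPS]
  -- inverse of χ in F and in E
  obtain ⟨ψF, hψF, hinvF, hrangeF⟩ := exists_inv_mem F hχF rfl
  obtain ⟨ψE, hψE, hinvE, -⟩ := exists_inv_mem E hχE rfl
  have hψFP : ∀ y : χ.range, ψF y ∈ P := by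
    intro y
    have h0 : ψF y ∈ ψF.range := ⟨y, rfl⟩
    exact (le_of_eq hrangeF) h0
  -- θ := χ ∘ α ∘ ψF
  have hχR : ∀ x : P, χ x ∈ χ.range := fun x => ⟨x, rfl⟩
  let θ : χ.range →* Ω :=
    χ.comp (α.toMonoidHom.comp (ψF.codRestrict P hψFP))
  have hθapply : ∀ x : P, θ ⟨χ x, hχR x⟩ = χ (α x) := by
    intro x
    show χ (α ((ψF.codRestrict P hψFP) ⟨χ x, hχR x⟩)) = χ (α x)
    congr 2
    apply Subtype.ext
    exact hinvF x (hχR x)
  have hθF : θ ∈ F.Hom χ.range := by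
    -- first ψF then autHom α then χ
    have h1 : (autHom α).comp (ψF.codRestrict P hψFP) ∈ F.Hom χ.range :=
      F.comp_mem hψF hα hψFP
    have h1v : ∀ y : χ.range, ((autHom α).comp (ψF.codRestrict P hψFP)) y ∈ P := by
      intro y
      exact (α ((ψF.codRestrict P hψFP) y)).2
    refine comp_mem' F h1 hχF h1v (fun y => ?_)
    rfl
  have hθrange : θ.range = χ.range := by
    ext w
    constructor
    · rintro ⟨y, rfl⟩
      exact ⟨α ((ψF.codRestrict P hψFP) y), rfl⟩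
    · rintro ⟨x, rfl⟩
      refine ⟨⟨χ (α.symm x), hχR _⟩, ?_⟩
      rw [hθapply]
      simp
  have hθE : θ ∈ E.Hom χ.range := h θ hθF hθrange
  -- autHom α = ψE ∘ θ ∘ χ
  have hθR : ∀ x : P, θ ⟨χ x, hχR x⟩ ∈ χ.range := by
    intro x
    rw [hθapply]
    exact hχR _
  have h2 : (θ.comp (χ.codRestrict χ.range hχR)) ∈ E.Hom P := E.comp_mem hχE hθE hχR
  have h2v : ∀ x : P, (θ.comp (χ.codRestrict χ.range hχR)) x ∈ χ.range := fun x => hθR x
  refine comp_mem' E h2 hψE h2v (fun x => ?_)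
  have h3 : (θ.comp (χ.codRestrict χ.range hχR)) x = χ (α x) := hθapply x
  have h4 : (⟨(θ.comp (χ.codRestrict χ.range hχR)) x, h2v x⟩ : χ.range) = ⟨χ (α x), hχR _⟩ :=
    Subtype.ext h3
  rw [h4, hinvE (α x) (hχR _)]
  rfl

end Cfsg.Agent.Helper1.GenF
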