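import Mathlib

/-!
# Gross's theorem (`p = 2`), the two-level configuration

`TwoLevel s0 q n S Q s`: inside a group `Γ`, an element `s` with `s ^ (2 ^ n) = 1`, `b = s ^ (2 ^ (n-1))`,
an `s`-invariant `s0`-subgroup `S` and a `q`-subgroup `Q` normalised by `S` and `s`, with `s` acting
fixed-point-freely on both, such that

* `S = [S, b]` acts nontrivially on `Q`,
* for every proper `s`-invariant subgroup `S₁ < S` the commutators `[b, x]`, `x ∈ S₁`, centralise `Q`,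
* every proper `S⟨s⟩`-invariant subgroup of `Q` is centralised by `S`.

This is the configuration which the Fitting step of Gross's theorem produces
(`Cfsg.Agent.Helper1.GrossFit`), and which the two-level module analysis excludes as soon as `Q` acts
faithfully on an elementary abelian `r`-group (`r ≠ q`) on which `s` is fixed-point-free.
-/

set_option autoImplicit false

namespace Cfsg.Agent.Helper1.GrossFit

open Subgroup

variable {Γ : Type*} [Group Γ]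

/-- the two-level configuration -/
structure TwoLevel (s0 q n : ℕ) (S Q : Subgroup Γ) (s : Γ) : Prop where
  hs0 : s0.Prime
  hq : q.Prime
  hs02 : s0 ≠ 2
  hq2 : q ≠ 2
  hqs0 : q ≠ s0
  hn : 0 < n
  hS : IsPGroup s0 S
  hQ : IsPGroup q Q
  hsS : s ∈ normalizer (S : Set Γ)
  hsQ : s ∈ normalizer (Q : Set Γ)
  hSQ : S ≤ normalizer (Q : Set Γ)
  hs : s ^ (2 ^ n) = 1
  hfpfS : ∀ g ∈ S, s * g * s⁻¹ = g → g = 1
  hfpfQ : ∀ g ∈ Q, s * g * s⁻¹ = g → g = 1
  /-- `S = [S, b]` -/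
  hgen : closure {c : Γ | ∃ x ∈ S, c = s ^ (2 ^ (n - 1)) * x * (s ^ (2 ^ (n - 1)))⁻¹ * x⁻¹} = S
  /-- `S` acts nontrivially on `Q` -/
  hnt : ∃ x ∈ S, ∃ g ∈ Q, x * g * x⁻¹ ≠ g
  /-- `b` centralises every proper `s`-invariant subgroup of `S` modulo `C_S(Q)` -/
  hminS : ∀ S₁ : Subgroup Γ, S₁ ≤ S → s ∈ normalizer (S₁ : Set Γ) → S₁ ≠ S → ∀ x ∈ S₁, ∀ g ∈ Q,
    (s ^ (2 ^ (n - 1)) * x * (s ^ (2 ^ (n - 1)))⁻¹ * x⁻¹) * g *
      (s ^ (2 ^ (n - 1)) * x * (s ^ (2 ^ (n - 1)))⁻¹ * x⁻¹)⁻¹ = g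
  /-- `S` centralises every proper `S⟨s⟩`-invariant subgroup of `Q` -/
  hminQ : ∀ Q₁ : Subgroup Γ, Q₁ ≤ Q → s ∈ normalizer (Q₁ : Set Γ) → S ≤ normalizer (Q₁ : Set Γ) →
    Q₁ ≠ Q → ∀ x ∈ S, ∀ g ∈ Q₁, x * g * x⁻¹ = g

/-- the statement that the two-level configuration cannot act: `Q` faithful on an elementary abelian
`r`-group `V` (`r ∉ {2, q}`) on which `s` is fixed-point-free -/
def NoTwoLevel (Γ : Type*) [Group Γ] {V : Type*} [CommGroup V] (r n : ℕ) (φ : Γ →* MulAut V)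
    (s : Γ) : Prop :=
  ∀ (s0 q : ℕ) (S Q : Subgroup Γ), TwoLevel s0 q n S Q s → q ≠ r →
    (∀ g ∈ Q, φ g = 1 → g = 1) → False

end Cfsg.Agent.Helper1.GrossFit
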