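import Mathlib
import Cfsg.Agent.Helper13.ShultFit
import Cfsg.Agent.Helper13.PqS
import Cfsg.Agent.Helper27.BG15G
import Cfsg.Agent.Helper27.BG15J
import Cfsg.Agent.Lead.Bender3

/-!
# Gross's theorem (`p = 2`), Fitting step, part A

`mem_fittingOf_of_centralizes`: in a finite group `Γ` with a normal subgroup `K`, an element `z ∈ K`
whose image in `Γ / F(K)` lies in `O_{s0}(K / F(K))` and which centralises `O_q(K)` for all primes
`q ≠ s0` lies in `F(K)`.
-/

set_option autoImplicit false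
set_option linter.style.haveILetI false
set_option linter.unusedSectionVars false

namespace Cfsg.Agent.Helper1.GrossFit

open Subgroup Cfsg

variable {Γ : Type*} [Group Γ] [Finite Γ]

theorem mem_fittingOf_of_centralizes (K : Subgroup Γ) [hKn : K.Normal] (F : Subgroup Γ) [hFn : F.Normal]
    (hF : F = fittingOf K) (s0 : ℕ) [hs0 : Fact s0.Prime] (z : Γ)
    (hz : QuotientGroup.mk' F z ∈ pCoreOf s0 (K.map (QuotientGroup.mk' F)))
    (hcen : ∀ q : ℕ, q.Prime → q ≠ s0 → ∀ u ∈ pCoreOf q K, z * u * z⁻¹ = u) : z ∈ F := by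
  classical
  set π := QuotientGroup.mk' F with hπ
  have hkerπ : π.ker = F := QuotientGroup.ker_mk' F
  have hFK : F ≤ K := hF ▸ Cfsg.Agent.Lead.BG8.fittingOf_le K
  set R : Subgroup Γ := pCoreOf s0 K with hR
  haveI hRn : R.Normal := Cfsg.Agent.Helper13.PqS.pCoreOf_normal s0 K
  have hRp : IsPGroup s0 R := Cfsg.Agent.Helper14.pCoreOf_isPGroup s0 K
  set A : Subgroup Γ := ⨆ q : {q : Nat.Primes // (q : ℕ) ≠ s0}, pCoreOf (q : ℕ) K with hA
  haveI hAn : A.Normal := by
    rw [hA]
    haveI : ∀ q : {q : Nat.Primes // (q : ℕ) ≠ s0}, (pCoreOf ((q : Nat.Primes) : ℕ) K).Normal := by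
      intro q
      haveI : Fact ((q : Nat.Primes) : ℕ).Prime := ⟨q.1.2⟩
      exact Cfsg.Agent.Helper13.PqS.pCoreOf_normal _ K
    exact Subgroup.iSup_normal _
  have hFRA : F ≤ R ⊔ A := by
    rw [hF, Cfsg.Agent.Lead.Bender.fittingOf_eq_iSup]
    apply iSup_le
    intro p
    by_cases hp : (p : ℕ) = s0
    · rw [hp]; exact le_sup_left
    · exact le_trans (le_iSup (fun q : {q : Nat.Primes // (q : ℕ) ≠ s0} => pCoreOf (q : ℕ) K) ⟨p, hp⟩)
        le_sup_right
  have hRF : R ≤ F := by
    rw [hF]; exact Cfsg.Agent.Lead.Bender.pCoreOf_le_fittingOf K s0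
  set K' : Subgroup (Γ ⧸ F) := K.map π with hK'
  haveI hK'n : K'.Normal := hKn.map π (QuotientGroup.mk'_surjective F)
  set T : Subgroup (Γ ⧸ F) := pCoreOf s0 K' with hT
  haveI hTn : T.Normal := Cfsg.Agent.Helper13.PqS.pCoreOf_normal s0 K'
  have hTp : IsPGroup s0 T := Cfsg.Agent.Helper14.pCoreOf_isPGroup s0 K'
  set D : Subgroup Γ := T.comap π ⊓ centralizer (A : Set Γ) with hD
  haveI hDn : D.Normal := by rw [hD]; infer_instance
  have hDK : D ≤ K := by
    intro x hx
    have h1 : π x ∈ K' := Cfsg.Agent.Helper14.pCoreOf_le s0 K' hx.1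
    obtain ⟨k, hk, hkx⟩ := h1
    have h2 : k⁻¹ * x ∈ F := by
      rw [← hkerπ, MonoidHom.mem_ker, map_mul, map_inv, hkx, inv_mul_cancel]
    have : x = k * (k⁻¹ * x) := by group
    rw [this]
    exact K.mul_mem hk (hFK h2)
  have hRD : R ≤ D := by
    intro x hx
    refine ⟨?_, ?_⟩
    · show π x ∈ T
      have : π x = 1 := by
        rw [← MonoidHom.mem_ker, hkerπ]; exact hRF hx
      rw [this]; exact T.one_mem
    · have h1 : A ≤ centralizer (R : Set Γ) := by
        rw [hA]
        apply iSup_le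
        intro q
        haveI : Fact ((q : Nat.Primes) : ℕ).Prime := ⟨q.1.2⟩
        exact Cfsg.Agent.Lead.Bender.pCoreOf_le_centralizer_of_ne K q.2
      exact (le_centralizer_iff.mp h1) hx
  -- the central subgroup
  set Z : Subgroup Γ := D ⊓ A with hZ
  have hZc : ∀ x ∈ D, ∀ a ∈ A, a * x = x * a := by
    intro x hx a ha
    exact (mem_centralizer_iff.mp hx.2) a ha
  have hpow : ∀ x ∈ D, ∃ k : ℕ, x ^ (s0 ^ k) ∈ Z := by
    intro x hx
    obtain ⟨a, ha⟩ := hTp ⟨π x, hx.1⟩
    have ha' : π (x ^ (s0 ^ a)) = 1 := by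
      have := congrArg Subtype.val ha
      simpa using this
    have hwF : x ^ (s0 ^ a) ∈ F := by
      rw [← hkerπ]; exact MonoidHom.mem_ker.mpr ha'
    have hwD : x ^ (s0 ^ a) ∈ D := D.pow_mem hx _
    obtain ⟨r, hr, a', ha', hra⟩ := mem_sup_of_normal_right.mp (hFRA hwF)
    have hrD : r ∈ D := hRD hr
    have ha'D : a' ∈ D := by
      have : a' = r⁻¹ * x ^ (s0 ^ a) := by rw [← hra]; group
      rw [this]
      exact D.mul_mem (D.inv_mem hrD) hwD
    obtain ⟨c, hc⟩ := hRp ⟨r, hr⟩
    have hc' : r ^ (s0 ^ c) = 1 := by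
      have := congrArg Subtype.val hc
      simpa using this
    have hcomm : Commute r a' := (hZc r hrD a' ha').symm
    refine ⟨a + c, ?_⟩
    rw [pow_add, pow_mul, ← hra, hcomm.mul_pow, hc', one_mul]
    exact Z.pow_mem ⟨ha'D, ha'⟩ _
  -- `D` is nilpotent
  have hDnil : Group.IsNilpotent D := by
    set Z' : Subgroup D := Z.subgroupOf D with hZ'
    have hZ'c : Z' ≤ center D := by
      intro x hx
      rw [mem_center_iff]
      intro y
      apply Subtype.ext
      have hxA : (x : Γ) ∈ A := (mem_subgroupOf.mp hx).2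
      exact (hZc y y.2 x hxA).symm
    haveI hZ'n : Z'.Normal := by
      constructor
      intro x hx y
      have := hZ'c hx
      rw [mem_center_iff] at this
      rw [this y, mul_inv_cancel_right]
      exact hx
    have hquot : IsPGroup s0 (D ⧸ Z') := by
      intro y
      obtain ⟨d, rfl⟩ := QuotientGroup.mk'_surjective Z' y
      obtain ⟨k, hk⟩ := hpow d d.2
      refine ⟨k, ?_⟩
      rw [← map_pow, QuotientGroup.mk'_apply, QuotientGroup.eq_one_iff, mem_subgroupOf]
      simpa using hk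
    haveI : Group.IsNilpotent (D ⧸ Z') := hquot.isNilpotent
    apply Subgroup.isNilpotent_of_ker_le_center (QuotientGroup.mk' Z')
    rw [QuotientGroup.ker_mk']
    exact hZ'c
  have hDF : D ≤ F := by
    rw [hF]
    apply Cfsg.Agent.Helper27.BG15.le_fittingOf hDK _ hDnil
    rw [normalizer_eq_top]; exact le_top
  apply hDF
  refine ⟨hz, ?_⟩
  change z ∈ centralizer (A : Set Γ)
  have h1 : A ≤ centralizer ({z} : Set Γ) := by
    rw [hA]
    apply iSup_le
    intro q u hu
    rw [mem_centralizer_iff]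
    intro y hy
    rw [Set.mem_singleton_iff] at hy
    subst hy
    have := hcen q q.1.2 q.2 u hu
    calc y * u = (y * u * y⁻¹) * y := by group
      _ = u * y := by rw [this]
  rw [mem_centralizer_iff]
  intro a ha
  have := (mem_centralizer_iff.mp (h1 ha)) z (Set.mem_singleton z)
  exact this.symm

end Cfsg.Agent.Helper1.GrossFit
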