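import Mathlib
import Cfsg.Agent.Helper1.GrossCfg
import Cfsg.Agent.Helper1.GrossFitA
import Cfsg.Agent.Helper14.PReduced4
import Cfsg.Agent.Lead.CoprimeSylow

/-!
# Gross's theorem (`p = 2`), Fitting step

`comm_mem_fittingOf_of`: `Γ` acts faithfully and irreducibly on the elementary abelian `r`-group `V`,
`K ⊴ Γ` is solvable of odd order, `s ∈ Γ` with `s ^ (2 ^ n) = 1` acts fixed-point-freely on `K`.
If no two-level configuration (`TwoLevel`) can act faithfully on `V`, then `b = s ^ (2 ^ (n-1))`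
centralises `K / F(K)`.
-/

set_option autoImplicit false
set_option linter.style.haveILetI false
set_option linter.unusedSectionVars false
set_option maxHeartbeats 1600000

namespace Cfsg.Agent.Helper1.GrossFit

open Subgroup Cfsg

variable {Γ : Type*} [Group Γ]

/-- an involution inverts its commutators -/
theorem conj_comm_of_sq (b x : Γ) (hb : b * b = 1) :
    b * (b * x * b⁻¹ * x⁻¹) * b⁻¹ = (b * x * b⁻¹ * x⁻¹)⁻¹ := by
  have hbi : b⁻¹ = b := inv_eq_of_mul_eq_one_left hb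
  calc b * (b * x * b⁻¹ * x⁻¹) * b⁻¹ = (b * b) * x * b⁻¹ * x⁻¹ * b⁻¹ := by group
    _ = x * b⁻¹ * x⁻¹ * b⁻¹ := by rw [hb, one_mul]
    _ = x * b * x⁻¹ * b⁻¹ := by rw [hbi]
    _ = (b * x * b⁻¹ * x⁻¹)⁻¹ := by group

/-- `[b, [b, x]] = [b, x]⁻²` for an involution `b` -/
theorem comm_comm_of_sq (b x : Γ) (hb : b * b = 1) :
    b * (b * x * b⁻¹ * x⁻¹) * b⁻¹ * (b * x * b⁻¹ * x⁻¹)⁻¹ =
      (b * x * b⁻¹ * x⁻¹)⁻¹ * (b * x * b⁻¹ * x⁻¹)⁻¹ := by
  rw [conj_comm_of_sq b x hb]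

/-- an element of odd order lies in a subgroup as soon as the square of its inverse does -/
theorem mem_of_inv_sq_mem (H : Subgroup Γ) (c : Γ) (m : ℕ) (hm : Odd m) (hc : c ^ m = 1)
    (h : c⁻¹ * c⁻¹ ∈ H) : c ∈ H := by
  obtain ⟨k, hk⟩ := hm
  have h1 : c * c ∈ H := by
    have := H.inv_mem h
    simpa using this
  have h2 : c = (c * c) ^ (k + 1) := by
    rw [← pow_two, ← pow_mul]
    have : 2 * (k + 1) = m + 1 := by omega
    rw [this, pow_succ, hc, one_mul]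
  rw [h2]
  exact H.pow_mem h1 _

variable [Finite Γ]

/-- **Fitting step of Gross's theorem** (hypothesis form). -/
theorem comm_mem_fittingOf_of {V : Type*} [CommGroup V] [Finite V]
    {r n : ℕ} (hr : r.Prime) (hn : 0 < n)
    (hV : ∀ v : V, v ^ r = 1) (φ : Γ →* MulAut V) (hφ : Function.Injective φ)
    (hirr : ∀ U : Subgroup V, (∀ x : Γ, ∀ v ∈ U, φ x v ∈ U) → U = ⊥ ∨ U = ⊤)
    (K : Subgroup Γ) [hKn : K.Normal] (hK : Group.IsSolvable K) (hcop : (Nat.card K).Coprime 2)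
    (s : Γ) (hs : s ^ (2 ^ n) = 1) (hfpfK : ∀ g ∈ K, s * g * s⁻¹ = g → g = 1)
    (hTL : NoTwoLevel Γ r n φ s) :
    ∀ g ∈ K, s ^ (2 ^ (n - 1)) * g * (s ^ (2 ^ (n - 1)))⁻¹ * g⁻¹ ∈ fittingOf K := by
  classical
  set b := s ^ (2 ^ (n - 1)) with hb
  have hb2 : b * b = 1 := by
    rw [hb, ← pow_add, ← two_mul, ← pow_succ', Nat.sub_add_cancel hn, hs]
  have hbi : b⁻¹ = b := inv_eq_of_mul_eq_one_left hb2
  have hbs : Commute s b := (Commute.refl s).pow_right _
  have hbA : b ∈ zpowers s := Subgroup.pow_mem _ (mem_zpowers s) _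
  have hKodd : Odd (Nat.card K) := Nat.coprime_two_right.mp hcop
  have hpowK : ∀ c ∈ K, c ^ Nat.card K = 1 := by
    intro c hc
    have h1 := pow_card_eq_one' (G := K) (x := ⟨c, hc⟩)
    have h2 := congrArg Subtype.val h1
    rw [Subgroup.coe_pow, Subgroup.coe_one] at h2
    exact h2
  set F : Subgroup Γ := fittingOf K with hF
  haveI hFn : F.Normal := Cfsg.Agent.Helper27.BG15.fittingOf_normal K
  have hFK : F ≤ K := Cfsg.Agent.Lead.BG8.fittingOf_le K
  set π := QuotientGroup.mk' F with hπ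
  have hπs : Function.Surjective π := QuotientGroup.mk'_surjective F
  have hkerπ : π.ker = F := QuotientGroup.ker_mk' F
  by_contra hcon
  push Not at hcon
  obtain ⟨g₀, hg₀K, hg₀⟩ := hcon
  -- the quotient by `F`
  set K' : Subgroup (Γ ⧸ F) := K.map π with hK'
  haveI hK'n : K'.Normal := hKn.map π hπs
  have hK's : Group.IsSolvable K' :=
    Group.isSolvable_of_surjective (f := π.subgroupMap K) (π.subgroupMap_surjective K)
  have hK'cop : (Nat.card K').Coprime 2 := hcop.coprime_dvd_left (Subgroup.card_map_dvd K π)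
  have hb'2 : (π b) ^ 2 = 1 := by rw [← map_pow, pow_two, hb2, map_one]
  have hnot : ¬ ∀ h ∈ K', π b * h * (π b)⁻¹ = h := by
    intro h
    apply hg₀
    rw [← hkerπ, MonoidHom.mem_ker, map_mul, map_mul, map_mul, map_inv, map_inv,
      h (π g₀) ⟨g₀, hg₀K, rfl⟩, mul_inv_cancel]
  obtain ⟨s0, hs0, g', hg', hg'ne⟩ :=
    Cfsg.Agent.Helper13.ShultFit.exists_pCoreOf_not_centralized K' hK's hK'cop (π b) hb'2 hnot
  haveI hs0F : Fact s0.Prime := ⟨hs0⟩
  set T : Subgroup (Γ ⧸ F) := pCoreOf s0 K' with hT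
  haveI hTn : T.Normal := Cfsg.Agent.Helper13.PqS.pCoreOf_normal s0 K'
  have hTp : IsPGroup s0 T := Cfsg.Agent.Helper14.pCoreOf_isPGroup s0 K'
  set Sst : Subgroup Γ := T.comap π with hSst
  haveI hSstn : Sst.Normal := by rw [hSst]; infer_instance
  have hFSst : F ≤ Sst := by
    intro x hx
    show π x ∈ T
    have : π x = 1 := by rw [← MonoidHom.mem_ker, hkerπ]; exact hx
    rw [this]; exact T.one_mem
  have hSstK : Sst ≤ K := by
    intro x hx
    have h1 : π x ∈ K' := Cfsg.Agent.Helper14.pCoreOf_le s0 K' hx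
    obtain ⟨k, hk, hkx⟩ := h1
    have h2 : k⁻¹ * x ∈ F := by
      rw [← hkerπ, MonoidHom.mem_ker, map_mul, map_inv, hkx, inv_mul_cancel]
    have : x = k * (k⁻¹ * x) := by group
    rw [this]
    exact K.mul_mem hk (hFK h2)
  -- an `s`-invariant Sylow subgroup of `Sst`
  set A : Subgroup Γ := zpowers s with hA
  have hAcard : Nat.card A ∣ 2 ^ n := by
    rw [hA, Nat.card_zpowers]; exact orderOf_dvd_of_pow_eq_one hs
  have hcopA : ∀ H : Subgroup Γ, H ≤ K → (Nat.card A).Coprime (Nat.card H) := by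
    intro H hH
    have h1 : (Nat.card H).Coprime 2 := hcop.coprime_dvd_left (Subgroup.card_dvd_of_le hH)
    exact Nat.Coprime.coprime_dvd_left hAcard (h1.symm.pow_left n)
  have hASst : A ≤ normalizer (Sst : Set Γ) := by rw [normalizer_eq_top]; exact le_top
  obtain ⟨P₀, hP₀⟩ := Cfsg.Agent.Lead.coprime_exists_invariant_sylow A Sst hASst (hcopA Sst hSstK)
    (Or.inl (Cfsg.Agent.Lead.isSolvable_of_isMulCommutative A)) s0
  set P : Subgroup Γ := (P₀ : Subgroup Sst).map Sst.subtype with hP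
  have hPsyl : Cfsg.Agent.Helper14.IsSylowIn s0 P Sst := Cfsg.Agent.Helper14.isSylowIn_of_sylow P₀
  have hPSst : P ≤ Sst := hPsyl.1
  have hPK : P ≤ K := hPSst.trans hSstK
  have hPp : IsPGroup s0 P := hPsyl.2.1
  have hsP : s ∈ normalizer (P : Set Γ) := hP₀ (mem_zpowers s)
  have hSstPF : Sst ≤ P ⊔ F := by
    apply Cfsg.Agent.Helper14.le_sylow_sup_of_pQuotient hPsyl hFSst
    · rw [normalizer_eq_top]; exact le_top
    · intro d hd
      obtain ⟨a, ha⟩ := hTp ⟨π d, hd⟩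
      refine ⟨a, ?_⟩
      rw [← hkerπ, MonoidHom.mem_ker, map_pow]
      have := congrArg Subtype.val ha
      simpa using this
  -- an element `y ∈ P` on which `b` acts nontrivially modulo `F`
  obtain ⟨x₀, rfl⟩ := hπs g'
  obtain ⟨y, hyP, f, hfF, hyf⟩ := mem_sup_of_normal_right.mp (hSstPF hg')
  have hπy : π y = π x₀ := by
    rw [← hyf, map_mul]
    have : π f = 1 := by rw [← MonoidHom.mem_ker, hkerπ]; exact hfF
    rw [this, mul_one]
  set z := b * y * b⁻¹ * y⁻¹ with hz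
  have hbP : b ∈ normalizer (P : Set Γ) := Subgroup.pow_mem _ hsP _
  have hzP : z ∈ P := P.mul_mem ((mem_normalizer_iff.mp hbP y).mp hyP) (P.inv_mem hyP)
  have hzF : z ∉ F := by
    intro h
    apply hg'ne
    rw [← hkerπ, MonoidHom.mem_ker, hz, map_mul, map_mul, map_mul, map_inv, map_inv, hπy] at h
    exact mul_inv_eq_one.mp h
  -- a prime `q ≠ s0` with `z` acting nontrivially on `O_q(K)`
  obtain ⟨q, hq, hqs0, u, hu, hune⟩ : ∃ q : ℕ, q.Prime ∧ q ≠ s0 ∧ ∃ u ∈ pCoreOf q K,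
      z * u * z⁻¹ ≠ u := by
    by_contra hcon
    push Not at hcon
    exact hzF (mem_fittingOf_of_centralizes K F hF s0 z (hPSst hzP) hcon)
  haveI hqF : Fact q.Prime := ⟨hq⟩
  set Q0 : Subgroup Γ := pCoreOf q K with hQ0
  haveI hQ0n : Q0.Normal := Cfsg.Agent.Helper13.PqS.pCoreOf_normal q K
  have hQ0p : IsPGroup q Q0 := Cfsg.Agent.Helper14.pCoreOf_isPGroup q K
  have hQ0K : Q0 ≤ K := Cfsg.Agent.Helper14.pCoreOf_le q K
  have hu1 : u ≠ 1 := by
    rintro rfl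
    apply hune
    group
  have hz1 : z ≠ 1 := by
    intro h
    apply hune
    rw [h]; group
  -- `q ≠ r`
  have hqr : q ≠ r := by
    intro hqr
    have hQr : IsPGroup r Q0 := hqr ▸ hQ0p
    have h1 := Cfsg.Agent.Helper13.ShultFit.normal_rgroup_acts_trivially hr hV φ hirr Q0 hQr u hu
    apply hu1
    apply hφ
    rw [h1, map_one]
  -- the primes are odd
  have hodd : ∀ (t : ℕ) (H : Subgroup Γ), t.Prime → IsPGroup t H → H ≤ K → ∀ c ∈ H, c ≠ 1 →
      t ≠ 2 := by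
    intro t H ht hH hHK c hc hc1 ht2
    subst ht2
    haveI : Fact (Nat.Prime 2) := ⟨ht⟩
    obtain ⟨k, hk⟩ := hH ⟨c, hc⟩
    have hk' : c ^ (2 ^ k) = 1 := by
      have := congrArg Subtype.val hk
      simpa using this
    have h1 : orderOf c ∣ 2 ^ k := orderOf_dvd_of_pow_eq_one hk'
    have h2 : orderOf c ∣ Nat.card K := orderOf_dvd_of_pow_eq_one (hpowK c (hHK hc))
    have h3 : orderOf c ∣ 1 := by
      have := Nat.dvd_gcd h2 h1
      rwa [Nat.Coprime.pow_right k hcop] at this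
    exact hc1 (orderOf_eq_one_iff.mp (Nat.dvd_one.mp h3))
  have hs02 : s0 ≠ 2 := hodd s0 P hs0 hPp hPK z hzP hz1
  have hq2 : q ≠ 2 := hodd q Q0 hq hQ0p hQ0K u hu hu1
  -- conjugation by powers of `s` commutes with `[b, ·]`
  have hconjb : ∀ a ∈ A, ∀ x : Γ, a * (b * x * b⁻¹ * x⁻¹) * a⁻¹ =
      b * (a * x * a⁻¹) * b⁻¹ * (a * x * a⁻¹)⁻¹ := by
    intro a ha x
    obtain ⟨k, rfl⟩ := mem_zpowers_iff.mp ha
    have hc : Commute (s ^ k) b := hbs.zpow_left k
    calc s ^ k * (b * x * b⁻¹ * x⁻¹) * (s ^ k)⁻¹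
        = (s ^ k * b) * x * b⁻¹ * x⁻¹ * (s ^ k)⁻¹ := by group
      _ = (b * s ^ k) * x * b⁻¹ * x⁻¹ * (s ^ k)⁻¹ := by rw [hc.eq]
      _ = b * (s ^ k * x) * (b⁻¹ * (s ^ k)⁻¹) * (s ^ k * x⁻¹ * (s ^ k)⁻¹) := by group
      _ = b * (s ^ k * x) * ((s ^ k)⁻¹ * b⁻¹) * (s ^ k * x⁻¹ * (s ^ k)⁻¹) := by
          rw [← mul_inv_rev, hc.eq, mul_inv_rev]
      _ = b * (s ^ k * x * (s ^ k)⁻¹) * b⁻¹ * (s ^ k * x * (s ^ k)⁻¹)⁻¹ := by group
  -- a minimal `S`
  obtain ⟨S, hSP, hSmin⟩ := Finite.exists_le_minimal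
    (p := fun S : Subgroup Γ => S ≤ P ∧ s ∈ normalizer (S : Set Γ) ∧
      ∃ x ∈ S, ∃ u ∈ Q0, (b * x * b⁻¹ * x⁻¹) * u * (b * x * b⁻¹ * x⁻¹)⁻¹ ≠ u) (a := P)
    ⟨le_rfl, hsP, y, hyP, u, hu, hune⟩
  obtain ⟨-, hsS, x₁, hx₁S, u₁, hu₁, hne₁⟩ := hSmin.prop
  have hSK : S ≤ K := hSP.trans hPK
  have hAS : A ≤ normalizer (S : Set Γ) := by rw [hA, zpowers_le]; exact hsS
  have hbS : b ∈ normalizer (S : Set Γ) := hAS hbA
  have hcommS : ∀ x ∈ S, b * x * b⁻¹ * x⁻¹ ∈ S := fun x hx =>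
    S.mul_mem ((mem_normalizer_iff.mp hbS x).mp hx) (S.inv_mem hx)
  set gens : Set Γ := {c : Γ | ∃ x ∈ S, c = b * x * b⁻¹ * x⁻¹} with hgens
  have hgenS : closure gens = S := by
    apply le_antisymm
    · rw [closure_le]
      rintro _ ⟨x, hx, rfl⟩
      exact hcommS x hx
    · apply hSmin.le_of_le
      · refine ⟨?_, ?_, ?_⟩
        · refine le_trans ?_ hSP
          rw [closure_le]
          rintro _ ⟨x, hx, rfl⟩
          exact hcommS x hx
        · have h1 : A ≤ normalizer ((closure gens : Subgroup Γ) : Set Γ) := by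
            rw [le_normalizer_closure_iff]
            rintro a ha _ ⟨x, hx, rfl⟩
            apply Subgroup.subset_closure
            refine ⟨a * x * a⁻¹, (mem_normalizer_iff.mp (hAS ha) x).mp hx, ?_⟩
            exact hconjb a ha x
          exact h1 (mem_zpowers s)
        · set c := b * x₁ * b⁻¹ * x₁⁻¹ with hc
          have hcS : c ∈ S := hcommS x₁ hx₁S
          refine ⟨c, Subgroup.subset_closure ⟨x₁, hx₁S, rfl⟩, ?_⟩
          by_contra hall
          push Not at hall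
          apply hne₁
          have hmem : c ∈ centralizer (Q0 : Set Γ) := by
            apply mem_of_inv_sq_mem _ c (Nat.card K) hKodd (hpowK c (hSK hcS))
            rw [← comm_comm_of_sq b x₁ hb2]
            rw [mem_centralizer_iff]
            intro w hw
            have := hall w hw
            calc w * (b * c * b⁻¹ * c⁻¹) = ((b * c * b⁻¹ * c⁻¹) * w * (b * c * b⁻¹ * c⁻¹)⁻¹)
                  * (b * c * b⁻¹ * c⁻¹) := by rw [this]
              _ = (b * c * b⁻¹ * c⁻¹) * w := by group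
          have := (mem_centralizer_iff.mp hmem) u₁ hu₁
          calc c * u₁ * c⁻¹ = (c * u₁) * c⁻¹ := rfl
            _ = (u₁ * c) * c⁻¹ := by rw [← this]
            _ = u₁ := by group
      · rw [closure_le]
        rintro _ ⟨x, hx, rfl⟩
        exact hcommS x hx
  -- a minimal `Q`
  obtain ⟨Q, hQQ0, hQmin⟩ := Finite.exists_le_minimal
    (p := fun Q : Subgroup Γ => Q ≤ Q0 ∧ s ∈ normalizer (Q : Set Γ) ∧ S ≤ normalizer (Q : Set Γ) ∧
      ∃ x ∈ S, ∃ u ∈ Q, x * u * x⁻¹ ≠ u) (a := Q0)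
    ⟨le_rfl, by rw [normalizer_eq_top]; exact mem_top s, by rw [normalizer_eq_top]; exact le_top,
      b * x₁ * b⁻¹ * x₁⁻¹, hcommS x₁ hx₁S, u₁, hu₁, hne₁⟩
  obtain ⟨-, hsQ, hSQ, hntQ⟩ := hQmin.prop
  have hQK : Q ≤ K := hQQ0.trans hQ0K
  -- the configuration
  have hcfg : TwoLevel s0 q n S Q s :=
    { hs0 := hs0
      hq := hq
      hs02 := hs02
      hq2 := hq2
      hqs0 := hqs0
      hn := hn
      hS := hPp.to_le hSP
      hQ := hQ0p.to_le hQQ0
      hsS := hsS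
      hsQ := hsQ
      hSQ := hSQ
      hs := hs
      hfpfS := fun g hg => hfpfK g (hSK hg)
      hfpfQ := fun g hg => hfpfK g (hQK hg)
      hgen := hgenS
      hnt := hntQ
      hminS := by
        intro S₁ hS₁ hsS₁ hne x hx w hw
        by_contra hcon
        apply hne
        exact le_antisymm hS₁ (hSmin.le_of_le ⟨hS₁.trans hSP, hsS₁, x, hx, w, hQQ0 hw, hcon⟩ hS₁)
      hminQ := by
        intro Q₁ hQ₁ hsQ₁ hSQ₁ hne x hx w hw
        by_contra hcon
        apply hne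
        exact le_antisymm hQ₁
          (hQmin.le_of_le ⟨hQ₁.trans hQQ0, hsQ₁, hSQ₁, x, hx, w, hw, hcon⟩ hQ₁) }
  exact hTL s0 q S Q hcfg hqr (fun g _ hg => hφ (by rw [hg, map_one]))

end Cfsg.Agent.Helper1.GrossFit
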