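import Mathlib
import Cfsg.Agent.Helper1.GrossFit
import Cfsg.Agent.Helper9.ShultK
import Cfsg.Agent.S3794

/-!
# Gross's theorem (`p = 2`): the main induction, modulo the two-level module statement

`TLHyp.{u}`: the statement that a two-level configuration (`GrossFit.TwoLevel`) cannot act, with `Q`
faithful, on an elementary abelian `r`-group on which `s` is fixed-point-free.

`main_aux`: under `TLHyp`, for `G ⊴ X` solvable of odd order, `s ∈ X` a `2`-element acting
fixed-point-freely on `G` with `s ^ (2 ^ n)` centralising `G` (`n ≥ 2`): `lowerNil G (2 n - 2) = ⊥`.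

`gross_of`: the statement of Gross's theorem, under `TLHyp`.
-/

set_option autoImplicit false
set_option linter.style.haveILetI false
set_option linter.unusedSectionVars false
set_option maxHeartbeats 1600000

namespace Cfsg.Agent.Helper1.GrossMain

open Subgroup Cfsg Cfsg.Agent.Helper9.Shult Cfsg.Agent.Helper1.GrossFit Cfsg.Agent.Helper9.Ward

universe u

/-- the two-level module statement -/
def TLHyp : Prop :=
  ∀ {Γ : Type u} [Group Γ] [Finite Γ] {V : Type u} [CommGroup V] [Finite V] {s0 q r n : ℕ}
    {S Q : Subgroup Γ} {s : Γ}, TwoLevel s0 q n S Q s → r.Prime → r ≠ 2 → q ≠ r →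
    (∀ v : V, v ^ r = 1) → ∀ φ : Γ →* MulAut V, (∀ g ∈ Q, φ g = 1 → g = 1) →
    (∀ v : V, φ s v = v → v = 1) → False

section lowerNil

variable {X : Type*} [Group X]

theorem nilRes_mono {H H' : Subgroup X} (h : H ≤ H') : nilRes H ≤ nilRes H' := by
  apply le_iInf
  intro k
  exact (nilRes_le_lcs H k).trans (Subgroup.lowerCentralSeries_mono k h)

theorem nilRes_eq_bot_of_isNilpotent {H : Subgroup X} (h : Group.IsNilpotent H) : nilRes H = ⊥ := by
  obtain ⟨k, hk⟩ := (Subgroup.isNilpotent_iff_lowerCentralSeries H).mp h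
  rw [eq_bot_iff, ← hk]
  exact nilRes_le_lcs H k

theorem lowerNil_succ_eq_bot_of_le {H F : Subgroup X} (hF : Group.IsNilpotent F) (m : ℕ)
    (h : lowerNil H m ≤ F) : lowerNil H (m + 1) = ⊥ := by
  rw [eq_bot_iff, lowerNil_succ, ← nilRes_eq_bot_of_isNilpotent hF]
  exact nilRes_mono h

/-- a subgroup with nilpotent derived subgroup has `lowerNil _ 2 = ⊥` -/
theorem lowerNil_two_eq_bot (G : Subgroup X) (h : Group.IsNilpotent (commutator G)) :
    lowerNil G 2 = ⊥ := by
  have h1 : lowerNil G 1 ≤ ⁅G, G⁆ := by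
    have := nilRes_le_lcs G 1
    rwa [Subgroup.lowerCentralSeries_succ, Subgroup.lowerCentralSeries_zero] at this
  have h2 : Group.IsNilpotent (⁅G, G⁆ : Subgroup X) := by
    rw [← Subgroup.map_subtype_commutator]
    have e : ↥(commutator G) ≃* ↥((commutator G).map G.subtype) :=
      Subgroup.equivMapOfInjective _ _ G.subtype_injective
    exact (Group.isNilpotent_congr e).mp h
  exact lowerNil_succ_eq_bot_of_le h2 1 h1

end lowerNil

/-- base case `n = 2`, from `S3794` -/
theorem base_two {X : Type u} [Group X] [Finite X] (G : Subgroup X) [hG : G.Normal] (s : X)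
    (hsolv : Group.IsSolvable G) (hcen : ∀ g ∈ G, s ^ (2 ^ 2) * g * (s ^ (2 ^ 2))⁻¹ = g)
    (hfpf : ∀ g ∈ G, s * g * s⁻¹ = g → g = 1) : lowerNil G 2 = ⊥ := by
  apply lowerNil_two_eq_bot
  set σ : MulAut G := MulAut.conjNormal s with hσ
  have hσ4 : σ ^ 4 = 1 := by
    rw [hσ, ← map_pow]
    ext g
    rw [MulAut.conjNormal_apply, MulAut.one_apply]
    exact hcen g g.2
  have hσfpf : ∀ g : G, σ g = g → g = 1 := by
    intro g hg
    apply Subtype.ext
    apply hfpf g g.2
    have := congrArg Subtype.val hg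
    rwa [hσ, MulAut.conjNormal_apply] at this
  exact Cfsg.Agent.S3794.result hsolv σ hσ4 hσfpf

theorem main_aux (hTL : TLHyp.{u}) (N : ℕ) : ∀ {X : Type u} [Group X] [Finite X] (n : ℕ)
    (G : Subgroup X) [G.Normal] (s : X), Nat.card X = N → 2 ≤ n → (Nat.card G).Coprime 2 →
    Group.IsSolvable G → (∃ M : ℕ, s ^ (2 ^ M) = 1) →
    (∀ g ∈ G, s ^ (2 ^ n) * g * (s ^ (2 ^ n))⁻¹ = g) →
    (∀ g ∈ G, s * g * s⁻¹ = g → g = 1) → lowerNil G (2 * n - 2) = ⊥ := by
  induction N using Nat.strong_induction_on with
  | _ N ih =>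
    intro X _ _ n G hG s hN hn2 hcop hsolvG hsp hcen hfpf
    rcases Nat.eq_or_lt_of_le hn2 with hn | hn3
    · subst hn
      exact base_two G s hsolvG hcen hfpf
    have hn3' : 3 ≤ n := hn3
    by_cases hG1 : G = ⊥
    · rw [eq_bot_iff, ← hG1]; exact lowerNil_le G _
    have hp : Nat.Prime 2 := Nat.prime_two
    -- a minimal normal subgroup
    obtain ⟨V, hVG, hVmin'⟩ := Finite.exists_le_minimal
      (p := fun V : Subgroup X => V ≠ ⊥ ∧ V.Normal) (a := G) ⟨hG1, hG⟩
    have hVne : V ≠ ⊥ := hVmin'.prop.1
    haveI hVn : V.Normal := hVmin'.prop.2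
    have hVmin : ∀ U : Subgroup X, U.Normal → U ≤ V → U = ⊥ ∨ U = V := by
      intro U hU hUV
      by_cases h : U = ⊥
      · exact Or.inl h
      · exact Or.inr (le_antisymm hUV (hVmin'.le_of_le ⟨h, hU⟩ hUV))
    have hVsolv : Group.IsSolvable V :=
      Group.isSolvable_of_isSolvable_injective (f := Subgroup.inclusion hVG)
        (Subgroup.inclusion_injective hVG)
    obtain ⟨hVcomm, r, hr, hVexp⟩ :=
      Cfsg.Agent.Helper1.minNormal_elementary V hVne hVsolv hVmin
    haveI : Fact r.Prime := ⟨hr⟩
    have hr2 : r ≠ 2 := by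
      intro h
      subst h
      obtain ⟨m, hm⟩ := (isPGroup_of_exp V hVexp).exists_card_eq
      have hm0 : m ≠ 0 := by
        intro h0
        rw [h0, pow_zero] at hm
        exact hVne (Subgroup.card_eq_one.mp hm)
      have h1 : 2 ∣ Nat.card G :=
        (dvd_pow_self 2 hm0).trans (hm ▸ Subgroup.card_dvd_of_le hVG)
      have h2 : 2 ∣ 1 := by
        have := Nat.dvd_gcd h1 (dvd_refl 2)
        rwa [hcop] at this
      exact absurd (Nat.dvd_one.mp h2) (by norm_num)
    -- general facts about images
    have himg : ∀ {Y : Type u} [Group Y] (f : X →* Y), Function.Surjective f →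
        (G.map f).Normal ∧ (Nat.card (G.map f)).Coprime 2 ∧ Group.IsSolvable (G.map f) ∧
        (∃ M : ℕ, (f s) ^ (2 ^ M) = 1) ∧
        (∀ y ∈ G.map f, f s * y * (f s)⁻¹ = y → y = 1) ∧
        ∀ j : ℕ, (∀ g ∈ G, s ^ j * g * (s ^ j)⁻¹ = g) →
          ∀ y ∈ G.map f, (f s) ^ j * y * ((f s) ^ j)⁻¹ = y := by
      intro Y _ f hf
      refine ⟨hG.map f hf, hcop.coprime_dvd_left (Subgroup.card_map_dvd G f),
        Group.isSolvable_of_surjective (f := f.subgroupMap G) (f.subgroupMap_surjective G), ?_,
        fpf_map G s hcop hsp hfpf f, ?_⟩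
      · obtain ⟨M, hM⟩ := hsp
        exact ⟨M, by rw [← map_pow, hM, map_one]⟩
      · rintro j hj _ ⟨g, hg, rfl⟩
        rw [← map_pow, ← map_inv, ← map_mul, ← map_mul, hj g hg]
    -- the quotient by `V`
    have hstep1 : lowerNil G (2 * n - 2) ≤ V := by
      set π := QuotientGroup.mk' V with hπdef
      have hπ : Function.Surjective π := QuotientGroup.mk'_surjective V
      have hkerπ : π.ker = V := QuotientGroup.ker_mk' V
      have hlt : Nat.card (X ⧸ V) < N := hN ▸ Cfsg.Agent.Lead.Fpf.card_quotient_lt hVne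
      obtain ⟨h1, h2, h3, h4, h5, h6⟩ := himg π hπ
      haveI := h1
      have := ih _ hlt n (G.map π) (π s) rfl hn2 h2 h3 h4 (h6 _ hcen) h5
      rw [lowerNil_map, Subgroup.map_eq_bot_iff, hkerπ] at this
      exact this
    -- the quotient by `C_X(V)`
    have hstep2 : lowerNil G (2 * n - 3) ≤ centralizer (V : Set X) := by
      set C : Subgroup X := centralizer (V : Set X) with hC
      haveI hCn : C.Normal := by rw [hC]; infer_instance
      haveI := hVcomm
      have hVC : V ≤ C := le_centralizer_of_isMulCommutative V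
      have hCne : C ≠ ⊥ := fun h => hVne (le_bot_iff.mp (h ▸ hVC))
      set π := QuotientGroup.mk' C with hπdef
      have hπ : Function.Surjective π := QuotientGroup.mk'_surjective C
      have hkerπ : π.ker = C := QuotientGroup.ker_mk' C
      have hlt : Nat.card (X ⧸ C) < N := hN ▸ Cfsg.Agent.Lead.Fpf.card_quotient_lt hCne
      obtain ⟨h1, h2, h3, h4, h5, h6⟩ := himg π hπ
      haveI := h1
      letI instV : CommGroup ↥V :=
        { (inferInstance : Group ↥V) with mul_comm := fun a b => mul_comm' a b }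
      -- the action on `V`
      let φ : X ⧸ C →* MulAut ↥V :=
        QuotientGroup.lift C (MulAut.conjNormal (H := V)) (by
          intro x hx
          rw [MonoidHom.mem_ker]
          ext v
          rw [MulAut.conjNormal_apply]
          have := (mem_centralizer_iff.mp hx) v v.2
          simp only [MulAut.one_apply]
          rw [← this]; group)
      have hφmk : ∀ (x : X) (v : ↥V), ((φ (π x) v : ↥V) : X) = x * v * x⁻¹ := by
        intro x v
        show ((QuotientGroup.lift C (MulAut.conjNormal (H := V)) _ (QuotientGroup.mk x) v : ↥V) : X) = _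
        rw [QuotientGroup.lift_mk, MulAut.conjNormal_apply]
      have hφinj : Function.Injective φ := by
        rw [injective_iff_map_eq_one]
        intro y hy
        obtain ⟨x, rfl⟩ := hπ y
        have hx : x ∈ C := by
          rw [hC, mem_centralizer_iff]
          intro v hv
          have h7 := hφmk x ⟨v, hv⟩
          rw [hy] at h7
          simp only [MulAut.one_apply] at h7
          calc v * x = (x * v * x⁻¹) * x := by rw [← h7]
            _ = x * v := by group
        rw [← hkerπ] at hx
        exact MonoidHom.mem_ker.mp hx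
      have hirr : ∀ U : Subgroup ↥V, (∀ y : X ⧸ C, ∀ v ∈ U, φ y v ∈ U) → U = ⊥ ∨ U = ⊤ := by
        intro U hU
        have hUn : (U.map V.subtype).Normal := by
          constructor
          rintro _ ⟨u, hu, rfl⟩ x
          refine ⟨φ (π x) u, hU _ u hu, ?_⟩
          rw [Subgroup.coe_subtype, hφmk]
        rcases hVmin _ hUn (Subgroup.map_subtype_le U) with h | h
        · left
          exact (Subgroup.map_eq_bot_iff_of_injective U V.subtype_injective).mp h
        · right
          rw [eq_top_iff]
          intro v _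
          have : (v : X) ∈ U.map V.subtype := by rw [h]; exact v.2
          obtain ⟨u, hu, huv⟩ := this
          have : u = v := Subtype.ext huv
          rw [← this]; exact hu
      have hsn : (π s) ^ (2 ^ n) = 1 := by
        rw [← map_pow]
        have : s ^ (2 ^ n) ∈ C := by
          rw [hC, mem_centralizer_iff]
          intro v hv
          have := hcen v (hVG hv)
          calc v * s ^ (2 ^ n) = (s ^ (2 ^ n) * v * (s ^ (2 ^ n))⁻¹) * s ^ (2 ^ n) := by rw [this]
            _ = s ^ (2 ^ n) * v := by group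
        rw [← hkerπ] at this
        exact MonoidHom.mem_ker.mp this
      have hfpfV : ∀ v : ↥V, φ (π s) v = v → v = 1 := by
        intro v hv
        have h7 := hφmk s v
        rw [hv] at h7
        exact Subtype.ext (hfpf v (hVG v.2) h7.symm)
      have hVexp' : ∀ v : ↥V, v ^ r = 1 := fun v => Subtype.ext (by
        have := hVexp v v.2
        simpa using this)
      have hn0 : 0 < n := by omega
      set K : Subgroup (X ⧸ C) := G.map π with hK
      have hkey := comm_mem_fittingOf_of hr hn0 hVexp' φ hφinj hirr K h3 h2 (π s) hsn h5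
        (fun s0 q S Q cfg hqr hfaith => hTL cfg hr hr2 hqr hVexp' φ hfaith hfpfV)
      -- the quotient by `F(K)`
      set F : Subgroup (X ⧸ C) := fittingOf K with hF
      haveI hFn : F.Normal := Cfsg.Agent.Helper27.BG15.fittingOf_normal K
      set π' := QuotientGroup.mk' F with hπ'def
      have hπ' : Function.Surjective π' := QuotientGroup.mk'_surjective F
      have hkerπ' : π'.ker = F := QuotientGroup.ker_mk' F
      have hlt' : Nat.card ((X ⧸ C) ⧸ F) < N :=
        lt_of_le_of_lt (Nat.le_of_dvd Nat.card_pos (Subgroup.card_quotient_dvd_card F)) hlt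
      have hK'n : (K.map π').Normal := h1.map π' hπ'
      have hK'cop : (Nat.card (K.map π')).Coprime 2 :=
        h2.coprime_dvd_left (Subgroup.card_map_dvd K π')
      have hK's : Group.IsSolvable (K.map π') :=
        Group.isSolvable_of_surjective (f := π'.subgroupMap K) (π'.subgroupMap_surjective K)
      have hsp' : ∃ M : ℕ, (π' (π s)) ^ (2 ^ M) = 1 := by
        obtain ⟨M, hM⟩ := h4
        exact ⟨M, by rw [← map_pow, hM, map_one]⟩
      have hfpf' : ∀ y ∈ K.map π', π' (π s) * y * (π' (π s))⁻¹ = y → y = 1 :=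
        fpf_map K (π s) h2 h4 h5 π'
      have hcen' : ∀ y ∈ K.map π', (π' (π s)) ^ (2 ^ (n - 1)) * y * ((π' (π s)) ^ (2 ^ (n - 1)))⁻¹
          = y := by
        rintro _ ⟨k, hk, rfl⟩
        have h7 := hkey k hk
        rw [← hkerπ', MonoidHom.mem_ker, map_mul, map_mul, map_mul, map_inv, map_inv, map_pow] at h7
        exact mul_inv_eq_one.mp h7
      have h8 := ih _ hlt' (n - 1) (K.map π') (π' (π s)) rfl (by omega) hK'cop hK's hsp' hcen' hfpf'
      rw [lowerNil_map, Subgroup.map_eq_bot_iff, hkerπ'] at h8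
      have h9 : lowerNil K (2 * (n - 1) - 2 + 1) = ⊥ :=
        lowerNil_succ_eq_bot_of_le (Cfsg.Agent.Lead.BG8.fittingOf_isNilpotent K) _ h8
      have h10 : 2 * (n - 1) - 2 + 1 = 2 * n - 3 := by omega
      rw [h10, hK, lowerNil_map, Subgroup.map_eq_bot_iff, hkerπ] at h9
      exact h9
    obtain ⟨m, hm⟩ : ∃ m, 2 * n - 2 = m + 1 := ⟨2 * n - 3, by omega⟩
    have hm' : 2 * n - 3 = m := by omega
    rw [hm]
    rw [hm] at hstep1
    rw [hm'] at hstep2
    exact lowerNil_succ_eq_bot G V m hstep1 hstep2

end Cfsg.Agent.Helper1.GrossMain
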