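import Mathlib
import Cfsg.Agent.Helper1.GrossCfg
import Cfsg.Agent.Helper13.ShultFit

/-!
# Gross's theorem (`p = 2`): Hall–Higman type consequences of the two-level configuration

For a configuration `C : TwoLevel s0 q n S Q s`:

* `C.centralizes_of_centralizes_comm`: coprime action, `[Q, S, S] = 1 ⇒ [Q, S] = 1` elementwise;
* `C.comm_closure` (P1): `Q = [S, Q]`;
* `C.central_of_invariant` (P2): every proper subgroup of `Q` invariant under `s`, `S` and `Q` is
  central in `Q` (and centralised by `S`, which is `C.hminQ`).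
-/

set_option autoImplicit false
set_option linter.style.haveILetI false
set_option linter.unusedSectionVars false

namespace Cfsg.Agent.Helper1.GrossFit

open Subgroup

variable {Γ : Type*} [Group Γ]

namespace TwoLevel

variable {s0 q n : ℕ} {S Q : Subgroup Γ} {s : Γ}

/-- conjugation by an element of `N(S) ∩ N(Q)` maps commutator generators to commutator generators -/
theorem conj_comm (a x g : Γ) :
    a * (x * g * x⁻¹ * g⁻¹) * a⁻¹ = (a * x * a⁻¹) * (a * g * a⁻¹) * (a * x * a⁻¹)⁻¹ * (a * g * a⁻¹)⁻¹ := by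
  group

/-- an `s0`-element `x` centralising `g⁻¹ (x g x⁻¹)` with `g` a `q`-element centralises `g` -/
theorem eq_of_centralizes_comm (C : TwoLevel s0 q n S Q s) {x g : Γ} (hx : x ∈ S) (hg : g ∈ Q)
    (h : x * (g⁻¹ * (x * g * x⁻¹)) * x⁻¹ = g⁻¹ * (x * g * x⁻¹)) : x * g * x⁻¹ = g := by
  haveI : Fact s0.Prime := ⟨C.hs0⟩
  haveI : Fact q.Prime := ⟨C.hq⟩
  set c := g⁻¹ * (x * g * x⁻¹) with hc
  obtain ⟨a, ha⟩ := C.hS ⟨x, hx⟩
  have ha' : x ^ (s0 ^ a) = 1 := by
    have := congrArg Subtype.val ha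
    simpa using this
  have hcQ : c ∈ Q := Q.mul_mem (Q.inv_mem hg) ((mem_normalizer_iff.mp (C.hSQ hx) g).mp hg)
  obtain ⟨d, hd⟩ := C.hQ ⟨c, hcQ⟩
  have hd' : c ^ (q ^ d) = 1 := by
    have := congrArg Subtype.val hd
    simpa using this
  have h1 := Cfsg.Agent.Helper13.ShultFit.conj_pow_formula x g c hc h (s0 ^ a)
  rw [ha'] at h1
  have h2 : c ^ (s0 ^ a) = 1 := by
    have : g = g * c ^ (s0 ^ a) := by simpa using h1
    exact mul_eq_left.mp this.symm
  have h3 : c = 1 := by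
    have ho1 : orderOf c ∣ s0 ^ a := orderOf_dvd_of_pow_eq_one h2
    have ho2 : orderOf c ∣ q ^ d := orderOf_dvd_of_pow_eq_one hd'
    have hcop : Nat.Coprime (s0 ^ a) (q ^ d) :=
      Nat.Coprime.pow _ _ ((Nat.coprime_primes C.hs0 C.hq).mpr (Ne.symm C.hqs0))
    have ho3 : orderOf c ∣ 1 := by
      have := Nat.dvd_gcd ho1 ho2
      rwa [hcop] at this
    exact orderOf_eq_one_iff.mp (Nat.dvd_one.mp ho3)
  calc x * g * x⁻¹ = g * (g⁻¹ * (x * g * x⁻¹)) := by group
    _ = g := by rw [← hc, h3, mul_one]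

variable [Finite Γ]

/-- (P1): `Q = [S, Q]` -/
theorem comm_closure (C : TwoLevel s0 q n S Q s) :
    closure {c : Γ | ∃ x ∈ S, ∃ g ∈ Q, c = x * g * x⁻¹ * g⁻¹} = Q := by
  set gens : Set Γ := {c : Γ | ∃ x ∈ S, ∃ g ∈ Q, c = x * g * x⁻¹ * g⁻¹} with hgens
  have hgQ : ∀ c ∈ gens, c ∈ Q := by
    rintro _ ⟨x, hx, g, hg, rfl⟩
    exact Q.mul_mem ((mem_normalizer_iff.mp (C.hSQ hx) g).mp hg) (Q.inv_mem hg)
  have hle : closure gens ≤ Q := (closure_le Q).mpr hgQ
  by_contra hne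
  -- invariance of `[S, Q]`
  have hinv : ∀ a : Γ, a ∈ normalizer (S : Set Γ) → a ∈ normalizer (Q : Set Γ) →
      ∀ c ∈ gens, a * c * a⁻¹ ∈ closure gens := by
    rintro a haS haQ _ ⟨x, hx, g, hg, rfl⟩
    apply Subgroup.subset_closure
    exact ⟨a * x * a⁻¹, (mem_normalizer_iff.mp haS x).mp hx, a * g * a⁻¹,
      (mem_normalizer_iff.mp haQ g).mp hg, conj_comm a x g⟩
  have hsN : s ∈ normalizer ((closure gens : Subgroup Γ) : Set Γ) := by
    have h1 : zpowers s ≤ normalizer ((closure gens : Subgroup Γ) : Set Γ) := by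
      rw [le_normalizer_closure_iff]
      intro a ha c hc
      have haS : a ∈ normalizer (S : Set Γ) := (zpowers_le.mpr C.hsS) ha
      have haQ : a ∈ normalizer (Q : Set Γ) := (zpowers_le.mpr C.hsQ) ha
      exact hinv a haS haQ c hc
    exact h1 (mem_zpowers s)
  have hSN : S ≤ normalizer ((closure gens : Subgroup Γ) : Set Γ) := by
    rw [le_normalizer_closure_iff]
    intro a ha c hc
    exact hinv a (le_normalizer ha) (C.hSQ ha) c hc
  have hcen := C.hminQ (closure gens) hle hsN hSN hne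
  -- so `S` centralises `Q`
  obtain ⟨x, hx, g, hg, hxg⟩ := C.hnt
  apply hxg
  apply C.eq_of_centralizes_comm hx hg
  apply hcen x hx
  -- `g⁻¹ (x g x⁻¹) = [x, g⁻¹]⁻¹`
  have : g⁻¹ * (x * g * x⁻¹) = (x * g⁻¹ * x⁻¹ * g⁻¹⁻¹)⁻¹ := by group
  rw [this]
  apply Subgroup.inv_mem
  exact Subgroup.subset_closure ⟨x, hx, g⁻¹, Q.inv_mem hg, rfl⟩

/-- (P2): proper invariant normal subgroups of `Q` are central in `Q` -/
theorem central_of_invariant (C : TwoLevel s0 q n S Q s) (M : Subgroup Γ) (hMQ : M ≤ Q)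
    (hsM : s ∈ normalizer (M : Set Γ)) (hSM : S ≤ normalizer (M : Set Γ))
    (hQM : Q ≤ normalizer (M : Set Γ)) (hne : M ≠ Q) : ∀ m ∈ M, ∀ g ∈ Q, m * g = g * m := by
  have hcen := C.hminQ M hMQ hsM hSM hne
  intro m hm
  have hle : Q ≤ centralizer ({m} : Set Γ) := by
    rw [← C.comm_closure, closure_le]
    rintro _ ⟨x, hx, g, hg, rfl⟩
    rw [SetLike.mem_coe, mem_centralizer_iff]
    intro y hy
    rw [Set.mem_singleton_iff] at hy
    subst hy
    -- `y` commutes with `x`, and `g⁻¹ y g y⁻¹ ∈ M` commutes with `x`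
    have hxy : x * y = y * x := by
      have := hcen x hx y hm
      calc x * y = (x * y * x⁻¹) * x := by group
        _ = y * x := by rw [this]
    set m'' := g⁻¹ * y * g * y⁻¹ with hm''
    have hm''M : m'' ∈ M := by
      have h1 : g⁻¹ * y * g⁻¹⁻¹ ∈ M := (mem_normalizer_iff.mp (hQM (Q.inv_mem hg)) y).mp hm
      rw [inv_inv] at h1
      exact M.mul_mem h1 (M.inv_mem hm)
    have hxm : x * m'' = m'' * x := by
      have := hcen x hx m'' hm''M
      calc x * m'' = (x * m'' * x⁻¹) * x := by group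
        _ = m'' * x := by rw [this]
    have hyg : y * g = g * m'' * y := by rw [hm'']; group
    have hyg' : y * g⁻¹ = m''⁻¹ * g⁻¹ * y := by rw [hm'']; group
    have hxm' : x⁻¹ * m''⁻¹ = m''⁻¹ * x⁻¹ := by
      have := congrArg (fun t => t⁻¹) hxm
      simpa [mul_inv_rev] using this.symm
    have hxy' : y * x⁻¹ = x⁻¹ * y := by
      calc y * x⁻¹ = x⁻¹ * (x * y) * x⁻¹ := by group
        _ = x⁻¹ * (y * x) * x⁻¹ := by rw [hxy]
        _ = x⁻¹ * y := by group
    calc y * (x * g * x⁻¹ * g⁻¹) = (y * x) * g * x⁻¹ * g⁻¹ := by group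
      _ = (x * y) * g * x⁻¹ * g⁻¹ := by rw [hxy]
      _ = x * (y * g) * x⁻¹ * g⁻¹ := by group
      _ = x * (g * m'' * y) * x⁻¹ * g⁻¹ := by rw [hyg]
      _ = x * g * m'' * (y * x⁻¹) * g⁻¹ := by group
      _ = x * g * m'' * (x⁻¹ * y) * g⁻¹ := by rw [hxy']
      _ = x * g * (m'' * x⁻¹) * (y * g⁻¹) := by group
      _ = x * g * (m'' * x⁻¹) * (m''⁻¹ * g⁻¹ * y) := by rw [hyg']
      _ = x * g * m'' * (x⁻¹ * m''⁻¹) * g⁻¹ * y := by group
      _ = x * g * m'' * (m''⁻¹ * x⁻¹) * g⁻¹ * y := by rw [hxm']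
      _ = (x * g * x⁻¹ * g⁻¹) * y := by group
  intro g hg
  have := (mem_centralizer_iff.mp (hle hg)) m (Set.mem_singleton m)
  exact this

end TwoLevel

end Cfsg.Agent.Helper1.GrossFit
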