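import Mathlib
import Cfsg.Agent.Helper16.H4Defs

set_option autoImplicit false
set_option linter.style.haveILetI false
set_option linter.unusedVariables false
set_option linter.unusedSectionVars false

/-!
# S4221 piece DC1: double counting of (involution, 4-tuple) incidences
-/

namespace Cfsg.Agent.Helper1.H4
open MulAction Cfsg.Agent.Helper16.H4

variable {G : Type*} [Group G] [Finite G] {Ω : Type*} [Finite Ω] [MulAction G Ω]

theorem fixN_one : fixN Ω (1 : G) = Nat.card Ω := by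
  unfold fixN
  apply Nat.card_congr
  exact Equiv.subtypeUnivEquiv (fun ω => one_smul G ω)

/-- double counting for one pattern -/
theorem count_pattern (π : Equiv.Perm (Fin 4)) (g : ℕ → ℕ) (f : ℕ)
    (huni : ∀ t : G, t ≠ 1 → t * t = 1 → fixN Ω t = f)
    (hg : ∀ t : G, t * t = 1 → Nat.card {y : Fin 4 ↪ Ω // Pat π t y} = g (fixN Ω t))
    (hgn : g (Nat.card Ω) = 0) (c : ℕ) (hc : ∀ y : Fin 4 ↪ Ω, cnt G π y = c) :
    Nat.card (Fin 4 ↪ Ω) * c = Nat.card {t : G // t ≠ 1 ∧ t * t = 1} * g f := by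
  classical
  haveI : Fintype G := Fintype.ofFinite G
  haveI : Fintype Ω := Fintype.ofFinite Ω
  set s : Finset G := Finset.univ.filter (fun t => t * t = 1) with hs
  have hdc := Finset.sum_card_bipartiteAbove_eq_sum_card_bipartiteBelow
    (s := s) (t := (Finset.univ : Finset (Fin 4 ↪ Ω))) (fun (t : G) (y : Fin 4 ↪ Ω) => Pat π t y)
  -- right side
  have hR : ∑ y ∈ (Finset.univ : Finset (Fin 4 ↪ Ω)),
      (s.bipartiteBelow (fun (t : G) (y : Fin 4 ↪ Ω) => Pat π t y) y).card =
      Nat.card (Fin 4 ↪ Ω) * c := by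
    have : ∀ y ∈ (Finset.univ : Finset (Fin 4 ↪ Ω)),
        (s.bipartiteBelow (fun (t : G) (y : Fin 4 ↪ Ω) => Pat π t y) y).card = c := by
      intro y _
      rw [← hc y]
      unfold cnt
      rw [Nat.card_eq_fintype_card, Fintype.card_subtype]
      congr 1
      ext t
      simp [Finset.bipartiteBelow, hs]
    rw [Finset.sum_congr rfl this, Finset.sum_const, Finset.card_univ, smul_eq_mul,
      Nat.card_eq_fintype_card]
  -- left side
  have hL : ∑ t ∈ s, ((Finset.univ : Finset (Fin 4 ↪ Ω)).bipartiteAbove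
      (fun (t : G) (y : Fin 4 ↪ Ω) => Pat π t y) t).card =
      Nat.card {t : G // t ≠ 1 ∧ t * t = 1} * g f := by
    have h1 : ∀ t ∈ s, ((Finset.univ : Finset (Fin 4 ↪ Ω)).bipartiteAbove
        (fun (t : G) (y : Fin 4 ↪ Ω) => Pat π t y) t).card = if t = 1 then 0 else g f := by
      intro t ht
      have ht2 : t * t = 1 := by simpa [hs] using ht
      have h2 : ((Finset.univ : Finset (Fin 4 ↪ Ω)).bipartiteAbove
          (fun (t : G) (y : Fin 4 ↪ Ω) => Pat π t y) t).card =
          Nat.card {y : Fin 4 ↪ Ω // Pat π t y} := by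
        rw [Nat.card_eq_fintype_card, Fintype.card_subtype]
        rfl
      rw [h2, hg t ht2]
      split_ifs with h1
      · rw [h1, fixN_one, hgn]
      · rw [huni t h1 ht2]
    rw [Finset.sum_congr rfl h1, Finset.sum_ite, Finset.sum_const_zero, zero_add,
      Finset.sum_const, smul_eq_mul]
    congr 1
    rw [Nat.card_eq_fintype_card, Fintype.card_subtype]
    congr 1
    ext t
    simp [hs, and_comm]
  rw [← hR, ← hdc, hL]

theorem dc1 (f : ℕ) (huni : ∀ t : G, t ≠ 1 → t * t = 1 → fixN Ω t = f)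
    (htup : ∀ t : G, t * t = 1 →
      Nat.card {y : Fin 4 ↪ Ω // Pat πA t y}
        = fixN Ω t * (fixN Ω t - 1) * (Nat.card Ω - fixN Ω t) ∧
      Nat.card {y : Fin 4 ↪ Ω // Pat πB t y}
        = (Nat.card Ω - fixN Ω t) * (Nat.card Ω - fixN Ω t - 2))
    (cA cB : ℕ)
    (hA : ∀ y : Fin 4 ↪ Ω, cnt G πA y = cA) (hB : ∀ y : Fin 4 ↪ Ω, cnt G πB y = cB)
    (h4 : 4 ≤ Nat.card Ω) : cA * (Nat.card Ω - f - 2) = f * (f - 1) * cB := by
  classical
  haveI : Fintype Ω := Fintype.ofFinite Ω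
  set n := Nat.card Ω with hn
  have h1 := count_pattern (G := G) (Ω := Ω) πA (fun k => k * (k - 1) * (n - k)) f huni
    (fun t ht => (htup t ht).1) (by show n * (n - 1) * (n - n) = 0; simp) cA hA
  have h2 := count_pattern (G := G) (Ω := Ω) πB (fun k => (n - k) * (n - k - 2)) f huni
    (fun t ht => (htup t ht).2) (by show (n - n) * (n - n - 2) = 0; simp) cB hB
  have hpos : 0 < Nat.card (Fin 4 ↪ Ω) := by
    rw [Nat.card_eq_fintype_card, Fintype.card_embedding_eq, Fintype.card_fin,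
      ← Nat.card_eq_fintype_card, ← hn]
    exact Nat.descFactorial_pos.mpr h4 |> fun h => h
  apply Nat.eq_of_mul_eq_mul_left hpos
  calc Nat.card (Fin 4 ↪ Ω) * (cA * (n - f - 2))
      = (Nat.card (Fin 4 ↪ Ω) * cA) * (n - f - 2) := by ring
    _ = Nat.card {t : G // t ≠ 1 ∧ t * t = 1} * (f * (f - 1) * (n - f)) * (n - f - 2) := by
        rw [h1]
    _ = f * (f - 1) * (Nat.card {t : G // t ≠ 1 ∧ t * t = 1} * ((n - f) * (n - f - 2))) := by
        ring
    _ = f * (f - 1) * (Nat.card (Fin 4 ↪ Ω) * cB) := by rw [h2]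
    _ = Nat.card (Fin 4 ↪ Ω) * (f * (f - 1) * cB) := by ring

end Cfsg.Agent.Helper1.H4
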