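import Mathlib
import Cfsg.Agent.Helper16.H4Defs

set_option autoImplicit false
set_option linter.style.haveILetI false
set_option linter.unusedVariables false
set_option linter.unusedSectionVars false

/-!
# S4221 piece END11: in degree 11 the centralizer of a four-group in a 4-point stabilizer is trivial
-/

namespace Cfsg.Agent.Helper1.H4
open MulAction Cfsg.Agent.Helper16.H4

variable {G : Type*} [Group G] [Finite G] {Ω : Type*} [Finite Ω] [MulAction G Ω]

/-- a set of three fixed points cannot contain four distinct points: two fixed points outside a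
pair of fixed points coincide -/
theorem third_eq {t : G} (h3 : fixN Ω t = 3) {p q r s : Ω} (hp : t • p = p) (hq : t • q = q)
    (hr : t • r = r) (hs : t • s = s) (hpq : p ≠ q) (hrp : r ≠ p) (hrq : r ≠ q) (hsp : s ≠ p)
    (hsq : s ≠ q) : r = s := by
  classical
  haveI : Fintype Ω := Fintype.ofFinite Ω
  by_contra hrs
  unfold fixN at h3
  rw [Nat.card_eq_fintype_card, Fintype.card_subtype] at h3
  have hsub : ({p, q, r, s} : Finset Ω) ⊆ Finset.univ.filter (fun ω => t • ω = ω) := by
    intro x hx
    simp only [Finset.mem_insert, Finset.mem_singleton] at hx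
    rw [Finset.mem_filter]
    refine ⟨Finset.mem_univ _, ?_⟩
    rcases hx with rfl | rfl | rfl | rfl <;> assumption
  have hcard : ({p, q, r, s} : Finset Ω).card = 4 := by
    rw [Finset.card_insert_of_notMem, Finset.card_insert_of_notMem, Finset.card_insert_of_notMem,
      Finset.card_singleton]
    · simpa using hrs
    · simp only [Finset.mem_insert, Finset.mem_singleton, not_or]
      exact ⟨hrq.symm, hsq.symm⟩
    · simp only [Finset.mem_insert, Finset.mem_singleton, not_or]
      exact ⟨hpq, hrp.symm, hsp.symm⟩
  have := Finset.card_le_card hsub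
  omega

/-- there is a third fixed point -/
theorem exists_third {t : G} (h3 : fixN Ω t = 3) (p q : Ω) :
    ∃ u : Ω, t • u = u ∧ u ≠ p ∧ u ≠ q := by
  classical
  haveI : Fintype Ω := Fintype.ofFinite Ω
  unfold fixN at h3
  rw [Nat.card_eq_fintype_card, Fintype.card_subtype] at h3
  have hlt : ({p, q} : Finset Ω).card < (Finset.univ.filter (fun ω : Ω => t • ω = ω)).card := by
    rw [h3]
    exact lt_of_le_of_lt (Finset.card_insert_le _ _) (by simp)
  obtain ⟨u, hu, hu'⟩ := Finset.exists_mem_notMem_of_card_lt_card hlt
  rw [Finset.mem_filter] at hu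
  simp only [Finset.mem_insert, Finset.mem_singleton, not_or] at hu'
  exact ⟨u, hu.2, hu'.1, hu'.2⟩

theorem card_stab_centralizer_eq_one [FaithfulSMul G Ω] (h11 : Nat.card Ω = 11)
    (huni : ∀ t : G, t ≠ 1 → t * t = 1 → fixN Ω t = 3) (y : Fin 4 ↪ Ω) (p : G × G)
    (hp : PairPat πA πA' p y) :
    Nat.card {h : G // h ∈ stabilizer G y ∧ h * p.1 = p.1 * h ∧ h * p.2 = p.2 * h} = 1 := by
  classical
  haveI : Fintype Ω := Fintype.ofFinite Ω
  obtain ⟨ha2, hb2, hab, hpa, hpb⟩ := hp
  set a := p.1 with ha
  set b := p.2 with hb
  -- the action of `a`, `b` on the points of `y`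
  have ha0 : a • y 0 = y 0 := hpa 0
  have ha1 : a • y 1 = y 1 := hpa 1
  have ha2' : a • y 2 = y 3 := hpa 2
  have ha3 : a • y 3 = y 2 := hpa 3
  have hb0 : b • y 0 = y 1 := hpb 0
  have hb1 : b • y 1 = y 0 := hpb 1
  have hb2' : b • y 2 = y 2 := hpb 2
  have hb3 : b • y 3 = y 3 := hpb 3
  have hy : ∀ i j : Fin 4, i ≠ j → y i ≠ y j := fun i j hij h => hij (y.injective h)
  have hy01 := hy 0 1 (by decide)
  have hy02 := hy 0 2 (by decide)
  have hy03 := hy 0 3 (by decide)
  have hy12 := hy 1 2 (by decide)
  have hy13 := hy 1 3 (by decide)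
  have hy23 := hy 2 3 (by decide)
  have haa : ∀ ω : Ω, a • a • ω = ω := fun ω => by rw [smul_smul, ha2, one_smul]
  have hbb : ∀ ω : Ω, b • b • ω = ω := fun ω => by rw [smul_smul, hb2, one_smul]
  have hba : ∀ ω : Ω, b • a • ω = a • b • ω := fun ω => by rw [smul_smul, smul_smul, hab]
  have hab_smul : ∀ ω : Ω, (a * b) • ω = a • b • ω := fun ω => mul_smul a b ω
  have ha_ne : a ≠ 1 := by
    intro h
    rw [h, one_smul] at ha2'
    exact hy23 ha2'
  have hb_ne : b ≠ 1 := by
    intro h
    rw [h, one_smul] at hb0
    exact hy01 hb0
  have hab_ne : a * b ≠ 1 := by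
    intro h
    have : (a * b) • y 0 = y 0 := by rw [h, one_smul]
    rw [hab_smul, hb0, ha1] at this
    exact hy01 this.symm
  have hab2 : (a * b) * (a * b) = 1 := by
    calc a * b * (a * b) = a * (b * a) * b := by group
      _ = a * (a * b) * b := by rw [hab]
      _ = (a * a) * (b * b) := by group
      _ = 1 := by rw [ha2, hb2, one_mul]
  have hfa := huni a ha_ne ha2
  have hfb := huni b hb_ne hb2
  have hfab := huni (a * b) hab_ne hab2
  -- the third fixed point `u` of `a`
  obtain ⟨u, hau, hu0, hu1⟩ := exists_third hfa (y 0) (y 1)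
  have hbu : b • u = u := by
    have h1 : a • b • u = b • u := by rw [← hba, hau]
    have h2 : b • u ≠ y 0 := by
      intro h
      have : u = y 1 := by rw [← hbb u, h, hb0]
      exact hu1 this
    have h3 : b • u ≠ y 1 := by
      intro h
      have : u = y 0 := by rw [← hbb u, h, hb1]
      exact hu0 this
    exact third_eq hfa ha0 ha1 h1 hau hy01 h2 h3 hu0 hu1
  have hu2 : u ≠ y 2 := by
    intro h; rw [h, ha2'] at hau; exact hy23 hau.symm
  have hu3 : u ≠ y 3 := by
    intro h; rw [h, ha3] at hau; exact hy23 hau
  have habu : (a * b) • u = u := by rw [hab_smul, hbu, hau]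
  -- now the uniqueness
  have key : ∀ h : G, h ∈ stabilizer G y → h * a = a * h → h * b = b * h → h = 1 := by
    intro h hh hha hhb
    have hhy : ∀ i, h • y i = y i := by
      intro i
      have := congrArg (fun z : Fin 4 ↪ Ω => z i) (mem_stabilizer_iff.mp hh)
      simpa [Function.Embedding.smul_apply] using this
    have hha' : ∀ ω : Ω, h • a • ω = a • h • ω := fun ω => by rw [smul_smul, smul_smul, hha]
    have hhb' : ∀ ω : Ω, h • b • ω = b • h • ω := fun ω => by rw [smul_smul, smul_smul, hhb]
    have hinj : ∀ ω ω' : Ω, h • ω = h • ω' → ω = ω' := fun ω ω' => smul_left_cancel h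
    have hhu : h • u = u := by
      have h1 : a • h • u = h • u := by rw [← hha', hau]
      have h2 : h • u ≠ y 0 := fun e => hu0 (hinj _ _ (e.trans (hhy 0).symm))
      have h3 : h • u ≠ y 1 := fun e => hu1 (hinj _ _ (e.trans (hhy 1).symm))
      exact third_eq hfa ha0 ha1 h1 hau hy01 h2 h3 hu0 hu1
    -- claim A
    have hA : ∀ ω : Ω, a • ω = ω → h • ω = ω := by
      intro ω hω
      by_cases h0 : ω = y 0
      · rw [h0]; exact hhy 0
      by_cases h1 : ω = y 1
      · rw [h1]; exact hhy 1
      have : ω = u := third_eq hfa ha0 ha1 hω hau hy01 h0 h1 hu0 hu1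
      rw [this]; exact hhu
    -- claim B
    have hB : ∀ ω : Ω, b • ω = ω → h • ω = ω := by
      intro ω hω
      by_cases h2 : ω = y 2
      · rw [h2]; exact hhy 2
      by_cases h3 : ω = y 3
      · rw [h3]; exact hhy 3
      have : ω = u := third_eq hfb hb2' hb3 hω hbu hy23 h2 h3 hu2 hu3
      rw [this]; exact hhu
    -- claim C
    have hC : ∀ ω : Ω, (a * b) • ω = ω → h • h • ω = ω := by
      intro ω hω
      by_cases hωu : ω = u
      · rw [hωu, hhu, hhu]
      by_cases hfix : h • ω = ω
      · rw [hfix, hfix]
      have hcomm : ∀ ω' : Ω, (a * b) • ω' = ω' → (a * b) • h • ω' = h • ω' := by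
        intro ω' h'
        rw [hab_smul, ← hhb', ← hha', ← hab_smul, h']
      have h1 : (a * b) • h • ω = h • ω := hcomm ω hω
      have h2 : (a * b) • h • h • ω = h • h • ω := hcomm _ h1
      have h3 : h • ω ≠ u := fun e => hωu (hinj _ _ (e.trans hhu.symm))
      have h4 : h • h • ω ≠ u := fun e => h3 (hinj _ _ (e.trans hhu.symm))
      have h5 : h • h • ω ≠ h • ω := fun e => hfix (hinj _ _ e)
      exact (third_eq hfab habu h1 hω h2 (Ne.symm h3) hωu (Ne.symm hfix) h4 h5).symm
    -- claim D: regular points
    have hD : ∀ x : Ω, a • x ≠ x → b • x ≠ x → (a * b) • x ≠ x → h • h • x = x := by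
      intro x hax hbx habx
      set O : Ω → Finset Ω := fun x => {x, a • x, b • x, (a * b) • x} with hO
      have hmemO : ∀ x q : Ω, q ∈ O x ↔ q = x ∨ q = a • x ∨ q = b • x ∨ q = (a * b) • x := by
        intro x q
        simp [hO]
      by_cases hmem : h • x ∈ O x
      · rw [hmemO] at hmem
        rcases hmem with e | e | e | e
        · rw [e, e]
        · rw [e, hha', e, haa]
        · rw [e, hhb', e, hbb]
        · rw [e, hab_smul, hha', hhb', ← hab_smul, e, hab_smul, hab_smul]
          rw [hba (b • x), hbb, haa]
      · exfalso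
        -- regularity is invariant
        have hreg : ∀ (v : G) (x : Ω), v * a = a * v → v * b = b * v →
            (a • x ≠ x ∧ b • x ≠ x ∧ (a * b) • x ≠ x) →
            (a • v • x ≠ v • x ∧ b • v • x ≠ v • x ∧ (a * b) • v • x ≠ v • x) := by
          intro v x hva hvb ⟨h1, h2, h3⟩
          have hva' : ∀ ω : Ω, a • v • ω = v • a • ω := fun ω => by
            rw [smul_smul, smul_smul, hva]
          have hvb' : ∀ ω : Ω, b • v • ω = v • b • ω := fun ω => by
            rw [smul_smul, smul_smul, hvb]
          refine ⟨?_, ?_, ?_⟩
          · rw [hva']; exact fun e => h1 (smul_left_cancel v e)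
          · rw [hvb']; exact fun e => h2 (smul_left_cancel v e)
          · rw [hab_smul, hvb', hva', ← hab_smul]; exact fun e => h3 (smul_left_cancel v e)
        have hregO : ∀ x : Ω, (a • x ≠ x ∧ b • x ≠ x ∧ (a * b) • x ≠ x) → ∀ q ∈ O x,
            (a • q ≠ q ∧ b • q ≠ q ∧ (a * b) • q ≠ q) := by
          intro x hx q hq
          rw [hmemO] at hq
          rcases hq with rfl | rfl | rfl | rfl
          · exact hx
          · exact hreg a x rfl hab hx
          · exact hreg b x hab.symm rfl hx
          · refine hreg (a * b) x ?_ ?_ hx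
            · calc a * b * a = a * (b * a) := by group
                _ = a * (a * b) := by rw [hab]
            · calc a * b * b = a * (b * b) := by group
                _ = (b * b) * a := by rw [hb2, mul_one, one_mul]
                _ = b * (b * a) := by group
                _ = b * (a * b) := by rw [hab]
        have hcardO : ∀ x : Ω, (a • x ≠ x ∧ b • x ≠ x ∧ (a * b) • x ≠ x) → (O x).card = 4 := by
          intro x ⟨h1, h2, h3⟩
          simp only [hO]
          rw [Finset.card_insert_of_notMem, Finset.card_insert_of_notMem,
            Finset.card_insert_of_notMem, Finset.card_singleton]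
          · simp only [Finset.mem_singleton]
            intro e
            -- b x = a b x ⇒ x = a x
            rw [hab_smul, ← hba] at e
            exact h1 (smul_left_cancel b e).symm
          · simp only [Finset.mem_insert, Finset.mem_singleton, not_or]
            constructor
            · intro e
              -- a x = b x ⇒ x = a b x
              have : a • a • x = a • b • x := by rw [e]
              rw [haa, ← hab_smul] at this
              exact h3 this.symm
            · intro e
              rw [hab_smul] at e
              exact h2 (smul_left_cancel a e).symm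
          · simp only [Finset.mem_insert, Finset.mem_singleton, not_or]
            exact ⟨Ne.symm h1, Ne.symm h2, Ne.symm h3⟩
        have hOa : ∀ x q : Ω, q ∈ O x → a • q ∈ O x := by
          intro x q hq
          rw [hmemO] at hq ⊢
          rcases hq with rfl | rfl | rfl | rfl
          · right; left; rfl
          · left; exact haa _
          · right; right; right; exact (hab_smul _).symm
          · right; right; left; rw [hab_smul, haa]
        have hOb : ∀ x q : Ω, q ∈ O x → b • q ∈ O x := by
          intro x q hq
          rw [hmemO] at hq ⊢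
          rcases hq with rfl | rfl | rfl | rfl
          · right; right; left; rfl
          · right; right; right; rw [hba, hab_smul]
          · left; exact hbb _
          · right; left; rw [hab_smul, hba, hbb]
        set z := h • x with hz
        have hxreg : a • x ≠ x ∧ b • x ≠ x ∧ (a * b) • x ≠ x := ⟨hax, hbx, habx⟩
        have hzreg : a • z ≠ z ∧ b • z ≠ z ∧ (a * b) • z ≠ z := hreg h x hha hhb hxreg
        have hdisj : Disjoint (O x) (O z) := by
          rw [Finset.disjoint_left]
          intro q hqx hqz
          rw [hmemO z q] at hqz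
          rcases hqz with e | e | e | e
          · exact hmem (e ▸ hqx)
          · have := hOa x q hqx
            rw [e, haa] at this
            exact hmem this
          · have := hOb x q hqx
            rw [e, hbb] at this
            exact hmem this
          · have := hOb x _ (hOa x q hqx)
            rw [e, hab_smul, haa, hbb] at this
            exact hmem this
        set Y : Finset Ω := Finset.univ.map y with hY
        have hYcard : Y.card = 4 := by
          rw [hY, Finset.card_map, Finset.card_univ, Fintype.card_fin]
        have hYfix : ∀ q ∈ Y, a • q = q ∨ b • q = q := by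
          intro q hq
          rw [hY, Finset.mem_map] at hq
          obtain ⟨i, -, rfl⟩ := hq
          fin_cases i
          · left; exact ha0
          · left; exact ha1
          · right; exact hb2'
          · right; exact hb3
        have hdisjY : ∀ x : Ω, (a • x ≠ x ∧ b • x ≠ x ∧ (a * b) • x ≠ x) → Disjoint Y (O x) := by
          intro x hx
          rw [Finset.disjoint_left]
          intro q hqY hqO
          have := hregO x hx q hqO
          rcases hYfix q hqY with e | e
          · exact this.1 e
          · exact this.2.1 e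
        have hdisj2 : Disjoint Y (O x ∪ O z) := by
          rw [Finset.disjoint_union_right]
          exact ⟨hdisjY x hxreg, hdisjY z hzreg⟩
        have hcard : (Y ∪ (O x ∪ O z)).card = 12 := by
          rw [Finset.card_union_of_disjoint hdisj2, Finset.card_union_of_disjoint hdisj, hYcard,
            hcardO x hxreg, hcardO z hzreg]
        have hle := Finset.card_le_univ (Y ∪ (O x ∪ O z))
        rw [hcard, ← Nat.card_eq_fintype_card, h11] at hle
        omega
    -- `h * h` acts trivially
    have hsq : h * h = 1 := by
      apply FaithfulSMul.eq_of_smul_eq_smul (α := Ω)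
      intro ω
      rw [one_smul, mul_smul]
      by_cases h1 : a • ω = ω
      · rw [hA ω h1, hA ω h1]
      by_cases h2 : b • ω = ω
      · rw [hB ω h2, hB ω h2]
      by_cases h3 : (a * b) • ω = ω
      · exact hC ω h3
      exact hD ω h1 h2 h3
    by_contra hne
    have hfh := huni h hne hsq
    have := third_eq hfh (hhy 0) (hhy 1) (hhy 2) (hhy 3) hy01 hy02.symm hy12.symm hy03.symm
      hy13.symm
    exact hy23 this
  -- the set is `{1}`
  have huniq : ∀ x : {h : G // h ∈ stabilizer G y ∧ h * a = a * h ∧ h * b = b * h},
      x = ⟨1, one_mem _, by simp, by simp⟩ := by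
    rintro ⟨h, hh, hha, hhb⟩
    exact Subtype.ext (key h hh hha hhb)
  rw [Nat.card_eq_one_iff_unique]
  exact ⟨⟨fun x x' => (huniq x).trans (huniq x').symm⟩, ⟨⟨1, one_mem _, by simp, by simp⟩⟩⟩

end Cfsg.Agent.Helper1.H4
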