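import Mathlib
import Cfsg.Agent.Helper16.H4Defs

set_option autoImplicit false
set_option linter.style.haveILetI false
set_option linter.unusedVariables false
set_option linter.unusedSectionVars false

/-!
# S4221 piece GT12: involutions in a coset `a H` of a subgroup of odd order normalized by `a`
-/

namespace Cfsg.Agent.Helper1.H4
open MulAction Cfsg.Agent.Helper16.H4

variable {K : Type*} [Group K]

theorem inv_eq_self_of_sq {a : K} (ha : a * a = 1) : a⁻¹ = a :=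
  inv_eq_of_mul_eq_one_left ha

theorem exists_conj_invCoset (H : Subgroup K) [Finite H] (hH : Odd (Nat.card H))
    (a : K) (ha : a * a = 1) (hN : ∀ h ∈ H, a * h * a⁻¹ ∈ H)
    (t : K) (ht : t * t = 1) (htH : a⁻¹ * t ∈ H) : ∃ h ∈ H, t = h * a * h⁻¹ := by
  have hai : a⁻¹ = a := inv_eq_self_of_sq ha
  set x : K := a⁻¹ * t with hx
  have htx : t = a * x := by rw [hx, mul_inv_cancel_left]
  -- `a x a⁻¹ = x⁻¹`
  have hinv : a * x * a⁻¹ = x⁻¹ := by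
    have h1 : a * x * (a * x) = 1 := by rw [← htx]; exact ht
    rw [hai]
    have h2 : a * x * a * x = 1 := by rw [← h1]; group
    exact eq_inv_of_mul_eq_one_left h2
  obtain ⟨k, hk⟩ := hH
  have hxpow : x ^ (2 * k + 1) = 1 := by
    have h1 : (⟨x, htH⟩ : H) ^ Nat.card H = 1 := pow_card_eq_one'
    rw [hk] at h1
    exact congrArg Subtype.val h1
  set y : K := x ^ (k + 1) with hy
  have hyH : y ∈ H := H.pow_mem htH _
  have hy2 : y * y = x := by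
    rw [hy, ← pow_add]
    have : k + 1 + (k + 1) = (2 * k + 1) + 1 := by ring
    rw [this, pow_succ, hxpow, one_mul]
  have hyinv : a * y * a⁻¹ = y⁻¹ := by
    have h1 : a * y * a⁻¹ = (a * x * a⁻¹) ^ (k + 1) := by
      rw [hy, conj_pow]
    rw [h1, hinv, inv_pow]
  refine ⟨y⁻¹, H.inv_mem hyH, ?_⟩
  rw [inv_inv, htx, ← hy2]
  -- y⁻¹ a y = a (a⁻¹ y⁻¹ a) y = a y y
  have h2 : a⁻¹ * y⁻¹ * a = y := by
    have h3 : a * y⁻¹ * a⁻¹ = y := by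
      have : a * y⁻¹ * a⁻¹ = (a * y * a⁻¹)⁻¹ := by group
      rw [this, hyinv, inv_inv]
    rw [hai] at h3 ⊢
    exact h3
  calc a * (y * y) = a * ((a⁻¹ * y⁻¹ * a) * y) := by rw [h2]
    _ = y⁻¹ * a * y := by group

theorem card_invCoset (H : Subgroup K) [Finite H] (hH : Odd (Nat.card H))
    (a : K) (ha : a * a = 1) (hN : ∀ h ∈ H, a * h * a⁻¹ ∈ H) :
    Nat.card {t : K // t * t = 1 ∧ a⁻¹ * t ∈ H} * Nat.card {h : K // h ∈ H ∧ h * a = a * h}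
      = Nat.card H := by
  classical
  have hai : a⁻¹ = a := inv_eq_self_of_sq ha
  -- a section of `h ↦ h a h⁻¹`
  have hsec : ∀ t : {t : K // t * t = 1 ∧ a⁻¹ * t ∈ H}, ∃ h ∈ H, (t : K) = h * a * h⁻¹ :=
    fun t => exists_conj_invCoset H hH a ha hN t.1 t.2.1 t.2.2
  choose s hsH hs using hsec
  have hφ : ∀ h ∈ H, (h * a * h⁻¹) * (h * a * h⁻¹) = 1 ∧ a⁻¹ * (h * a * h⁻¹) ∈ H := by
    intro h hh
    constructor
    · calc (h * a * h⁻¹) * (h * a * h⁻¹) = h * (a * a) * h⁻¹ := by group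
        _ = 1 := by rw [ha]; group
    · have h1 : a⁻¹ * (h * a * h⁻¹) = (a * h * a⁻¹) * h⁻¹ := by
        rw [hai]; group
      rw [h1]
      exact H.mul_mem (hN h hh) (H.inv_mem hh)
  rw [← Nat.card_prod]
  symm
  apply Nat.card_congr
  refine
    { toFun := fun h => (⟨(h : K) * a * (h : K)⁻¹, hφ h h.2⟩,
        ⟨(s ⟨(h : K) * a * (h : K)⁻¹, hφ h h.2⟩)⁻¹ * (h : K), ?_, ?_⟩)
      invFun := fun p => ⟨s p.1 * (p.2 : K), H.mul_mem (hsH p.1) p.2.2.1⟩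
      left_inv := ?_
      right_inv := ?_ }
  · exact H.mul_mem (H.inv_mem (hsH _)) h.2
  · have h1 := hs ⟨(h : K) * a * (h : K)⁻¹, hφ h h.2⟩
    simp only at h1
    set u := s ⟨(h : K) * a * (h : K)⁻¹, hφ h h.2⟩ with hu
    -- h a h⁻¹ = u a u⁻¹ ⇒ (u⁻¹ h) a = a (u⁻¹ h)
    calc u⁻¹ * (h : K) * a = u⁻¹ * ((h : K) * a * (h : K)⁻¹) * (h : K) := by group
      _ = u⁻¹ * (u * a * u⁻¹) * (h : K) := by rw [h1]
      _ = a * (u⁻¹ * (h : K)) := by group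
  · intro h
    apply Subtype.ext
    simp only
    rw [mul_inv_cancel_left]
  · rintro ⟨⟨t, ht⟩, ⟨c, hcH, hca⟩⟩
    have h1 := hs ⟨t, ht⟩
    simp only at h1
    have h2 : s ⟨t, ht⟩ * c * a * (s ⟨t, ht⟩ * c)⁻¹ = t := by
      calc s ⟨t, ht⟩ * c * a * (s ⟨t, ht⟩ * c)⁻¹
          = s ⟨t, ht⟩ * (c * a) * c⁻¹ * (s ⟨t, ht⟩)⁻¹ := by group
        _ = s ⟨t, ht⟩ * (a * c) * c⁻¹ * (s ⟨t, ht⟩)⁻¹ := by rw [hca]
        _ = s ⟨t, ht⟩ * a * (s ⟨t, ht⟩)⁻¹ := by group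
        _ = t := h1.symm
    apply Prod.ext
    · apply Subtype.ext
      exact h2
    · apply Subtype.ext
      simp only
      have h3 : (⟨s ⟨t, ht⟩ * c * a * (s ⟨t, ht⟩ * c)⁻¹, hφ _ (H.mul_mem (hsH ⟨t, ht⟩) hcH)⟩ :
          {t : K // t * t = 1 ∧ a⁻¹ * t ∈ H}) = ⟨t, ht⟩ := Subtype.ext h2
      rw [h3, inv_mul_cancel_left]

theorem exists_conj_pairCoset (H : Subgroup K) [Finite H] (hH : Odd (Nat.card H))
    (a b : K) (ha : a * a = 1) (hb : b * b = 1) (hab : a * b = b * a)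
    (hNa : ∀ h ∈ H, a * h * a⁻¹ ∈ H) (hNb : ∀ h ∈ H, b * h * b⁻¹ ∈ H)
    (p : K × K) (hp : p.1 * p.1 = 1 ∧ p.2 * p.2 = 1 ∧ p.1 * p.2 = p.2 * p.1 ∧
        a⁻¹ * p.1 ∈ H ∧ b⁻¹ * p.2 ∈ H) :
    ∃ h ∈ H, p.1 = h * a * h⁻¹ ∧ p.2 = h * b * h⁻¹ := by
  obtain ⟨hp1, hp2, hpc, hpa, hpb⟩ := hp
  have hai : a⁻¹ = a := inv_eq_self_of_sq ha
  have hbi : b⁻¹ = b := inv_eq_self_of_sq hb
  obtain ⟨h₁, hh₁, hp1eq⟩ := exists_conj_invCoset H hH a ha hNa p.1 hp1 hpa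
  set q : K := h₁⁻¹ * p.2 * h₁ with hq
  have hq2 : q * q = 1 := by
    calc q * q = h₁⁻¹ * (p.2 * p.2) * h₁ := by rw [hq]; group
      _ = 1 := by rw [hp2]; group
  have hqa : q * a = a * q := by
    have h1 : a = h₁⁻¹ * p.1 * h₁ := by rw [hp1eq]; group
    rw [h1, hq]
    calc h₁⁻¹ * p.2 * h₁ * (h₁⁻¹ * p.1 * h₁) = h₁⁻¹ * (p.2 * p.1) * h₁ := by group
      _ = h₁⁻¹ * (p.1 * p.2) * h₁ := by rw [hpc]
      _ = h₁⁻¹ * p.1 * h₁ * (h₁⁻¹ * p.2 * h₁) := by group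
  -- the subgroup `C_H(a)`
  set H' : Subgroup K := H ⊓ Subgroup.centralizer ({a} : Set K) with hH'
  haveI : Finite H' := Finite.of_injective (Subgroup.inclusion (inf_le_left : H' ≤ H))
    (Subgroup.inclusion_injective _)
  have hH'odd : Odd (Nat.card H') :=
    Odd.of_dvd_nat hH (Subgroup.card_dvd_of_le (inf_le_left : H' ≤ H))
  have hmemH' : ∀ x : K, x ∈ H' ↔ x ∈ H ∧ x * a = a * x := by
    intro x
    rw [hH', Subgroup.mem_inf, Subgroup.mem_centralizer_singleton_iff]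
  have hNb' : ∀ h ∈ H', b * h * b⁻¹ ∈ H' := by
    intro h hh
    rw [hmemH'] at hh ⊢
    refine ⟨hNb h hh.1, ?_⟩
    calc b * h * b⁻¹ * a = b * h * (b⁻¹ * a) := by group
      _ = b * h * (a * b⁻¹) := by rw [hbi, hab]
      _ = b * (h * a) * b⁻¹ := by group
      _ = b * (a * h) * b⁻¹ := by rw [hh.2]
      _ = (b * a) * h * b⁻¹ := by group
      _ = (a * b) * h * b⁻¹ := by rw [hab]
      _ = a * (b * h * b⁻¹) := by group
  have hbq : b⁻¹ * q ∈ H' := by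
    rw [hmemH']
    constructor
    · have h1 : b⁻¹ * q = (b * h₁⁻¹ * b⁻¹) * (b⁻¹ * p.2) * h₁ := by
        rw [hq, hbi]
        calc b * (h₁⁻¹ * p.2 * h₁) = b * h₁⁻¹ * (b * b) * p.2 * h₁ := by rw [hb]; group
          _ = b * h₁⁻¹ * b * (b * p.2) * h₁ := by group
      rw [h1]
      exact H.mul_mem (H.mul_mem (hNb _ (H.inv_mem hh₁)) hpb) hh₁
    · rw [hbi]
      calc b * q * a = b * (q * a) := by group
        _ = b * (a * q) := by rw [hqa]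
        _ = (b * a) * q := by group
        _ = (a * b) * q := by rw [hab]
        _ = a * (b * q) := by group
  obtain ⟨h₂, hh₂, hqeq⟩ := exists_conj_invCoset H' hH'odd b hb hNb' q hq2 hbq
  rw [hmemH'] at hh₂
  refine ⟨h₁ * h₂, H.mul_mem hh₁ hh₂.1, ?_, ?_⟩
  · rw [hp1eq]
    calc h₁ * a * h₁⁻¹ = h₁ * (a * h₂) * h₂⁻¹ * h₁⁻¹ := by group
      _ = h₁ * (h₂ * a) * h₂⁻¹ * h₁⁻¹ := by rw [hh₂.2]
      _ = h₁ * h₂ * a * (h₁ * h₂)⁻¹ := by group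
  · have h1 : p.2 = h₁ * q * h₁⁻¹ := by rw [hq]; group
    rw [h1, hqeq]
    group

theorem card_pairCoset (H : Subgroup K) [Finite H] (hH : Odd (Nat.card H))
    (a b : K) (ha : a * a = 1) (hb : b * b = 1) (hab : a * b = b * a)
    (hNa : ∀ h ∈ H, a * h * a⁻¹ ∈ H) (hNb : ∀ h ∈ H, b * h * b⁻¹ ∈ H) :
    Nat.card {p : K × K // p.1 * p.1 = 1 ∧ p.2 * p.2 = 1 ∧ p.1 * p.2 = p.2 * p.1 ∧
        a⁻¹ * p.1 ∈ H ∧ b⁻¹ * p.2 ∈ H}
      * Nat.card {h : K // h ∈ H ∧ h * a = a * h ∧ h * b = b * h} = Nat.card H := by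
  classical
  have hai : a⁻¹ = a := inv_eq_self_of_sq ha
  have hbi : b⁻¹ = b := inv_eq_self_of_sq hb
  have hsec : ∀ p : {p : K × K // p.1 * p.1 = 1 ∧ p.2 * p.2 = 1 ∧ p.1 * p.2 = p.2 * p.1 ∧
        a⁻¹ * p.1 ∈ H ∧ b⁻¹ * p.2 ∈ H},
      ∃ h ∈ H, (p : K × K).1 = h * a * h⁻¹ ∧ (p : K × K).2 = h * b * h⁻¹ :=
    fun p => exists_conj_pairCoset H hH a b ha hb hab hNa hNb p.1 p.2
  choose s hsH hs using hsec
  have hφ : ∀ h ∈ H, (h * a * h⁻¹) * (h * a * h⁻¹) = 1 ∧ (h * b * h⁻¹) * (h * b * h⁻¹) = 1 ∧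
      (h * a * h⁻¹) * (h * b * h⁻¹) = (h * b * h⁻¹) * (h * a * h⁻¹) ∧
      a⁻¹ * (h * a * h⁻¹) ∈ H ∧ b⁻¹ * (h * b * h⁻¹) ∈ H := by
    intro h hh
    refine ⟨?_, ?_, ?_, ?_, ?_⟩
    · calc (h * a * h⁻¹) * (h * a * h⁻¹) = h * (a * a) * h⁻¹ := by group
        _ = 1 := by rw [ha]; group
    · calc (h * b * h⁻¹) * (h * b * h⁻¹) = h * (b * b) * h⁻¹ := by group
        _ = 1 := by rw [hb]; group
    · calc (h * a * h⁻¹) * (h * b * h⁻¹) = h * (a * b) * h⁻¹ := by group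
        _ = h * (b * a) * h⁻¹ := by rw [hab]
        _ = (h * b * h⁻¹) * (h * a * h⁻¹) := by group
    · have h1 : a⁻¹ * (h * a * h⁻¹) = (a * h * a⁻¹) * h⁻¹ := by
        rw [hai]; group
      rw [h1]
      exact H.mul_mem (hNa h hh) (H.inv_mem hh)
    · have h1 : b⁻¹ * (h * b * h⁻¹) = (b * h * b⁻¹) * h⁻¹ := by
        rw [hbi]; group
      rw [h1]
      exact H.mul_mem (hNb h hh) (H.inv_mem hh)
  -- if `h` and `u` conjugate `(a, b)` to the same pair then `u⁻¹ h` centralizes `a` and `b`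
  have hcomm : ∀ (h u c : K), h * c * h⁻¹ = u * c * u⁻¹ → u⁻¹ * h * c = c * (u⁻¹ * h) := by
    intro h u c h1
    calc u⁻¹ * h * c = u⁻¹ * (h * c * h⁻¹) * h := by group
      _ = u⁻¹ * (u * c * u⁻¹) * h := by rw [h1]
      _ = c * (u⁻¹ * h) := by group
  have hconj : ∀ (u c d : K), c * d = d * c → u * c * d * (u * c)⁻¹ = u * d * u⁻¹ := by
    intro u c d h1
    calc u * c * d * (u * c)⁻¹ = u * (c * d) * c⁻¹ * u⁻¹ := by group
      _ = u * (d * c) * c⁻¹ * u⁻¹ := by rw [h1]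
      _ = u * d * u⁻¹ := by group
  rw [← Nat.card_prod]
  symm
  apply Nat.card_congr
  refine
    { toFun := fun h => (⟨((h : K) * a * (h : K)⁻¹, (h : K) * b * (h : K)⁻¹), hφ h h.2⟩,
        ⟨(s ⟨((h : K) * a * (h : K)⁻¹, (h : K) * b * (h : K)⁻¹), hφ h h.2⟩)⁻¹ * (h : K),
          ?_, ?_, ?_⟩)
      invFun := fun p => ⟨s p.1 * (p.2 : K), H.mul_mem (hsH p.1) p.2.2.1⟩
      left_inv := ?_
      right_inv := ?_ }
  · exact H.mul_mem (H.inv_mem (hsH _)) h.2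
  · have h1 := (hs ⟨((h : K) * a * (h : K)⁻¹, (h : K) * b * (h : K)⁻¹), hφ h h.2⟩).1
    exact hcomm _ _ _ h1
  · have h1 := (hs ⟨((h : K) * a * (h : K)⁻¹, (h : K) * b * (h : K)⁻¹), hφ h h.2⟩).2
    exact hcomm _ _ _ h1
  · intro h
    apply Subtype.ext
    simp only
    rw [mul_inv_cancel_left]
  · rintro ⟨⟨⟨t₁, t₂⟩, ht⟩, ⟨c, hcH, hca, hcb⟩⟩
    have h1 := hs ⟨(t₁, t₂), ht⟩
    simp only at h1
    have h2 : s ⟨(t₁, t₂), ht⟩ * c * a * (s ⟨(t₁, t₂), ht⟩ * c)⁻¹ = t₁ :=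
      (hconj _ _ _ hca).trans h1.1.symm
    have h3 : s ⟨(t₁, t₂), ht⟩ * c * b * (s ⟨(t₁, t₂), ht⟩ * c)⁻¹ = t₂ :=
      (hconj _ _ _ hcb).trans h1.2.symm
    have h4 : (⟨(s ⟨(t₁, t₂), ht⟩ * c * a * (s ⟨(t₁, t₂), ht⟩ * c)⁻¹,
        s ⟨(t₁, t₂), ht⟩ * c * b * (s ⟨(t₁, t₂), ht⟩ * c)⁻¹),
        hφ _ (H.mul_mem (hsH ⟨(t₁, t₂), ht⟩) hcH)⟩ :
          {p : K × K // p.1 * p.1 = 1 ∧ p.2 * p.2 = 1 ∧ p.1 * p.2 = p.2 * p.1 ∧
            a⁻¹ * p.1 ∈ H ∧ b⁻¹ * p.2 ∈ H}) = ⟨(t₁, t₂), ht⟩ := by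
      apply Subtype.ext
      exact Prod.ext h2 h3
    apply Prod.ext
    · exact h4
    · apply Subtype.ext
      simp only
      rw [h4, inv_mul_cancel_left]

end Cfsg.Agent.Helper1.H4
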