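import Mathlib
import Cfsg.Prelude.Def_Local
import Cfsg.Agent.Helper26.QuadStable2
import Cfsg.Agent.Helper18.QuadPS5
import Cfsg.Agent.Helper23.HallHigman
import Cfsg.Agent.Helper21.ExpSix
import Cfsg.Agent.Lead.PSolvHall
import Cfsg.Agent.Helper14.FratStab
import Cfsg.Agent.Helper14.PCore
import Cfsg.Agent.Helper1.PGroup

set_option autoImplicit false
set_option linter.style.haveILetI false
set_option linter.unusedSectionVars false
set_option linter.unusedVariables false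

namespace Cfsg.Agent.Helper1.HH3Key

open Subgroup
open scoped commutatorElement
open Cfsg.Agent.Helper26 (IsQuadEnd)

universe u

/-- multiplicative form of the linear hypothesis -/
theorem key_mul
    (hL : ∀ {Γ : Type u} [Group Γ] [Finite Γ] {V : Type u} [AddCommGroup V] [Module (ZMod 3) V] [Finite V]
      (ρ : Γ →* Module.End (ZMod 3) V) (_ : Function.Injective ρ) (_ : Cfsg.IsPSolvable 3 Γ)
      (_ : Cfsg.pCore 3 Γ = ⊥) (B : Subgroup Γ) (_ : IsPGroup 3 B)
      (_ : ∀ a ∈ ⁅B, B⁆, ∀ a' ∈ ⁅B, B⁆, ∀ v : V, ρ a (ρ a' v - v) = ρ a' v - v)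
      (_ : ∀ a ∈ ⁅B, B⁆, ∀ b ∈ B, ∀ v : V,
        ρ a (ρ b (ρ b v - v) - (ρ b v - v)) = ρ b (ρ b v - v) - (ρ b v - v)), ⁅B, B⁆ = ⊥)
    {Γ : Type u} [Group Γ] [Finite Γ] {Q : Type u} [CommGroup Q] [Finite Q]
    (hQ : ∀ v : Q, v ^ 3 = 1) (φ : Γ →* MulAut Q) (hφ : Function.Injective φ)
    (hsol : Cfsg.IsPSolvable 3 Γ) (hcore : Cfsg.pCore 3 Γ = ⊥) (B : Subgroup Γ)
    (hB : IsPGroup 3 B)
    (h1 : ∀ a ∈ ⁅B, B⁆, ∀ a' ∈ ⁅B, B⁆, ∀ v : Q, φ a (φ a' v / v) = φ a' v / v)
    (h2 : ∀ a ∈ ⁅B, B⁆, ∀ b ∈ B, ∀ v : Q,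
      φ a (φ b (φ b v / v) / (φ b v / v)) = φ b (φ b v / v) / (φ b v / v)) :
    ⁅B, B⁆ = ⊥ := by
  letI : Module (ZMod 3) (Additive Q) := AddCommGroup.zmodModule (by
    intro x
    exact congrArg Additive.ofMul (hQ x.toMul))
  let ρL : Γ →* Module.End (ZMod 3) (Additive Q) :=
    { toFun := fun h => (MonoidHom.toAdditive ((φ h : Q ≃* Q) : Q →* Q)).toZModLinearMap 3
      map_one' := by
        ext x
        rw [map_one φ]
        rfl
      map_mul' := fun g h => by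
        ext x
        rw [map_mul φ]
        rfl }
  have hρL : ∀ (g : Γ) (x : Additive Q), ρL g x = Additive.ofMul (φ g x.toMul) := fun g x => rfl
  have hinj : Function.Injective ρL := by
    intro g h hgh
    apply hφ
    ext v
    have := congrArg (fun f => f (Additive.ofMul v)) hgh
    exact congrArg Additive.toMul this
  refine hL ρL hinj hsol hcore B hB ?_ ?_
  · intro a ha a' ha' v
    exact congrArg Additive.ofMul (h1 a ha a' ha' v.toMul)
  · intro a ha b hb v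
    exact congrArg Additive.ofMul (h2 a ha b hb v.toMul)

theorem key_mul'
    (hL : ∀ {Γ : Type u} [Group Γ] [Finite Γ] {V : Type u} [AddCommGroup V] [Module (ZMod 3) V] [Finite V]
      (ρ : Γ →* Module.End (ZMod 3) V) (_ : Function.Injective ρ) (_ : Cfsg.IsPSolvable 3 Γ)
      (_ : Cfsg.pCore 3 Γ = ⊥) (B : Subgroup Γ) (_ : IsPGroup 3 B)
      (_ : ∀ a ∈ ⁅B, B⁆, ∀ a' ∈ ⁅B, B⁆, ∀ v : V, ρ a (ρ a' v - v) = ρ a' v - v)
      (_ : ∀ a ∈ ⁅B, B⁆, ∀ b ∈ B, ∀ v : V,
        ρ a (ρ b (ρ b v - v) - (ρ b v - v)) = ρ b (ρ b v - v) - (ρ b v - v)), ⁅B, B⁆ = ⊥)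
    {Γ : Type u} [Group Γ] [Finite Γ] {Q : Type u} [Group Q] [Finite Q]
    (hcomm : ∀ a b : Q, a * b = b * a)
    (hQ : ∀ v : Q, v ^ 3 = 1) (φ : Γ →* MulAut Q) (hφ : Function.Injective φ)
    (hsol : Cfsg.IsPSolvable 3 Γ) (hcore : Cfsg.pCore 3 Γ = ⊥) (B : Subgroup Γ)
    (hB : IsPGroup 3 B)
    (h1 : ∀ a ∈ ⁅B, B⁆, ∀ a' ∈ ⁅B, B⁆, ∀ v : Q, φ a (φ a' v / v) = φ a' v / v)
    (h2 : ∀ a ∈ ⁅B, B⁆, ∀ b ∈ B, ∀ v : Q,
      φ a (φ b (φ b v / v) / (φ b v / v)) = φ b (φ b v / v) / (φ b v / v)) :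
    ⁅B, B⁆ = ⊥ := by
  letI : CommGroup Q := { (inferInstance : Group Q) with mul_comm := hcomm }
  exact key_mul hL hQ φ hφ hsol hcore B hB h1 h2

section inP

variable {P : Type*} [Group P]

/-- `b x b⁻¹ x⁻¹ ∈ N` for `b ∈ N ⊴ P` -/
theorem comm_mem_of_normal (N : Subgroup P) [hN : N.Normal] {b : P} (hb : b ∈ N) (x : P) :
    b * x * b⁻¹ * x⁻¹ ∈ N := by
  have h1 : x * b⁻¹ * x⁻¹ ∈ N := hN.conj_mem _ (N.inv_mem hb) x
  have : b * x * b⁻¹ * x⁻¹ = b * (x * b⁻¹ * x⁻¹) := by group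
  rw [this]
  exact N.mul_mem hb h1

/-- `x b x⁻¹ b⁻¹ ∈ N` for `b ∈ N ⊴ P` -/
theorem comm_mem_of_normal' (N : Subgroup P) [hN : N.Normal] {b : P} (hb : b ∈ N) (x : P) :
    x * b * x⁻¹ * b⁻¹ ∈ N := by
  have h1 : x * b * x⁻¹ ∈ N := hN.conj_mem _ hb x
  exact N.mul_mem h1 (N.inv_mem hb)

theorem commute_of_derived_bot (e : ℕ) (hd : derivedSeries P (e + 2) = ⊥) {a a' : P}
    (ha : a ∈ derivedSeries P (e + 1)) (ha' : a' ∈ derivedSeries P (e + 1)) :
    a * a' = a' * a := by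
  have h1 : ⁅a, a'⁆ ∈ derivedSeries P (e + 2) := by
    rw [show e + 2 = (e + 1) + 1 from rfl, derivedSeries_succ]
    exact commutator_mem_commutator ha ha'
  rw [hd, mem_bot, commutatorElement_eq_one_iff_mul_comm] at h1
  exact h1

/-- (F1) -/
theorem fact1 (e : ℕ) (hd : derivedSeries P (e + 2) = ⊥) {a a' : P}
    (ha : a ∈ derivedSeries P (e + 1)) (ha' : a' ∈ derivedSeries P (e + 1)) (x : P) :
    a * (a' * x * a'⁻¹ * x⁻¹) = (a' * x * a'⁻¹ * x⁻¹) * a :=
  commute_of_derived_bot e hd ha (comm_mem_of_normal _ ha' x)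

/-- (F2) -/
theorem fact2 (e : ℕ) (hd : derivedSeries P (e + 2) = ⊥) {a b : P}
    (ha : a ∈ derivedSeries P (e + 1)) (hb : b ∈ derivedSeries P e) (x : P) :
    a * (b * (b * x * b⁻¹ * x⁻¹) * b⁻¹ * (b * x * b⁻¹ * x⁻¹)⁻¹) =
      (b * (b * x * b⁻¹ * x⁻¹) * b⁻¹ * (b * x * b⁻¹ * x⁻¹)⁻¹) * a := by
  apply commute_of_derived_bot e hd ha
  rw [derivedSeries_succ]
  have h1 : b * x * b⁻¹ * x⁻¹ ∈ derivedSeries P e := comm_mem_of_normal _ hb x
  have := commutator_mem_commutator hb h1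
  rwa [commutatorElement_def] at this

/-- (F3) quadratic action for `p ≠ 3` -/
theorem fact3 (e : ℕ) (hd : derivedSeries P (e + 2) = ⊥) {a : P}
    (ha : a ∈ derivedSeries P (e + 1)) (x : P) : ⁅⁅x, a⁆, a⁆ = 1 := by
  rw [commutatorElement_eq_one_iff_mul_comm, commutatorElement_def]
  exact (commute_of_derived_bot e hd ha (comm_mem_of_normal' _ ha x)).symm

end inP

section main

variable {H : Type u} [Group H] [Finite H] {p : ℕ} [hp : Fact p.Prime]

theorem isPGroup_of_pow_mem {R D : Subgroup H} (hRp : IsPGroup p R)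
    (hD : ∀ d ∈ D, ∃ k : ℕ, d ^ p ^ k ∈ R) : IsPGroup p D := by
  rintro ⟨d, hd⟩
  obtain ⟨k, hk⟩ := hD d hd
  obtain ⟨m, hm⟩ := hRp ⟨d ^ p ^ k, hk⟩
  refine ⟨k + m, ?_⟩
  apply Subtype.ext
  have := congrArg Subtype.val hm
  simp only [Subgroup.coe_pow, Subgroup.coe_one] at this ⊢
  rw [pow_add, pow_mul]
  exact this

/-- `fratStab` of the `p`-core is the `p`-core when `C_H(R) ≤ R` -/
theorem fratStab_pCore_eq (hC : centralizer (Cfsg.pCore p H : Set H) ≤ Cfsg.pCore p H) :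
    Cfsg.Agent.Helper14.fratStab (Cfsg.pCore p H) = Cfsg.pCore p H := by
  have hRp : IsPGroup p (Cfsg.pCore p H) := Cfsg.Agent.Helper14.pCore_isPGroup p
  apply le_antisymm
  · apply Cfsg.Agent.Helper14.le_pCore p inferInstance
    apply isPGroup_of_pow_mem hRp
    intro d hd
    obtain ⟨n, hn⟩ :=
      Cfsg.Agent.Helper14.exists_pow_mem_centralizer_of_mem_fratStab (Cfsg.pCore p H) hRp d hd
    exact ⟨n, hC hn⟩
  · intro g hg
    rw [Cfsg.Agent.Helper14.mem_fratStab]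
    intro a ha
    have h1 : ⁅(⟨g, hg⟩ : Cfsg.pCore p H), ⟨a, ha⟩⁆ ∈ frattini ↥(Cfsg.pCore p H) :=
      Cfsg.Agent.Helper1.IsPGroup.commutator_le_frattini hRp
        (Subgroup.commutator_mem_commutator (Subgroup.mem_top _) (Subgroup.mem_top _))
    refine ⟨_, h1, ?_⟩
    simp [commutatorElement_def]

theorem derived_le_pCore
    (hL : ∀ {Γ : Type u} [Group Γ] [Finite Γ] {V : Type u} [AddCommGroup V] [Module (ZMod 3) V] [Finite V]
      (ρ : Γ →* Module.End (ZMod 3) V) (_ : Function.Injective ρ) (_ : Cfsg.IsPSolvable 3 Γ)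
      (_ : Cfsg.pCore 3 Γ = ⊥) (B : Subgroup Γ) (_ : IsPGroup 3 B)
      (_ : ∀ a ∈ ⁅B, B⁆, ∀ a' ∈ ⁅B, B⁆, ∀ v : V, ρ a (ρ a' v - v) = ρ a' v - v)
      (_ : ∀ a ∈ ⁅B, B⁆, ∀ b ∈ B, ∀ v : V,
        ρ a (ρ b (ρ b v - v) - (ρ b v - v)) = ρ b (ρ b v - v) - (ρ b v - v)), ⁅B, B⁆ = ⊥)
    {H : Type u} [Group H] [Finite H] {p : ℕ} [Fact p.Prime] (hp : p ≠ 2)
    (hsol : Cfsg.IsPSolvable p H) (hO : Cfsg.pPrimeCore p H = ⊥) (P : Sylow p H) (d : ℕ)
    (hd : derivedSeries ↥(P : Subgroup H) (d + 1) = ⊥) :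
    (derivedSeries ↥(P : Subgroup H) d).map (P : Subgroup H).subtype ≤ Cfsg.pCore p H := by
  have hC : centralizer (Cfsg.pCore p H : Set H) ≤ Cfsg.pCore p H :=
    Cfsg.Agent.Helper23.centralizer_pCore_le_of_isPSolvable hsol hO
  have hRp : IsPGroup p (Cfsg.pCore p H) := Cfsg.Agent.Helper14.pCore_isPGroup p
  have hRP : Cfsg.pCore p H ≤ P := Cfsg.Agent.Helper14.pCore_le_sylow p P
  rcases d with _ | e
  · -- `d = 0`
    rintro _ ⟨x, -, rfl⟩
    apply hC
    rw [mem_centralizer_iff]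
    intro r hr
    have h1 : ⁅(⟨r, hRP hr⟩ : (P : Subgroup H)), x⁆ ∈ derivedSeries ↥(P : Subgroup H) (0 + 1) := by
      rw [derivedSeries_succ, derivedSeries_zero]
      exact commutator_mem_commutator (mem_top _) (mem_top _)
    rw [hd, mem_bot, commutatorElement_eq_one_iff_mul_comm] at h1
    exact congrArg Subtype.val h1
  · -- `d = e + 1`
    rintro _ ⟨a, ha, rfl⟩
    by_cases hp3 : p = 3
    · subst hp3
      have hfs : Cfsg.Agent.Helper14.fratStab (Cfsg.pCore 3 H) = Cfsg.pCore 3 H :=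
        fratStab_pCore_eq hC
      have hker : (Cfsg.Agent.Helper26.fratRep (Cfsg.pCore 3 H)).ker = Cfsg.pCore 3 H := by
        rw [Cfsg.Agent.Helper26.fratRep_ker, hfs]
      let φ : H ⧸ Cfsg.pCore 3 H →* MulAut (↥(Cfsg.pCore 3 H) ⧸ frattini ↥(Cfsg.pCore 3 H)) :=
        QuotientGroup.lift (Cfsg.pCore 3 H) (Cfsg.Agent.Helper26.fratRep (Cfsg.pCore 3 H))
          (le_of_eq hker.symm)
      have hφmk : ∀ g : H, φ (QuotientGroup.mk' (Cfsg.pCore 3 H) g) =
          Cfsg.Agent.Helper26.fratRep (Cfsg.pCore 3 H) g := fun g => rfl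
      have hφinj : Function.Injective φ := by
        rw [injective_iff_map_eq_one]
        intro x hx
        induction x using QuotientGroup.induction_on with
        | H g =>
          have h1 : g ∈ (Cfsg.Agent.Helper26.fratRep (Cfsg.pCore 3 H)).ker := hx
          rw [hker] at h1
          exact (QuotientGroup.eq_one_iff g).mpr h1
      have hcomm : ∀ u v : ↥(Cfsg.pCore 3 H) ⧸ frattini ↥(Cfsg.pCore 3 H), u * v = v * u := by
        intro u v
        induction u using QuotientGroup.induction_on with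
        | H x =>
          induction v using QuotientGroup.induction_on with
          | H y =>
            rw [← QuotientGroup.mk_mul, ← QuotientGroup.mk_mul, QuotientGroup.eq]
            have h1 : ⁅y⁻¹, x⁻¹⁆ ∈ frattini ↥(Cfsg.pCore 3 H) :=
              Cfsg.Agent.Helper1.IsPGroup.commutator_le_frattini hRp
                (Subgroup.commutator_mem_commutator (Subgroup.mem_top _) (Subgroup.mem_top _))
            have e : (x * y)⁻¹ * (y * x) = ⁅y⁻¹, x⁻¹⁆ := by
              rw [commutatorElement_def]; group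
            rw [e]
            exact h1
      have hQ : ∀ v : ↥(Cfsg.pCore 3 H) ⧸ frattini ↥(Cfsg.pCore 3 H), v ^ 3 = 1 := by
        intro v
        induction v using QuotientGroup.induction_on with
        | H x =>
          rw [← QuotientGroup.mk_pow, QuotientGroup.eq_one_iff]
          exact Cfsg.Agent.Helper1.IsPGroup.pow_mem_frattini hRp x
      have hsolQ : Cfsg.IsPSolvable 3 (H ⧸ Cfsg.pCore 3 H) :=
        Cfsg.Agent.Lead.isPSolvable_quotient hsol (Cfsg.pCore 3 H)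
      have hpc : Cfsg.pCore 3 (H ⧸ Cfsg.pCore 3 H) = ⊥ :=
        Cfsg.Agent.Helper21.ExpSix.pCore_quotient_pCore_eq_bot 3
      obtain ⟨B, hBdef⟩ : ∃ B : Subgroup (H ⧸ Cfsg.pCore 3 H), B =
          ((derivedSeries ↥(P : Subgroup H) e).map (P : Subgroup H).subtype).map
            (QuotientGroup.mk' (Cfsg.pCore 3 H)) := ⟨_, rfl⟩
      have hBp : IsPGroup 3 B := by
        rw [hBdef]
        exact ((P.2.to_subgroup _).map _).map _
      have hBB : ⁅B, B⁆ = ((derivedSeries ↥(P : Subgroup H) (e + 1)).map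
          (P : Subgroup H).subtype).map (QuotientGroup.mk' (Cfsg.pCore 3 H)) := by
        rw [hBdef, derivedSeries_succ, Subgroup.map_commutator, Subgroup.map_commutator]
      have key : ⁅B, B⁆ = ⊥ := by
        refine key_mul' hL hcomm hQ φ hφinj hsolQ hpc B hBp ?_ ?_
        · intro a1 ha1 a2 ha2 v
          rw [hBB] at ha1 ha2
          obtain ⟨_, ⟨a1', ha1', rfl⟩, rfl⟩ := ha1
          obtain ⟨_, ⟨a2', ha2', rfl⟩, rfl⟩ := ha2
          induction v using QuotientGroup.induction_on with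
          | H x =>
            rw [hφmk, hφmk, Cfsg.Agent.Helper26.fratRep_mk, ← QuotientGroup.mk_div,
              Cfsg.Agent.Helper26.fratRep_mk]
            congr 1
            apply Subtype.ext
            have h1 := congrArg Subtype.val (fact1 e hd ha1' ha2' ⟨x, hRP x.2⟩)
            simp only [Subgroup.coe_mul, Subgroup.coe_inv] at h1
            simp only [MulAut.conjNormal_apply, Subgroup.coe_mul,
              Subgroup.coe_inv, div_eq_mul_inv, Subgroup.subtype_apply]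
            rw [h1]
            group
        · intro a1 ha1 b hb v
          rw [hBB] at ha1
          rw [hBdef] at hb
          obtain ⟨_, ⟨a1', ha1', rfl⟩, rfl⟩ := ha1
          obtain ⟨_, ⟨b', hb', rfl⟩, rfl⟩ := hb
          induction v using QuotientGroup.induction_on with
          | H x =>
            rw [hφmk, hφmk, Cfsg.Agent.Helper26.fratRep_mk, ← QuotientGroup.mk_div,
              Cfsg.Agent.Helper26.fratRep_mk, ← QuotientGroup.mk_div,
              Cfsg.Agent.Helper26.fratRep_mk]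
            congr 1
            apply Subtype.ext
            have h1 := congrArg Subtype.val (fact2 e hd ha1' hb' ⟨x, hRP x.2⟩)
            simp only [Subgroup.coe_mul, Subgroup.coe_inv] at h1
            simp only [MulAut.conjNormal_apply, Subgroup.coe_mul,
              Subgroup.coe_inv, div_eq_mul_inv, Subgroup.subtype_apply]
            rw [h1]
            group
      have hmem : QuotientGroup.mk' (Cfsg.pCore 3 H) (a : H) ∈ ⁅B, B⁆ := by
        rw [hBB]
        exact mem_map_of_mem _ (mem_map_of_mem _ ha)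
      rw [key, mem_bot] at hmem
      exact (QuotientGroup.eq_one_iff _).mp hmem
    · -- `p ≠ 3`
      have hq : ∀ x ∈ Cfsg.pCore p H, ⁅⁅x, (a : H)⁆, (a : H)⁆ ∈
          (frattini ↥(Cfsg.pCore p H)).map (Cfsg.pCore p H).subtype := by
        intro x hx
        have h1 := congrArg Subtype.val (fact3 e hd ha ⟨x, hRP hx⟩)
        have h2 : ⁅⁅x, (a : H)⁆, (a : H)⁆ = 1 := by
          simpa [commutatorElement_def] using h1
        rw [h2]
        exact one_mem _
      obtain ⟨D, hDn, hD1, hD2, hD3⟩ :=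
        Cfsg.Agent.Helper18.QuadPS.exists_normal_of_quad_frat_psolv' hp hp3 (Cfsg.pCore p H) hRp
          hsol (a : H) hq
      have hDp : IsPGroup p D := by
        apply isPGroup_of_pow_mem hRp
        intro d hd'
        obtain ⟨k, hk⟩ := hD2 d hd'
        exact ⟨k, hC hk⟩
      exact Cfsg.Agent.Helper14.le_pCore p hDn hDp hD3

end main

end Cfsg.Agent.Helper1.HH3Key
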