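import Mathlib
import Cfsg.Agent.Helper24.HupField

/-!
# Huppert's theorem S3360, piece (B2) (helper24's plan, msg 1377): a good subalgebra `K` with
`|K| = |V|` makes `G` a subgroup of `ΓL(1, F)`.
-/

set_option autoImplicit false
set_option linter.style.haveILetI false

namespace Cfsg.Agent.Helper1.HupB2

open Cfsg.Agent.Helper24.Hup

universe u v

variable {q : ℕ} [Fact q.Prime] {V : Type u} [AddCommGroup V] [Module (ZMod q) V] [Finite V]
  [Nontrivial V] {G : Type v} [Group G] [Finite G] (ρ : G →* (V ≃ₗ[ZMod q] V))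

omit [Finite G] in
/-- the core statement over the field `L` itself -/
theorem gammaL_core (K : Subalgebra (ZMod q) (Module.End (ZMod q) V)) (hK : Good ρ K)
    (hcard : Nat.card K = Nat.card V) (L : Type u) [Field L] [Finite L]
    (ι : L →+* Module.End (ZMod q) V) (hι : Function.Injective ι)
    (hrange : Set.range ι = (K : Set (Module.End (ZMod q) V))) :
    ∃ e : V ≃+ L, ∀ g : G, ∃ (a : L) (σ : L ≃+* L), ∀ v : V, e (ρ g v) = a * σ (e v) := by
  obtain ⟨v0, hv0⟩ := exists_ne (0 : V)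
  have hmemK : ∀ l : L, ι l ∈ K := by
    intro l
    have : ι l ∈ Set.range ι := ⟨l, rfl⟩
    rw [hrange] at this
    exact this
  -- `|L| = |V|`
  have hcardL : Nat.card L = Nat.card V := by
    rw [← hcard]
    apply Nat.card_congr
    refine Equiv.ofBijective (fun l => (⟨ι l, hmemK l⟩ : K)) ⟨?_, ?_⟩
    · intro a b hab
      exact hι (congrArg Subtype.val hab)
    · rintro ⟨k, hk⟩
      have : k ∈ Set.range ι := by rw [hrange]; exact hk
      obtain ⟨l, rfl⟩ := this
      exact ⟨l, rfl⟩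
  -- the orbit map `l ↦ ι l v0`
  let ψ0 : L →+ V :=
    { toFun := fun l => ι l v0
      map_zero' := by rw [map_zero]; rfl
      map_add' := by intro a b; rw [map_add]; rfl }
  have hψinj : Function.Injective ψ0 := by
    rw [injective_iff_map_eq_zero]
    intro l hl
    by_contra hl0
    have h1 : ι l ≠ 0 := by
      intro h
      apply hl0
      apply hι
      rw [h, map_zero]
    have h2 := hK.inj (ι l) (hmemK l) h1
    have h3 : ι l v0 = ι l 0 := by rw [map_zero]; exact hl
    exact hv0 (h2 h3)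
  have hψbij : Function.Bijective ψ0 := by
    rw [Nat.bijective_iff_injective_and_card]
    exact ⟨hψinj, hcardL⟩
  let ψ : L ≃+ V := AddEquiv.ofBijective ψ0 hψbij
  have hψ : ∀ l : L, ψ l = ι l v0 := fun l => rfl
  refine ⟨ψ.symm, ?_⟩
  intro g
  -- the conjugation automorphism
  have hex : ∀ l : L, ∃ l' : L, ι l' = rEnd ρ g * ι l * rEnd ρ g⁻¹ := by
    intro l
    have h1 := hK.conj g (ι l) (hmemK l)
    have : rEnd ρ g * ι l * rEnd ρ g⁻¹ ∈ Set.range ι := by rw [hrange]; exact h1
    exact this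
  have hgg : rEnd ρ g⁻¹ * rEnd ρ g = 1 := rEnd_inv_mul ρ g
  have hgg' : rEnd ρ g * rEnd ρ g⁻¹ = 1 := rEnd_mul_inv ρ g
  let σ0 : L →+* L :=
    { toFun := fun l => Classical.choose (hex l)
      map_one' := by
        apply hι
        rw [Classical.choose_spec (hex 1), map_one, mul_one, hgg']
      map_mul' := by
        intro a b
        apply hι
        rw [Classical.choose_spec (hex (a * b)), map_mul, map_mul, Classical.choose_spec (hex a),
          Classical.choose_spec (hex b)]
        calc rEnd ρ g * (ι a * ι b) * rEnd ρ g⁻¹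
            = rEnd ρ g * ι a * 1 * ι b * rEnd ρ g⁻¹ := by simp only [mul_assoc, one_mul]
          _ = rEnd ρ g * ι a * (rEnd ρ g⁻¹ * rEnd ρ g) * ι b * rEnd ρ g⁻¹ := by rw [hgg]
          _ = rEnd ρ g * ι a * rEnd ρ g⁻¹ * (rEnd ρ g * ι b * rEnd ρ g⁻¹) := by
            simp only [mul_assoc]
      map_zero' := by
        apply hι
        rw [Classical.choose_spec (hex 0), map_zero, mul_zero, zero_mul]
      map_add' := by
        intro a b
        apply hι
        rw [Classical.choose_spec (hex (a + b)), map_add, map_add, Classical.choose_spec (hex a),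
          Classical.choose_spec (hex b), mul_add, add_mul] }
  have hσ0 : ∀ l : L, ι (σ0 l) = rEnd ρ g * ι l * rEnd ρ g⁻¹ :=
    fun l => Classical.choose_spec (hex l)
  let σ : L ≃+* L := RingEquiv.ofBijective σ0
    ⟨σ0.injective, Finite.surjective_of_injective σ0.injective⟩
  have hσ : ∀ l : L, σ l = σ0 l := fun l => rfl
  refine ⟨ψ.symm (ρ g v0), σ, ?_⟩
  intro v
  obtain ⟨l, rfl⟩ := ψ.surjective v
  rw [AddEquiv.symm_apply_apply]
  apply ψ.injective
  rw [AddEquiv.apply_symm_apply, hψ, hψ, mul_comm, map_mul, hσ, hσ0]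
  have h1 : ι (ψ.symm (ρ g v0)) v0 = ρ g v0 := by
    rw [← hψ, AddEquiv.apply_symm_apply]
  change ρ g (ι l v0) = (rEnd ρ g * ι l * rEnd ρ g⁻¹) (ι (ψ.symm (ρ g v0)) v0)
  rw [h1]
  change ρ g (ι l v0) = rEnd ρ g (ι l (rEnd ρ g⁻¹ (rEnd ρ g v0)))
  have h2 : rEnd ρ g⁻¹ (rEnd ρ g v0) = v0 := by
    have := congrArg (fun f : Module.End (ZMod q) V => f v0) hgg
    exact this
  rw [h2]
  rfl

/-- (B2) -/
theorem gammaL_of_good (K : Subalgebra (ZMod q) (Module.End (ZMod q) V)) (hK : Good ρ K)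
    (hcard : Nat.card K = Nat.card V) :
    ∃ (F : Type) (_ : Field F) (_ : Fintype F) (e : V ≃+ F),
      ∀ g : G, ∃ (a : F) (σ : F ≃+* F), ∀ v : V, e (ρ g v) = a * σ (e v) := by
  obtain ⟨L, hLf, hLfin, ι, hι, hrange⟩ := hK.exists_field
  obtain ⟨e, he⟩ := gammaL_core ρ K hK hcard L ι hι hrange
  haveI : Finite (Shrink.{0} L) := Finite.of_equiv L (equivShrink.{0, u} L)
  let r : Shrink.{0} L ≃+* L := Shrink.ringEquiv.{0, u} L
  refine ⟨Shrink.{0} L, inferInstance, Fintype.ofFinite _, e.trans r.symm.toAddEquiv, ?_⟩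
  intro g
  obtain ⟨a, σ, h⟩ := he g
  refine ⟨r.symm a, r.trans (σ.trans r.symm), ?_⟩
  intro v
  change r.symm (e (ρ g v)) = r.symm a * r.symm (σ (r (r.symm (e v))))
  rw [RingEquiv.apply_symm_apply, h, map_mul]

end Cfsg.Agent.Helper1.HupB2
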