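import Mathlib

/-!
# Huppert's theorem S3360, piece (C1), part a: admissible subgroups, the centre and the
centralizer of a maximal admissible subgroup.

`A` is a maximal abelian normal subgroup of the finite solvable group `G`; `E` is a maximal
normal subgroup with `A ≤ E ≤ C_G(A)` and `[E, E] ≤ A`.
-/

set_option autoImplicit false
set_option linter.style.haveILetI false

namespace Cfsg.Agent.Helper1.HupC1

open scoped commutatorElement

variable {G : Type*} [Group G]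

/-- admissible subgroups: normal, `A ≤ E ≤ C_G(A)`, `[E,E] ≤ A` -/
structure Adm (A E : Subgroup G) : Prop where
  normal : E.Normal
  le : A ≤ E
  cent : E ≤ Subgroup.centralizer (A : Set G)
  comm : ∀ b ∈ E, ∀ b' ∈ E, b * b' * b⁻¹ * b'⁻¹ ∈ A

theorem adm_self (A : Subgroup G) [hA : A.Normal] (hab : ∀ a ∈ A, ∀ b ∈ A, a * b = b * a) :
    Adm A A where
  normal := hA
  le := le_rfl
  cent := by
    intro g hg
    rw [Subgroup.mem_centralizer_iff]
    intro x hx
    exact hab x hx g hg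
  comm := by
    intro b hb b' hb'
    rw [hab b hb b' hb', mul_inv_cancel_right, mul_inv_cancel]
    exact A.one_mem

/-- elements of `E` and of `A` commute -/
theorem Adm.commute {A E : Subgroup G} (hE : Adm A E) {b a : G} (hb : b ∈ E) (ha : a ∈ A) :
    a * b = b * a :=
  Subgroup.mem_centralizer_iff.mp (hE.cent hb) a ha

/-- `Z(E) = A` -/
theorem Adm.center_le {A E : Subgroup G} [A.Normal] (hE : Adm A E)
    (hmax : ∀ B : Subgroup G, B.Normal → (∀ a ∈ B, ∀ b ∈ B, a * b = b * a) → A ≤ B → B ≤ A)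
    (b : G) (hb : b ∈ E) (hbc : ∀ b' ∈ E, b * b' = b' * b) : b ∈ A := by
  haveI := hE.normal
  have hZn : (E ⊓ Subgroup.centralizer (E : Set G)).Normal := inferInstance
  have hZab : ∀ x ∈ E ⊓ Subgroup.centralizer (E : Set G),
      ∀ y ∈ E ⊓ Subgroup.centralizer (E : Set G), x * y = y * x := by
    intro x hx y hy
    exact Subgroup.mem_centralizer_iff.mp hy.2 x hx.1
  have hAZ : A ≤ E ⊓ Subgroup.centralizer (E : Set G) := by
    intro a ha
    refine ⟨hE.le ha, ?_⟩
    change a ∈ Subgroup.centralizer (E : Set G)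
    rw [Subgroup.mem_centralizer_iff]
    intro x hx
    exact (hE.commute hx ha).symm
  apply hmax _ hZn hZab hAZ
  refine ⟨hb, ?_⟩
  change b ∈ Subgroup.centralizer (E : Set G)
  rw [Subgroup.mem_centralizer_iff]
  intro x hx
  exact (hbc x hx).symm

/-- commutator of products of commuting pairs -/
theorem comm_calc (e e' n n' : G) (h1 : n * e' = e' * n)
    (h2 : (n * n' * n⁻¹) * e⁻¹ = e⁻¹ * (n * n' * n⁻¹))
    (h3 : (n * n' * n⁻¹ * n'⁻¹) * e'⁻¹ = e'⁻¹ * (n * n' * n⁻¹ * n'⁻¹)) :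
    e * n * (e' * n') * (e * n)⁻¹ * (e' * n')⁻¹ =
      (e * e' * e⁻¹ * e'⁻¹) * (n * n' * n⁻¹ * n'⁻¹) := by
  calc e * n * (e' * n') * (e * n)⁻¹ * (e' * n')⁻¹
      = e * (n * e') * n' * n⁻¹ * e⁻¹ * n'⁻¹ * e'⁻¹ := by group
    _ = e * (e' * n) * n' * n⁻¹ * e⁻¹ * n'⁻¹ * e'⁻¹ := by rw [h1]
    _ = e * e' * ((n * n' * n⁻¹) * e⁻¹) * n'⁻¹ * e'⁻¹ := by group
    _ = e * e' * (e⁻¹ * (n * n' * n⁻¹)) * n'⁻¹ * e'⁻¹ := by rw [h2]
    _ = e * e' * e⁻¹ * ((n * n' * n⁻¹ * n'⁻¹) * e'⁻¹) := by group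
    _ = e * e' * e⁻¹ * (e'⁻¹ * (n * n' * n⁻¹ * n'⁻¹)) := by rw [h3]
    _ = (e * e' * e⁻¹ * e'⁻¹) * (n * n' * n⁻¹ * n'⁻¹) := by group

/-- `C_G(E) = A` for a maximal admissible `E` -/
theorem Adm.centralizer_le [Finite G] (hsol : Group.IsSolvable G) {A E : Subgroup G} [A.Normal]
    (hE : Adm A E) (hEmax : ∀ E' : Subgroup G, Adm A E' → E ≤ E' → E' ≤ E)
    (hZ : ∀ b ∈ E, (∀ b' ∈ E, b * b' = b' * b) → b ∈ A) :
    Subgroup.centralizer (E : Set G) ≤ A := by
  haveI := hE.normal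
  by_contra hne
  have hAC1 : A ≤ Subgroup.centralizer (E : Set G) := by
    intro a ha
    rw [Subgroup.mem_centralizer_iff]
    intro x hx
    exact (hE.commute hx ha).symm
  obtain ⟨N, -, hNmin⟩ := Finite.exists_le_minimal
    (p := fun N : Subgroup G => N.Normal ∧ A ≤ N ∧ N ≤ Subgroup.centralizer (E : Set G) ∧ ¬ N ≤ A)
    (a := Subgroup.centralizer (E : Set G)) ⟨inferInstance, hAC1, le_rfl, hne⟩
  obtain ⟨⟨hNn, hAN, hNC1, hNA⟩, hmin⟩ := hNmin
  haveI := hNn
  -- `[N, N] ≤ A`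
  have hcomm : ⁅N, N⁆ ≤ A := by
    have hMn : (⁅N, N⁆ ⊔ A).Normal := inferInstance
    have hAM : A ≤ ⁅N, N⁆ ⊔ A := le_sup_right
    have hMN : ⁅N, N⁆ ⊔ A ≤ N := sup_le (Subgroup.commutator_le_self N) hAN
    have hMne : ⁅N, N⁆ ⊔ A ≠ N := by
      intro hMN'
      have hAbot : A.map (QuotientGroup.mk' A) = ⊥ := by
        rw [Subgroup.map_eq_bot_iff, QuotientGroup.ker_mk']
      have h1 : N.map (QuotientGroup.mk' A) ≠ ⊥ := by
        rw [Ne, Subgroup.map_eq_bot_iff, QuotientGroup.ker_mk']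
        exact hNA
      have h2 := Group.IsSolvable.commutator_lt_of_ne_bot h1
      rw [← Subgroup.map_commutator] at h2
      have h3 : N.map (QuotientGroup.mk' A) = (⁅N, N⁆).map (QuotientGroup.mk' A) := by
        conv_lhs => rw [← hMN', Subgroup.map_sup, hAbot, sup_bot_eq]
      exact h2.ne h3.symm
    by_contra hcon
    have hMA : ¬ ⁅N, N⁆ ⊔ A ≤ A := fun h => hcon (le_trans le_sup_left h)
    have := hmin ⟨hMn, hAM, le_trans hMN hNC1, hMA⟩ hMN
    exact hMne (le_antisymm hMN this)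
  have c1 : ∀ x ∈ E, ∀ m ∈ N, m * x = x * m := fun x hx m hm =>
    (Subgroup.mem_centralizer_iff.mp (hNC1 hm) x hx).symm
  -- `E ⊔ N` is admissible
  have hadm : Adm A (E ⊔ N) :=
    { normal := inferInstance
      le := le_trans hE.le le_sup_left
      cent := sup_le hE.cent (le_trans hNC1 (Subgroup.centralizer_le hE.le))
      comm := by
        intro b hb b' hb'
        obtain ⟨e, he, n, hn, rfl⟩ := Subgroup.mem_sup_of_normal_right.mp hb
        obtain ⟨e', he', n', hn', rfl⟩ := Subgroup.mem_sup_of_normal_right.mp hb'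
        rw [comm_calc e e' n n' (c1 e' he' n hn)
          (c1 e⁻¹ (E.inv_mem he) _ (N.mul_mem (N.mul_mem hn hn') (N.inv_mem hn)))
          (c1 e'⁻¹ (E.inv_mem he') _
            (N.mul_mem (N.mul_mem (N.mul_mem hn hn') (N.inv_mem hn)) (N.inv_mem hn')))]
        refine A.mul_mem (hE.comm e he e' he') ?_
        have := hcomm (Subgroup.commutator_mem_commutator hn hn')
        rwa [commutatorElement_def] at this }
  have hNE : N ≤ E := le_trans le_sup_right (hEmax _ hadm le_sup_left)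
  apply hNA
  intro n hn
  apply hZ n (hNE hn)
  intro b' hb'
  exact c1 b' hb' n hn

end Cfsg.Agent.Helper1.HupC1
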