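import Mathlib
import Cfsg.Agent.Helper1.HupC1a

/-!
# Huppert's theorem S3360, piece (C1), part b: the commutator homomorphisms `E → A`, the
counting argument `D = E` and the exponent of `E/A`.
-/

set_option autoImplicit false
set_option linter.style.haveILetI false

namespace Cfsg.Agent.Helper1.HupC1

open scoped commutatorElement

variable {G : Type*} [Group G]

/-- for `c` with `[c, E] ≤ A` the map `b ↦ [c, b]` is a homomorphism `E → A` -/
def theta {A E : Subgroup G} (hE : Adm A E) (c : G) (hc : ∀ b ∈ E, c * b * c⁻¹ * b⁻¹ ∈ A) :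
    ↥E →* ↥A :=
  MonoidHom.mk' (fun b => ⟨c * b * c⁻¹ * b⁻¹, hc b b.2⟩) (by
    intro b b'
    apply Subtype.ext
    change c * (b * b' : G) * c⁻¹ * (b * b' : G)⁻¹
      = (c * b * c⁻¹ * (b : G)⁻¹) * (c * b' * c⁻¹ * (b' : G)⁻¹)
    have h1 : (c * b' * c⁻¹ * (b' : G)⁻¹) * (b : G)⁻¹ = (b : G)⁻¹ * (c * b' * c⁻¹ * (b' : G)⁻¹) :=
      hE.commute (E.inv_mem b.2) (hc b' b'.2)
    calc c * (b * b' : G) * c⁻¹ * (b * b' : G)⁻¹
        = c * b * c⁻¹ * ((c * b' * c⁻¹ * (b' : G)⁻¹) * (b : G)⁻¹) := by group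
      _ = c * b * c⁻¹ * ((b : G)⁻¹ * (c * b' * c⁻¹ * (b' : G)⁻¹)) := by rw [h1]
      _ = (c * b * c⁻¹ * (b : G)⁻¹) * (c * b' * c⁻¹ * (b' : G)⁻¹) := by group)

theorem theta_apply {A E : Subgroup G} (hE : Adm A E) (c : G)
    (hc : ∀ b ∈ E, c * b * c⁻¹ * b⁻¹ ∈ A) (b : ↥E) :
    ((theta hE c hc b : ↥A) : G) = c * b * c⁻¹ * (b : G)⁻¹ := rfl

/-- `theta` kills `A` when `c` centralizes `A` -/
theorem theta_ker {A E : Subgroup G} (hE : Adm A E) (c : G)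
    (hcA : c ∈ Subgroup.centralizer (A : Set G))
    (hc : ∀ b ∈ E, c * b * c⁻¹ * b⁻¹ ∈ A) : A.subgroupOf E ≤ (theta hE c hc).ker := by
  intro b hb
  rw [MonoidHom.mem_ker]
  apply Subtype.ext
  rw [theta_apply]
  have hbA : (b : G) ∈ A := Subgroup.mem_subgroupOf.mp hb
  have := Subgroup.mem_centralizer_iff.mp hcA (b : G) hbA
  rw [← this, mul_inv_cancel_right, mul_inv_cancel]
  rfl

/-- the subgroup `D = {c ∈ C_G(A) | [c, E] ≤ A}` -/
def Dsub (A E : Subgroup G) [hA : A.Normal] : Subgroup G where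
  carrier := {c | c ∈ Subgroup.centralizer (A : Set G) ∧ ∀ b ∈ E, c * b * c⁻¹ * b⁻¹ ∈ A}
  one_mem' := by
    refine ⟨Subgroup.one_mem _, ?_⟩
    intro b _
    rw [one_mul, inv_one, mul_one, mul_inv_cancel]
    exact A.one_mem
  mul_mem' := by
    rintro c c' ⟨hc1, hc2⟩ ⟨hc1', hc2'⟩
    refine ⟨Subgroup.mul_mem _ hc1 hc1', ?_⟩
    intro b hb
    have e : c * c' * b * (c * c')⁻¹ * b⁻¹ = c * (c' * b * c'⁻¹ * b⁻¹) * c⁻¹ * (c * b * c⁻¹ * b⁻¹) := by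
      group
    rw [e]
    exact A.mul_mem (hA.conj_mem _ (hc2' b hb) c) (hc2 b hb)
  inv_mem' := by
    rintro c ⟨hc1, hc2⟩
    refine ⟨Subgroup.inv_mem _ hc1, ?_⟩
    intro b hb
    have e : c⁻¹ * b * c⁻¹⁻¹ * b⁻¹ = c⁻¹ * (c * b * c⁻¹ * b⁻¹)⁻¹ * c⁻¹⁻¹ := by group
    rw [e]
    exact hA.conj_mem _ (A.inv_mem (hc2 b hb)) c⁻¹

theorem mem_Dsub {A E : Subgroup G} [A.Normal] (c : G) :
    c ∈ Dsub A E ↔ c ∈ Subgroup.centralizer (A : Set G) ∧ ∀ b ∈ E, c * b * c⁻¹ * b⁻¹ ∈ A :=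
  Iff.rfl

theorem Adm.le_Dsub {A E : Subgroup G} [A.Normal] (hE : Adm A E) : E ≤ Dsub A E :=
  fun c hc => ⟨hE.cent hc, fun b hb => hE.comm c hc b hb⟩

/-- the counting argument: `D ≤ E` -/
theorem Adm.Dsub_le [Finite G] {A E : Subgroup G} [A.Normal] (hE : Adm A E)
    (hCE : Subgroup.centralizer (E : Set G) ≤ A)
    (hA3 : Nat.card ((↥E ⧸ A.subgroupOf E) →* ↥A) ≤ Nat.card (↥E ⧸ A.subgroupOf E)) :
    Dsub A E ≤ E := by
  have hAD : A ≤ Dsub A E := le_trans hE.le hE.le_Dsub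
  -- the map `D/A → Hom(E/A, A)`
  let Θ : ↥(Dsub A E) → ((↥E ⧸ A.subgroupOf E) →* ↥A) := fun c =>
    QuotientGroup.lift (A.subgroupOf E) (theta hE c c.2.2) (theta_ker hE c c.2.1 c.2.2)
  have hΘ : ∀ c c' : ↥(Dsub A E), Θ c = Θ c' → (c : G)⁻¹ * c' ∈ A := by
    intro c c' hcc
    apply hCE
    rw [Subgroup.mem_centralizer_iff]
    intro b hb
    have h1 := DFunLike.congr_fun hcc (QuotientGroup.mk (⟨b, hb⟩ : ↥E))
    have h2 : (theta hE c c.2.2 ⟨b, hb⟩ : ↥A) = theta hE c' c'.2.2 ⟨b, hb⟩ := h1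
    have h3 := congrArg Subtype.val h2
    rw [theta_apply, theta_apply] at h3
    have h4 : (c : G) * b * (c : G)⁻¹ = (c' : G) * b * (c' : G)⁻¹ := mul_right_cancel h3
    calc b * ((c : G)⁻¹ * c') = (c : G)⁻¹ * ((c : G) * b * (c : G)⁻¹) * c' := by group
      _ = (c : G)⁻¹ * ((c' : G) * b * (c' : G)⁻¹) * c' := by rw [h4]
      _ = (c : G)⁻¹ * c' * b := by group
  let Ψ : (↥(Dsub A E) ⧸ A.subgroupOf (Dsub A E)) → ((↥E ⧸ A.subgroupOf E) →* ↥A) :=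
    fun x => Θ (Quotient.out x)
  have hΨ : Function.Injective Ψ := by
    intro x y hxy
    have h1 := hΘ _ _ hxy
    rw [← QuotientGroup.out_eq' x, ← QuotientGroup.out_eq' y, QuotientGroup.eq]
    exact Subgroup.mem_subgroupOf.mpr h1
  haveI : Finite ((↥E ⧸ A.subgroupOf E) →* ↥A) := DFunLike.finite _
  have hcard : A.relIndex (Dsub A E) ≤ A.relIndex E := by
    have h1 : Nat.card (↥(Dsub A E) ⧸ A.subgroupOf (Dsub A E))
        ≤ Nat.card ((↥E ⧸ A.subgroupOf E) →* ↥A) := Nat.card_le_card_of_injective Ψ hΨ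
    exact le_trans h1 hA3
  have hmul := Subgroup.relIndex_mul_relIndex A E (Dsub A E) hE.le hE.le_Dsub
  have hpos : 0 < A.relIndex E :=
    Nat.pos_of_ne_zero (Subgroup.index_ne_zero_of_finite (H := A.subgroupOf E))
  have hone : E.relIndex (Dsub A E) = 1 := by
    have hpos2 : 0 < E.relIndex (Dsub A E) :=
      Nat.pos_of_ne_zero (Subgroup.index_ne_zero_of_finite (H := E.subgroupOf (Dsub A E)))
    rw [← hmul] at hcard
    have : A.relIndex E * E.relIndex (Dsub A E) ≤ A.relIndex E * 1 := by rwa [mul_one]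
    have := Nat.le_of_mul_le_mul_left this hpos
    omega
  exact Subgroup.relIndex_eq_one.mp hone

/-- primes dividing `|E : A|` divide `|A|` -/
theorem Adm.prime_dvd [Finite G] {A E : Subgroup G} [A.Normal] (hE : Adm A E)
    (hZ : ∀ b ∈ E, (∀ b' ∈ E, b * b' = b' * b) → b ∈ A) (r : ℕ) (hr : r.Prime)
    (hdvd : r ∣ A.relIndex E) : r ∣ Nat.card A := by
  haveI : Fact r.Prime := ⟨hr⟩
  have h1 : r ∣ Nat.card (↥E ⧸ A.subgroupOf E) := hdvd
  obtain ⟨x, hx⟩ := exists_prime_orderOf_dvd_card' r h1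
  obtain ⟨b, rfl⟩ := QuotientGroup.mk_surjective x
  rw [← hx]
  apply orderOf_dvd_of_pow_eq_one
  rw [← QuotientGroup.mk_pow, QuotientGroup.eq_one_iff, Subgroup.mem_subgroupOf, Subgroup.coe_pow]
  apply hZ _ (E.pow_mem b.2 _)
  intro b' hb'
  -- `[b', b ^ n] = [b', b] ^ n = 1`
  have h2 : theta hE b' (hE.comm b' hb') (b ^ Nat.card A) = 1 := by
    rw [map_pow]
    exact pow_card_eq_one'
  have h3 := congrArg Subtype.val h2
  rw [theta_apply, Subgroup.coe_pow] at h3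
  have h4 : b' * (b : G) ^ Nat.card A * b'⁻¹ = (b : G) ^ Nat.card A := by
    have := mul_inv_eq_one.mp h3
    exact this
  calc (b : G) ^ Nat.card A * b' = (b' * (b : G) ^ Nat.card A * b'⁻¹) * b' := by rw [h4]
    _ = b' * (b : G) ^ Nat.card A := by group

end Cfsg.Agent.Helper1.HupC1
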