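import Mathlib
import Cfsg.Agent.Helper1.HupC1b
import Cfsg.Agent.Lead.HupA

/-!
# Huppert's theorem S3360, piece (C1) (helper24's plan, msg 1376): the subgroup `E`.
-/

set_option autoImplicit false
set_option linter.style.haveILetI false

namespace Cfsg.Agent.Helper1.HupC1

/-- (C1) `A` a maximal abelian normal subgroup of the finite solvable group `G`, `A` cyclic:
there is a normal `E` with `A ≤ E ≤ C_G(A)`, `[E,E] ≤ A`, `Z(E) = A`, `C_C(E/A) = E` and every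
prime divisor of `|E : A|` divides `|A|`. -/
theorem exists_E {G : Type*} [Group G] [Finite G] (hsol : Group.IsSolvable G) (A : Subgroup G)
    [A.Normal] (hAcyc : IsCyclic A)
    (hmax : ∀ B : Subgroup G, B.Normal → (∀ a ∈ B, ∀ b ∈ B, a * b = b * a) → A ≤ B → B ≤ A) :
    ∃ E : Subgroup G, E.Normal ∧ A ≤ E ∧ E ≤ Subgroup.centralizer (A : Set G) ∧
      (∀ b ∈ E, ∀ b' ∈ E, b * b' * b⁻¹ * b'⁻¹ ∈ A) ∧
      (∀ b ∈ E, (∀ b' ∈ E, b * b' = b' * b) → b ∈ A) ∧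
      (∀ c ∈ Subgroup.centralizer (A : Set G), (∀ b ∈ E, c * b * c⁻¹ * b⁻¹ ∈ A) → c ∈ E) ∧
      (∀ r : ℕ, r.Prime → r ∣ A.relIndex E → r ∣ Nat.card A) := by
  have hAab : ∀ a ∈ A, ∀ b ∈ A, a * b = b * a := by
    intro a ha b hb
    letI := IsCyclic.commGroup (α := ↥A)
    exact congrArg Subtype.val (mul_comm (⟨a, ha⟩ : ↥A) ⟨b, hb⟩)
  obtain ⟨E, -, hEmax⟩ := Finite.exists_le_maximal (p := fun E : Subgroup G => Adm A E)
    (a := A) (adm_self A hAab)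
  obtain ⟨hE, hmaxE⟩ := hEmax
  have hZ := hE.center_le hmax
  have hCE := hE.centralizer_le hsol (fun E' hE' hle => hmaxE hE' hle) hZ
  have hA3 := Cfsg.Agent.Lead.HupA.card_monoidHom_le_of_isCyclic (↥E ⧸ A.subgroupOf E) ↥A
  refine ⟨E, hE.normal, hE.le, hE.cent, hE.comm, hZ, ?_, hE.prime_dvd hZ⟩
  intro c hc hcE
  exact hE.Dsub_le hCE hA3 ⟨hc, hcE⟩

end Cfsg.Agent.Helper1.HupC1
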