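import Mathlib
import Cfsg.Agent.Helper1.Ito1

/-!
Ito's theorem, part 2: with two primes having noncentral elements, all centralizers of
noncentral elements are abelian and form a partition modulo the center; Sylow lemmas.
-/

set_option autoImplicit false

namespace Cfsg.Agent.Helper1.Ito

open Subgroup
open scoped commutatorElement

variable {G : Type*} [Group G]

/-- two distinct primes with noncentral elements of prime power order -/
def TwoPrimes (G : Type*) [Group G] : Prop :=
  ∃ q s : ℕ, q.Prime ∧ s.Prime ∧ q ≠ s ∧ (∃ x : G, x ∉ center G ∧ IsQ q x) ∧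
    ∃ y : G, y ∉ center G ∧ IsQ s y

theorem TwoPrimes.exists_other (h2 : TwoPrimes G) (r : ℕ) :
    ∃ s : ℕ, s.Prime ∧ r ≠ s ∧ ∃ y : G, y ∉ center G ∧ IsQ s y := by
  obtain ⟨q, s, hq, hs, hqs, hx, hy⟩ := h2
  by_cases hrq : r = q
  · exact ⟨s, hs, hrq ▸ hqs, hy⟩
  · exact ⟨q, hq, hrq, hx⟩

/-- S4 + part: the centralizer of a noncentral `r`-element contains a noncentral `q`-element for
some prime `q ≠ r` -/
theorem TwoCS.exists_noncentral_other [Finite G] {n : ℕ} (h : TwoCS G n) (hn : 1 < n)
    (h2 : TwoPrimes G) {r : ℕ} (hr : r.Prime) {x : G} (hx : x ∉ center G) :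
    ∃ (q : ℕ) (y : G), q.Prime ∧ q ≠ r ∧ y ∈ centralizer ({x} : Set G) ∧ y ∉ center G ∧
      IsQ q y := by
  obtain ⟨s, hs, hrs, y₀, hy₀, hys⟩ := h2.exists_other r
  obtain ⟨y, hyC, hyz, hycop⟩ := h.exists_noncentral_coprime hn hr hs hrs hx hy₀ hys
  obtain ⟨q, k, hq, hqd, hk1, hk2⟩ := exists_noncentral_part' hyz
  refine ⟨q, y ^ k, hq, ?_, pow_mem hyC k, hk1, hk2⟩
  rintro rfl
  have := Nat.Coprime.eq_one_of_dvd hycop.symm hqd
  exact hq.one_lt.ne' this

/-- S5: all centralizers of noncentral elements are abelian -/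
theorem TwoCS.cent_comm [Finite G] {n : ℕ} (h : TwoCS G n) (hn : 1 < n) (h2 : TwoPrimes G)
    {g : G} (hg : g ∉ center G) :
    ∀ c ∈ centralizer ({g} : Set G), ∀ d ∈ centralizer ({g} : Set G), c * d = d * c := by
  obtain ⟨r, k, hr, -, hk1, hk2⟩ := exists_noncentral_part' hg
  have heq := h.cent_eq hn hg hk1 (cent_le_cent_pow g k)
  obtain ⟨q, y, hq, hqr, hyC, hyz, hyq⟩ := h.exists_noncentral_other hn h2 hr hk1
  rw [heq]
  exact h.comm_of_mixed hn hr hq hqr.symm hk1 hk2 hyz hyq hyC

/-- S6: the partition property -/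
theorem TwoCS.cent_eq_of_mem [Finite G] {n : ℕ} (h : TwoCS G n) (hn : 1 < n) (h2 : TwoPrimes G)
    {g c : G} (hg : g ∉ center G) (hc : c ∈ centralizer ({g} : Set G)) (hcz : c ∉ center G) :
    centralizer ({c} : Set G) = centralizer ({g} : Set G) := by
  symm
  apply h.cent_eq hn hg hcz
  intro d hd
  rw [mem_cent]
  exact h.cent_comm hn h2 hg d hd c hc

section sylow

variable [Finite G] {n : ℕ} {r : ℕ} [hr : Fact r.Prime]

/-- (i) for `r ∣ n`, the center of a Sylow `r`-subgroup is central in `G` -/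
theorem TwoCS.sylow_center_le (h : TwoCS G n) (hrn : r ∣ n) (R : Sylow r G) {z : G}
    (hzc : ∀ g ∈ R, g * z = z * g) : z ∈ center G := by
  by_contra hz
  have hle : (R : Subgroup G) ≤ centralizer ({z} : Set G) := fun g hg => mem_cent.mpr (hzc g hg)
  have h1 := index_dvd_of_le hle
  rw [h.index_eq hz] at h1
  exact R.not_dvd_index (hrn.trans h1)

/-- (ii) for `r ∣ n`, a Sylow `r`-subgroup is nonabelian -/
theorem TwoCS.sylow_exists_noncomm (h : TwoCS G n) (hrn : r ∣ n) (hex : ∃ x : G, x ∉ center G)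
    (R : Sylow r G) : ∃ a ∈ R, ∃ b ∈ R, a * b ≠ b * a := by
  by_contra hcon
  push Not at hcon
  obtain ⟨x, hx⟩ := hex
  have hle : (R : Subgroup G) ≤ centralizer ({x} : Set G) := by
    intro g hg
    have : g ∈ center G := h.sylow_center_le hrn R (fun a ha => hcon a ha g hg)
    exact center_le_cent x this
  have h1 := index_dvd_of_le hle
  rw [h.index_eq hx] at h1
  exact R.not_dvd_index (hrn.trans h1)

/-- (iii) an element of the second center of a Sylow `r`-subgroup, of order `r` modulo the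
center -/
theorem TwoCS.exists_second_center (h : TwoCS G n) (hrn : r ∣ n) (hex : ∃ x : G, x ∉ center G)
    (R : Sylow r G) :
    ∃ u ∈ R, u ∉ center G ∧ u ^ r ∈ center G ∧ ∀ g ∈ R, ⁅u, g⁆ ∈ center G := by
  obtain ⟨a, ha, b, hb, hab⟩ := h.sylow_exists_noncomm hrn hex R
  have hRp : IsPGroup r (R : Subgroup G) := R.isPGroup'
  have hne : center (R : Subgroup G) ≠ ⊤ := by
    intro htop
    have : (⟨a, ha⟩ : (R : Subgroup G)) ∈ center (R : Subgroup G) := htop ▸ mem_top _
    have := (mem_center_iff.mp this) ⟨b, hb⟩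
    exact hab (congrArg Subtype.val this).symm
  have hQp : IsPGroup r ((R : Subgroup G) ⧸ center (R : Subgroup G)) := hRp.to_quotient _
  have : Nontrivial ((R : Subgroup G) ⧸ center (R : Subgroup G)) :=
    QuotientGroup.nontrivial_iff.mpr hne
  have := hQp.center_nontrivial
  have hZp : IsPGroup r (center ((R : Subgroup G) ⧸ center (R : Subgroup G))) :=
    hQp.to_subgroup _
  obtain ⟨j, hj⟩ := IsPGroup.iff_card.mp hZp
  have hj0 : j ≠ 0 := by
    rintro rfl
    rw [pow_zero] at hj
    have := (Nat.card_eq_one_iff_unique.mp hj).1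
    exact not_subsingleton _ this
  have hdvd : r ∣ Nat.card (center ((R : Subgroup G) ⧸ center (R : Subgroup G))) := by
    rw [hj]
    exact dvd_pow_self r hj0
  obtain ⟨c, hc⟩ := exists_prime_orderOf_dvd_card' r hdvd
  obtain ⟨u, hu⟩ := QuotientGroup.mk_surjective (c : (R : Subgroup G) ⧸ center (R : Subgroup G))
  have hc1 : (c : (R : Subgroup G) ⧸ center (R : Subgroup G)) ≠ 1 := by
    intro h1
    have : c = 1 := Subtype.ext h1
    rw [this, orderOf_one] at hc
    exact hr.out.one_lt.ne hc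
  have hcr : (c : (R : Subgroup G) ⧸ center (R : Subgroup G)) ^ r = 1 := by
    have := pow_orderOf_eq_one c
    rw [hc] at this
    exact congrArg Subtype.val this
  -- transfer from the center of `R` to the center of `G`
  have key : ∀ z : (R : Subgroup G), z ∈ center (R : Subgroup G) → (z : G) ∈ center G := by
    intro z hz
    apply h.sylow_center_le hrn R
    intro g hg
    exact congrArg Subtype.val ((mem_center_iff.mp hz) ⟨g, hg⟩)
  refine ⟨u, u.2, ?_, ?_, ?_⟩
  · intro huz
    apply hc1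
    rw [← hu, QuotientGroup.eq_one_iff, mem_center_iff]
    intro g
    apply Subtype.ext
    exact (mem_center_iff.mp huz) g
  · have : u ^ r ∈ center (R : Subgroup G) := by
      rw [← QuotientGroup.eq_one_iff, QuotientGroup.mk_pow, hu, hcr]
    exact key _ this
  · intro g hg
    have : ⁅u, (⟨g, hg⟩ : (R : Subgroup G))⁆ ∈ center (R : Subgroup G) := by
      rw [← QuotientGroup.eq_one_iff]
      show ((⁅u, (⟨g, hg⟩ : (R : Subgroup G))⁆ : (R : Subgroup G)) :
        (R : Subgroup G) ⧸ center (R : Subgroup G)) = 1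
      rw [commutatorElement_def]
      simp only [QuotientGroup.mk_mul, QuotientGroup.mk_inv, hu]
      have := (mem_center_iff.mp c.2) ((⟨g, hg⟩ : (R : Subgroup G)) :
        (R : Subgroup G) ⧸ center (R : Subgroup G))
      rw [← this]
      group
    exact key _ this

end sylow

end Cfsg.Agent.Helper1.Ito
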