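import Mathlib
import Cfsg.Agent.Helper1.Ito2
import Cfsg.Agent.Helper3.BroadGen

/-!
Ito's theorem, part 3: with two primes having noncentral elements, `n` is squarefree.
-/

set_option autoImplicit false

namespace Cfsg.Agent.Helper1.Ito

open Subgroup
open scoped commutatorElement

variable {G : Type*} [Group G]

theorem comm_mul_right (u g k : G) : ⁅u, g * k⁆ = ⁅u, g⁆ * (g * ⁅u, k⁆ * g⁻¹) := by
  simp only [commutatorElement_def]
  group

theorem comm_mul_left (a b t : G) : ⁅a * b, t⁆ = a * ⁅b, t⁆ * a⁻¹ * ⁅a, t⁆ := by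
  simp only [commutatorElement_def]
  group

theorem central_conj {z : G} (hz : z ∈ center G) (g : G) : g * z * g⁻¹ = z := by
  rw [(mem_center_iff.mp hz) g, mul_inv_cancel_right]

theorem comm_pow_right {u t : G} (hz : ⁅u, t⁆ ∈ center G) (k : ℕ) : ⁅u, t ^ k⁆ = ⁅u, t⁆ ^ k := by
  induction k with
  | zero => simp
  | succ k ih => rw [pow_succ, comm_mul_right, ih, central_conj hz, pow_succ]

theorem comm_pow_left {u t : G} (hz : ⁅u, t⁆ ∈ center G) (k : ℕ) : ⁅u ^ k, t⁆ = ⁅u, t⁆ ^ k := by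
  induction k with
  | zero => simp
  | succ k ih => rw [pow_succ, comm_mul_left, ih, central_conj hz, pow_succ']

theorem comm_central_left {z : G} (hz : z ∈ center G) (t : G) : ⁅z, t⁆ = 1 := by
  rw [commutatorElement_eq_one_iff_commute]
  exact ((mem_center_iff.mp hz) t).symm

theorem conj_mem_cent_conj (g c u : G) :
    c ∈ centralizer ({u} : Set G) ↔ g * c * g⁻¹ ∈ centralizer ({g * u * g⁻¹} : Set G) := by
  rw [mem_cent, mem_cent]
  constructor
  · intro hh
    calc g * c * g⁻¹ * (g * u * g⁻¹) = g * (c * u) * g⁻¹ := by group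
      _ = g * (u * c) * g⁻¹ := by rw [hh]
      _ = g * u * g⁻¹ * (g * c * g⁻¹) := by group
  · intro hh
    have : g * (c * u) * g⁻¹ = g * (u * c) * g⁻¹ := by
      calc g * (c * u) * g⁻¹ = g * c * g⁻¹ * (g * u * g⁻¹) := by group
        _ = g * u * g⁻¹ * (g * c * g⁻¹) := hh
        _ = g * (u * c) * g⁻¹ := by group
    exact mul_left_cancel (mul_right_cancel this)

theorem cent_central_mul {z : G} (hz : z ∈ center G) (u : G) :
    centralizer ({z * u} : Set G) = centralizer ({u} : Set G) := by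
  ext c
  rw [mem_cent, mem_cent]
  have hzc := (mem_center_iff.mp hz) c
  constructor
  · intro hh
    have : z * (c * u) = z * (u * c) := by
      calc z * (c * u) = c * z * u := by rw [← mul_assoc, hzc]
        _ = c * (z * u) := mul_assoc _ _ _
        _ = z * u * c := hh
        _ = z * (u * c) := mul_assoc _ _ _
    exact mul_left_cancel this
  · intro hh
    rw [← mul_assoc, hzc, mul_assoc, hh, mul_assoc]

/-- conjugation by elements of a subgroup `R` normalizing `V`, as automorphisms of `V` -/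
def conjAut (R V : Subgroup G) (hR : R ≤ normalizer (V : Set G)) : ↥R →* MulAut ↥V where
  toFun g :=
    { toFun := fun v => ⟨(g : G) * v * (g : G)⁻¹, (mem_normalizer_iff.mp (hR g.2) v).mp v.2⟩
      invFun := fun v => ⟨(g : G)⁻¹ * v * (g : G), by
        have := (mem_normalizer_iff.mp (inv_mem (hR g.2)) (v : G)).mp v.2
        simpa using this⟩
      left_inv := fun v => by apply Subtype.ext; simp [mul_assoc]
      right_inv := fun v => by apply Subtype.ext; simp [mul_assoc]
      map_mul' := fun v w => by apply Subtype.ext; simp [mul_assoc] }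
  map_one' := by ext v; simp
  map_mul' := fun g k => by ext v; simp [mul_assoc]

theorem conjAut_apply (R V : Subgroup G) (hR : R ≤ normalizer (V : Set G)) (g : R) (v : V) :
    ((conjAut R V hR g v : V) : G) = (g : G) * v * (g : G)⁻¹ := rfl

/-- the `q`-elements of an abelian subgroup -/
def qPart (C : Subgroup G) (hC : ∀ c ∈ C, ∀ d ∈ C, c * d = d * c) (q : ℕ) : Subgroup G where
  carrier := {c | c ∈ C ∧ IsQ q c}
  mul_mem' := by
    rintro a b ⟨ha, k, hk⟩ ⟨hb, j, hj⟩
    refine ⟨mul_mem ha hb, k + j, ?_⟩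
    have hc : Commute a b := hC a ha b hb
    rw [hc.mul_pow, pow_add, pow_mul, hk, one_pow, mul_comm (q ^ k), pow_mul, hj, one_pow, mul_one]
  one_mem' := ⟨one_mem _, 0, one_pow _⟩
  inv_mem' := by
    rintro a ⟨ha, k, hk⟩
    exact ⟨inv_mem ha, k, by rw [inv_pow, hk, inv_one]⟩

theorem mem_qPart {C : Subgroup G} {hC : ∀ c ∈ C, ∀ d ∈ C, c * d = d * c} {q : ℕ} {c : G} :
    c ∈ qPart C hC q ↔ c ∈ C ∧ IsQ q c := Iff.rfl

section sylow

variable [Finite G] {n : ℕ} {r : ℕ} [hr : Fact r.Prime]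

/-- S8: the key bound -/
theorem TwoCS.card_sylow_le (h : TwoCS G n) (hn : 1 < n) (h2 : TwoPrimes G) (R : Sylow r G)
    {u : G} (huz : u ∉ center G) (hur : u ^ r ∈ center G)
    (hcomm : ∀ g ∈ R, ⁅u, g⁆ ∈ center G) :
    Nat.card R ≤ r * Nat.card ((R : Subgroup G) ⊓ centralizer ({u} : Set G) : Subgroup G) := by
  have hCc := h.cent_comm hn h2 huz
  obtain ⟨q, y, hq, hqr, hyC, hyz, hyq⟩ := h.exists_noncentral_other hn h2 hr.out huz
  have hCy : centralizer ({y} : Set G) = centralizer ({u} : Set G) :=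
    h.cent_eq_of_mem hn h2 huz hyC hyz
  set C : Subgroup G := centralizer ({u} : Set G) with hC
  set V : Subgroup G := qPart C hCc q with hV
  have hyV : y ∈ V := ⟨hyC, hyq⟩
  have hVC : V ≤ C := fun c hc => hc.1
  -- `R` normalizes `C`
  have hRN : ∀ g ∈ R, ∀ c, c ∈ C ↔ g * c * g⁻¹ ∈ C := by
    intro g hg c
    have h1 : g * u * g⁻¹ = ⁅g, u⁆ * u := by rw [commutatorElement_def]; group
    have h2' : ⁅g, u⁆ ∈ center G := by
      rw [← commutatorElement_inv]
      exact inv_mem (hcomm g hg)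
    have h3 := conj_mem_cent_conj g c u
    rw [h1, cent_central_mul h2'] at h3
    exact h3
  have hRV : (R : Subgroup G) ≤ normalizer (V : Set G) := by
    intro g hg
    rw [mem_normalizer_iff]
    intro c
    rw [hV, mem_qPart, mem_qPart, ← hRN g hg c]
    apply and_congr_right
    intro _
    constructor
    · rintro ⟨k, hk⟩
      exact ⟨k, by rw [conj_pow, hk, mul_one, mul_inv_cancel]⟩
    · rintro ⟨k, hk⟩
      refine ⟨k, ?_⟩
      rw [conj_pow] at hk
      have : c ^ q ^ k = g⁻¹ * (g * c ^ q ^ k * g⁻¹) * g := by group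
      rw [this, hk]
      group
  -- powers and commutators
  have hpow : ∀ t ∈ R, t ^ r ∈ C := by
    intro t ht
    rw [hC, mem_cent]
    have h1 : ⁅u, t ^ r⁆ = 1 := by
      rw [comm_pow_right (hcomm t ht), ← comm_pow_left (hcomm t ht), comm_central_left hur]
    exact ((commutatorElement_eq_one_iff_commute.mp h1).eq).symm
  have hcm : ∀ t₁ ∈ R, ∀ t₂ ∈ R, ⁅t₁, t₂⁆ ∈ C := by
    intro t₁ h₁ t₂ h₂
    let ψ : (R : Subgroup G) →* center G :=
      { toFun := fun g => ⟨⁅u, (g : G)⁆, hcomm g g.2⟩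
        map_one' := by apply Subtype.ext; simp
        map_mul' := fun a b => by
          apply Subtype.ext
          show ⁅u, (a : G) * (b : G)⁆ = ⁅u, (a : G)⁆ * ⁅u, (b : G)⁆
          rw [comm_mul_right, central_conj (hcomm b b.2)] }
    have h1 : ψ ⁅(⟨t₁, h₁⟩ : (R : Subgroup G)), ⟨t₂, h₂⟩⁆ = 1 := by
      rw [map_commutatorElement, commutatorElement_eq_one_iff_commute]
      exact mul_comm' (ψ ⟨t₁, h₁⟩) (ψ ⟨t₂, h₂⟩)
    have h2' : ⁅u, ⁅t₁, t₂⁆⁆ = 1 := congrArg Subtype.val h1
    rw [hC, mem_cent]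
    exact ((commutatorElement_eq_one_iff_commute.mp h2').eq).symm
  set φ := conjAut (R : Subgroup G) V hRV with hφ
  -- the kernel of `φ`
  have hker : ∀ t : (R : Subgroup G), φ t = 1 ↔ (t : G) ∈ C := by
    intro t
    constructor
    · intro ht
      have h1 : φ t ⟨y, hyV⟩ = ⟨y, hyV⟩ := by rw [ht]; rfl
      have h2' : (t : G) * y * (t : G)⁻¹ = y := congrArg Subtype.val h1
      rw [← hCy, mem_cent]
      calc (t : G) * y = (t : G) * y * (t : G)⁻¹ * t := by group
        _ = y * t := by rw [h2']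
    · intro ht
      ext v
      show (t : G) * v * (t : G)⁻¹ = v
      rw [hCc (t : G) ht v (hVC v.2), mul_inv_cancel_right]
  have : Finite (MulAut V) := Finite.of_injective (fun f : MulAut V => (f : V → V))
    (fun f g hfg => MulEquiv.ext (congrFun hfg))
  set J : Subgroup (MulAut V) := φ.range with hJ
  have : IsMulCommutative J := by
    refine ⟨⟨?_⟩⟩
    rintro ⟨_, ⟨t₁, rfl⟩⟩ ⟨_, ⟨t₂, rfl⟩⟩
    apply Subtype.ext
    show φ t₁ * φ t₂ = φ t₂ * φ t₁
    have h1 : t₁ * t₂ = ⁅t₁, t₂⁆ * (t₂ * t₁) := by rw [commutatorElement_def]; group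
    have h2' : φ ⁅t₁, t₂⁆ = 1 := by
      rw [hker]
      exact hcm t₁ t₁.2 t₂ t₂.2
    rw [← map_mul, h1, map_mul, h2', one_mul, map_mul]
  -- coprimality
  have hJp : IsPGroup r J := by
    rw [hJ, MonoidHom.range_eq_map]
    exact (R.isPGroup'.to_subgroup ⊤).map φ
  have hVp : IsPGroup q V := by
    rintro ⟨v, hv⟩
    obtain ⟨k, hk⟩ := hv.2
    exact ⟨k, Subtype.ext hk⟩
  have : Fact q.Prime := ⟨hq⟩
  have hcop : (Nat.card J).Coprime (Nat.card V) := by
    obtain ⟨a, ha⟩ := IsPGroup.iff_card.mp hJp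
    obtain ⟨b, hb⟩ := IsPGroup.iff_card.mp hVp
    rw [ha, hb]
    exact Nat.Coprime.pow a b ((Nat.coprime_primes hr.out hq).mpr hqr.symm)
  -- `J` is cyclic
  have hJc : IsCyclic J := by
    by_contra hnc
    have := Cfsg.Agent.Helper3.Broad.gen_fix J hnc hcop ⊤ (fun _ _ _ _ => mem_top _)
      ((center G).comap V.subtype) (by
        rintro _ ⟨t, rfl⟩ hT v - hv
        show (v : G) ∈ center G
        by_contra hvz
        apply hT
        show φ t = 1
        have e : centralizer ({(v : G)} : Set G) = C :=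
          h.cent_eq_of_mem hn h2 huz (hVC v.2) hvz
        rw [hker, ← e, mem_cent]
        have h2' : (t : G) * v * (t : G)⁻¹ = v := congrArg Subtype.val hv
        calc (t : G) * v = (t : G) * v * (t : G)⁻¹ * t := by group
          _ = v * t := by rw [h2'])
    exact hyz (this (mem_top (⟨y, hyV⟩ : V)))
  -- exponent
  have hexp : ∀ T : J, T ^ r = 1 := by
    rintro ⟨_, ⟨t, rfl⟩⟩
    apply Subtype.ext
    show φ t ^ r = 1
    rw [← map_pow, hker]
    exact hpow t t.2
  have hcardJ : Nat.card J ∣ r := by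
    rw [← IsCyclic.exponent_eq_card]
    exact Monoid.exponent_dvd_of_forall_pow_eq_one hexp
  have hkerEq : φ.ker = ((R : Subgroup G) ⊓ C).subgroupOf (R : Subgroup G) := by
    ext t
    rw [MonoidHom.mem_ker, hker, mem_subgroupOf, mem_inf]
    exact ⟨fun ht => ⟨t.2, ht⟩, fun ht => ht.2⟩
  have h1 := φ.ker.card_mul_index
  rw [Subgroup.index_ker, ← hJ, hkerEq,
    Nat.card_congr (subgroupOfEquivOfLe (inf_le_left : (R : Subgroup G) ⊓ C ≤ R)).toEquiv] at h1
  have h3 : Nat.card J ≤ r := Nat.le_of_dvd hr.out.pos hcardJ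
  calc Nat.card R = Nat.card ((R : Subgroup G) ⊓ C : Subgroup G) * Nat.card J := h1.symm
    _ ≤ Nat.card ((R : Subgroup G) ⊓ C : Subgroup G) * r := Nat.mul_le_mul_left _ h3
    _ = r * Nat.card ((R : Subgroup G) ⊓ C : Subgroup G) := mul_comm _ _

end sylow

end Cfsg.Agent.Helper1.Ito
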