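import Mathlib
import Cfsg.Agent.Helper1.Ito3

/-!
Ito's theorem, part 4: two primes with noncentral elements are impossible.
-/

set_option autoImplicit false

namespace Cfsg.Agent.Helper1.Ito

open Subgroup
open scoped commutatorElement

variable {G : Type*} [Group G] [Finite G] {n : ℕ}

omit [Finite G] in
theorem TwoPrimes.exists_noncentral (h2 : TwoPrimes G) : ∃ x : G, x ∉ center G := by
  obtain ⟨q, s, -, -, -, ⟨x, hx, -⟩, -⟩ := h2
  exact ⟨x, hx⟩

/-- with two primes, `n` is squarefree -/
theorem TwoCS.sq_not_dvd (h : TwoCS G n) (hn : 1 < n) (h2 : TwoPrimes G) {r : ℕ}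
    [hr : Fact r.Prime] (hrn : r ∣ n) : ¬ r ^ 2 ∣ n := by
  intro hsq
  obtain ⟨R⟩ : Nonempty (Sylow r G) := inferInstance
  obtain ⟨u, huR, huz, hur, hcomm⟩ := h.exists_second_center hrn h2.exists_noncentral R
  have key := h.card_sylow_le hn h2 R huz hur hcomm
  have hWp : IsPGroup r ((R : Subgroup G) ⊓ centralizer ({u} : Set G) : Subgroup G) :=
    R.isPGroup'.to_le inf_le_left
  obtain ⟨w, hw⟩ := IsPGroup.iff_card.mp hWp
  have hWd : r ^ w ∣ Nat.card (centralizer ({u} : Set G)) := by
    rw [← hw]
    exact Subgroup.card_dvd_of_le inf_le_right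
  have hcardG := (centralizer ({u} : Set G)).card_mul_index
  rw [h.index_eq huz] at hcardG
  have hR := R.card_eq_multiplicity
  rw [hR, hw, ← pow_succ'] at key
  have h1 : (Nat.card G).factorization r ≤ w + 1 :=
    (Nat.pow_le_pow_iff_right hr.out.one_lt).mp key
  have h2' : w ≤ (Nat.card (centralizer ({u} : Set G))).factorization r :=
    (hr.out.pow_dvd_iff_le_factorization Nat.card_pos.ne').mp hWd
  have h3 : 2 ≤ n.factorization r :=
    (hr.out.pow_dvd_iff_le_factorization (by omega)).mp hsq
  have h4 : (Nat.card G).factorization r =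
      (Nat.card (centralizer ({u} : Set G))).factorization r + n.factorization r := by
    rw [← hcardG, Nat.factorization_mul Nat.card_pos.ne' (by omega)]
    rfl
  omega

/-- S9: with two primes, all centralizers of noncentral elements are normal -/
theorem TwoCS.cent_normal (h : TwoCS G n) (hn : 1 < n) (h2 : TwoPrimes G) {g : G}
    (hg : g ∉ center G) : (centralizer ({g} : Set G)).Normal := by
  rw [← normalizer_eq_top_iff, ← index_eq_one]
  by_contra hne
  obtain ⟨r, hrp, hrd⟩ := Nat.exists_prime_and_dvd hne
  have : Fact r.Prime := ⟨hrp⟩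
  have hrn : r ∣ n := by
    have := index_dvd_of_le (le_normalizer (H := centralizer ({g} : Set G)))
    rw [h.index_eq hg] at this
    exact hrd.trans this
  have hsq := h.sq_not_dvd hn h2 hrn
  -- a Sylow `r`-subgroup of the centralizer
  obtain ⟨T⟩ : Nonempty (Sylow r (centralizer ({g} : Set G))) := inferInstance
  set T' : Subgroup G := (T : Subgroup (centralizer ({g} : Set G))).map
    (centralizer ({g} : Set G)).subtype with hT'
  have hT'p : IsPGroup r T' := T.isPGroup'.map _
  have hT'card : Nat.card T' = r ^ (Nat.card (centralizer ({g} : Set G))).factorization r := by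
    rw [hT', Subgroup.card_map_of_injective (Subgroup.subtype_injective _)]
    exact T.card_eq_multiplicity
  have hT'C : T' ≤ centralizer ({g} : Set G) := by
    rintro _ ⟨t, -, rfl⟩
    exact t.2
  obtain ⟨R, hTR⟩ := hT'p.exists_le_sylow
  have hcardG := (centralizer ({g} : Set G)).card_mul_index
  rw [h.index_eq hg] at hcardG
  have hn1 : n.factorization r = 1 := by
    have h1 : 1 ≤ n.factorization r :=
      (hrp.pow_dvd_iff_le_factorization (by omega)).mp (by simpa using hrn)
    have h2' : ¬ 2 ≤ n.factorization r := fun h2' =>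
      hsq ((hrp.pow_dvd_iff_le_factorization (by omega)).mpr h2')
    omega
  have hfac : (Nat.card G).factorization r =
      (Nat.card (centralizer ({g} : Set G))).factorization r + 1 := by
    rw [← hcardG, Nat.factorization_mul Nat.card_pos.ne' (by omega), ← hn1]
    rfl
  have hRcard : Nat.card R = r * Nat.card T' := by
    rw [R.card_eq_multiplicity, hfac, hT'card, pow_succ']
  -- `T'` is normal in `R`
  have hidx : (T'.subgroupOf (R : Subgroup G)).index = r := by
    have h1 := (T'.subgroupOf (R : Subgroup G)).card_mul_index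
    rw [Nat.card_congr (subgroupOfEquivOfLe hTR).toEquiv] at h1
    have h3 : Nat.card (R : Subgroup G) = r * Nat.card T' := hRcard
    rw [h3, mul_comm] at h1
    exact Nat.eq_of_mul_eq_mul_right Nat.card_pos h1
  have hRne : (Nat.card G).factorization r ≠ 0 := by omega
  have hTn : (T'.subgroupOf (R : Subgroup G)).Normal := by
    apply normal_of_index_eq_minFac_card
    rw [hidx]
    have : Nat.card (R : Subgroup G) = r ^ (Nat.card G).factorization r :=
      R.card_eq_multiplicity
    rw [this, Nat.pow_minFac hRne, hrp.minFac_eq]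
  -- `T'` is not central
  obtain ⟨w, hwT, hwz⟩ : ∃ w ∈ T', w ∉ center G := by
    by_contra hcon
    push Not at hcon
    have hle : T'.subgroupOf (R : Subgroup G) ≤ center (R : Subgroup G) := by
      intro t ht
      rw [mem_center_iff]
      intro a
      apply Subtype.ext
      exact (mem_center_iff.mp (hcon _ ht)) a
    have hd := index_dvd_of_le hle
    rw [hidx, index_eq_card] at hd
    have hcyc : IsCyclic ((R : Subgroup G) ⧸ center (R : Subgroup G)) := by
      rcases (Nat.dvd_prime hrp).mp hd with h1 | h1
      · have := (Nat.card_eq_one_iff_unique.mp h1).1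
        exact isCyclic_of_subsingleton
      · exact isCyclic_of_prime_card h1
    obtain ⟨a, ha, b, hb, hab⟩ := h.sylow_exists_noncomm hrn h2.exists_noncentral R
    have := MonoidHom.isMulCommutative_of_isCyclic_of_ker_le_center
      (QuotientGroup.mk' (center (R : Subgroup G))) (by rw [QuotientGroup.ker_mk'])
    exact hab (congrArg Subtype.val (mul_comm' (⟨a, ha⟩ : (R : Subgroup G)) ⟨b, hb⟩))
  -- `R` normalizes the centralizer
  have hRN : (R : Subgroup G) ≤ normalizer (centralizer ({g} : Set G) : Set G) := by
    intro a ha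
    have h1 : a * w * a⁻¹ ∈ T' := by
      have := hTn.conj_mem ⟨w, hTR hwT⟩ (mem_subgroupOf.mpr hwT) ⟨a, ha⟩
      exact mem_subgroupOf.mp this
    have h2' : a * w * a⁻¹ ∉ center G := by
      intro hz
      apply hwz
      have := (center G).normal_of_characteristic.conj_mem _ hz a⁻¹
      simpa [mul_assoc] using this
    have e1 := h.cent_eq_of_mem hn h2 hg (hT'C hwT) hwz
    have e2 := h.cent_eq_of_mem hn h2 hg (hT'C h1) h2'
    rw [mem_normalizer_iff]
    intro c
    have := conj_mem_cent_conj a c w
    rw [e1, e2] at this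
    exact this
  have := index_dvd_of_le hRN
  exact R.not_dvd_index (hrd.trans this)

/-- S10: two primes with noncentral elements are impossible -/
theorem TwoCS.false_of_twoPrimes (h : TwoCS G n) (hn : 1 < n) (h2 : TwoPrimes G) : False := by
  have hc : ∀ a b : G, ⁅a, b⁆ ∈ center G := by
    intro a b
    by_cases ha : a ∈ center G
    · rw [comm_central_left ha]
      exact one_mem _
    by_cases hb : b ∈ center G
    · rw [← commutatorElement_inv, comm_central_left hb, inv_one]
      exact one_mem _
    by_contra hz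
    have hna := h.cent_normal hn h2 ha
    have hnb := h.cent_normal hn h2 hb
    have h1 : ⁅a, b⁆ ∈ centralizer ({a} : Set G) := by
      have e : ⁅a, b⁆ = a * (b * a⁻¹ * b⁻¹) := by rw [commutatorElement_def]; group
      rw [e]
      exact mul_mem (self_mem_cent a) (hna.conj_mem a⁻¹ (inv_mem (self_mem_cent a)) b)
    have h2' : ⁅a, b⁆ ∈ centralizer ({b} : Set G) := by
      rw [commutatorElement_def]
      exact mul_mem (hnb.conj_mem b (self_mem_cent b) a) (inv_mem (self_mem_cent b))
    have e1 := h.cent_eq_of_mem hn h2 ha h1 hz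
    have e2 := h.cent_eq_of_mem hn h2 hb h2' hz
    have hb' : b ∈ centralizer ({a} : Set G) := by
      rw [← e1, e2]
      exact self_mem_cent b
    apply hz
    have : ⁅a, b⁆ = 1 := by
      rw [commutatorElement_eq_one_iff_commute]
      exact (mem_cent.mp hb').symm
    rw [this]
    exact one_mem _
  obtain ⟨q, hq, hqn⟩ := Nat.exists_prime_and_dvd (by omega : n ≠ 1)
  have : Fact q.Prime := ⟨hq⟩
  obtain ⟨s, hs, hqs, y, hyz, hys⟩ := h2.exists_other q
  obtain ⟨Q⟩ : Nonempty (Sylow q G) := inferInstance
  have hle : (Q : Subgroup G) ≤ centralizer ({y} : Set G) := by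
    intro a ha
    rw [mem_cent]
    have hz := hc a y
    have h1 : ⁅a, y⁆ ^ orderOf a = 1 := by
      rw [← comm_pow_left hz, pow_orderOf_eq_one, commutatorElement_one_left]
    have h2' : ⁅a, y⁆ ^ orderOf y = 1 := by
      rw [← comm_pow_right hz, pow_orderOf_eq_one, commutatorElement_one_right]
    have haq : IsQ q a := by
      obtain ⟨k, hk⟩ := Q.isPGroup' ⟨a, ha⟩
      exact ⟨k, congrArg Subtype.val hk⟩
    have hcop : (orderOf a).Coprime (orderOf y) := haq.coprime hq hs hqs hys
    have h3 : orderOf ⁅a, y⁆ ∣ Nat.gcd (orderOf a) (orderOf y) :=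
      Nat.dvd_gcd (orderOf_dvd_of_pow_eq_one h1) (orderOf_dvd_of_pow_eq_one h2')
    rw [hcop.gcd_eq_one, Nat.dvd_one, orderOf_eq_one_iff] at h3
    exact (commutatorElement_eq_one_iff_commute.mp h3).eq
  have := index_dvd_of_le hle
  rw [h.index_eq hyz] at this
  exact Q.not_dvd_index (hqn.trans this)

end Cfsg.Agent.Helper1.Ito
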