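import Mathlib
import Cfsg.Agent.Helper1.Ito4

/-!
Ito's theorem, part 5: the nilpotent structure and the `p`-th powers.
-/

set_option autoImplicit false

namespace Cfsg.Agent.Helper1.Ito

open Subgroup
open scoped commutatorElement

variable {G : Type*} [Group G]

/-- an element of the second center of order `p` modulo the center -/
theorem exists_second_center_elt [Finite G] {p : ℕ} [hp : Fact p.Prime]
    (hQp : IsPGroup p (G ⧸ center G)) (hne : center G ≠ ⊤) :
    ∃ u : G, u ∉ center G ∧ u ^ p ∈ center G ∧ ∀ g : G, ⁅u, g⁆ ∈ center G := by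
  have : Nontrivial (G ⧸ center G) := QuotientGroup.nontrivial_iff.mpr hne
  have := hQp.center_nontrivial
  have hZp : IsPGroup p (center (G ⧸ center G)) := hQp.to_subgroup _
  obtain ⟨j, hj⟩ := IsPGroup.iff_card.mp hZp
  have hj0 : j ≠ 0 := by
    rintro rfl
    rw [pow_zero] at hj
    have := (Nat.card_eq_one_iff_unique.mp hj).1
    exact not_subsingleton _ this
  have hdvd : p ∣ Nat.card (center (G ⧸ center G)) := by
    rw [hj]
    exact dvd_pow_self p hj0
  obtain ⟨c, hc⟩ := exists_prime_orderOf_dvd_card' p hdvd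
  obtain ⟨u, hu⟩ := QuotientGroup.mk_surjective (c : G ⧸ center G)
  have hc1 : (c : G ⧸ center G) ≠ 1 := by
    intro h1
    have : c = 1 := Subtype.ext h1
    rw [this, orderOf_one] at hc
    exact hp.out.one_lt.ne hc
  have hcr : (c : G ⧸ center G) ^ p = 1 := by
    have := pow_orderOf_eq_one c
    rw [hc] at this
    exact congrArg Subtype.val this
  refine ⟨u, ?_, ?_, ?_⟩
  · intro huz
    apply hc1
    rw [← hu, QuotientGroup.eq_one_iff]
    exact huz
  · rw [← QuotientGroup.eq_one_iff, QuotientGroup.mk_pow, hu, hcr]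
  · intro g
    rw [← QuotientGroup.eq_one_iff]
    show ((⁅u, g⁆ : G) : G ⧸ center G) = 1
    rw [commutatorElement_def]
    simp only [QuotientGroup.mk_mul, QuotientGroup.mk_inv, hu]
    have := (mem_center_iff.mp c.2) (g : G ⧸ center G)
    rw [← this]
    group

/-- the `p'`-part of the center -/
def pPrimeCenter (G : Type*) [Group G] (p : ℕ) : Subgroup G where
  carrier := {z | z ∈ center G ∧ (orderOf z).Coprime p}
  mul_mem' := by
    rintro a b ⟨ha, ha'⟩ ⟨hb, hb'⟩
    refine ⟨mul_mem ha hb, ?_⟩
    have hc : Commute a b := (mem_center_iff.mp hb) a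
    exact Nat.Coprime.coprime_dvd_left (hc.orderOf_mul_dvd_lcm.trans (Nat.lcm_dvd_mul _ _))
      (Nat.Coprime.mul_left ha' hb')
  one_mem' := ⟨one_mem _, by simp⟩
  inv_mem' := by
    rintro a ⟨ha, ha'⟩
    exact ⟨inv_mem ha, by rwa [orderOf_inv]⟩

theorem mem_pPrimeCenter {p : ℕ} {z : G} :
    z ∈ pPrimeCenter G p ↔ z ∈ center G ∧ (orderOf z).Coprime p := Iff.rfl

theorem pPrimeCenter_le_center (p : ℕ) : pPrimeCenter G p ≤ center G := fun _ hz => hz.1

instance pPrimeCenter_normal (p : ℕ) : (pPrimeCenter G p).Normal := by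
  refine ⟨fun z hz g => ?_⟩
  rw [central_conj hz.1]
  exact hz

section main

variable [Finite G] {n : ℕ} {p : ℕ} [hp : Fact p.Prime]

/-- if all `s`-elements, `s ≠ p`, are central then `p'`-elements are central -/
theorem central_of_coprime
    (hcentral : ∀ s : ℕ, s.Prime → s ≠ p → ∀ y : G, IsQ s y → y ∈ center G) {g : G}
    (hg : (orderOf g).Coprime p) : g ∈ center G := by
  by_contra hgz
  obtain ⟨q, k, hq, hqd, hk1, hk2⟩ := exists_noncentral_part' hgz
  have hqp : q ≠ p := by
    rintro rfl
    exact hq.one_lt.ne' (Nat.Coprime.eq_one_of_dvd hg.symm hqd)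
  exact hk1 (hcentral q hq hqp _ hk2)

/-- some `p`-power of any element lies in the `p'`-part of the center -/
theorem exists_pow_mem_pPrimeCenter
    (hcentral : ∀ s : ℕ, s.Prime → s ≠ p → ∀ y : G, IsQ s y → y ∈ center G) (g : G) :
    ∃ k : ℕ, g ^ (p ^ k) ∈ pPrimeCenter G p := by
  obtain ⟨a, b, hab, ⟨k, hk⟩, hcop⟩ := exists_pow_split g p hp.out
  refine ⟨k, ?_⟩
  have hc : Commute (g ^ a) (g ^ b) := (Commute.refl g).pow_pow a b
  have hb : g ^ b ∈ pPrimeCenter G p := ⟨central_of_coprime hcentral hcop, hcop⟩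
  rw [hab, hc.mul_pow, hk, one_mul]
  exact pow_mem hb _

theorem not_dvd_card_pPrimeCenter : ¬ p ∣ Nat.card (pPrimeCenter G p) := by
  intro hd
  obtain ⟨c, hc⟩ := exists_prime_orderOf_dvd_card' p hd
  have h1 := c.2.2
  rw [← Subgroup.orderOf_coe, ] at hc
  rw [hc] at h1
  exact hp.out.one_lt.ne' ((Nat.coprime_self p).mp h1)

/-- the quotient by the `p'`-part of the center is a `p`-group -/
theorem isPGroup_quotient_pPrimeCenter
    (hcentral : ∀ s : ℕ, s.Prime → s ≠ p → ∀ y : G, IsQ s y → y ∈ center G) :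
    IsPGroup p (G ⧸ pPrimeCenter G p) := by
  intro x
  induction x using QuotientGroup.induction_on with
  | H g =>
    obtain ⟨k, hk⟩ := exists_pow_mem_pPrimeCenter hcentral g
    refine ⟨k, ?_⟩
    rw [← QuotientGroup.mk_pow, QuotientGroup.eq_one_iff]
    exact hk

theorem isPGroup_quotient_center
    (hcentral : ∀ s : ℕ, s.Prime → s ≠ p → ∀ y : G, IsQ s y → y ∈ center G) :
    IsPGroup p (G ⧸ center G) := by
  intro x
  induction x using QuotientGroup.induction_on with
  | H g =>
    obtain ⟨k, hk⟩ := exists_pow_mem_pPrimeCenter hcentral g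
    refine ⟨k, ?_⟩
    rw [← QuotientGroup.mk_pow, QuotientGroup.eq_one_iff]
    exact hk.1

/-- the complement -/
theorem isComplement'_pPrimeCenter
    (hcentral : ∀ s : ℕ, s.Prime → s ≠ p → ∀ y : G, IsQ s y → y ∈ center G) (P : Sylow p G) :
    (pPrimeCenter G p).IsComplement' (P : Subgroup G) := by
  have hN := not_dvd_card_pPrimeCenter (G := G) (p := p)
  obtain ⟨j, hj⟩ := IsPGroup.iff_card.mp (isPGroup_quotient_pPrimeCenter hcentral)
  rw [← index_eq_card] at hj
  have h1 := (pPrimeCenter G p).card_mul_index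
  rw [hj] at h1
  have hfac : (Nat.card G).factorization p = j := by
    rw [← h1, Nat.factorization_mul Nat.card_pos.ne' (pow_ne_zero _ hp.out.ne_zero)]
    have h0 : (Nat.card (pPrimeCenter G p)).factorization p = 0 :=
      Nat.factorization_eq_zero_of_not_dvd hN
    simp [h0, hp.out.factorization_self]
  have hPcard : Nat.card (P : Subgroup G) = p ^ j := by
    rw [← hfac]
    exact P.card_eq_multiplicity
  apply isComplement'_of_coprime
  · rw [hPcard]
    exact h1
  · rw [hPcard]
    exact Nat.Coprime.pow_right j ((Nat.Prime.coprime_iff_not_dvd hp.out).mpr hN).symm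

theorem sylow_normal_of_central
    (hcentral : ∀ s : ℕ, s.Prime → s ≠ p → ∀ y : G, IsQ s y → y ∈ center G) (P : Sylow p G) :
    (P : Subgroup G).Normal := by
  rw [← normalizer_eq_top_iff, eq_top_iff, ← (isComplement'_pPrimeCenter hcentral P).sup_eq_top]
  apply sup_le
  · intro z hz
    rw [mem_normalizer_iff]
    intro c
    have : z * c * z⁻¹ = c := by
      rw [← (mem_center_iff.mp hz.1) c, mul_inv_cancel_right]
    rw [this]
  · exact le_normalizer

/-- the `p`-th powers commute -/
theorem TwoCS.pow_comm (h : TwoCS G n) (hn : 1 < n)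
    (hcentral : ∀ s : ℕ, s.Prime → s ≠ p → ∀ y : G, IsQ s y → y ∈ center G) (y g : G) :
    y ^ p * g ^ p = g ^ p * y ^ p := by
  by_cases hy : y ^ p ∈ center G
  · exact ((mem_center_iff.mp hy) _).symm
  by_cases hg : g ^ p ∈ center G
  · exact (mem_center_iff.mp hg) _
  have hne : center G ≠ ⊤ := by
    intro htop
    exact hy (htop ▸ mem_top _)
  obtain ⟨u, huz, hup, hcomm⟩ := exists_second_center_elt (isPGroup_quotient_center hcentral) hne
  -- for `y` with noncentral `p`-th power, `C(y) = C(u)`
  have key : ∀ y : G, y ^ p ∉ center G → centralizer ({y} : Set G) = centralizer ({u} : Set G) := by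
    intro y hy
    have hyz : y ∉ center G := fun hyz => hy (pow_mem hyz p)
    have e1 := h.cent_eq hn hyz hy (cent_le_cent_pow y p)
    -- `u` commutes with `y`
    have huy : u ∈ centralizer ({y} : Set G) := by
      rw [e1, mem_cent]
      have h1 : ⁅u, y ^ p⁆ = 1 := by
        rw [comm_pow_right (hcomm y), ← comm_pow_left (hcomm y), comm_central_left hup]
      exact (commutatorElement_eq_one_iff_commute.mp h1).eq
    have hc : Commute y u := (mem_cent.mp huy).symm
    have hyu : (y * u) ^ p = u ^ p * y ^ p := by rw [hc.mul_pow, (mem_center_iff.mp hup) _]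
    have hyup : (y * u) ^ p ∉ center G := by
      rw [hyu]
      intro hmem
      apply hy
      have := mul_mem (inv_mem hup) hmem
      rwa [inv_mul_cancel_left] at this
    have hyuz : y * u ∉ center G := fun hz => hyup (pow_mem hz p)
    have e2 : centralizer ({y * u} : Set G) = centralizer ({y} : Set G) := by
      apply h.cent_eq hn hyuz hyz
      have := cent_le_cent_pow (y * u) p
      rwa [hyu, cent_central_mul hup, ← e1] at this
    apply h.cent_eq hn hyz huz
    intro c hc'
    have h1 : c * y = y * c := mem_cent.mp hc'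
    have h2 : c * (y * u) = y * u * c := mem_cent.mp (e2 ▸ hc')
    rw [mem_cent]
    have : y * (c * u) = y * (u * c) := by
      rw [← mul_assoc, h1, mul_assoc, mul_assoc] at h2
      exact h2
    exact mul_left_cancel this
  have hgy : g ∈ centralizer ({y} : Set G) := by
    rw [key y hy, ← key g hg]
    exact self_mem_cent g
  have hc : Commute y g := (mem_cent.mp hgy).symm
  exact (hc.pow_pow p p).eq

end main

end Cfsg.Agent.Helper1.Ito
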