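import Mathlib

set_option autoImplicit false

/-! # K2P (S5692, `k = 2`, hyperbolic blocks), chapter B: the pairing lemma PAIRF (helper1)

A pure field statement, uniform in the characteristic: for non-zero norms `n, n'` over a finite field
with at least `7` elements there are rotation parameters `lam, mu ∉ {0, 1}` with
`n (1 - lam)² mu + n' (1 - mu)² lam = 0`, and `lam * mu` lies in the square class of `-(n n')`. -/

namespace Cfsg.Agent.K2P

namespace PAIRF

/-- an element outside a finite set of at most five elements -/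
theorem exists_avoid {F : Type*} [Field F] [Fintype F] [DecidableEq F] (hq : 7 ≤ Fintype.card F)
    (a b c d e : F) : ∃ k : F, k ≠ a ∧ k ≠ b ∧ k ≠ c ∧ k ≠ d ∧ k ≠ e := by
  by_contra hcon
  push Not at hcon
  have hsub : (Finset.univ : Finset F) ⊆ {a, b, c, d, e} := by
    intro k _
    by_cases h1 : k = a
    · simp [h1]
    by_cases h2 : k = b
    · simp [h2]
    by_cases h3 : k = c
    · simp [h3]
    by_cases h4 : k = d
    · simp [h4]
    have h5 := hcon k h1 h2 h3 h4
    simp [h5]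
  have h1 := Finset.card_le_card hsub
  rw [Finset.card_univ] at h1
  have h2 : ({a, b, c, d, e} : Finset F).card ≤ 5 := Finset.card_le_five
  omega

/-- the explicit solution attached to a good parameter `k` -/
theorem of_param_aux {F : Type*} [Field F] {D n' k : F} (hn : D - n' * k ≠ 0) (hn' : n' ≠ 0)
    (hk0 : k ≠ 0) (hk1 : k ≠ 1) (hD : D ≠ 0) (hN : D - n' * k + n' * k ^ 2 ≠ 0) :
    ∃ lam mu s : F, lam ≠ 0 ∧ lam ≠ 1 ∧ mu ≠ 0 ∧ mu ≠ 1 ∧
      (D - n' * k) * (1 - lam) ^ 2 * mu + n' * (1 - mu) ^ 2 * lam = 0 ∧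
      lam * mu = -((D - n' * k) * n') * s ^ 2 := by
  have hk1' : k - 1 ≠ 0 := sub_ne_zero.mpr hk1
  have hk1'' : 1 - k ≠ 0 := sub_ne_zero.mpr (Ne.symm hk1)
  have hkD : k * D ≠ 0 := mul_ne_zero hk0 hD
  refine ⟨(D - n' * k) * (k - 1) / (k * D), n' * k * (1 - k) / D,
    (k - 1) / D, ?_, ?_, ?_, ?_, ?_, ?_⟩
  · exact div_ne_zero (mul_ne_zero hn hk1') hkD
  · intro h
    rw [div_eq_one_iff_eq hkD] at h
    apply hN
    linear_combination -h
  · exact div_ne_zero (mul_ne_zero (mul_ne_zero hn' hk0) hk1'') hD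
  · intro h
    rw [div_eq_one_iff_eq hD] at h
    apply hN
    linear_combination -h
  · field_simp
    ring
  · field_simp
    ring

/-- the explicit solution attached to a good parameter `k` -/
theorem of_param {F : Type*} [Field F] {n n' k : F} (hn : n ≠ 0) (hn' : n' ≠ 0) (hk0 : k ≠ 0)
    (hk1 : k ≠ 1) (hD : n + n' * k ≠ 0) (hN : n + n' * k ^ 2 ≠ 0) :
    ∃ lam mu s : F, lam ≠ 0 ∧ lam ≠ 1 ∧ mu ≠ 0 ∧ mu ≠ 1 ∧
      n * (1 - lam) ^ 2 * mu + n' * (1 - mu) ^ 2 * lam = 0 ∧ lam * mu = -(n * n') * s ^ 2 := by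
  have e : n = (n + n' * k) - n' * k := by ring
  have h := of_param_aux (D := n + n' * k) (n' := n') (k := k) (by rw [← e]; exact hn) hn' hk0 hk1
    hD (by rw [← e]; exact hN)
  rw [← e] at h
  exact h

end PAIRF

/-- **PAIRF**: the pairing lemma of chapter B of K2P. -/
theorem PAIRF.main {F : Type*} [Field F] [Fintype F] (hq : 7 ≤ Fintype.card F) {n n' : F}
    (hn : n ≠ 0) (hn' : n' ≠ 0) :
    ∃ lam mu s : F, lam ≠ 0 ∧ lam ≠ 1 ∧ mu ≠ 0 ∧ mu ≠ 1 ∧
      n * (1 - lam) ^ 2 * mu + n' * (1 - mu) ^ 2 * lam = 0 ∧ lam * mu = -(n * n') * s ^ 2 := by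
  classical
  by_cases hr : ∃ r : F, n + n' * r ^ 2 = 0
  · obtain ⟨r, hr⟩ := hr
    obtain ⟨k, h0, h1, h2, h3, h4⟩ := PAIRF.exists_avoid hq (0 : F) 1 (-n / n') r (-r)
    refine PAIRF.of_param hn hn' h0 h1 ?_ ?_
    · intro h
      apply h2
      field_simp
      linear_combination h
    · intro h
      have h5 : n' * ((k - r) * (k + r)) = 0 := by linear_combination h - hr
      rcases mul_eq_zero.mp h5 with h6 | h6
      · exact hn' h6
      rcases mul_eq_zero.mp h6 with h7 | h7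
      · exact h3 (sub_eq_zero.mp h7)
      · exact h4 (eq_neg_of_add_eq_zero_left h7)
  · push Not at hr
    obtain ⟨k, h0, h1, h2, -, -⟩ := PAIRF.exists_avoid hq (0 : F) 1 (-n / n') 0 0
    refine PAIRF.of_param hn hn' h0 h1 ?_ (hr k)
    intro h
    apply h2
    field_simp
    linear_combination h

end Cfsg.Agent.K2P
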