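import Mathlib
import Cfsg.Agent.Helper18.K2P.Defs
import Cfsg.Agent.Helper18.K2P.Defs2
import Cfsg.Agent.Helper18.K2P.QB
import Cfsg.Agent.Helper18.K2P.RACT
import Cfsg.Agent.Helper18.K2P.STAB
import Cfsg.Agent.Helper18.K2P.OMEGA
import Cfsg.Agent.Helper18.K2P.BASIS
import Cfsg.Agent.Helper8.K2PG
import Cfsg.Agent.Helper8.K2PROT
import Cfsg.Agent.Helper1.K2PPAIRF
import Cfsg.Agent.Helper7.K2MSMOVE

set_option autoImplicit false
set_option linter.unusedSectionVars false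
set_option linter.unusedVariables false

/-! # S5692, `k = 2` hyperbolic blocks (chapter K2P), chapter B, piece B-PAIRK (helper1)

`a` related to a block vector (`InA M a`), two NONSINGULAR components `a_i`, `a_j`, a third nonzero component `a_k`
and a zero component `a_p`: then `M` contains a Siegel element (`SiegOut M`).

Proof: `PAIRF.main` gives `lam, mu ∉ {0, 1}` with `n (1-lam)² mu + n' (1-mu)² lam = 0` (`n = q a_i`, `n' = q a_j`);
`m = (ρ_i(lam) ρ_p(lam⁻¹)) (ρ_j(mu) ρ_p(mu⁻¹)) ∈ M` (`TOR.mem2`); `z = a - m a` is singular, nonzero, supported on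
`{i, j}`; `r_a r_{m a} ∈ M` (`SMOVE.main`), hence `-(Q a)⁻¹ a ∈ Rad M z` (`STOSIEG.main`). -/

namespace Cfsg.Agent.K2P

open Matrix Cfsg.Agent.OC2P Cfsg.Agent.Helper28.Sg Cfsg.Agent.Helper28.Spin
  Cfsg.Agent.Helper12.OrthGen Cfsg.Agent.K2M

variable {F : Type*} [Field F] [Fintype F] {t : ℕ} {Q : QuadraticForm F (Fin t × Fin 2 → F)}
  {q : QuadraticForm F (Fin 2 → F)} {e f : Fin 2 → F} {M : Subgroup (OG Q)}

/-- the block vector related to `a` can be taken in any block (K2M's `SCHANGEB.main` for hyperbolic blocks) -/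
theorem B.PAIRK.aux_changeb (bp : BP Q q e f) (ht : 3 ≤ t) (hM : HasMO M)
    {a : Fin t × Fin 2 → F} (ha : InA M a) (l : Fin t) :
    ∃ (y : Fin 2 → F) (ha' : Q a ≠ 0) (hb : Q (binj l y) ≠ 0), q y = Q a ∧
      reflO Q a ha' * reflO Q (binj l y) hb ∈ M := by
  obtain ⟨b, ha', hb, ⟨l₀, hbl₀⟩, hQab, hmem⟩ := ha
  have hb_eq : b = binj l₀ (bproj l₀ b) := QB.mem_Dblk_iff'.mp hbl₀
  obtain ⟨y, hy⟩ := UNIV.main bp (Q a)
  have hQy : Q (binj l y) = q y := QB.Q_binj bp.toBM0 l y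
  have hby : Q (binj l y) ≠ 0 := by rw [hQy, hy]; exact ha'
  refine ⟨y, ha', hby, hy, ?_⟩
  have hQb0 : Q (binj l₀ (bproj l₀ b)) ≠ 0 := by rw [← hb_eq]; exact hb
  have hqb : q (bproj l₀ b) = Q b := by
    rw [← QB.Q_binj bp.toBM0 l₀ (bproj l₀ b), ← hb_eq]
  have hpair : reflO Q (binj l₀ (bproj l₀ b)) hQb0 * reflO Q (binj l y) hby ∈ M := by
    apply OMEGA.pair_mem bp.toBM0 ht hM
    rw [hqb, ← hQab, hy]
    exact ⟨Q a, rfl⟩
  have hrefl : reflO Q (binj l₀ (bproj l₀ b)) hQb0 = reflO Q b hb := by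
    congr 1
    exact hb_eq.symm
  rw [hrefl] at hpair
  have hprod := M.mul_mem hmem hpair
  have heq : reflO Q a ha' * reflO Q b hb * (reflO Q b hb * reflO Q (binj l y) hby)
      = reflO Q a ha' * reflO Q (binj l y) hby := by
    rw [mul_assoc, ← mul_assoc (reflO Q b hb), reflO_mul_self, one_mul]
  rw [heq] at hprod
  exact hprod

omit [Fintype F] in
/-- the end of the argument: `m ∈ M` fixing `b`, `z = a - m a` singular, nonzero with small support -/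
theorem B.PAIRK.aux_core {a b : Fin t × Fin 2 → F} (ha : Q a ≠ 0) (hb : Q b ≠ 0)
    (hab : reflO Q a ha * reflO Q b hb ∈ M) {m : OG Q} (hm : m ∈ M) (hmb : mt Q m *ᵥ b = b)
    {z : Fin t × Fin 2 → F} (hzeq : a - mt Q m *ᵥ a = z) (hz : Q z = 0) (hz0 : z ≠ 0)
    (I : Finset (Fin t)) (hI : I.card ≤ 4) (hsupp : SuppIn I z) {p : Fin t} (hp : p ∉ I)
    (hpa : bproj p a ≠ 0) : SiegOut M := by
  subst hzeq
  have hQma : Q (mt Q m *ᵥ a) = Q a := Q_isom m a
  have hQma' : Q (mt Q m *ᵥ a) ≠ 0 := by rw [hQma]; exact ha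
  have hrel := SMOVE.main ha hb hab hm hmb hQma'
  have hw := STOSIEG.main ha hQma' hQma hz hrel
  refine ⟨a - mt Q m *ᵥ a, (-(Q a)⁻¹) • a, hz, I, p, hz0, hI, hsupp, hp, hw, ?_⟩
  rw [QB.bproj_smul]
  exact smul_ne_zero (neg_ne_zero.mpr (inv_ne_zero ha)) hpa

/-- the norm of the displacement of a rotation -/
theorem B.PAIRK.aux_q_dsp (bp : BP Q q e f) (ν : F) (y : Fin 2 → F) :
    q (rotV q e f ν y - y) = (ν - 1) * (ν⁻¹ - 1) * q y := by
  rw [ROT.aux_rotV_sub bp, BASIS.q_comb bp, BASIS.q_eq bp y]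
  ring

/-- the displacement of a nonsingular vector under a nontrivial rotation is nonzero -/
theorem B.PAIRK.aux_dsp_ne (bp : BP Q q e f) {ν : F} (hν : ν ≠ 0) (h1 : ν ≠ 1) {y : Fin 2 → F}
    (hy : q y ≠ 0) : rotV q e f ν y - y ≠ 0 := by
  intro h
  have h2 := B.PAIRK.aux_q_dsp bp ν y
  rw [h, map_zero] at h2
  have h3 : ν - 1 ≠ 0 := sub_ne_zero.mpr h1
  have h4 : ν⁻¹ - 1 ≠ 0 := by
    intro h5
    apply h1
    have h6 : ν⁻¹ = 1 := sub_eq_zero.mp h5
    exact inv_eq_one.mp h6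
  exact (mul_ne_zero (mul_ne_zero h3 h4) hy) h2.symm

omit [Fintype F] in
/-- `Q` of a vector plus a block vector in a block where the vector has zero component -/
theorem B.PAIRK.aux_Q_add (bp : BP Q q e f) (i : Fin t) {x : Fin t × Fin 2 → F} (y : Fin 2 → F)
    (hx : bproj i x = 0) : Q (x + binj i y) = Q x + q y := by
  rw [Q_add, QB.B_binj_right bp.toBM0, hx, QuadraticMap.polar_zero_left, add_zero, QB.Q_binj bp.toBM0]

omit [Fintype F] in
/-- a block rotation fixes the block vectors of the other blocks -/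
theorem B.PAIRK.aux_fix_binj (bp : BP Q q e f) {i k : Fin t} (hik : i ≠ k) {ν : F} (hν : ν ≠ 0)
    (y : Fin 2 → F) : mt Q (TOR.rho bp i ν hν) *ᵥ binj k y = binj k y :=
  TOR.fix bp i hν (bproj_binj_ne hik y)

/-- B-PAIRK -/
theorem B.PAIRK (bp : BP Q q e f) (ht : 3 ≤ t) (hq : 7 ≤ Fintype.card F) (hM : HasMO M)
    {a : Fin t × Fin 2 → F} (ha : InA M a) {i j k p : Fin t} (hij : i ≠ j) (hik : i ≠ k) (hjk : j ≠ k)
    (hpi : p ≠ i) (hpj : p ≠ j) (hpk : p ≠ k) (hi : q (bproj i a) ≠ 0) (hj : q (bproj j a) ≠ 0)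
    (hk : bproj k a ≠ 0) (hp : bproj p a = 0) : SiegOut M := by
  classical
  obtain ⟨yb, ha', hb, hqb, hab⟩ := B.PAIRK.aux_changeb bp ht hM ha k
  obtain ⟨lam, mu, s, hl0, hl1, hm0, hm1, heq, -⟩ := PAIRF.main hq hi hj
  have hl0' : lam⁻¹ ≠ 0 := inv_ne_zero hl0
  have hm0' : mu⁻¹ ≠ 0 := inv_ne_zero hm0
  have hg1 : TOR.rho bp i lam hl0 * TOR.rho bp p lam⁻¹ hl0' ∈ M := by
    apply TOR.mem2 bp ht hM (Ne.symm hpi) hl0 hl0'
    rw [mul_inv_cancel₀ hl0]
    exact ⟨1, by ring⟩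
  have hg2 : TOR.rho bp j mu hm0 * TOR.rho bp p mu⁻¹ hm0' ∈ M := by
    apply TOR.mem2 bp ht hM (Ne.symm hpj) hm0 hm0'
    rw [mul_inv_cancel₀ hm0]
    exact ⟨1, by ring⟩
  have hm := M.mul_mem hg1 hg2
  -- `m b = b`
  have hmb : mt Q (TOR.rho bp i lam hl0 * TOR.rho bp p lam⁻¹ hl0' *
      (TOR.rho bp j mu hm0 * TOR.rho bp p mu⁻¹ hm0')) *ᵥ binj k yb = binj k yb := by
    rw [mt_mul_mulVec, mt_mul_mulVec, mt_mul_mulVec, B.PAIRK.aux_fix_binj bp hpk,
      B.PAIRK.aux_fix_binj bp hjk, B.PAIRK.aux_fix_binj bp hpk, B.PAIRK.aux_fix_binj bp hik]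
  -- `m a`
  have hma : mt Q (TOR.rho bp i lam hl0 * TOR.rho bp p lam⁻¹ hl0' *
      (TOR.rho bp j mu hm0 * TOR.rho bp p mu⁻¹ hm0')) *ᵥ a =
      a + binj j (rotV q e f mu (bproj j a) - bproj j a) +
        binj i (rotV q e f lam (bproj i a) - bproj i a) := by
    rw [mt_mul_mulVec, mt_mul_mulVec, mt_mul_mulVec, TOR.fix bp p hm0' hp, ROT.aux_rho bp j hm0]
    have h1 : bproj p (a + binj j (rotV q e f mu (bproj j a) - bproj j a)) = 0 := by
      rw [QB.bproj_add, hp, bproj_binj_ne hpj, add_zero]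
    rw [TOR.fix bp p hl0' h1, ROT.aux_rho bp i hl0, QB.bproj_add, bproj_binj_ne hij, add_zero]
  have hzeq : a - mt Q (TOR.rho bp i lam hl0 * TOR.rho bp p lam⁻¹ hl0' *
      (TOR.rho bp j mu hm0 * TOR.rho bp p mu⁻¹ hm0')) *ᵥ a =
      -(binj j (rotV q e f mu (bproj j a) - bproj j a) +
        binj i (rotV q e f lam (bproj i a) - bproj i a)) := by
    rw [hma]; abel
  -- `Q z = 0`
  have hz : Q (-(binj j (rotV q e f mu (bproj j a) - bproj j a) +
        binj i (rotV q e f lam (bproj i a) - bproj i a))) = 0 := by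
    rw [QuadraticMap.map_neg, B.PAIRK.aux_Q_add bp i _ (bproj_binj_ne hij _), QB.Q_binj bp.toBM0,
      B.PAIRK.aux_q_dsp bp, B.PAIRK.aux_q_dsp bp]
    field_simp
    linear_combination (-1 : F) * heq
  -- `z ≠ 0`
  have hz0 : -(binj j (rotV q e f mu (bproj j a) - bproj j a) +
        binj i (rotV q e f lam (bproj i a) - bproj i a)) ≠ 0 := by
    intro h0
    have h1 : bproj i (-(binj j (rotV q e f mu (bproj j a) - bproj j a) +
        binj i (rotV q e f lam (bproj i a) - bproj i a))) = 0 := by rw [h0]; rfl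
    rw [QB.bproj_neg, QB.bproj_add, bproj_binj_ne hij, bproj_binj, zero_add, neg_eq_zero] at h1
    exact B.PAIRK.aux_dsp_ne bp hl0 hl1 hi h1
  refine B.PAIRK.aux_core ha' hb hab hm hmb hzeq hz hz0 {i, j} ?_ ?_ ?_ hk
  · calc ({i, j} : Finset (Fin t)).card ≤ 2 := Finset.card_le_two
      _ ≤ 4 := by norm_num
  · intro l hl
    rw [Finset.mem_insert, Finset.mem_singleton, not_or] at hl
    rw [QB.bproj_neg, QB.bproj_add, bproj_binj_ne hl.1, bproj_binj_ne hl.2, add_zero, neg_zero]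
  · rw [Finset.mem_insert, Finset.mem_singleton, not_or]
    exact ⟨Ne.symm hik, Ne.symm hjk⟩

end Cfsg.Agent.K2P
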