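import Mathlib
import Cfsg.Agent.Helper1.K2PPAIRF

set_option autoImplicit false

/-! # K2P (S5692, `k = 2`, hyperbolic blocks): the torus isolation lemma ISOL (helper1)

An additive subgroup `R` of a vector space which is stable under the full torus
`x e + y f ↦ (μ x) e + (μ⁻¹ y) f` of a hyperbolic pair `e, f` and contains a vector with non-zero
`e`-coordinate contains the whole line `F e` (`T_1 + T_s - T_{s/(1+s)}` kills the `f`-coordinate). -/

namespace Cfsg.Agent.K2P

namespace ISOL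

/-- a parameter `s` with `s ≠ 0`, `1 + s ≠ 0`, `s² + s + 1 ≠ 0` -/
theorem exists_s {F : Type*} [Field F] [Fintype F] (hq : 7 ≤ Fintype.card F) :
    ∃ s : F, s ≠ 0 ∧ 1 + s ≠ 0 ∧ s ^ 2 + s + 1 ≠ 0 := by
  classical
  by_cases hr : ∃ r : F, r ^ 2 + r + 1 = 0
  · obtain ⟨r, hr⟩ := hr
    obtain ⟨s, h0, h1, h2, h3, -⟩ := PAIRF.exists_avoid hq (0 : F) (-1) r (-1 - r) 0
    refine ⟨s, h0, ?_, ?_⟩
    · intro h
      apply h1
      linear_combination h
    · intro h
      have h5 : (s - r) * (s - (-1 - r)) = 0 := by linear_combination h - hr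
      rcases mul_eq_zero.mp h5 with h6 | h6
      · exact h2 (sub_eq_zero.mp h6)
      · exact h3 (sub_eq_zero.mp h6)
  · push Not at hr
    obtain ⟨s, h0, h1, -, -, -⟩ := PAIRF.exists_avoid hq (0 : F) (-1) 0 0 0
    refine ⟨s, h0, ?_, hr s⟩
    intro h
    apply h1
    linear_combination h

end ISOL

/-- **ISOL**: torus isolation of the `e`-line. -/
theorem ISOL.main {F : Type*} [Field F] [Fintype F] (hq : 7 ≤ Fintype.card F) {V : Type*}
    [AddCommGroup V] [Module F V] (R : AddSubgroup V) (e f : V)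
    (hR : ∀ μ : F, μ ≠ 0 → ∀ x y : F, x • e + y • f ∈ R → (μ * x) • e + (μ⁻¹ * y) • f ∈ R)
    {x y : F} (hx : x ≠ 0) (h : x • e + y • f ∈ R) : ∀ c : F, c • e ∈ R := by
  obtain ⟨s, hs0, hs1, hs2⟩ := ISOL.exists_s (F := F) hq
  have hss : s / (1 + s) ≠ 0 := div_ne_zero hs0 hs1
  have h1 := hR s hs0 x y h
  have h2 := hR (s / (1 + s)) hss x y h
  have h3 := R.sub_mem (R.add_mem h h1) h2
  -- the combination is a non-zero multiple of `e`
  have key : x • e + y • f + ((s * x) • e + (s⁻¹ * y) • f) -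
      (((s / (1 + s)) * x) • e + ((s / (1 + s))⁻¹ * y) • f)
      = ((s ^ 2 + s + 1) / (1 + s) * x) • e := by
    have e1 : (1 : F) + s⁻¹ - (s / (1 + s))⁻¹ = 0 := by
      field_simp
      ring
    have e2 : (1 : F) + s - s / (1 + s) = (s ^ 2 + s + 1) / (1 + s) := by
      field_simp
      ring
    have : x • e + y • f + ((s * x) • e + (s⁻¹ * y) • f) -
        (((s / (1 + s)) * x) • e + ((s / (1 + s))⁻¹ * y) • f)
        = ((1 + s - s / (1 + s)) * x) • e + ((1 + s⁻¹ - (s / (1 + s))⁻¹) * y) • f := by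
      module
    rw [this, e1, e2, zero_mul, zero_smul, add_zero]
  rw [key] at h3
  set a : F := (s ^ 2 + s + 1) / (1 + s) * x with ha
  have ha0 : a ≠ 0 := mul_ne_zero (div_ne_zero hs2 hs1) hx
  intro c
  by_cases hc : c = 0
  · rw [hc, zero_smul]; exact R.zero_mem
  have h4 := hR (c / a) (div_ne_zero hc ha0) a 0 (by rw [zero_smul, add_zero]; exact h3)
  rw [mul_zero, zero_smul, add_zero, div_mul_cancel₀ c ha0] at h4
  exact h4

end Cfsg.Agent.K2P
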