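import Mathlib
import Cfsg.Agent.Helper27.LChDefs
import Cfsg.Agent.Helper18.LChQ3
import Cfsg.Agent.Helper23.LChQ5a

set_option autoImplicit false
set_option linter.unusedVariables false
set_option linter.unusedSectionVars false

namespace Cfsg.Agent.Helper1.LCh

open Cfsg Matrix
open Cfsg.Agent.Helper27.LCh

variable {L : AddSubgroup (Fin 24 → ℤ)}

/-- the vectors of `L` that are `±2` on `O` and `0` off `O` -/
def octVecs (L : AddSubgroup (Fin 24 → ℤ)) (O : Finset (Fin 24)) : Set (Fin 24 → ℤ) :=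
  {v | v ∈ L ∧ ∀ i, (i ∈ O → v i = 2 ∨ v i = -2) ∧ (i ∉ O → v i = 0)}

theorem octVecs_finite (O : Finset (Fin 24)) : (octVecs L O).Finite := by
  have hfin : (Set.univ.pi (fun _ : Fin 24 => ({2, -2, 0} : Set ℤ))).Finite :=
    Set.Finite.pi (fun _ => Set.toFinite _)
  apply hfin.subset
  intro v hv i _
  by_cases hi : i ∈ O
  · rcases (hv.2 i).1 hi with h | h <;> simp [h]
  · simp [(hv.2 i).2 hi]

/-- the index pairs `i < j` -/
def pairIdx : Finset (Fin 24 × Fin 24) := Finset.univ.filter (fun p => p.1 < p.2)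

set_option maxRecDepth 100000 in
theorem pairIdx_card : pairIdx.card = 276 := by
  decide

/-- sign -/
def sgn4 (b : Bool) : ℤ := if b then 4 else -4

/-- the vectors `±4δ_i ± 4δ_j`, `i < j` -/
def pairVecs : Set (Fin 24 → ℤ) :=
  (fun q : (Fin 24 × Fin 24) × (Bool × Bool) =>
    (Pi.single q.1.1 (sgn4 q.2.1) + Pi.single q.1.2 (sgn4 q.2.2) : Fin 24 → ℤ)) ''
    ((pairIdx ×ˢ (Finset.univ : Finset (Bool × Bool)) : Finset _) : Set _)

theorem pairVecs_finite : pairVecs.Finite :=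
  (Finset.finite_toSet _).image _

theorem pairVecs_ncard_le : pairVecs.ncard ≤ 1104 := by
  have h1 : pairVecs.ncard ≤ Set.ncard
      (((pairIdx ×ˢ (Finset.univ : Finset (Bool × Bool)) :
        Finset ((Fin 24 × Fin 24) × (Bool × Bool))) : Set ((Fin 24 × Fin 24) × (Bool × Bool)))) := by
    unfold pairVecs
    exact Set.ncard_image_le (Finset.finite_toSet _)
  have h2 : (pairIdx ×ˢ (Finset.univ : Finset (Bool × Bool))).card = 1104 := by
    rw [Finset.card_product, pairIdx_card, Finset.card_univ, Fintype.card_prod, Fintype.card_bool]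
  rw [Set.ncard_coe_finset, h2] at h1
  exact h1

theorem sgn4_of_sq {w : ℤ} (hw : w ^ 2 = 1) : ∃ b : Bool, 4 * w = sgn4 b := by
  have h : (w - 1) * (w + 1) = 0 := by ring_nf; rw [hw]; ring
  rcases mul_eq_zero.1 h with h | h
  · exact ⟨true, by simp [sgn4]; omega⟩
  · exact ⟨false, by simp [sgn4]; omega⟩

theorem mem_pairVecs_of {v w : Fin 24 → ℤ} {i j : Fin 24} (hij : i ≠ j)
    (hv : ∀ k, v k = 4 * w k)
    (hi : w i ^ 2 = 1) (hj : w j ^ 2 = 1) (hk : ∀ k, k ≠ i → k ≠ j → w k = 0) :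
    v ∈ pairVecs := by
  obtain ⟨a, ha⟩ := sgn4_of_sq hi
  obtain ⟨b, hb⟩ := sgn4_of_sq hj
  have hveq : v = Pi.single i (sgn4 a) + Pi.single j (sgn4 b) := by
    funext k
    rw [hv k, Pi.add_apply]
    by_cases hki : k = i
    · subst hki
      rw [Pi.single_eq_same, Pi.single_eq_of_ne hij, add_zero, ha]
    · by_cases hkj : k = j
      · subst hkj
        rw [Pi.single_eq_same, Pi.single_eq_of_ne hki, zero_add, hb]
      · rw [Pi.single_eq_of_ne hki, Pi.single_eq_of_ne hkj, hk k hki hkj]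
        simp
  rcases lt_or_gt_of_ne hij with hlt | hlt
  · refine ⟨((i, j), (a, b)), ?_, hveq.symm⟩
    simp [pairIdx, hlt]
  · refine ⟨((j, i), (b, a)), ?_, ?_⟩
    · simp [pairIdx, hlt]
    · rw [hveq, add_comm]

/-- integers with sum of squares `2`: two entries `±1` -/
theorem two_entries {w : Fin 24 → ℤ} (hsum : ∑ i, w i ^ 2 = 2) :
    ∃ i j, i ≠ j ∧ w i ^ 2 = 1 ∧ w j ^ 2 = 1 ∧ ∀ k, k ≠ i → k ≠ j → w k = 0 := by
  classical
  have hsq1 : ∀ (x : ℤ), x ≠ 0 → x ^ 2 ≤ 2 → x ^ 2 = 1 := by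
    intro x hx h2
    have h1 : -1 ≤ x ∧ x ≤ 1 := by constructor <;> nlinarith
    obtain ⟨h1a, h1b⟩ := h1
    interval_cases x <;> simp_all
  have hex : ∃ i, w i ≠ 0 := by
    by_contra h
    push Not at h
    simp [h] at hsum
  obtain ⟨i, hi⟩ := hex
  have h1 : w i ^ 2 + ∑ k ∈ Finset.univ.erase i, w k ^ 2 = 2 := by
    exact (Finset.add_sum_erase Finset.univ (fun k => w k ^ 2) (Finset.mem_univ i)).trans hsum
  have hnn : 0 ≤ ∑ k ∈ Finset.univ.erase i, w k ^ 2 :=
    Finset.sum_nonneg (fun _ _ => sq_nonneg _)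
  have hwi : w i ^ 2 = 1 := hsq1 _ hi (by linarith)
  have h2 : ∑ k ∈ Finset.univ.erase i, w k ^ 2 = 1 := by linarith
  have hex2 : ∃ j ∈ Finset.univ.erase i, w j ≠ 0 := by
    by_contra h
    push Not at h
    rw [Finset.sum_eq_zero (fun k hk => by rw [h k hk]; simp)] at h2
    exact absurd h2 (by norm_num)
  obtain ⟨j, hjm, hj⟩ := hex2
  have h3 : w j ^ 2 + ∑ k ∈ (Finset.univ.erase i).erase j, w k ^ 2 = 1 := by
    exact (Finset.add_sum_erase (Finset.univ.erase i) (fun k => w k ^ 2) hjm).trans h2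
  have hnn2 : 0 ≤ ∑ k ∈ (Finset.univ.erase i).erase j, w k ^ 2 :=
    Finset.sum_nonneg (fun _ _ => sq_nonneg _)
  have hwj : w j ^ 2 = 1 := hsq1 _ hj (by linarith)
  have h4 : ∑ k ∈ (Finset.univ.erase i).erase j, w k ^ 2 = 0 := by linarith
  rw [Finset.sum_eq_zero_iff_of_nonneg (fun _ _ => sq_nonneg _)] at h4
  refine ⟨i, j, (Finset.ne_of_mem_erase hjm).symm, hwi, hwj, fun k hki hkj => ?_⟩
  have := h4 k (Finset.mem_erase.2 ⟨hkj, Finset.mem_erase.2 ⟨hki, Finset.mem_univ k⟩⟩)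
  exact pow_eq_zero_iff (by norm_num) |>.1 this

theorem sum_sq_of_even {v u : Fin 24 → ℤ} (hu : ∀ i, v i = 2 * u i) (h32 : v ⬝ᵥ v = 32) :
    ∑ i, u i ^ 2 = 8 := by
  have h : v ⬝ᵥ v = 4 * ∑ i, u i ^ 2 := by
    rw [dotProduct, Finset.mul_sum]
    apply Finset.sum_congr rfl
    intro i _
    rw [hu i]
    ring
  linarith

/-- Q5c with the other pieces as hypotheses -/
theorem even_count_of (hL : Lat L)
    (hQ3 : ∀ {c : Fin 24 → ZMod 2}, c ∈ code L → c ≠ 0 → 4 ∣ hammingNorm c ∧ 8 ≤ hammingNorm c)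
    (hQ5a : {c | c ∈ code L ∧ hammingNorm c = 8}.ncard ≤ 759)
    (hQ5b : ∀ O : Finset (Fin 24),
      {v | v ∈ L ∧ ∀ i, (i ∈ O → v i = 2 ∨ v i = -2) ∧ (i ∉ O → v i = 0)}.ncard ≤ 128) :
    {v | v ∈ L ∧ v ⬝ᵥ v = 32 ∧ ∀ i, Even (v i)}.ncard ≤ 98256 := by
  classical
  obtain ⟨Oct, hOct⟩ : ∃ Oct : Finset (Fin 24 → ZMod 2),
      Oct = (Set.toFinite {c | c ∈ code L ∧ hammingNorm c = 8}).toFinset := ⟨_, rfl⟩
  have hOctcard : Oct.card ≤ 759 := by
    rw [hOct, ← Set.ncard_eq_toFinset_card]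
    exact hQ5a
  obtain ⟨U, hU⟩ : ∃ U : Set (Fin 24 → ℤ),
      U = ⋃ c ∈ Oct, octVecs L (Finset.univ.filter (fun i => c i ≠ 0)) := ⟨_, rfl⟩
  have hUfin : U.Finite := by
    rw [hU]
    exact Set.Finite.biUnion (Finset.finite_toSet Oct) (fun c _ => octVecs_finite _)
  have hUcard : U.ncard ≤ 128 * 759 := by
    rw [hU]
    calc (⋃ c ∈ Oct, octVecs L (Finset.univ.filter (fun i => c i ≠ 0))).ncard
        ≤ ∑ c ∈ Oct, (octVecs L (Finset.univ.filter (fun i => c i ≠ 0))).ncard :=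
          Finset.set_ncard_biUnion_le Oct _
      _ ≤ ∑ c ∈ Oct, 128 := Finset.sum_le_sum (fun c _ => hQ5b _)
      _ = 128 * Oct.card := by rw [Finset.sum_const, smul_eq_mul, mul_comm]
      _ ≤ 128 * 759 := Nat.mul_le_mul_left _ hOctcard
  have hsub : {v | v ∈ L ∧ v ⬝ᵥ v = 32 ∧ ∀ i, Even (v i)} ⊆ U ∪ pairVecs := by
    rintro v ⟨hvL, h32, hev⟩
    have h2 : ∀ i, ∃ u : ℤ, v i = 2 * u := fun i => even_iff_two_dvd.1 (hev i)
    choose u hu using h2
    have hsum : ∑ i, u i ^ 2 = 8 := sum_sq_of_even hu h32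
    obtain ⟨c, hc⟩ : ∃ c : Fin 24 → ZMod 2, c = fun i => ((u i : ℤ) : ZMod 2) := ⟨_, rfl⟩
    have hci : ∀ i, c i = ((u i : ℤ) : ZMod 2) := fun i => by rw [hc]
    have hcL : c ∈ code L := by
      refine ⟨u, ?_, fun i => (hci i).symm⟩
      have : (fun i => 2 * u i) = v := by funext i; exact (hu i).symm
      rw [this]
      exact hvL
    have hind : ∀ i, (if c i ≠ 0 then (1 : ℤ) else 0) ≤ u i ^ 2 := by
      intro i
      split_ifs with h
      · have h0 : u i ≠ 0 := by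
          intro h0
          apply h
          rw [hci i, h0]
          simp
        have := sq_pos_of_ne_zero h0
        linarith
      · exact sq_nonneg _
    have hwt : (hammingNorm c : ℤ) = ∑ i, (if c i ≠ 0 then (1 : ℤ) else 0) := by
      rw [hammingNorm, Finset.card_filter]
      push_cast
      rfl
    have hwt8 : hammingNorm c ≤ 8 := by
      have : (hammingNorm c : ℤ) ≤ 8 := by
        rw [hwt, ← hsum]
        exact Finset.sum_le_sum (fun i _ => hind i)
      exact_mod_cast this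
    by_cases hc0 : c = 0
    · right
      have h3 : ∀ i, ∃ w : ℤ, u i = 2 * w := by
        intro i
        have h1 : ((u i : ℤ) : ZMod 2) = 0 := by rw [← hci i, hc0]; rfl
        rw [ZMod.intCast_zmod_eq_zero_iff_dvd] at h1
        exact h1
      choose w hw using h3
      have hsum2 : ∑ i, w i ^ 2 = 2 := by
        have : ∑ i, u i ^ 2 = 4 * ∑ i, w i ^ 2 := by
          rw [Finset.mul_sum]
          apply Finset.sum_congr rfl
          intro i _
          rw [hw i]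
          ring
        linarith
      obtain ⟨i, j, hij, hi, hj, hk⟩ := two_entries hsum2
      exact mem_pairVecs_of hij (fun k => by rw [hu k, hw k]; ring) hi hj hk
    · left
      have h8 : hammingNorm c = 8 := le_antisymm hwt8 (hQ3 hcL hc0).2
      have hzero : ∑ i, (u i ^ 2 - (if c i ≠ 0 then (1 : ℤ) else 0)) = 0 := by
        rw [Finset.sum_sub_distrib, hsum, ← hwt, h8]
        norm_num
      rw [Finset.sum_eq_zero_iff_of_nonneg (fun i _ => sub_nonneg.2 (hind i))] at hzero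
      have hcO : c ∈ Oct := by
        rw [hOct, Set.Finite.mem_toFinset]
        exact ⟨hcL, h8⟩
      rw [hU]
      refine Set.mem_biUnion hcO ⟨hvL, fun i => ⟨fun hi => ?_, fun hi => ?_⟩⟩
      · have hci' : c i ≠ 0 := (Finset.mem_filter.1 hi).2
        have h1 := hzero i (Finset.mem_univ i)
        rw [if_pos hci'] at h1
        have h2 : (u i - 1) * (u i + 1) = 0 := by ring_nf; linarith
        rcases mul_eq_zero.1 h2 with h | h
        · left; rw [hu i]; omega
        · right; rw [hu i]; omega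
      · have hci' : ¬ c i ≠ 0 := fun h => hi (Finset.mem_filter.2 ⟨Finset.mem_univ i, h⟩)
        have h1 := hzero i (Finset.mem_univ i)
        rw [if_neg hci', sub_zero] at h1
        have h2 : u i = 0 := pow_eq_zero_iff (by norm_num) |>.1 h1
        rw [hu i, h2]
        norm_num
  calc {v | v ∈ L ∧ v ⬝ᵥ v = 32 ∧ ∀ i, Even (v i)}.ncard
      ≤ (U ∪ pairVecs).ncard := Set.ncard_le_ncard hsub (hUfin.union pairVecs_finite)
    _ ≤ U.ncard + pairVecs.ncard := Set.ncard_union_le _ _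
    _ ≤ 128 * 759 + 1104 := Nat.add_le_add hUcard pairVecs_ncard_le
    _ = 98256 := by norm_num

/-- Q5c with only Q5b as hypothesis (Q3 = `Helper18.LCh.code_weight`,
Q5a = `Helper23.LCh.octad_count_le` are landed) -/
theorem even_count_of_Q5b (hL : Lat L)
    (hQ5b : ∀ O : Finset (Fin 24),
      {v | v ∈ L ∧ ∀ i, (i ∈ O → v i = 2 ∨ v i = -2) ∧ (i ∉ O → v i = 0)}.ncard ≤ 128) :
    {v | v ∈ L ∧ v ⬝ᵥ v = 32 ∧ ∀ i, Even (v i)}.ncard ≤ 98256 :=
  even_count_of hL (fun hc h0 => Cfsg.Agent.Helper18.LCh.code_weight hL hc h0)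
    (Cfsg.Agent.Helper23.LCh.octad_count_le (code L)
      (fun c hc h0 => (Cfsg.Agent.Helper18.LCh.code_weight hL hc h0).2)) hQ5b

end Cfsg.Agent.Helper1.LCh
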