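import Mathlib
import Cfsg.Agent.Helper9.LieGr

/-!
# The associated graded Lie ring of a group (piece LG1 of S3779)

`H G n = γ_{n+1}(G)`, `A G n = γ_{n+1}/γ_{n+2}` written additively, `LG G = ⨁ₙ A G n` with the Lie
bracket induced by the group commutator `⁅x, y⁆ = x * y * x⁻¹ * y⁻¹`.

Auxiliary API (namespace `Cfsg.Agent.LieGrp.LG1`): `cl k x` (total version of `cls`), `ic k x`
(its image in `LG G`), `lieHom` (the bracket as a bi-additive map).
-/

set_option autoImplicit false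

namespace Cfsg.Agent.LieGrp

open scoped commutatorElement

universe u
variable (G : Type u) [Group G]

/-- `H G n = γ_{n+1}(G)` -/
abbrev H (n : ℕ) : Subgroup G := (⊤ : Subgroup G).lowerCentralSeries n

instance H_normal (n : ℕ) : (H G n).Normal := by
  have : ((⊤ : Subgroup G).lowerCentralSeries n).Characteristic := inferInstance
  infer_instance

namespace LG1

variable {G}

/-- three subgroups lemma modulo a normal subgroup -/
theorem three_sub_mod {H₁ H₂ H₃ N : Subgroup G} [N.Normal]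
    (h1 : ⁅⁅H₂, H₃⁆, H₁⁆ ≤ N) (h2 : ⁅⁅H₃, H₁⁆, H₂⁆ ≤ N) : ⁅⁅H₁, H₂⁆, H₃⁆ ≤ N := by
  rw [← QuotientGroup.ker_mk' N, ← Subgroup.map_eq_bot_iff] at h1 h2 ⊢
  simp only [Subgroup.map_commutator] at h1 h2 ⊢
  exact Subgroup.commutator_commutator_eq_bot_of_rotate h1 h2

theorem comm_H_le (m n : ℕ) : ⁅H G m, H G n⁆ ≤ H G (m + n + 1) := by
  induction n generalizing m with
  | zero => exact le_of_eq (Subgroup.lowerCentralSeries_succ _ m).symm
  | succ n ih =>
    have e : H G (n + 1) = ⁅H G n, ⊤⁆ := Subgroup.lowerCentralSeries_succ _ n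
    rw [e, Subgroup.commutator_comm]
    apply three_sub_mod
    · -- ⁅⁅⊤, H m⁆, H n⁆
      have e1 : ⁅(⊤ : Subgroup G), H G m⁆ = H G (m + 1) := by
        rw [Subgroup.commutator_comm]; exact (Subgroup.lowerCentralSeries_succ _ m).symm
      rw [e1]
      have := ih (m + 1)
      have e2 : m + 1 + n + 1 = m + (n + 1) + 1 := by omega
      rw [e2] at this
      exact this
    · -- ⁅⁅H m, H n⁆, ⊤⁆
      have h := Subgroup.commutator_mono (ih m) (le_refl (⊤ : Subgroup G))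
      have e1 : ⁅H G (m + n + 1), (⊤ : Subgroup G)⁆ = H G (m + n + 1 + 1) :=
        (Subgroup.lowerCentralSeries_succ _ (m + n + 1)).symm
      rw [e1] at h
      exact h

theorem H_anti {m n : ℕ} (h : m ≤ n) : H G n ≤ H G m :=
  Subgroup.lowerCentralSeries_antitone _ h

end LG1

variable {G} in
theorem commutator_mem_H {m n : ℕ} {x y : G} (hx : x ∈ H G m) (hy : y ∈ H G n) :
    ⁅x, y⁆ ∈ H G (m + n + 1) :=
  LG1.comm_H_le m n (Subgroup.commutator_mem_commutator hx hy)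

/-- the `n`-th layer `γ_{n+1}/γ_{n+2}`, written additively -/
def A (n : ℕ) : Type u := Additive (H G n ⧸ (H G (n + 1)).subgroupOf (H G n))

instance (n : ℕ) : AddCommGroup (A G n) :=
  { (inferInstance : AddGroup (Additive (H G n ⧸ (H G (n + 1)).subgroupOf (H G n)))) with
    add_comm := by
      intro a b
      obtain ⟨x, rfl⟩ := QuotientGroup.mk_surjective (Additive.toMul a)
      obtain ⟨y, rfl⟩ := QuotientGroup.mk_surjective (Additive.toMul b)
      change Additive.ofMul ((QuotientGroup.mk x : H G n ⧸ (H G (n + 1)).subgroupOf (H G n)) *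
        QuotientGroup.mk y) = Additive.ofMul (QuotientGroup.mk y * QuotientGroup.mk x)
      congr 1
      rw [← QuotientGroup.mk_mul, ← QuotientGroup.mk_mul, QuotientGroup.eq, Subgroup.mem_subgroupOf]
      have h : ((x * y)⁻¹ * (y * x) : H G n) = ⁅(y : H G n)⁻¹, (x : H G n)⁻¹⁆ := by
        rw [commutatorElement_def]; group
      have h2 : (((x * y)⁻¹ * (y * x) : H G n) : G) = ⁅(y : G)⁻¹, (x : G)⁻¹⁆ := by
        rw [h]; simp [commutatorElement_def]
      rw [h2]
      exact LG1.H_anti (by omega) (commutator_mem_H (inv_mem y.2) (inv_mem x.2)) }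

variable {G} in
/-- class of `x ∈ γ_{n+1}` in the layer -/
def cls (n : ℕ) (x : G) (hx : x ∈ H G n) : A G n :=
  Additive.ofMul (QuotientGroup.mk (⟨x, hx⟩ : H G n))

variable {G} in
theorem cls_mul (n : ℕ) (x y : G) (hx : x ∈ H G n) (hy : y ∈ H G n) :
    cls n (x * y) ((H G n).mul_mem hx hy) = cls n x hx + cls n y hy := rfl

variable {G} in
theorem cls_eq_zero_iff (n : ℕ) (x : G) (hx : x ∈ H G n) :
    cls n x hx = 0 ↔ x ∈ H G (n + 1) := by
  change (QuotientGroup.mk (⟨x, hx⟩ : H G n) : H G n ⧸ (H G (n + 1)).subgroupOf (H G n)) = 1 ↔ _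
  rw [QuotientGroup.eq_one_iff, Subgroup.mem_subgroupOf]

variable {G} in
theorem cls_surjective (n : ℕ) (a : A G n) : ∃ x, ∃ hx : x ∈ H G n, cls n x hx = a := by
  obtain ⟨⟨x, hx⟩, h⟩ := QuotientGroup.mk_surjective (Additive.toMul a)
  exact ⟨x, hx, by rw [cls, h]; rfl⟩

namespace LG1

variable {G}

open Classical in
/-- total version of `cls`: the class of `x` in the `k`-th layer (`0` if `x ∉ γ_{k+1}`) -/
noncomputable def cl (k : ℕ) (x : G) : A G k := if h : x ∈ H G k then cls k x h else 0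

theorem cl_eq_cls {k : ℕ} {x : G} (hx : x ∈ H G k) : cl k x = cls k x hx := dif_pos hx

theorem cl_mul {k : ℕ} {x y : G} (hx : x ∈ H G k) (hy : y ∈ H G k) :
    cl k (x * y) = cl k x + cl k y := by
  rw [cl_eq_cls hx, cl_eq_cls hy, cl_eq_cls (mul_mem hx hy)]
  exact cls_mul k x y hx hy

theorem cl_eq_zero {k : ℕ} {x : G} (hx : x ∈ H G (k + 1)) : cl k x = 0 := by
  rw [cl_eq_cls (H_anti (Nat.le_succ k) hx)]
  exact (cls_eq_zero_iff k x _).2 hx

theorem cl_one (k : ℕ) : cl k (1 : G) = 0 := cl_eq_zero (one_mem _)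

theorem mem_succ_of_cl_eq_zero {k : ℕ} {x : G} (hx : x ∈ H G k) (h : cl k x = 0) :
    x ∈ H G (k + 1) := by
  rw [cl_eq_cls hx] at h
  exact (cls_eq_zero_iff k x hx).1 h

theorem cl_inv {k : ℕ} {x : G} (hx : x ∈ H G k) : cl k x⁻¹ = - cl k x := by
  have h := cl_mul hx (inv_mem hx)
  rw [mul_inv_cancel, cl_one] at h
  exact (neg_eq_of_add_eq_zero_right h.symm).symm

theorem comm_mem_succ {k : ℕ} (g : G) {x : G} (hx : x ∈ H G k) : ⁅g, x⁆ ∈ H G (k + 1) := by
  have h := commutator_mem_H (m := 0) (n := k) (x := g) (y := x) (Subgroup.mem_top g) hx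
  rwa [show 0 + k + 1 = k + 1 by omega] at h

theorem conj_mem_H {k : ℕ} (g : G) {x : G} (hx : x ∈ H G k) : g * x * g⁻¹ ∈ H G k :=
  (H_normal G k).conj_mem x hx g

theorem cl_conj {k : ℕ} (g : G) {x : G} (hx : x ∈ H G k) : cl k (g * x * g⁻¹) = cl k x := by
  have e : g * x * g⁻¹ = ⁅g, x⁆ * x := by simp [commutatorElement_def]
  have hc : ⁅g, x⁆ ∈ H G (k + 1) := comm_mem_succ g hx
  rw [e, cl_mul (H_anti (Nat.le_succ k) hc) hx, cl_eq_zero hc, zero_add]

theorem cl_comm_mul_left {m n : ℕ} {x x' y : G} (hx : x ∈ H G m) (hx' : x' ∈ H G m)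
    (hy : y ∈ H G n) :
    cl (m + n + 1) ⁅x * x', y⁆ = cl (m + n + 1) ⁅x, y⁆ + cl (m + n + 1) ⁅x', y⁆ := by
  have e : ⁅x * x', y⁆ = x * ⁅x', y⁆ * x⁻¹ * ⁅x, y⁆ := by
    simp only [commutatorElement_def]; group
  rw [e, cl_mul (conj_mem_H x (commutator_mem_H hx' hy)) (commutator_mem_H hx hy),
    cl_conj x (commutator_mem_H hx' hy)]
  exact add_comm _ _

theorem cl_comm_mul_right {m n : ℕ} {x y y' : G} (hx : x ∈ H G m) (hy : y ∈ H G n)
    (hy' : y' ∈ H G n) :
    cl (m + n + 1) ⁅x, y * y'⁆ = cl (m + n + 1) ⁅x, y⁆ + cl (m + n + 1) ⁅x, y'⁆ := by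
  have e : ⁅x, y * y'⁆ = ⁅x, y⁆ * (y * ⁅x, y'⁆ * y⁻¹) := by
    simp only [commutatorElement_def]; group
  rw [e, cl_mul (commutator_mem_H hx hy) (conj_mem_H y (commutator_mem_H hx hy')),
    cl_conj y (commutator_mem_H hx hy')]

theorem cl_comm_eq_zero_left {m n : ℕ} {x y : G} (hx : x ∈ H G (m + 1)) (hy : y ∈ H G n) :
    cl (m + n + 1) ⁅x, y⁆ = 0 := by
  apply cl_eq_zero
  have h := commutator_mem_H hx hy
  rwa [show m + 1 + n + 1 = m + n + 1 + 1 by omega] at h

theorem cl_comm_eq_zero_right {m n : ℕ} {x y : G} (hx : x ∈ H G m) (hy : y ∈ H G (n + 1)) :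
    cl (m + n + 1) ⁅x, y⁆ = 0 := by
  apply cl_eq_zero
  have h := commutator_mem_H hx hy
  rwa [show m + (n + 1) + 1 = m + n + 1 + 1 by omega] at h

theorem cl_comm_congr_left {m n : ℕ} {x x' y : G} (hx : x ∈ H G m) (hx' : x' ∈ H G m)
    (hy : y ∈ H G n) (h : cl m x = cl m x') :
    cl (m + n + 1) ⁅x, y⁆ = cl (m + n + 1) ⁅x', y⁆ := by
  have hu : x⁻¹ * x' ∈ H G (m + 1) :=
    mem_succ_of_cl_eq_zero (mul_mem (inv_mem hx) hx')
      (by rw [cl_mul (inv_mem hx) hx', cl_inv hx, h]; simp)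
  have key := cl_comm_mul_left hx (H_anti (Nat.le_succ m) hu) hy
  rw [cl_comm_eq_zero_left hu hy, add_zero, mul_inv_cancel_left] at key
  exact key.symm

theorem cl_comm_congr_right {m n : ℕ} {x y y' : G} (hx : x ∈ H G m) (hy : y ∈ H G n)
    (hy' : y' ∈ H G n) (h : cl n y = cl n y') :
    cl (m + n + 1) ⁅x, y⁆ = cl (m + n + 1) ⁅x, y'⁆ := by
  have hu : y⁻¹ * y' ∈ H G (n + 1) :=
    mem_succ_of_cl_eq_zero (mul_mem (inv_mem hy) hy')
      (by rw [cl_mul (inv_mem hy) hy', cl_inv hy, h]; simp)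
  have key := cl_comm_mul_right hx hy (H_anti (Nat.le_succ n) hu)
  rw [cl_comm_eq_zero_right hx hu, add_zero, mul_inv_cancel_left] at key
  exact key.symm

theorem exists_cl {k : ℕ} (a : A G k) : ∃ x, x ∈ H G k ∧ cl k x = a := by
  obtain ⟨x, hx, h⟩ := cls_surjective k a
  exact ⟨x, hx, by rw [cl_eq_cls hx, h]⟩

/-- a representative of a layer element -/
noncomputable def rep {k : ℕ} (a : A G k) : G := Classical.choose (exists_cl a)

theorem rep_mem {k : ℕ} (a : A G k) : rep a ∈ H G k := (Classical.choose_spec (exists_cl a)).1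

theorem cl_rep {k : ℕ} (a : A G k) : cl k (rep a) = a := (Classical.choose_spec (exists_cl a)).2

/-- the bracket on layers -/
noncomputable def brkFun (m n : ℕ) (a : A G m) (b : A G n) : A G (m + n + 1) :=
  cl (m + n + 1) ⁅rep a, rep b⁆

theorem brkFun_cl {m n : ℕ} {x y : G} (hx : x ∈ H G m) (hy : y ∈ H G n) :
    brkFun m n (cl m x) (cl n y) = cl (m + n + 1) ⁅x, y⁆ := by
  unfold brkFun
  rw [cl_comm_congr_left (rep_mem _) hx (rep_mem _) (cl_rep _),
    cl_comm_congr_right hx (rep_mem _) hy (cl_rep _)]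

theorem brkFun_add_left (m n : ℕ) (a a' : A G m) (b : A G n) :
    brkFun m n (a + a') b = brkFun m n a b + brkFun m n a' b := by
  obtain ⟨x, hx, rfl⟩ := exists_cl a
  obtain ⟨x', hx', rfl⟩ := exists_cl a'
  obtain ⟨y, hy, rfl⟩ := exists_cl b
  rw [← cl_mul hx hx', brkFun_cl (mul_mem hx hx') hy, brkFun_cl hx hy, brkFun_cl hx' hy,
    cl_comm_mul_left hx hx' hy]

theorem brkFun_add_right (m n : ℕ) (a : A G m) (b b' : A G n) :
    brkFun m n a (b + b') = brkFun m n a b + brkFun m n a b' := by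
  obtain ⟨x, hx, rfl⟩ := exists_cl a
  obtain ⟨y, hy, rfl⟩ := exists_cl b
  obtain ⟨y', hy', rfl⟩ := exists_cl b'
  rw [← cl_mul hy hy', brkFun_cl hx (mul_mem hy hy'), brkFun_cl hx hy, brkFun_cl hx hy',
    cl_comm_mul_right hx hy hy']

/-- the bracket on layers as a bi-additive map -/
noncomputable def brkHom (m n : ℕ) : A G m →+ A G n →+ A G (m + n + 1) :=
  AddMonoidHom.mk' (fun a => AddMonoidHom.mk' (brkFun m n a) (brkFun_add_right m n a))
    (by intro a a'; ext b; exact brkFun_add_left m n a a' b)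

theorem brkHom_apply (m n : ℕ) (a : A G m) (b : A G n) : brkHom m n a b = brkFun m n a b := rfl

/-- the bracket on the direct sum, as a bi-additive map -/
noncomputable def lieHom : DirectSum ℕ (A G) →+ DirectSum ℕ (A G) →+ DirectSum ℕ (A G) :=
  DirectSum.toAddMonoid fun m =>
    AddMonoidHom.flip <|
      DirectSum.toAddMonoid fun n =>
        AddMonoidHom.flip <| (DirectSum.of (A G) (m + n + 1)).compHom.comp <| brkHom m n

theorem lieHom_of_of (m n : ℕ) (a : A G m) (b : A G n) :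
    lieHom (DirectSum.of (A G) m a) (DirectSum.of (A G) n b) =
      DirectSum.of (A G) (m + n + 1) (brkHom m n a b) := by
  simp [lieHom]

/-- image in the direct sum of the class of `x` in the `k`-th layer -/
noncomputable def ic (k : ℕ) (x : G) : DirectSum ℕ (A G) := DirectSum.of (A G) k (cl k x)

theorem ic_congr {k k' : ℕ} (h : k = k') (x : G) : ic k x = ic k' x := by subst h; rfl

theorem ic_mul {k : ℕ} {x y : G} (hx : x ∈ H G k) (hy : y ∈ H G k) :
    ic k (x * y) = ic k x + ic k y := by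
  unfold ic; rw [cl_mul hx hy, map_add]

theorem ic_eq_zero {k : ℕ} {x : G} (hx : x ∈ H G (k + 1)) : ic k x = 0 := by
  unfold ic; rw [cl_eq_zero hx, map_zero]

theorem ic_one (k : ℕ) : ic k (1 : G) = 0 := ic_eq_zero (one_mem _)

theorem ic_inv {k : ℕ} {x : G} (hx : x ∈ H G k) : ic k x⁻¹ = - ic k x := by
  unfold ic; rw [cl_inv hx, map_neg]

theorem ic_conj {k : ℕ} (g : G) {x : G} (hx : x ∈ H G k) : ic k (g * x * g⁻¹) = ic k x := by
  unfold ic; rw [cl_conj g hx]

theorem lieHom_ic_ic {m n : ℕ} {x y : G} (hx : x ∈ H G m) (hy : y ∈ H G n) :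
    lieHom (ic m x) (ic n y) = ic (m + n + 1) ⁅x, y⁆ := by
  unfold ic
  rw [lieHom_of_of, brkHom_apply, brkFun_cl hx hy]

theorem ic_induction {P : DirectSum ℕ (A G) → Prop} (h0 : P 0)
    (hic : ∀ k x, x ∈ H G k → P (ic k x)) (hadd : ∀ X Y, P X → P Y → P (X + Y))
    (X : DirectSum ℕ (A G)) : P X := by
  induction X using DirectSum.induction_on with
  | zero => exact h0
  | of k a =>
    obtain ⟨x, hx, rfl⟩ := exists_cl a
    exact hic k x hx
  | add X Y hX hY => exact hadd X Y hX hY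

theorem lieHom_skew (X Y : DirectSum ℕ (A G)) : lieHom X Y + lieHom Y X = 0 := by
  revert Y
  refine ic_induction (P := fun X => ∀ Y, lieHom X Y + lieHom Y X = 0) ?_ ?_ ?_ X
  · intro Y; simp
  · intro m x hx Y
    refine ic_induction (P := fun Y => lieHom (ic m x) Y + lieHom Y (ic m x) = 0) ?_ ?_ ?_ Y
    · simp
    · intro n y hy
      rw [lieHom_ic_ic hx hy, lieHom_ic_ic hy hx, ic_congr (show n + m + 1 = m + n + 1 by omega),
        ← commutatorElement_inv x y, ic_inv (commutator_mem_H hx hy), add_neg_cancel]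
    · intro Y Y' h h'
      rw [map_add, map_add, AddMonoidHom.add_apply]
      calc lieHom (ic m x) Y + lieHom (ic m x) Y' + (lieHom Y (ic m x) + lieHom Y' (ic m x))
          = (lieHom (ic m x) Y + lieHom Y (ic m x)) +
            (lieHom (ic m x) Y' + lieHom Y' (ic m x)) := by abel
        _ = 0 := by rw [h, h', add_zero]
  · intro X X' h h' Y
    rw [map_add, map_add, AddMonoidHom.add_apply]
    calc lieHom X Y + lieHom X' Y + (lieHom Y X + lieHom Y X')
        = (lieHom X Y + lieHom Y X) + (lieHom X' Y + lieHom Y X') := by abel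
      _ = 0 := by rw [h, h', add_zero]

theorem lieHom_self (X : DirectSum ℕ (A G)) : lieHom X X = 0 := by
  refine ic_induction (P := fun X => lieHom X X = 0) ?_ ?_ ?_ X
  · simp
  · intro k x hx
    rw [lieHom_ic_ic hx hx, commutatorElement_self, ic_one]
  · intro X Y h h'
    rw [map_add, map_add, AddMonoidHom.add_apply, AddMonoidHom.add_apply, h, h']
    have := lieHom_skew X Y
    calc (0 : DirectSum ℕ (A G)) + lieHom Y X + (lieHom X Y + 0)
        = lieHom X Y + lieHom Y X := by abel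
      _ = 0 := this

theorem lieHom_add_left (X Y Z : DirectSum ℕ (A G)) :
    lieHom (X + Y) Z = lieHom X Z + lieHom Y Z := by
  rw [map_add, AddMonoidHom.add_apply]

theorem lieHom_add_right (X Y Z : DirectSum ℕ (A G)) :
    lieHom X (Y + Z) = lieHom X Y + lieHom X Z := map_add _ _ _

theorem lieHom_neg_left (X Y : DirectSum ℕ (A G)) : lieHom (-X) Y = - lieHom X Y := by
  rw [map_neg, AddMonoidHom.neg_apply]

theorem lieHom_neg_right (X Y : DirectSum ℕ (A G)) : lieHom X (-Y) = - lieHom X Y := map_neg _ _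

theorem lieHom_zero_left (Y : DirectSum ℕ (A G)) : lieHom 0 Y = 0 := by
  rw [map_zero, AddMonoidHom.zero_apply]

theorem lieHom_zero_right (X : DirectSum ℕ (A G)) : lieHom X 0 = 0 := map_zero _

/-- the cyclic Jacobi sum -/
noncomputable def jac (X Y Z : DirectSum ℕ (A G)) : DirectSum ℕ (A G) :=
  lieHom X (lieHom Y Z) + lieHom Y (lieHom Z X) + lieHom Z (lieHom X Y)

theorem jac_add_left (X X' Y Z : DirectSum ℕ (A G)) :
    jac (X + X') Y Z = jac X Y Z + jac X' Y Z := by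
  unfold jac
  simp only [lieHom_add_left, lieHom_add_right]
  abel

theorem jac_add_mid (X Y Y' Z : DirectSum ℕ (A G)) :
    jac X (Y + Y') Z = jac X Y Z + jac X Y' Z := by
  unfold jac
  simp only [lieHom_add_left, lieHom_add_right]
  abel

theorem jac_add_right (X Y Z Z' : DirectSum ℕ (A G)) :
    jac X Y (Z + Z') = jac X Y Z + jac X Y Z' := by
  unfold jac
  simp only [lieHom_add_left, lieHom_add_right]
  abel

theorem jac_zero_left (Y Z : DirectSum ℕ (A G)) : jac 0 Y Z = 0 := by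
  unfold jac
  simp only [lieHom_zero_left, lieHom_zero_right, add_zero]

theorem jac_zero_mid (X Z : DirectSum ℕ (A G)) : jac X 0 Z = 0 := by
  unfold jac
  simp only [lieHom_zero_left, lieHom_zero_right, add_zero]

theorem jac_zero_right (X Y : DirectSum ℕ (A G)) : jac X Y 0 = 0 := by
  unfold jac
  simp only [lieHom_zero_left, lieHom_zero_right, add_zero]

theorem jac_ic {a b c : ℕ} {x y z : G} (hx : x ∈ H G a) (hy : y ∈ H G b) (hz : z ∈ H G c) :
    jac (ic a x) (ic b y) (ic c z) = 0 := by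
  have hu : ⁅y, ⁅z⁻¹, x⁻¹⁆⁆ ∈ H G (b + (c + a + 1) + 1) :=
    commutator_mem_H hy (commutator_mem_H (inv_mem hz) (inv_mem hx))
  have hv : ⁅x⁻¹, ⁅y⁻¹, z⁆⁆ ∈ H G (a + (b + c + 1) + 1) :=
    commutator_mem_H (inv_mem hx) (commutator_mem_H (inv_mem hy) hz)
  have hu' : ⁅y, ⁅z⁻¹, x⁻¹⁆⁆ ∈ H G (c + (a + b + 1) + 1) := by
    rwa [show b + (c + a + 1) + 1 = c + (a + b + 1) + 1 by omega] at hu
  have hv' : ⁅x⁻¹, ⁅y⁻¹, z⁆⁆ ∈ H G (c + (a + b + 1) + 1) := by
    rwa [show a + (b + c + 1) + 1 = c + (a + b + 1) + 1 by omega] at hv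
  have e : ⁅z, ⁅x, y⁆⁆ =
      x * ((z * ⁅y, ⁅z⁻¹, x⁻¹⁆⁆⁻¹ * z⁻¹) * (y * ⁅x⁻¹, ⁅y⁻¹, z⁆⁆⁻¹ * y⁻¹)) * x⁻¹ := by
    simp only [commutatorElement_def]
    group
  have h3 : lieHom (ic c z) (lieHom (ic a x) (ic b y)) =
      ic (c + (a + b + 1) + 1) ⁅z, ⁅x, y⁆⁆ := by
    rw [lieHom_ic_ic hx hy, lieHom_ic_ic hz (commutator_mem_H hx hy)]
  have h3' : ic (c + (a + b + 1) + 1) ⁅z, ⁅x, y⁆⁆ =
      - ic (c + (a + b + 1) + 1) ⁅y, ⁅z⁻¹, x⁻¹⁆⁆ - ic (c + (a + b + 1) + 1) ⁅x⁻¹, ⁅y⁻¹, z⁆⁆ := by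
    rw [e, ic_conj x (mul_mem (conj_mem_H z (inv_mem hu')) (conj_mem_H y (inv_mem hv'))),
      ic_mul (conj_mem_H z (inv_mem hu')) (conj_mem_H y (inv_mem hv')),
      ic_conj z (inv_mem hu'), ic_conj y (inv_mem hv'), ic_inv hu', ic_inv hv']
    abel
  have h1 : ic (c + (a + b + 1) + 1) ⁅x⁻¹, ⁅y⁻¹, z⁆⁆ =
      lieHom (ic a x) (lieHom (ic b y) (ic c z)) := by
    rw [ic_congr (show c + (a + b + 1) + 1 = a + (b + c + 1) + 1 by omega),
      ← lieHom_ic_ic (inv_mem hx) (commutator_mem_H (inv_mem hy) hz),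
      ← lieHom_ic_ic (inv_mem hy) hz, ic_inv hx, ic_inv hy]
    simp only [lieHom_neg_left, lieHom_neg_right, neg_neg]
  have h2 : ic (c + (a + b + 1) + 1) ⁅y, ⁅z⁻¹, x⁻¹⁆⁆ =
      lieHom (ic b y) (lieHom (ic c z) (ic a x)) := by
    rw [ic_congr (show c + (a + b + 1) + 1 = b + (c + a + 1) + 1 by omega),
      ← lieHom_ic_ic hy (commutator_mem_H (inv_mem hz) (inv_mem hx)),
      ← lieHom_ic_ic (inv_mem hz) (inv_mem hx), ic_inv hz, ic_inv hx]
    simp only [lieHom_neg_left, lieHom_neg_right, neg_neg]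
  unfold jac
  rw [h3, h3', h1, h2]
  abel

theorem jac_eq_zero (X Y Z : DirectSum ℕ (A G)) : jac X Y Z = 0 := by
  revert Y Z
  refine ic_induction (P := fun X => ∀ Y Z, jac X Y Z = 0) ?_ ?_ ?_ X
  · intro Y Z; exact jac_zero_left Y Z
  · intro a x hx Y
    refine ic_induction (P := fun Y => ∀ Z, jac (ic a x) Y Z = 0) ?_ ?_ ?_ Y
    · intro Z; exact jac_zero_mid _ Z
    · intro b y hy Z
      refine ic_induction (P := fun Z => jac (ic a x) (ic b y) Z = 0) ?_ ?_ ?_ Z
      · exact jac_zero_right _ _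
      · intro c z hz; exact jac_ic hx hy hz
      · intro Z Z' h h'; rw [jac_add_right, h, h', add_zero]
    · intro Y Y' h h' Z; rw [jac_add_mid, h Z, h' Z, add_zero]
  · intro X X' h h' Y Z; rw [jac_add_left, h Y Z, h' Y Z, add_zero]

theorem lieHom_leibniz (X Y Z : DirectSum ℕ (A G)) :
    lieHom X (lieHom Y Z) = lieHom (lieHom X Y) Z + lieHom Y (lieHom X Z) := by
  have j := jac_eq_zero X Y Z
  unfold jac at j
  have s1 : lieHom (lieHom X Y) Z = - lieHom Z (lieHom X Y) :=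
    eq_neg_of_add_eq_zero_left (lieHom_skew _ _)
  have s2 : lieHom X Z = - lieHom Z X := eq_neg_of_add_eq_zero_left (lieHom_skew _ _)
  rw [s1, s2, lieHom_neg_right]
  have h : lieHom X (lieHom Y Z) = -(lieHom Y (lieHom Z X) + lieHom Z (lieHom X Y)) :=
    eq_neg_of_add_eq_zero_left (by rw [← add_assoc]; exact j)
  rw [h]
  abel

end LG1

/-- the associated graded Lie ring `⨁ₙ γ_{n+1}/γ_{n+2}` -/
def LG : Type u := DirectSum ℕ (A G)

instance : AddCommGroup (LG G) := inferInstanceAs (AddCommGroup (DirectSum ℕ (A G)))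

noncomputable instance : LieRing (LG G) :=
  { (inferInstance : AddCommGroup (LG G)) with
    bracket := fun x y => LG1.lieHom x y
    add_lie := LG1.lieHom_add_left
    lie_add := LG1.lieHom_add_right
    lie_self := LG1.lieHom_self
    leibniz_lie := LG1.lieHom_leibniz }

/-- inclusion of the `n`-th layer -/
def ι (n : ℕ) : A G n →+ LG G := DirectSum.of (A G) n

variable {G} in
theorem lie_ι_ι (m n : ℕ) (x y : G) (hx : x ∈ H G m) (hy : y ∈ H G n) :
    ⁅ι G m (cls m x hx), ι G n (cls n y hy)⁆ =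
      ι G (m + n + 1) (cls (m + n + 1) ⁅x, y⁆ (commutator_mem_H hx hy)) := by
  have h := LG1.lieHom_ic_ic hx hy
  unfold LG1.ic at h
  rw [LG1.cl_eq_cls hx, LG1.cl_eq_cls hy, LG1.cl_eq_cls (commutator_mem_H hx hy)] at h
  exact h

end Cfsg.Agent.LieGrp
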