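import Mathlib
import Cfsg.Agent.Helper1.LowerCentralP
import Cfsg.Agent.Helper1.PGroup

set_option autoImplicit false
set_option linter.style.haveILetI false

/-! Orders of the lower central series terms in `p`-groups; normal subgroups of `p`-groups of
maximal class. -/

namespace Cfsg.Agent.Helper1.LCS

variable {G : Type*} [Group G]

/-- In a group of order `p^r`, `|γ_{i+1}| * p^(i+1) ≤ p^r` for `1 ≤ i < r`. -/
theorem lcs_card_mul_le [Finite G] {p : ℕ} [hp : Fact p.Prime] {r : ℕ} (hG : Nat.card G = p ^ r) :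
    ∀ i, 1 ≤ i → i + 1 ≤ r →
      Nat.card (Subgroup.lowerCentralSeries (⊤ : Subgroup G) i) * p ^ (i + 1) ≤ p ^ r := by
  have hPp : IsPGroup p G := IsPGroup.of_card hG
  haveI hnil : Group.IsNilpotent G := hPp.isNilpotent
  have hppos : 0 < p := hp.out.pos
  intro i hi
  induction i, hi using Nat.le_induction with
  | base =>
    intro hr
    rw [Subgroup.top_lowerCentralSeries_one]
    by_cases hc : commutator G = ⊥
    · rw [hc, Subgroup.card_bot, one_mul]
      exact Nat.pow_le_pow_right hppos hr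
    · have h1 := (commutator G).card_mul_index
      rw [hG] at h1
      obtain ⟨l, -, hl⟩ := (Nat.dvd_prime_pow hp.out).mp (Dvd.intro_left _ h1)
      have hl2 : 2 ≤ l := by
        by_contra hlt
        push Not at hlt
        apply hc
        apply commutator_eq_bot_of_index_dvd_prime hp.out
        rw [hl]
        calc p ^ l ∣ p ^ 1 := pow_dvd_pow p (by omega)
          _ = p := pow_one p
      rw [← h1, hl]
      exact Nat.mul_le_mul_left _ (Nat.pow_le_pow_right hppos hl2)
  | succ i hi ih =>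
    intro hr
    have ih' := ih (by omega)
    by_cases hb : Subgroup.lowerCentralSeries (⊤ : Subgroup G) i = ⊥
    · have hb' : Subgroup.lowerCentralSeries (⊤ : Subgroup G) (i + 1) = ⊥ := by
        rw [eq_bot_iff, ← hb]
        exact Subgroup.lowerCentralSeries_antitone _ (Nat.le_succ i)
      rw [hb', Subgroup.card_bot, one_mul]
      exact Nat.pow_le_pow_right hppos hr
    · have hlt := lcs_succ_lt (G := G) i hb
      have hc := mul_card_le_of_lt hPp hlt
      calc Nat.card (Subgroup.lowerCentralSeries (⊤ : Subgroup G) (i + 1)) * p ^ (i + 1 + 1)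
          = (p * Nat.card (Subgroup.lowerCentralSeries (⊤ : Subgroup G) (i + 1))) * p ^ (i + 1) := by
            rw [pow_succ p (i + 1)]; ring
        _ ≤ Nat.card (Subgroup.lowerCentralSeries (⊤ : Subgroup G) i) * p ^ (i + 1) :=
            Nat.mul_le_mul_right _ hc
        _ ≤ p ^ r := ih'

/-- A group of order `p^r`, `r ≥ 2`, has class at most `r - 1`. -/
theorem lcs_eq_bot_of_card [Finite G] {p : ℕ} [hp : Fact p.Prime] {r : ℕ} (hG : Nat.card G = p ^ r)
    (hr : 2 ≤ r) : Subgroup.lowerCentralSeries (⊤ : Subgroup G) (r - 1) = ⊥ := by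
  have h := lcs_card_mul_le hG (r - 1) (by omega) (by omega)
  have hr' : r - 1 + 1 = r := by omega
  rw [hr'] at h
  have hpos : 0 < p ^ r := Nat.pos_of_ne_zero (pow_ne_zero _ hp.out.ne_zero)
  have h1 : Nat.card (Subgroup.lowerCentralSeries (⊤ : Subgroup G) (r - 1)) ≤ 1 := by
    have : Nat.card (Subgroup.lowerCentralSeries (⊤ : Subgroup G) (r - 1)) * p ^ r ≤ 1 * p ^ r := by
      rw [one_mul]; exact h
    exact Nat.le_of_mul_le_mul_right this hpos
  exact Subgroup.card_eq_one.mp (le_antisymm h1 Nat.card_pos)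

/-- A normal subgroup of index `p^r` (`r ≥ 2`) contains `γ_r`. -/
theorem lcs_le_of_index [Finite G] {p : ℕ} [hp : Fact p.Prime] (N : Subgroup G) [N.Normal] {r : ℕ}
    (hN : N.index = p ^ r) (hr : 2 ≤ r) :
    Subgroup.lowerCentralSeries (⊤ : Subgroup G) (r - 1) ≤ N := by
  have hQ : Nat.card (G ⧸ N) = p ^ r := by rw [← Subgroup.index_eq_card, hN]
  have h1 := lcs_eq_bot_of_card hQ hr
  have h2 := Subgroup.map_lowerCentralSeries (S := (⊤ : Subgroup G)) (QuotientGroup.mk' N) (r - 1)
  rw [← MonoidHom.range_eq_map, MonoidHom.range_eq_top.mpr (QuotientGroup.mk'_surjective N), h1]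
    at h2
  intro x hx
  have hx1 : (QuotientGroup.mk' N) x ∈ (⊥ : Subgroup (G ⧸ N)) := by
    rw [← h2]; exact Subgroup.mem_map_of_mem _ hx
  rw [Subgroup.mem_bot, QuotientGroup.mk'_apply, QuotientGroup.eq_one_iff] at hx1
  exact hx1


/-- If `γ_{n-1} ≠ 1` in a `p`-group then `p^(j+1) ≤ |γ_{n-1-j}|`. -/
theorem lcs_card_ge [Finite G] {p : ℕ} [hp : Fact p.Prime] (hG : IsPGroup p G) {m : ℕ}
    (hm : Subgroup.lowerCentralSeries (⊤ : Subgroup G) m ≠ ⊥) :
    ∀ j, j ≤ m → p ^ (j + 1) ≤ Nat.card (Subgroup.lowerCentralSeries (⊤ : Subgroup G) (m - j)) := by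
  haveI hnil : Group.IsNilpotent G := hG.isNilpotent
  intro j
  induction j with
  | zero =>
    intro _
    have h := mul_card_le_of_lt hG (bot_lt_iff_ne_bot.mpr hm)
    rw [Subgroup.card_bot, mul_one] at h
    simpa using h
  | succ j ih =>
    intro hj
    have ih' := ih (by omega)
    have hne : Subgroup.lowerCentralSeries (⊤ : Subgroup G) (m - (j + 1)) ≠ ⊥ := by
      intro h0
      apply hm
      rw [eq_bot_iff, ← h0]
      exact Subgroup.lowerCentralSeries_antitone _ (Nat.sub_le _ _)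
    have hlt := lcs_succ_lt (G := G) (m - (j + 1)) hne
    have he : m - (j + 1) + 1 = m - j := by omega
    rw [he] at hlt
    have hc := mul_card_le_of_lt hG hlt
    calc p ^ (j + 1 + 1) = p * p ^ (j + 1) := by rw [pow_succ']
      _ ≤ p * Nat.card (Subgroup.lowerCentralSeries (⊤ : Subgroup G) (m - j)) :=
          Nat.mul_le_mul_left _ ih'
      _ ≤ _ := hc

/-- In a `p`-group of maximal class (order `p^n`, class `n-1`, `n ≥ 3`), a normal subgroup of index
`p^r`, `r ≥ 2`, is `γ_r`. -/
theorem eq_lcs_of_maxClass [Finite G] {p : ℕ} [hp : Fact p.Prime] {n : ℕ} (hG : Nat.card G = p ^ n)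
    (hcl : Subgroup.lowerCentralSeries (⊤ : Subgroup G) (n - 2) ≠ ⊥) (hn : 3 ≤ n)
    (N : Subgroup G) [N.Normal] {r : ℕ} (hr : 2 ≤ r) (hN : N.index = p ^ r) :
    N = Subgroup.lowerCentralSeries (⊤ : Subgroup G) (r - 1) := by
  have hPp : IsPGroup p G := IsPGroup.of_card hG
  have hle := lcs_le_of_index N hN hr
  have hcardN := N.card_mul_index
  rw [hN, hG] at hcardN
  have hrn : r ≤ n := by
    have : p ^ r ∣ p ^ n := Dvd.intro_left _ hcardN
    exact (Nat.pow_dvd_pow_iff_le_right hp.out.one_lt).mp this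
  have hcN : Nat.card N = p ^ (n - r) := by
    have h1 : p ^ n = p ^ (n - r) * p ^ r := by rw [← pow_add]; congr 1; omega
    rw [h1] at hcardN
    exact Nat.eq_of_mul_eq_mul_right (Nat.pos_of_ne_zero (pow_ne_zero _ hp.out.ne_zero)) hcardN
  symm
  apply Subgroup.eq_of_le_of_card_ge hle
  rw [hcN]
  rcases Nat.lt_or_ge r n with hlt | hge
  · have h := lcs_card_ge hPp hcl (n - 1 - r) (by omega)
    have e1 : n - 1 - r + 1 = n - r := by omega
    have e2 : n - 2 - (n - 1 - r) = r - 1 := by omega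
    rw [e1, e2] at h
    exact h
  · have : n - r = 0 := by omega
    rw [this, pow_zero]
    exact Nat.card_pos

/-- In a `p`-group of maximal class of order `p^n`, `n ≥ 3`, `[G : G'] = p²`. -/
theorem index_commutator_of_maxClass [Finite G] {p : ℕ} [hp : Fact p.Prime] {n : ℕ}
    (hG : Nat.card G = p ^ n)
    (hcl : Subgroup.lowerCentralSeries (⊤ : Subgroup G) (n - 2) ≠ ⊥) (hn : 3 ≤ n) :
    (commutator G).index = p ^ 2 := by
  have hPp : IsPGroup p G := IsPGroup.of_card hG
  have h1 := lcs_card_mul_le hG 1 le_rfl (by omega)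
  have h2 := lcs_card_ge hPp hcl (n - 3) (by omega)
  have e1 : n - 2 - (n - 3) = 1 := by omega
  have e2 : n - 3 + 1 = n - 2 := by omega
  rw [e1, e2] at h2
  rw [Subgroup.top_lowerCentralSeries_one] at h1 h2
  have h3 := (commutator G).card_mul_index
  rw [hG] at h3
  have hpn : p ^ n = p ^ (n - 2) * p ^ 2 := by rw [← pow_add]; congr 1; omega
  have hpos : 0 < p ^ 2 := Nat.pos_of_ne_zero (pow_ne_zero _ hp.out.ne_zero)
  have hc : Nat.card (commutator G) = p ^ (n - 2) := by
    apply le_antisymm _ h2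
    rw [hpn] at h1
    exact Nat.le_of_mul_le_mul_right h1 hpos
  rw [hc, hpn] at h3
  exact Nat.eq_of_mul_eq_mul_left (Nat.pos_of_ne_zero (pow_ne_zero _ hp.out.ne_zero)) h3

end Cfsg.Agent.Helper1.LCS
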