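import Mathlib
import Cfsg.Prelude.Def_Local
import Cfsg.Agent.Lead.PSolvHall
import Cfsg.Agent.Lead.Coprime
import Cfsg.Agent.Helper1.HallAux

set_option autoImplicit false
open Pointwise

/-! Groups whose maximal subgroups are `p`-nilpotent or of prime index: `p`-length at most 2
(S4378, S4379). Part 1: chains and transport along quotients. -/

namespace Cfsg.Agent.Helper1.MaxPNilp

open Subgroup

universe u

variable {G : Type*} [Group G]

/-- a `p'`,`p`,`p'`,`p`,`p'` chain of normal subgroups above `K`. -/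
def PChain (p : ℕ) (K : Subgroup G) : Prop :=
  ∃ A B C D : Subgroup G, A.Normal ∧ B.Normal ∧ C.Normal ∧ D.Normal ∧ K ≤ A ∧ A ≤ B ∧ B ≤ C ∧ C ≤ D ∧
    ¬ p ∣ K.relIndex A ∧ (∃ k : ℕ, A.relIndex B = p ^ k) ∧ ¬ p ∣ B.relIndex C ∧
    (∃ k : ℕ, C.relIndex D = p ^ k) ∧ ¬ p ∣ D.index ∧ (p = 2 → D = ⊤)

/-- every maximal subgroup has a normal `p`-complement or prime index. -/
def Hyp (p : ℕ) (G : Type*) [Group G] : Prop :=
  ∀ M : Subgroup G, IsCoatom M →
    (∃ K : Subgroup ↥M, K.Normal ∧ ¬ p ∣ Nat.card K ∧ ∃ k : ℕ, K.index = p ^ k) ∨ (M.index).Prime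

theorem relIndex_comap_comap {H : Type*} [Group H] (f : G →* H) (hf : Function.Surjective f)
    (X Y : Subgroup H) : (X.comap f).relIndex (Y.comap f) = X.relIndex Y := by
  rw [relIndex_comap, map_comap_eq_self_of_surjective hf]

theorem isCoatom_comap_mk' (N : Subgroup G) [N.Normal] (X : Subgroup (G ⧸ N)) (hX : IsCoatom X) :
    IsCoatom (X.comap (QuotientGroup.mk' N)) := by
  have hsurj : Function.Surjective (QuotientGroup.mk' N) := QuotientGroup.mk'_surjective N
  constructor
  · intro e
    apply hX.1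
    have := congrArg (Subgroup.map (QuotientGroup.mk' N)) e
    rw [map_comap_eq_self_of_surjective hsurj, map_top_of_surjective _ hsurj] at this
    exact this
  · intro Z hZ
    have hNZ : N ≤ Z := by
      refine le_trans ?_ hZ.le
      conv_lhs => rw [← QuotientGroup.ker_mk' N]
      exact ker_le_comap _ _
    have h1 : X < Z.map (QuotientGroup.mk' N) := by
      refine lt_of_le_of_ne ?_ ?_
      · have := map_mono (f := QuotientGroup.mk' N) hZ.le
        rwa [map_comap_eq_self_of_surjective hsurj] at this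
      · intro e
        have h2 : Z ≤ X.comap (QuotientGroup.mk' N) := by
          rw [e]; exact le_comap_map _ _
        exact absurd hZ (not_lt_of_ge h2)
    have h3 := hX.2 _ h1
    have h4 := congrArg (Subgroup.comap (QuotientGroup.mk' N)) h3
    rw [comap_map_eq, QuotientGroup.ker_mk', sup_eq_left.mpr hNZ, comap_top] at h4
    exact h4

theorem Hyp.quotient {p : ℕ} [hp : Fact p.Prime] [Finite G] (h : Hyp p G) (N : Subgroup G) [N.Normal] :
    Hyp p (G ⧸ N) := by
  intro X hX
  have hsurj : Function.Surjective (QuotientGroup.mk' N) := QuotientGroup.mk'_surjective N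
  have hM := isCoatom_comap_mk' N X hX
  rcases h _ hM with ⟨K, hKn, hKc, k, hKi⟩ | hpr
  · left
    let φ : ↥(X.comap (QuotientGroup.mk' N)) →* ↥X := (QuotientGroup.mk' N).subgroupComap X
    have hφ : Function.Surjective φ :=
      MonoidHom.subgroupComap_surjective_of_surjective _ _ hsurj
    refine ⟨K.map φ, hKn.map φ hφ, ?_, ?_⟩
    · intro hdvd
      apply hKc
      exact dvd_trans hdvd (card_map_dvd K φ)
    · have hd : (K.map φ).index ∣ p ^ k := by
        rw [← hKi]; exact index_map_dvd K hφ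
      obtain ⟨j, -, hj⟩ := (Nat.dvd_prime_pow hp.out).mp hd
      exact ⟨j, hj⟩
  · right
    rwa [index_comap_of_surjective _ hsurj] at hpr

theorem pchain_of_quotient {p : ℕ} [Finite G] (K : Subgroup G) [K.Normal]
    (h : PChain p (⊥ : Subgroup (G ⧸ K))) : PChain p K := by
  have hsurj : Function.Surjective (QuotientGroup.mk' K) := QuotientGroup.mk'_surjective K
  obtain ⟨A, B, C, D, hA, hB, hC, hD, -, hAB, hBC, hCD, h1, h2, h3, h4, h5, h6⟩ := h
  have hK : (⊥ : Subgroup (G ⧸ K)).comap (QuotientGroup.mk' K) = K := by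
    rw [MonoidHom.comap_bot, QuotientGroup.ker_mk']
  refine ⟨A.comap (QuotientGroup.mk' K), B.comap (QuotientGroup.mk' K),
    C.comap (QuotientGroup.mk' K), D.comap (QuotientGroup.mk' K), hA.comap _, hB.comap _, hC.comap _,
    hD.comap _, ?_, comap_mono hAB, comap_mono hBC, comap_mono hCD, ?_, ?_, ?_, ?_, ?_, ?_⟩
  · conv_lhs => rw [← hK]
    exact comap_mono bot_le
  · conv => enter [1, 2, 1]; rw [← hK]
    rwa [relIndex_comap_comap _ hsurj]
  · rwa [relIndex_comap_comap _ hsurj]
  · rwa [relIndex_comap_comap _ hsurj]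
  · rwa [relIndex_comap_comap _ hsurj]
  · rwa [index_comap_of_surjective _ hsurj]
  · intro h2'
    rw [h6 h2', comap_top]

/-- weaken the base of a chain along a normal `p'`-subgroup. -/
theorem pchain_bot_of_pprime {p : ℕ} [hp : Fact p.Prime] [Finite G] (K : Subgroup G)
    (hK : ¬ p ∣ Nat.card K) (h : PChain p K) : PChain p (⊥ : Subgroup G) := by
  obtain ⟨A, B, C, D, hA, hB, hC, hD, hKA, hAB, hBC, hCD, h1, h2, h3, h4, h5, h6⟩ := h
  refine ⟨A, B, C, D, hA, hB, hC, hD, bot_le, hAB, hBC, hCD, ?_, h2, h3, h4, h5, h6⟩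
  rw [relIndex_bot_left]
  have : Nat.card A = K.relIndex A * Nat.card K := by
    rw [← relIndex_bot_left, ← relIndex_bot_left K, mul_comm]
    exact (relIndex_mul_relIndex ⊥ K A bot_le hKA).symm
  rw [this]
  intro hd
  rcases (Nat.Prime.dvd_mul hp.out).mp hd with hd | hd
  · exact h1 hd
  · exact hK hd

end Cfsg.Agent.Helper1.MaxPNilp
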