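import Mathlib
import Cfsg.Agent.Helper1.MaxPNilp1

set_option autoImplicit false
open Pointwise

/-! Groups whose maximal subgroups are `p`-nilpotent or of prime index. Part 2: local lemmas. -/

namespace Cfsg.Agent.Helper1.MaxPNilp

open Subgroup

universe u

variable {G : Type*} [Group G]

theorem relIndex_inf_dvd (X Y Z : Subgroup G) [X.Normal] :
    (X ⊓ Z).relIndex (Y ⊓ Z) ∣ X.relIndex Y := by
  have h1 : (X ⊓ Z).relIndex (Y ⊓ Z) = X.relIndex (Y ⊓ Z) := by
    rw [← inf_relIndex_right (X ⊓ Z) (Y ⊓ Z), ← inf_relIndex_right X (Y ⊓ Z)]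
    congr 1
    rw [inf_assoc]
    congr 1
    rw [inf_comm Y Z, ← inf_assoc, inf_idem, inf_comm]
  rw [h1]
  have h2 : (X.subgroupOf Y).relIndex ((Y ⊓ Z).subgroupOf Y) = X.relIndex (Y ⊓ Z) :=
    relIndex_subgroupOf inf_le_left
  rw [← h2]
  exact relIndex_dvd_index_of_normal _ _

theorem index_centralizer_dvd [Finite G] (K : Subgroup G) [K.Normal] {p : ℕ} (hp : p.Prime)
    (hK : Nat.card K = p) : (centralizer (K : Set G)).index ∣ p - 1 := by
  have hker : (MulAut.conjNormal (H := K)).ker = centralizer (K : Set G) := by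
    ext g
    rw [MonoidHom.mem_ker, mem_centralizer_iff]
    constructor
    · intro h k hk
      have := congrArg (fun f : MulAut K => ((f ⟨k, hk⟩ : K) : G)) h
      simp only [MulAut.conjNormal_apply, MulAut.one_apply] at this
      calc k * g = (g * k * g⁻¹) * g := by rw [this]
        _ = g * k := by group
    · intro h
      ext k
      rw [MulAut.conjNormal_apply, MulAut.one_apply]
      have := h k k.2
      calc g * ↑k * g⁻¹ = (↑k * g) * g⁻¹ := by rw [this]
        _ = ↑k := by group
  have : Fact p.Prime := ⟨hp⟩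
  have hcyc : IsCyclic K := isCyclic_of_prime_card hK
  rw [← hker, index_ker]
  have h1 : Nat.card (MulAut.conjNormal (H := K)).range ∣ Nat.card (MulAut K) :=
    card_subgroup_dvd_card _
  rw [IsCyclic.card_mulAut, hK, Nat.totient_prime hp] at h1
  exact h1

/-- an element of order prime to `p` lies in every normal subgroup of `p`-power index. -/
theorem mem_of_coprime_orderOf [Finite G] {p : ℕ} (hp : p.Prime) (H : Subgroup G) [H.Normal] {a : ℕ}
    (hH : H.index = p ^ a) {y : G} (hy : ¬ p ∣ orderOf y) : y ∈ H := by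
  rw [← QuotientGroup.eq_one_iff, ← orderOf_eq_one_iff]
  have h1 : orderOf (y : G ⧸ H) ∣ orderOf y := orderOf_map_dvd (QuotientGroup.mk' H) y
  have h2 : orderOf (y : G ⧸ H) ∣ p ^ a := by
    rw [← hH, index_eq_card]; exact orderOf_dvd_natCard _
  obtain ⟨j, -, hj⟩ := (Nat.dvd_prime_pow hp).mp h2
  rcases Nat.eq_zero_or_pos j with h0 | h0
  · rw [hj, h0, pow_zero]
  · exfalso
    apply hy
    refine dvd_trans ?_ h1
    rw [hj]
    exact dvd_pow_self p (Nat.pos_iff_ne_zero.mp h0)


/-- Schur–Zassenhaus complement of a normal `p`-subgroup `K` in `A` with `[A:K]` prime to `p`,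
as a subgroup of `↥A`. -/
theorem exists_compl_sub [Finite G] {p : ℕ} [hp : Fact p.Prime] (K A : Subgroup G) [K.Normal]
    (hKA : K ≤ A) (hK : IsPGroup p K) (hcop : ¬ p ∣ K.relIndex A) :
    ∃ H : Subgroup ↥A, IsComplement' (K.subgroupOf A) H ∧ Nat.card H = K.relIndex A ∧
      ∃ a : ℕ, Nat.card (K.subgroupOf A) = p ^ a := by
  obtain ⟨a, ha⟩ := hK.exists_card_eq
  have hNcard : Nat.card (K.subgroupOf A) = p ^ a := by
    rw [← ha]; exact Nat.card_congr (subgroupOfEquivOfLe hKA).toEquiv
  have hcop' : (Nat.card (K.subgroupOf A)).Coprime (K.subgroupOf A).index := by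
    rw [hNcard]
    exact Nat.Coprime.pow_left _ ((Nat.Prime.coprime_iff_not_dvd hp.out).mpr hcop)
  obtain ⟨H, hH⟩ := exists_right_complement'_of_coprime hcop'
  exact ⟨H, hH, hH.symm.index_eq_card.symm, a, hNcard⟩

/-- a central normal `p`-subgroup of `p'`-index splits off a normal `p'`-subgroup. -/
theorem central_split [Finite G] {p : ℕ} [hp : Fact p.Prime] (K A : Subgroup G) [K.Normal]
    [hA : A.Normal] (hKA : K ≤ A) (hcent : A ≤ centralizer (K : Set G)) (hK : IsPGroup p K)
    (hcop : ¬ p ∣ K.relIndex A) :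
    ∃ D : Subgroup G, D.Normal ∧ ¬ p ∣ Nat.card D ∧ K ⊔ D = A := by
  obtain ⟨H, hH, hHcard, a, hNcard⟩ := exists_compl_sub K A hKA hK hcop
  -- `H` is normal in `↥A`
  have hHn : H.Normal := by
    rw [← normalizer_eq_top_iff, eq_top_iff, ← hH.sup_eq_top]
    refine sup_le ?_ le_normalizer
    intro n hn
    rw [mem_subgroupOf] at hn
    rw [mem_normalizer_iff]
    intro h
    have hc : n * h * n⁻¹ = h := by
      have h1 : (h : G) * (n : G) = (n : G) * (h : G) := by
        have := hcent h.2
        rw [mem_centralizer_iff] at this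
        exact (this _ hn).symm
      apply Subtype.ext
      push_cast
      calc (n : G) * (h : G) * (n : G)⁻¹ = ((h : G) * (n : G)) * (n : G)⁻¹ := by rw [h1]
        _ = (h : G) := by group
    rw [hc]
  have hHidx : H.index = p ^ a := by rw [← hNcard]; exact hH.index_eq_card
  have hcardD : Nat.card (H.map A.subtype) = Nat.card H :=
    (Nat.card_congr (H.equivMapOfInjective A.subtype A.subtype_injective).toEquiv).symm
  have hmemD : ∀ y : G, y ∈ A → ¬ p ∣ orderOf y → y ∈ H.map A.subtype := by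
    intro y hyA hy
    have : (⟨y, hyA⟩ : ↥A) ∈ H := by
      apply mem_of_coprime_orderOf hp.out H hHidx
      rwa [Subgroup.orderOf_mk]
    exact ⟨⟨y, hyA⟩, this, rfl⟩
  refine ⟨H.map A.subtype, ⟨?_⟩, ?_, ?_⟩
  · intro n hn g
    obtain ⟨h, hh, rfl⟩ := hn
    apply hmemD
    · exact hA.conj_mem _ h.2 g
    · have h1 : orderOf (g * (A.subtype h) * g⁻¹) = orderOf (h : G) := by
        have := MulEquiv.orderOf_eq (MulAut.conj g) (h : G)
        rwa [MulAut.conj_apply] at this
      rw [h1, Subgroup.orderOf_coe]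
      intro hd
      apply hcop
      rw [← hHcard]
      have h2 : orderOf (⟨h, hh⟩ : ↥H) = orderOf h := Subgroup.orderOf_mk h hh
      rw [← h2] at hd
      exact dvd_trans hd (orderOf_dvd_natCard (⟨h, hh⟩ : ↥H))
  · rw [hcardD, hHcard]; exact hcop
  · have h1 := congrArg (Subgroup.map A.subtype) hH.sup_eq_top
    rw [Subgroup.map_sup, subgroupOf_map_subtype, inf_eq_left.mpr hKA, ← MonoidHom.range_eq_map,
      range_subtype] at h1
    exact h1
end Cfsg.Agent.Helper1.MaxPNilp
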