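import Mathlib
import Cfsg.Agent.Helper1.MaxPNilp2

set_option autoImplicit false
open Pointwise

/-! Groups whose maximal subgroups are `p`-nilpotent or of prime index. Part 3: Frattini argument
and the complemented case. -/

namespace Cfsg.Agent.Helper1.MaxPNilp

open Subgroup

universe u

variable {G : Type*} [Group G]

/-- complement of `K` in `A` together with the Frattini argument. -/
theorem exists_compl_frattini [Finite G] {p : ℕ} [hp : Fact p.Prime] (K A : Subgroup G) [hKn : K.Normal]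
    [hA : A.Normal] (hKA : K ≤ A) (hK : IsPGroup p K) (hcop : ¬ p ∣ K.relIndex A) :
    ∃ D : Subgroup G, ¬ p ∣ Nat.card D ∧ K ⊔ D = A ∧ K ⊔ normalizer (D : Set G) = ⊤ := by
  obtain ⟨H, hH, hHcard, a, hNcard⟩ := exists_compl_sub K A hKA hK hcop
  have hcardD : Nat.card (H.map A.subtype) = Nat.card H :=
    (Nat.card_congr (H.equivMapOfInjective A.subtype A.subtype_injective).toEquiv).symm
  have hsup : K ⊔ H.map A.subtype = A := by
    have h1 := congrArg (Subgroup.map A.subtype) hH.sup_eq_top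
    rw [Subgroup.map_sup, subgroupOf_map_subtype, inf_eq_left.mpr hKA, ← MonoidHom.range_eq_map,
      range_subtype] at h1
    exact h1
  have hDp : ¬ p ∣ Nat.card (H.map A.subtype) := by rw [hcardD, hHcard]; exact hcop
  refine ⟨H.map A.subtype, hDp, hsup, ?_⟩
  set D := H.map A.subtype with hD
  obtain ⟨b, hb⟩ := hK.exists_card_eq
  have hcopDK : (Nat.card D).Coprime (Nat.card K) := by
    rw [hb]
    exact Nat.Coprime.pow_right _ ((Nat.Prime.coprime_iff_not_dvd hp.out).mpr hDp).symm
  have hsolvK : Group.IsSolvable K := by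
    have := hK.isNilpotent
    infer_instance
  rw [eq_top_iff]
  intro g _
  have hB : MulAut.conj g • D ≤ K ⊔ D := by
    rw [hsup]
    rintro x ⟨d, hd, rfl⟩
    have hdA : d ∈ A := by rw [← hsup]; exact (le_sup_right : D ≤ K ⊔ D) hd
    change MulAut.conj g d ∈ A
    rw [MulAut.conj_apply]
    exact hA.conj_mem d hdA g
  obtain ⟨k, hk, hkD⟩ := Cfsg.Agent.Lead.sz_conj_rel (K := K) (A := D) (B := MulAut.conj g • D)
    (by rw [normalizer_eq_top]; exact le_top) hcopDK (Or.inr hsolvK) hB
    (Cfsg.Agent.Helper1.card_conj_smul' g D)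
  have hn : k⁻¹ * g ∈ normalizer (D : Set G) := by
    have h1 : MulAut.conj (k⁻¹ * g) • D = D := by
      rw [map_mul, mul_smul, ← hkD, ← mul_smul, ← map_mul, inv_mul_cancel, map_one, one_smul]
    rw [mem_normalizer_iff]
    intro x
    constructor
    · intro hx
      have := Subgroup.smul_mem_pointwise_smul x (MulAut.conj (k⁻¹ * g)) D hx
      rw [h1, MulAut.smul_def, MulAut.conj_apply] at this
      exact this
    · intro hx
      rw [← h1] at hx
      have h2 : k⁻¹ * g * x * (k⁻¹ * g)⁻¹ = MulAut.conj (k⁻¹ * g) • x := by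
        rw [MulAut.smul_def, MulAut.conj_apply]
      rw [h2, Subgroup.smul_mem_pointwise_smul_iff] at hx
      exact hx
  have : g = k * (k⁻¹ * g) := by group
  rw [this]
  exact mul_mem ((le_sup_left : K ≤ K ⊔ normalizer (D : Set G)) hk)
    ((le_sup_right : normalizer (D : Set G) ≤ K ⊔ normalizer (D : Set G)) hn)


/-- if the normal `p`-subgroup `K` has a complement `M` with a normal `p`-complement, then `G` has a
`p`,`p'`,`p` chain. -/
theorem pchain_of_compl [Finite G] {p : ℕ} [hp : Fact p.Prime] (K M : Subgroup G) [hKn : K.Normal]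
    (hK : IsPGroup p K) (hsup : K ⊔ M = ⊤) (hinf : K ⊓ M = ⊥)
    (K' : Subgroup ↥M) (hK'n : K'.Normal) (hK'c : ¬ p ∣ Nat.card K') (k : ℕ) (hK'i : K'.index = p ^ k) :
    PChain p (⊥ : Subgroup G) := by
  set K1 : Subgroup G := K'.map M.subtype with hK1
  have hK1M : K1 ≤ M := map_subtype_le K'
  have hcardK1 : Nat.card K1 = Nat.card K' :=
    (Nat.card_congr (K'.equivMapOfInjective M.subtype M.subtype_injective).toEquiv).symm
  set L : Subgroup G := K ⊔ K1 with hL
  -- `M` normalizes `K1`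
  have hMK1 : ∀ g ∈ M, ∀ x ∈ K1, g * x * g⁻¹ ∈ K1 := by
    intro g hg x hx
    obtain ⟨x', hx', rfl⟩ := hx
    exact ⟨⟨g, hg⟩ * x' * ⟨g, hg⟩⁻¹, hK'n.conj_mem x' hx' ⟨g, hg⟩, rfl⟩
  have hML : ∀ g ∈ M, ∀ x ∈ L, g * x * g⁻¹ ∈ L := by
    intro g hg x hx
    have hx' : x ∈ ((K ⊔ K1 : Subgroup G) : Set G) := hx
    rw [normal_mul] at hx'
    obtain ⟨a, ha, b, hb, rfl⟩ := hx'
    have : g * (a * b) * g⁻¹ = (g * a * g⁻¹) * (g * b * g⁻¹) := by group
    rw [this]
    exact mul_mem ((le_sup_left : K ≤ L) (hKn.conj_mem a ha g))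
      ((le_sup_right : K1 ≤ L) (hMK1 g hg b hb))
  have hLn : L.Normal := by
    rw [← normalizer_eq_top_iff, eq_top_iff, ← hsup]
    refine sup_le (le_trans le_sup_left le_normalizer) ?_
    intro g hg
    rw [mem_normalizer_iff]
    intro x
    constructor
    · exact hML g hg x
    · intro hx
      have := hML g⁻¹ (M.inv_mem hg) _ hx
      have h2 : g⁻¹ * (g * x * g⁻¹) * g⁻¹⁻¹ = x := by group
      rwa [h2] at this
  have hKK1 : K ⊓ K1 = ⊥ := by
    rw [eq_bot_iff, ← hinf]
    exact inf_le_inf_left K hK1M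
  have hrel : K.relIndex L = Nat.card K' := by
    rw [hL, sup_comm, relIndex_sup_right, ← inf_relIndex_right, hKK1, relIndex_bot_left, hcardK1]
  have hcompl : IsComplement' K M := by
    apply isComplement'_of_disjoint_and_mul_eq_univ (disjoint_iff.mpr hinf)
    rw [← normal_mul, hsup, coe_top]
  have hidx : L.index = p ^ k := by
    rw [← hK'i]
    have h1 : L.index * Nat.card L = Nat.card G := index_mul_card L
    have h2 : Nat.card L = K.relIndex L * Nat.card K := by
      rw [← relIndex_bot_left, ← relIndex_bot_left K, mul_comm]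
      exact (relIndex_mul_relIndex ⊥ K L bot_le le_sup_left).symm
    have h3 : Nat.card K * Nat.card M = Nat.card G := hcompl.card_mul
    have h4 : K'.index * Nat.card K' = Nat.card M := index_mul_card K'
    have h5 : 0 < Nat.card K := Nat.card_pos
    have h6 : 0 < Nat.card K' := Nat.card_pos
    rw [h2, hrel, ← h3, ← h4] at h1
    have h7 : L.index * (Nat.card K' * Nat.card K) = K'.index * (Nat.card K' * Nat.card K) := by
      rw [h1]; ring
    exact Nat.eq_of_mul_eq_mul_right (Nat.mul_pos h6 h5) h7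
  obtain ⟨b, hb⟩ := hK.exists_card_eq
  refine ⟨⊥, K, L, ⊤, inferInstance, hKn, hLn, inferInstance, le_refl _, bot_le, le_sup_left, le_top,
    ?_, ⟨b, ?_⟩, ?_, ⟨k, ?_⟩, ?_, fun _ => rfl⟩
  · rw [relIndex_bot_left, card_bot]
    exact hp.out.one_lt.ne' ∘ Nat.dvd_one.mp
  · rw [relIndex_bot_left, hb]
  · rw [hrel]; exact hK'c
  · rw [relIndex_top_right, hidx]
  · rw [index_top]
    exact hp.out.one_lt.ne' ∘ Nat.dvd_one.mp
end Cfsg.Agent.Helper1.MaxPNilp
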