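import Mathlib
import Cfsg.Agent.Helper1.MaxPNilp3

set_option autoImplicit false
open Pointwise

/-! Groups whose maximal subgroups are `p`-nilpotent or of prime index. Part 4: the induction. -/

namespace Cfsg.Agent.Helper1.MaxPNilp

open Subgroup

universe u

theorem exists_min_normal {G : Type*} [Group G] [Finite G] (N0 : Subgroup G) (hn : N0.Normal)
    (hne : N0 ≠ ⊥) :
    ∃ K : Subgroup G, K.Normal ∧ K ≠ ⊥ ∧ K ≤ N0 ∧
      ∀ K' : Subgroup G, K'.Normal → K' ≠ ⊥ → K' ≤ K → K' = K := by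
  let S : Set (Subgroup G) := {K | K.Normal ∧ K ≠ ⊥ ∧ K ≤ N0}
  have hS : S.Nonempty := ⟨N0, hn, hne, le_refl _⟩
  obtain ⟨K, hK, hmin⟩ := wellFounded_lt.has_min S hS
  refine ⟨K, hK.1, hK.2.1, hK.2.2, ?_⟩
  intro K' hK'n hK'ne hK'K
  by_contra hne'
  exact hmin K' ⟨hK'n, hK'ne, le_trans hK'K hK.2.2⟩ (lt_of_le_of_ne hK'K hne')

/-- a minimal normal subgroup that is a `p`-group is abelian. -/
theorem comm_of_min_normal {G : Type*} [Group G] [Finite G] {p : ℕ} [hp : Fact p.Prime]
    (K : Subgroup G) [hKn : K.Normal] (hKne : K ≠ ⊥) (hK : IsPGroup p K)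
    (hmin : ∀ K' : Subgroup G, K'.Normal → K' ≠ ⊥ → K' ≤ K → K' = K) :
    ∀ a ∈ K, ∀ b ∈ K, a * b = b * a := by
  have hnt : Nontrivial K := (nontrivial_iff_ne_bot K).mpr hKne
  have hZnt : Nontrivial (center K) := hK.center_nontrivial
  have hZne : (center K).map K.subtype ≠ ⊥ := by
    intro h
    rw [(map_eq_bot_iff_of_injective _ K.subtype_injective)] at h
    exact ((nontrivial_iff_ne_bot (center K)).mp hZnt) h
  have hZ : (center K).map K.subtype = K :=
    hmin _ inferInstance hZne (map_subtype_le _)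
  intro a ha b hb
  have ha' : a ∈ (center K).map K.subtype := by rw [hZ]; exact ha
  obtain ⟨a', ha'c, rfl⟩ := ha'
  have ha'c' : a' ∈ center ↥K := ha'c
  rw [mem_center_iff] at ha'c'
  have := ha'c' ⟨b, hb⟩
  have h2 := congrArg (Subtype.val) this
  simpa using h2.symm

theorem main_aux (p : ℕ) [hp : Fact p.Prime] :
    ∀ (n : ℕ) (G : Type u) [Group G] [Finite G], Nat.card G = n → Cfsg.IsPSolvable p G → Hyp p G →
      PChain p (⊥ : Subgroup G) := by
  intro n
  induction n using Nat.strong_induction_on with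
  | _ n ih =>
  intro G _ _ hn hsolv hyp
  have hp1 : ¬ p ∣ 1 := hp.out.one_lt.ne' ∘ Nat.dvd_one.mp
  rcases subsingleton_or_nontrivial G with htriv | hnt
  · have hc : Nat.card G = 1 := Nat.card_eq_one_iff_unique.mpr ⟨htriv, ⟨1⟩⟩
    refine ⟨⊤, ⊤, ⊤, ⊤, inferInstance, inferInstance, inferInstance, inferInstance, bot_le, le_refl _,
      le_refl _, le_refl _, ?_, ⟨0, ?_⟩, ?_, ⟨0, ?_⟩, ?_, fun _ => rfl⟩
    · rw [relIndex_bot_left, card_top, hc]; exact hp1
    · rw [relIndex_self, pow_zero]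
    · rw [relIndex_self]; exact hp1
    · rw [relIndex_self, pow_zero]
    · rw [index_top]; exact hp1
  -- induction step to quotients
  have hquot : ∀ N : Subgroup G, N.Normal → N ≠ ⊥ → PChain p N := by
    intro N hN hNne
    have hlt : Nat.card (G ⧸ N) < n := by
      rw [← hn, ← index_eq_card, ← index_mul_card N]
      have h1 : 1 < Nat.card N := by
        rw [one_lt_card_iff_ne_bot]; exact hNne
      have h2 : 0 < N.index := Nat.pos_of_ne_zero index_ne_zero_of_finite
      nlinarith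
    exact pchain_of_quotient N (ih _ hlt (G ⧸ N) rfl
      (Cfsg.Agent.Lead.isPSolvable_quotient hsolv N) (hyp.quotient N))
  by_cases hO : ∃ N : Subgroup G, N.Normal ∧ N ≠ ⊥ ∧ ¬ p ∣ Nat.card N
  · obtain ⟨N, hN, hNne, hNp⟩ := hO
    exact pchain_bot_of_pprime N hNp (hquot N hN hNne)
  push Not at hO
  obtain ⟨N0, hN0n, hN0ne, hN0⟩ := Cfsg.Agent.Lead.exists_normal_of_isPSolvable hsolv
  have hN0p : ∃ m : ℕ, Nat.card N0 = p ^ m := by
    rcases hN0 with h | h
    · exact h
    · exact absurd (hO N0 hN0n hN0ne) ((Nat.Prime.coprime_iff_not_dvd hp.out).mp h.symm)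
  obtain ⟨m, hm⟩ := hN0p
  obtain ⟨K, hKn, hKne, hKN0, hmin⟩ := exists_min_normal N0 hN0n hN0ne
  have hK : IsPGroup p K := (IsPGroup.of_card hm).to_le hKN0
  have hcomm := comm_of_min_normal K hKne hK hmin
  obtain ⟨b, hb⟩ := hK.exists_card_eq
  have hb0 : b ≠ 0 := by
    intro h0
    rw [h0, pow_zero] at hb
    exact hKne (card_eq_one.mp hb)
  obtain ⟨A, B, C, D, hA, hB, hC, hD, hKA, hAB, hBC, hCD, h1, ⟨k2, h2⟩, h3, ⟨k4, h4⟩, h5, h6⟩ :=
    hquot K hKn hKne
  have hcardmul : ∀ X : Subgroup G, K ≤ X → Nat.card X = K.relIndex X * Nat.card K := by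
    intro X hKX
    rw [← relIndex_bot_left, ← relIndex_bot_left K, mul_comm]
    exact (relIndex_mul_relIndex ⊥ K X bot_le hKX).symm
  by_cases hKp : Nat.card K = p
  · -- case (1): `K` of order `p`
    set C0 : Subgroup G := centralizer (K : Set G) with hC0
    have hC0n : C0.Normal := inferInstance
    have hC0i : C0.index ∣ p - 1 := index_centralizer_dvd K hp.out hKp
    have hC0p : ¬ p ∣ C0.index := by
      intro hd
      have := Nat.le_of_dvd (Nat.sub_pos_of_lt hp.out.one_lt) (dvd_trans hd hC0i)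
      have := hp.out.one_lt
      omega
    have hKC0 : K ≤ C0 := by
      intro x hx
      rw [hC0, mem_centralizer_iff]
      intro y hy
      exact hcomm y hy x hx
    have hKA1 : K ≤ A ⊓ C0 := le_inf hKA hKC0
    have hA1 : ¬ p ∣ K.relIndex (A ⊓ C0) := by
      intro hd
      apply h1
      rw [← relIndex_mul_relIndex K (A ⊓ C0) A hKA1 inf_le_left]
      exact dvd_mul_of_dvd_left hd _
    obtain ⟨D1, hD1n, hD1p, hD1⟩ := central_split K (A ⊓ C0) hKA1 inf_le_right hK hA1
    have hD1b : D1 = ⊥ := by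
      by_contra hne
      exact hD1p (hO D1 hD1n hne)
    have hA1K : A ⊓ C0 = K := by rw [← hD1, hD1b, sup_bot_eq]
    refine ⟨⊥, B ⊓ C0, C ⊓ C0, D ⊓ C0, inferInstance, inferInstance, inferInstance, inferInstance,
      le_refl _, bot_le, inf_le_inf_right _ hBC, inf_le_inf_right _ hCD, ?_, ?_, ?_, ?_, ?_, ?_⟩
    · rw [relIndex_self]; exact hp1
    · have hd : K.relIndex (B ⊓ C0) ∣ p ^ k2 := by
        rw [← h2]
        conv_lhs => rw [← hA1K]
        exact relIndex_inf_dvd A B C0
      obtain ⟨j, -, hj⟩ := (Nat.dvd_prime_pow hp.out).mp hd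
      refine ⟨j + b, ?_⟩
      rw [relIndex_bot_left, hcardmul _ (le_inf (le_trans hKA hAB) hKC0), hj, hb, pow_add]
    · intro hd
      exact h3 (dvd_trans hd (relIndex_inf_dvd B C C0))
    · have hd : (C ⊓ C0).relIndex (D ⊓ C0) ∣ p ^ k4 := by
        rw [← h4]; exact relIndex_inf_dvd C D C0
      obtain ⟨j, -, hj⟩ := (Nat.dvd_prime_pow hp.out).mp hd
      exact ⟨j, hj⟩
    · rw [← relIndex_mul_index (inf_le_right : D ⊓ C0 ≤ C0), inf_relIndex_right]
      intro hd
      rcases (Nat.Prime.dvd_mul hp.out).mp hd with hd | hd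
      · exact h5 (dvd_trans hd (relIndex_dvd_index_of_normal D C0))
      · exact hC0p hd
    · intro h2'
      have : C0 = ⊤ := by
        rw [← index_eq_one]
        rw [h2'] at hC0i
        exact Nat.dvd_one.mp hC0i
      rw [h6 h2', this, inf_top_eq]
  by_cases hAK : A = K
  · -- case (2)
    refine ⟨⊥, B, C, D, inferInstance, hB, hC, hD, le_refl _, bot_le, hBC, hCD, ?_, ⟨k2 + b, ?_⟩, h3,
      ⟨k4, h4⟩, h5, h6⟩
    · rw [relIndex_self]; exact hp1
    · rw [relIndex_bot_left, hcardmul B (le_trans hKA hAB), ← hAK, h2, hAK, hb, pow_add]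
  -- case (3)
  obtain ⟨D0, hD0p, hD0A, hD0N⟩ := exists_compl_frattini K A hKA hK h1
  have hNne : normalizer (D0 : Set G) ≠ ⊤ := by
    intro h
    have hD0n : D0.Normal := normalizer_eq_top_iff.mp h
    have hD0b : D0 = ⊥ := by
      by_contra hne
      exact hD0p (hO D0 hD0n hne)
    apply hAK
    rw [← hD0A, hD0b, sup_bot_eq]
  obtain ⟨M, hM, hNM⟩ := (eq_top_or_exists_le_coatom _).resolve_left hNne
  have hKM : K ⊔ M = ⊤ := by
    rw [eq_top_iff, ← hD0N]
    exact sup_le_sup_left hNM K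
  have hinfn : (K ⊓ M).Normal := by
    rw [← normalizer_eq_top_iff, eq_top_iff, ← hKM]
    refine sup_le ?_ ?_
    · intro g hg
      rw [mem_normalizer_iff]
      intro x
      constructor
      · intro hx
        have : g * x * g⁻¹ = x := by
          rw [hcomm g hg x hx.1]; group
        rw [this]; exact hx
      · intro hx
        have hx1 : x ∈ K := by
          have := hKn.conj_mem _ hx.1 g⁻¹
          have h2 : g⁻¹ * (g * x * g⁻¹) * g⁻¹⁻¹ = x := by group
          rwa [h2] at this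
        have : g * x * g⁻¹ = x := by
          rw [hcomm g hg x hx1]; group
        rwa [this] at hx
    · intro g hg
      rw [mem_normalizer_iff]
      intro x
      constructor
      · intro hx
        exact ⟨hKn.conj_mem _ hx.1 g, M.mul_mem (M.mul_mem hg hx.2) (M.inv_mem hg)⟩
      · intro hx
        have h2 : g⁻¹ * (g * x * g⁻¹) * g⁻¹⁻¹ = x := by group
        refine ⟨?_, ?_⟩
        · have := hKn.conj_mem _ hx.1 g⁻¹
          rwa [h2] at this
        · have := M.mul_mem (M.mul_mem (M.inv_mem hg) hx.2) (M.inv_mem (M.inv_mem hg))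
          rwa [h2] at this
  have hinf : K ⊓ M = ⊥ := by
    by_contra hne
    have := hmin _ hinfn hne inf_le_left
    have hKleM : K ≤ M := by rw [← this]; exact inf_le_right
    apply hM.1
    rw [← hKM, sup_eq_right.mpr hKleM]
  have hcompl : IsComplement' K M := by
    apply isComplement'_of_disjoint_and_mul_eq_univ (disjoint_iff.mpr hinf)
    rw [← normal_mul, hKM, coe_top]
  rcases hyp M hM with ⟨K', hK'n, hK'c, k, hK'i⟩ | hpr
  · exact pchain_of_compl K M hK hKM hinf K' hK'n hK'c k hK'i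
  · exfalso
    apply hKp
    rw [hcompl.index_eq_card, hb] at hpr
    rw [hb]
    have : p ∣ p ^ b := dvd_pow_self p hb0
    exact ((Nat.prime_dvd_prime_iff_eq hp.out hpr).mp this).symm

end Cfsg.Agent.Helper1.MaxPNilp
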