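import Mathlib
import Cfsg.Agent.Helper1.ElemTwo2
import Cfsg.Agent.Helper11.DihedralLift

set_option autoImplicit false
set_option linter.style.haveILetI false
set_option linter.unusedSectionVars false

/-! Subgroups of dihedral `2`-groups (towards S4083). -/

namespace Cfsg.Agent.Helper1.TwoByCyc

open Subgroup

variable {G : Type*} [Group G]

/-- abstract dihedral data: a cyclic subgroup `R` of index `2` inverted by the involutions
outside it -/
structure DihData (S R : Subgroup G) : Prop where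
  le : R ≤ S
  cyc : IsCyclic R
  inv : ∀ s ∈ S, s ∉ R → s * s = 1 ∧ ∀ r ∈ R, s * r * s⁻¹ = r⁻¹
  prod : ∀ s ∈ S, ∀ s' ∈ S, s ∉ R → s' ∉ R → s * s' ∈ R

theorem exists_dihData (S : Subgroup G) (m : ℕ) (e : S ≃* DihedralGroup m) :
    ∃ R : Subgroup G, DihData S R := by
  set Rot : Subgroup (DihedralGroup m) := zpowers (DihedralGroup.r 1) with hRot
  have hr_mem : ∀ i : ZMod m, DihedralGroup.r i ∈ Rot := by
    intro i
    rw [hRot, mem_zpowers_iff]
    refine ⟨(ZMod.cast i : ℤ), ?_⟩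
    rw [DihedralGroup.r_one_zpow, ZMod.intCast_zmod_cast]
  have hsr_not : ∀ i : ZMod m, DihedralGroup.sr i ∉ Rot := by
    intro i h
    rw [hRot, mem_zpowers_iff] at h
    obtain ⟨k, hk⟩ := h
    rw [DihedralGroup.r_one_zpow] at hk
    cases hk
  set R₀ : Subgroup S := Rot.comap e.toMonoidHom with hR₀
  have hR₀c : IsCyclic R₀ := by
    have h1 : R₀ = Rot.map e.symm.toMonoidHom := by
      rw [hR₀]
      exact Subgroup.comap_equiv_eq_map_symm e Rot
    rw [h1]
    exact isCyclic_of_surjective _ (e.symm.toMonoidHom.subgroupMap_surjective Rot)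
  refine ⟨R₀.map S.subtype, ⟨map_subtype_le _, ?_, ?_, ?_⟩⟩
  · exact isCyclic_of_surjective _ (S.subtype.subgroupMap_surjective R₀)
  · intro s hs hsR
    have hsR₀ : (⟨s, hs⟩ : S) ∉ R₀ := by
      intro h
      exact hsR ⟨⟨s, hs⟩, h, rfl⟩
    rw [hR₀, mem_comap] at hsR₀
    obtain ⟨i, hi⟩ : ∃ i, e ⟨s, hs⟩ = DihedralGroup.sr i := by
      rcases h : e ⟨s, hs⟩ with j | j
      · exfalso; apply hsR₀
        show e ⟨s, hs⟩ ∈ Rot
        rw [h]; exact hr_mem j
      · exact ⟨j, rfl⟩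
    constructor
    · have h1 : e (⟨s, hs⟩ * ⟨s, hs⟩) = e 1 := by
        rw [map_mul, hi, DihedralGroup.sr_mul_self, map_one]
      exact congrArg Subtype.val (e.injective h1)
    · rintro r ⟨⟨r', hr'S⟩, hr'R, rfl⟩
      rw [SetLike.mem_coe, hR₀, mem_comap] at hr'R
      obtain ⟨j, hj⟩ : ∃ j, e ⟨r', hr'S⟩ = DihedralGroup.r j := by
        rcases h : e ⟨r', hr'S⟩ with j | j
        · exact ⟨j, rfl⟩
        · exfalso
          have : e ⟨r', hr'S⟩ ∈ Rot := hr'R
          rw [h] at this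
          exact hsr_not j this
      have h1 : e (⟨s, hs⟩ * ⟨r', hr'S⟩ * ⟨s, hs⟩⁻¹) = e (⟨r', hr'S⟩⁻¹) := by
        rw [map_mul, map_mul, map_inv, map_inv, hi, hj, DihedralGroup.inv_sr,
          DihedralGroup.sr_mul_r, DihedralGroup.sr_mul_sr, DihedralGroup.inv_r]
        congr 1
        ring
      exact congrArg Subtype.val (e.injective h1)
  · intro s hs s' hs' hsR hs'R
    have hsR₀ : (⟨s, hs⟩ : S) ∉ R₀ := fun h => hsR ⟨⟨s, hs⟩, h, rfl⟩
    have hs'R₀ : (⟨s', hs'⟩ : S) ∉ R₀ := fun h => hs'R ⟨⟨s', hs'⟩, h, rfl⟩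
    rw [hR₀, mem_comap] at hsR₀ hs'R₀
    obtain ⟨i, hi⟩ : ∃ i, e ⟨s, hs⟩ = DihedralGroup.sr i := by
      rcases h : e ⟨s, hs⟩ with j | j
      · exfalso; apply hsR₀
        show e ⟨s, hs⟩ ∈ Rot
        rw [h]; exact hr_mem j
      · exact ⟨j, rfl⟩
    obtain ⟨i', hi'⟩ : ∃ i, e ⟨s', hs'⟩ = DihedralGroup.sr i := by
      rcases h : e ⟨s', hs'⟩ with j | j
      · exfalso; apply hs'R₀
        show e ⟨s', hs'⟩ ∈ Rot
        rw [h]; exact hr_mem j
      · exact ⟨j, rfl⟩
    refine ⟨⟨s, hs⟩ * ⟨s', hs'⟩, ?_, rfl⟩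
    rw [SetLike.mem_coe, hR₀, mem_comap]
    show e (⟨s, hs⟩ * ⟨s', hs'⟩) ∈ Rot
    rw [map_mul, hi, hi', DihedralGroup.sr_mul_sr]
    exact hr_mem _

/-- subgroups of a dihedral `2`-group: cyclic, or dihedral containing a four-group -/
theorem sub_dih [Finite G] (S R : Subgroup G) (hD : DihData S R) (hS2 : IsPGroup 2 S)
    (T : Subgroup G) (hTS : T ≤ S) :
    IsCyclic T ∨ (∃ j : ℕ, 1 ≤ j ∧ Nonempty (T ≃* DihedralGroup (2 ^ j)) ∧
      ∃ V : Subgroup G, V ≤ T ∧ Nat.card V = 4 ∧ ∀ v ∈ V, v ^ 2 = 1) := by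
  haveI := hD.cyc
  by_cases hTR : T ≤ R
  · left
    exact Subgroup.isCyclic_of_le hTR
  obtain ⟨b, hbT, hbR⟩ := SetLike.not_le_iff_exists.mp hTR
  obtain ⟨hbb, hbinv⟩ := hD.inv b (hTS hbT) hbR
  have hbi : b⁻¹ = b := inv_eq_of_mul_eq_one_left hbb
  have hb1 : b ≠ 1 := fun h => hbR (h ▸ one_mem R)
  have hbo : orderOf b = 2 := by
    haveI : Fact (Nat.Prime 2) := ⟨Nat.prime_two⟩
    exact orderOf_eq_prime (by rw [pow_two]; exact hbb) hb1
  have hT₀c : IsCyclic ↥(T ⊓ R) := Subgroup.isCyclic_of_le inf_le_right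
  obtain ⟨⟨a, haTR⟩, hgen⟩ := IsCyclic.exists_generator (α := ↥(T ⊓ R))
  have haT : a ∈ T := haTR.1
  have haR : a ∈ R := haTR.2
  have hzp : zpowers a = T ⊓ R := by
    apply le_antisymm (zpowers_le.mpr haTR)
    intro y hy
    obtain ⟨k, hk⟩ := mem_zpowers_iff.mp (hgen ⟨y, hy⟩)
    rw [mem_zpowers_iff]
    refine ⟨k, ?_⟩
    have := congrArg Subtype.val hk
    rwa [Subgroup.coe_zpow] at this
  -- index two
  have hidx : ((T ⊓ R).subgroupOf T).index = 2 := by
    rw [Subgroup.index_eq_two_iff]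
    refine ⟨⟨b, hbT⟩, fun t => ?_⟩
    by_cases htR : (t : G) ∈ R
    · right
      refine ⟨?_, ?_⟩
      · rw [mem_subgroupOf]; exact ⟨t.2, htR⟩
      · rw [mem_subgroupOf]
        intro h
        apply hbR
        have h2 : (t : G) * b ∈ R := h.2
        have : b = (t : G)⁻¹ * ((t : G) * b) := by group
        rw [this]
        exact mul_mem (inv_mem htR) h2
    · left
      refine ⟨?_, ?_⟩
      · rw [mem_subgroupOf]
        exact ⟨mul_mem t.2 hbT, hD.prod _ (hTS t.2) _ (hTS hbT) htR hbR⟩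
      · rw [mem_subgroupOf]
        intro h
        exact htR h.2
  have hcardT : Nat.card T = orderOf a * 2 := by
    have h1 := Subgroup.card_mul_index ((T ⊓ R).subgroupOf T)
    rw [hidx, Nat.card_congr (Subgroup.subgroupOfEquivOfLe (inf_le_left : T ⊓ R ≤ T)).toEquiv,
      ← hzp, Nat.card_zpowers] at h1
    exact h1.symm
  obtain ⟨j, hj⟩ : ∃ j, orderOf a = 2 ^ j := by
    obtain ⟨j, hj⟩ := (hS2.to_le (hD.le)).exists_card_eq
    have h1 : orderOf a ∣ 2 ^ j := by
      rw [← hj]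
      have := orderOf_dvd_natCard (⟨a, haR⟩ : R)
      rwa [Subgroup.orderOf_mk] at this
    obtain ⟨i, -, hi⟩ := (Nat.dvd_prime_pow Nat.prime_two).mp h1
    exact ⟨i, hi⟩
  rcases Nat.eq_zero_or_pos j with hj0 | hjpos
  · left
    rw [hj0, pow_zero] at hj
    rw [hj, one_mul] at hcardT
    haveI : Fact (Nat.Prime 2) := ⟨Nat.prime_two⟩
    exact isCyclic_of_prime_card hcardT
  right
  have hba : b * a * b = a⁻¹ := by
    have := hbinv a haR
    rwa [hbi] at this
  refine ⟨j, hjpos, ?_, ?_⟩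
  · refine Cfsg.Agent.Helper11.nonempty_mulEquiv_dihedralGroup (H := T) (2 ^ j)
      (by rw [hcardT, hj, mul_comm]) ⟨a, haT⟩ ⟨b, hbT⟩ ?_ ?_ ?_ ?_
    · rw [Subgroup.orderOf_mk, hj]
    · exact Subtype.ext hbb
    · exact Subtype.ext hba
    · intro h
      obtain ⟨k, hk⟩ := mem_zpowers_iff.mp h
      apply hbR
      have h2 : a ^ k = b := by simpa using congrArg Subtype.val hk
      rw [← h2]
      exact zpow_mem haR k
  · -- the four-group
    set z : G := a ^ (2 ^ (j - 1)) with hz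
    have hzo : orderOf z = 2 := by
      have h2 : 2 ^ j = 2 ^ (j - 1) * 2 := by
        rw [← pow_succ]; congr 1; omega
      rw [hz, orderOf_pow' a (by positivity), hj, h2,
        Nat.gcd_eq_right (Dvd.intro _ rfl), Nat.mul_div_cancel_left _ (by positivity)]
    have hzR : z ∈ R := pow_mem haR _
    have hzT : z ∈ T := pow_mem haT _
    have hzb : b * z = z * b := by
      have h1 : b * z * b⁻¹ = z⁻¹ := hbinv z hzR
      have h2 : z⁻¹ = z := by
        apply inv_eq_of_mul_eq_one_left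
        rw [← pow_two, ← hzo]; exact pow_orderOf_eq_one z
      rw [h2] at h1
      exact Cfsg.Agent.Helper1.ElemTwo.conj_eq_iff_comm.mp h1
    have hzz : z * z = 1 := by rw [← pow_two, ← hzo]; exact pow_orderOf_eq_one z
    refine ⟨zpowers z ⊔ zpowers b, sup_le (zpowers_le.mpr hzT) (zpowers_le.mpr hbT), ?_, ?_⟩
    · rw [Cfsg.Agent.Helper1.ElemTwo.card_sup_of_commute_disjoint, Nat.card_zpowers,
        Nat.card_zpowers, hzo, hbo]
      · intro x hx y hy
        obtain ⟨m, rfl⟩ := mem_zpowers_iff.mp hx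
        obtain ⟨l, rfl⟩ := mem_zpowers_iff.mp hy
        exact Commute.zpow_zpow (show Commute z b from hzb.symm) m l
      · rw [Subgroup.disjoint_def]
        intro y hy hyb
        have hyR : y ∈ R := (zpowers_le.mpr hzR) hy
        obtain ⟨k, hk⟩ := mem_zpowers_iff.mp hyb
        rcases Int.even_or_odd k with ⟨r, hr⟩ | ⟨r, hr⟩
        · rw [← hk, hr, zpow_add, ← (Commute.refl b).mul_zpow, hbb, one_zpow]
        · exfalso
          apply hbR
          have : y = b := by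
            rw [← hk, hr, zpow_add_one, zpow_mul, zpow_two, hbb, one_zpow, one_mul]
          rwa [this] at hyR
    · intro v hv
      have hle : zpowers z ⊔ zpowers b ≤ Cfsg.Agent.Helper1.ElemTwo.four z b hzz hbb hzb.symm := by
        refine sup_le (zpowers_le.mpr ?_) (zpowers_le.mpr ?_)
        · exact Cfsg.Agent.Helper1.ElemTwo.mem_four.mpr (Or.inr (Or.inl rfl))
        · exact Cfsg.Agent.Helper1.ElemTwo.mem_four.mpr (Or.inr (Or.inr (Or.inl rfl)))
      rcases Cfsg.Agent.Helper1.ElemTwo.mem_four.mp (hle hv) with h | h | h | h <;> rw [h, pow_two]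
      · exact one_mul 1
      · exact hzz
      · exact hbb
      · calc z * b * (z * b) = z * (b * z) * b := by group
          _ = z * (z * b) * b := by rw [hzb]
          _ = (z * z) * (b * b) := by group
          _ = 1 := by rw [hzz, hbb, one_mul]

end Cfsg.Agent.Helper1.TwoByCyc
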