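import Mathlib
import Cfsg.Agent.Helper1.TwoByCyc1
import Cfsg.Agent.Helper18.DihSylow
import Cfsg.Agent.S0228

set_option autoImplicit false
set_option linter.style.haveILetI false
set_option linter.unusedSectionVars false

/-! Groups with a normal Sylow `2`-subgroup and cyclic quotient (towards S4083). -/

namespace Cfsg.Agent.Helper1.TwoByCyc

open Subgroup

variable {X : Type*} [Group X]

theorem eq_one_or_eq_of_mem_zpowers {z y : X} (hz : z * z = 1) (hy : y ∈ zpowers z) :
    y = 1 ∨ y = z := by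
  obtain ⟨k, hk⟩ := mem_zpowers_iff.mp hy
  rcases Int.even_or_odd k with ⟨r, hr⟩ | ⟨r, hr⟩
  · left
    rw [← hk, hr, zpow_add, ← (Commute.refl z).mul_zpow, hz, one_zpow]
  · right
    rw [← hk, hr, zpow_add_one, zpow_mul, zpow_two, hz, one_zpow, one_mul]

/-- an element of odd order whose square commutes with `s` commutes with `s` -/
theorem comm_of_sq_comm {k s : X} (hodd : Odd (orderOf k)) (h : k * k * s = s * (k * k)) :
    k * s = s * k := by
  obtain ⟨r, hr⟩ := hodd
  have h1 : k = (k * k) ^ (r + 1) := by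
    rw [← pow_two, ← pow_mul]
    have : 2 * (r + 1) = orderOf k + 1 := by omega
    rw [this, pow_succ, pow_orderOf_eq_one, one_mul]
  have h2 : Commute (k * k) s := h
  have h3 : Commute ((k * k) ^ (r + 1)) s := h2.pow_left _
  rw [← h1] at h3
  exact h3

/-- The abstract structure lemma. -/
theorem abstract_main [Finite X] (S : Sylow 2 X) [hSn : (S : Subgroup X).Normal]
    (hcyc : IsCyclic (X ⧸ (S : Subgroup X)))
    (hA : IsPGroup 2 (MulAut (S : Subgroup X)) ∨
      (Nat.card (S : Subgroup X) = 4 ∧ ∀ s ∈ (S : Subgroup X), s ^ 2 = 1))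
    (hB : IsCyclic (S : Subgroup X) ∨
      ((∃ j : ℕ, Nonempty ((S : Subgroup X) ≃* DihedralGroup (2 ^ j))) ∧
        centralizer ((S : Subgroup X) : Set X) ≤ S)) :
    IsCyclic X ∨ (∃ n : ℕ, Nonempty (X ≃* DihedralGroup (2 ^ n))) ∨
      Nonempty (X ≃* alternatingGroup (Fin 4)) := by
  haveI : Fact (Nat.Prime 2) := ⟨Nat.prime_two⟩
  -- the complement
  obtain ⟨a, ha⟩ := S.2.exists_card_eq
  have hnd : ¬ 2 ∣ (S : Subgroup X).index := S.not_dvd_index
  have hidxodd : Odd (S : Subgroup X).index := Nat.odd_iff.mpr (Nat.two_dvd_ne_zero.mp hnd)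
  have hcop : (Nat.card (S : Subgroup X)).Coprime (S : Subgroup X).index := by
    rw [ha]
    exact Nat.Coprime.pow_left a ((Nat.Prime.coprime_iff_not_dvd Nat.prime_two).mpr hnd)
  obtain ⟨K, hK⟩ := Subgroup.exists_right_complement'_of_coprime hcop
  have hdisj : (S : Subgroup X) ⊓ K = ⊥ := hK.disjoint.eq_bot
  have hcardmul : Nat.card (S : Subgroup X) * Nat.card K = Nat.card X := hK.card_mul_card
  have hKidx : Nat.card K = (S : Subgroup X).index := by
    have h1 := Subgroup.card_mul_index (S : Subgroup X)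
    have hpos : 0 < Nat.card (S : Subgroup X) := Nat.card_pos
    exact Nat.eq_of_mul_eq_mul_left hpos (hcardmul.trans h1.symm)
  -- `K` is cyclic
  have hKc : IsCyclic K := by
    refine isCyclic_of_injective ((QuotientGroup.mk' (S : Subgroup X)).comp K.subtype) ?_
    rw [injective_iff_map_eq_one]
    intro x hx
    have h1 : (x : X) ∈ (S : Subgroup X) := by
      rw [← QuotientGroup.eq_one_iff]; exact hx
    have h2 : (x : X) ∈ (S : Subgroup X) ⊓ K := ⟨h1, x.2⟩
    rw [hdisj, mem_bot] at h2
    exact Subtype.ext h2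
  obtain ⟨⟨k, hkK⟩, hkgen⟩ := IsCyclic.exists_generator (α := K)
  have hko : orderOf k = Nat.card K := by
    have h1 : orderOf (⟨k, hkK⟩ : K) = Nat.card K := orderOf_eq_card_of_forall_mem_zpowers hkgen
    rwa [Subgroup.orderOf_mk] at h1
  have hkodd : Odd (orderOf k) := by rw [hko, hKidx]; exact hidxodd
  have hkcop : (orderOf k).Coprime 2 := Nat.coprime_two_right.mpr hkodd
  have hkN : k ∈ normalizer ((S : Subgroup X) : Set X) := by
    rw [normalizer_eq_top]; exact mem_top k
  -- if `k ∈ S` then `X ≃ S`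
  have hkS : k ∈ (S : Subgroup X) → Nonempty (X ≃* (S : Subgroup X)) := by
    intro hk
    have h1 : k = 1 := by
      have : k ∈ (S : Subgroup X) ⊓ K := ⟨hk, hkK⟩
      rwa [hdisj, mem_bot] at this
    have h2 : Nat.card K = 1 := by rw [← hko, h1, orderOf_one]
    rw [h2, mul_one] at hcardmul
    have h3 : (S : Subgroup X) = ⊤ := Subgroup.eq_top_of_card_eq _ hcardmul
    exact ⟨(Subgroup.topEquiv.symm).trans (MulEquiv.subgroupCongr h3.symm)⟩
  rcases hA with hA | ⟨hS4, hS2⟩
  · have hkC : k ∈ centralizer ((S : Subgroup X) : Set X) :=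
      Cfsg.Agent.Helper18.DihSylow.mem_centralizer_of_aut_pgroup _ hA k hkN hkcop
    rcases hB with hSc | ⟨⟨j, ⟨e⟩⟩, hCS⟩
    · left
      obtain ⟨⟨s, hsS⟩, hsgen⟩ := IsCyclic.exists_generator (α := (S : Subgroup X))
      have hso : orderOf s = Nat.card (S : Subgroup X) := by
        have h1 : orderOf (⟨s, hsS⟩ : (S : Subgroup X)) = Nat.card (S : Subgroup X) :=
          orderOf_eq_card_of_forall_mem_zpowers hsgen
        rwa [Subgroup.orderOf_mk] at h1
      have hcomm : Commute s k := (mem_centralizer_iff.mp hkC s hsS)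
      have hco : (orderOf s).Coprime (orderOf k) := by
        rw [hso, hko, hKidx]; exact hcop
      have h1 : orderOf (s * k) = Nat.card X := by
        rw [hcomm.orderOf_mul_eq_mul_orderOf_of_coprime hco, hso, hko, hcardmul]
      exact isCyclic_of_orderOf_eq_card (s * k) h1
    · right; left
      obtain ⟨f⟩ := hkS (hCS hkC)
      exact ⟨j, ⟨f.trans e⟩⟩
  · -- `S` is a four-group
    have hSnc : ¬ IsCyclic (S : Subgroup X) := by
      intro hc
      have h1 := IsCyclic.exponent_eq_card (α := (S : Subgroup X))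
      have h2 : Monoid.exponent (S : Subgroup X) ∣ 2 :=
        Monoid.exponent_dvd_of_forall_pow_eq_one (fun s => Subtype.ext (hS2 s.1 s.2))
      rw [h1, hS4] at h2
      norm_num at h2
    rcases hB with hSc | ⟨⟨j, ⟨e⟩⟩, hCS⟩
    · exact absurd hSc hSnc
    by_cases hkC : k ∈ centralizer ((S : Subgroup X) : Set X)
    · right; left
      obtain ⟨f⟩ := hkS (hCS hkC)
      exact ⟨j, ⟨f.trans e⟩⟩
    right; right
    -- `k ^ 3 = 1`
    have hk3C : k ^ 3 ∈ centralizer ((S : Subgroup X) : Set X) := by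
      classical
      haveI : Fintype (S : Subgroup X) := Fintype.ofFinite _
      set θ : MulAut (S : Subgroup X) := MulAut.conjNormal k with hθ
      set σ : Equiv.Perm (S : Subgroup X) := MulAut.toPerm _ θ with hσ
      have h1 : σ ^ orderOf k = 1 := by
        rw [hσ, ← map_pow, hθ, ← map_pow, pow_orderOf_eq_one, map_one, map_one]
      have h2 : σ ^ 24 = 1 := by
        have h3 : Fintype.card (Equiv.Perm (S : Subgroup X)) = 24 := by
          rw [Fintype.card_perm, ← Nat.card_eq_fintype_card, hS4]; rfl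
        rw [← h3]; exact pow_card_eq_one
      have h4 : orderOf σ ∣ Nat.gcd (orderOf k) 24 :=
        Nat.dvd_gcd (orderOf_dvd_of_pow_eq_one h1) (orderOf_dvd_of_pow_eq_one h2)
      have h5 : Nat.gcd (orderOf k) 24 ∣ 3 := by
        have h6 : (Nat.gcd (orderOf k) 24).Coprime 8 := by
          apply Nat.Coprime.coprime_dvd_left (Nat.gcd_dvd_left _ _)
          exact Nat.Coprime.pow_right 3 hkcop
        have h7 : Nat.gcd (orderOf k) 24 ∣ 8 * 3 := Nat.gcd_dvd_right _ _
        exact h6.dvd_of_dvd_mul_left h7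
      have h8 : σ ^ 3 = 1 := orderOf_dvd_iff_pow_eq_one.mp (h4.trans h5)
      rw [mem_centralizer_iff]
      intro s hs
      have h9 : (σ ^ 3) ⟨s, hs⟩ = ⟨s, hs⟩ := by rw [h8]; rfl
      have h10 : σ ^ 3 = MulAut.toPerm _ (MulAut.conjNormal (k ^ 3)) := by
        rw [hσ, hθ, map_pow, map_pow]
      rw [h10] at h9
      have h11 := congrArg Subtype.val h9
      have h12 : k ^ 3 * s * (k ^ 3)⁻¹ = s := h11
      exact (Cfsg.Agent.Helper1.ElemTwo.conj_eq_iff_comm.mp h12).symm
    have hk3 : k ^ 3 = 1 := by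
      have : k ^ 3 ∈ (S : Subgroup X) ⊓ K := ⟨hCS hk3C, pow_mem hkK 3⟩
      rwa [hdisj, mem_bot] at this
    have hk1 : k ≠ 1 := by
      intro h
      apply hkC
      rw [h]; exact one_mem _
    have hko3 : orderOf k = 3 := by
      haveI : Fact (Nat.Prime 3) := ⟨Nat.prime_three⟩
      exact orderOf_eq_prime hk3 hk1
    have hX12 : Nat.card X = 12 := by
      rw [← hcardmul, hS4, ← hko, hko3]
    refine Cfsg.Agent.S0228.result hX12 ?_
    intro z hz hzc
    apply hkC
    have hzz : z * z = 1 := by rw [← pow_two, ← hz]; exact pow_orderOf_eq_one z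
    have hz1 : z ≠ 1 := by
      intro h; rw [h, orderOf_one] at hz; norm_num at hz
    -- `z ∈ S`
    have hzS : z ∈ (S : Subgroup X) := by
      have h1 : IsPGroup 2 (zpowers z) := by
        apply IsPGroup.of_card (n := 1)
        rw [Nat.card_zpowers, hz, pow_one]
      obtain ⟨Q, hQ⟩ := h1.exists_le_sylow
      haveI := Sylow.unique_of_normal S hSn
      have : Q = S := Subsingleton.elim _ _
      rw [this] at hQ
      exact hQ (mem_zpowers z)
    have hkz : k * z = z * k := mem_center_iff.mp hzc k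
    -- index two
    set Z : Subgroup (S : Subgroup X) := zpowers ⟨z, hzS⟩ with hZ
    have hZcard : Nat.card Z = 2 := by
      rw [hZ, Nat.card_zpowers, Subgroup.orderOf_mk, hz]
    have hZidx : Z.index = 2 := by
      have h1 := Subgroup.card_mul_index Z
      rw [hZcard, hS4] at h1
      omega
    have hZmem : ∀ y : (S : Subgroup X), y ∈ Z → (y : X) = 1 ∨ (y : X) = z := by
      intro y hy
      have hzz' : (⟨z, hzS⟩ : (S : Subgroup X)) * ⟨z, hzS⟩ = 1 := Subtype.ext hzz
      rcases eq_one_or_eq_of_mem_zpowers hzz' hy with h | h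
      · left; rw [h]; rfl
      · right; rw [h]
    rw [mem_centralizer_iff]
    intro s hs
    symm
    by_cases hsZ : (⟨s, hs⟩ : (S : Subgroup X)) ∈ Z
    · rcases hZmem _ hsZ with h | h
      · have : s = 1 := h
        rw [this, mul_one, one_mul]
      · have : s = z := h
        rw [this]; exact hkz
    · -- `k s k⁻¹ ∉ Z`
      have hconjS : k * s * k⁻¹ ∈ (S : Subgroup X) := hSn.conj_mem s hs k
      have hconjZ : (⟨k * s * k⁻¹, hconjS⟩ : (S : Subgroup X)) ∉ Z := by
        intro h
        apply hsZ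
        rcases hZmem _ h with h' | h'
        · have h1 : k * s * k⁻¹ = 1 := h'
          have : s = 1 := by
            calc s = k⁻¹ * (k * s * k⁻¹) * k := by group
              _ = 1 := by rw [h1]; group
          have e : (⟨s, hs⟩ : (S : Subgroup X)) = 1 := Subtype.ext this
          rw [e]; exact one_mem Z
        · have h1 : k * s * k⁻¹ = z := h'
          have : s = z := by
            calc s = k⁻¹ * (k * s * k⁻¹) * k := by group
              _ = k⁻¹ * (z * k) := by rw [h1]; group
              _ = k⁻¹ * (k * z) := by rw [hkz]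
              _ = z := by group
          have e : (⟨s, hs⟩ : (S : Subgroup X)) = ⟨z, hzS⟩ := Subtype.ext this
          rw [e]; exact mem_zpowers _
      have hprod : (⟨s, hs⟩ : (S : Subgroup X))⁻¹ * ⟨k * s * k⁻¹, hconjS⟩ ∈ Z := by
        rw [Subgroup.mul_mem_iff_of_index_two hZidx, inv_mem_iff]
        exact ⟨fun h => absurd h hsZ, fun h => absurd h hconjZ⟩
      rcases hZmem _ hprod with h | h
      · have h1 : s⁻¹ * (k * s * k⁻¹) = 1 := h
        have h2 : k * s * k⁻¹ = s := by
          calc k * s * k⁻¹ = s * (s⁻¹ * (k * s * k⁻¹)) := by group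
            _ = s := by rw [h1, mul_one]
        exact Cfsg.Agent.Helper1.ElemTwo.conj_eq_iff_comm.mp h2
      · have h1 : s⁻¹ * (k * s * k⁻¹) = z := h
        have h2 : k * s * k⁻¹ = s * z := by
          calc k * s * k⁻¹ = s * (s⁻¹ * (k * s * k⁻¹)) := by group
            _ = s * z := by rw [h1]
        apply comm_of_sq_comm hkodd
        have h3 : k * z * k⁻¹ = z := Cfsg.Agent.Helper1.ElemTwo.conj_eq_iff_comm.mpr hkz
        have h4 : k * k * s * (k * k)⁻¹ = s := by
          calc k * k * s * (k * k)⁻¹ = k * (k * s * k⁻¹) * k⁻¹ := by group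
            _ = k * (s * z) * k⁻¹ := by rw [h2]
            _ = (k * s * k⁻¹) * (k * z * k⁻¹) := by group
            _ = s * z * z := by rw [h2, h3]
            _ = s := by rw [mul_assoc, hzz, mul_one]
        exact Cfsg.Agent.Helper1.ElemTwo.conj_eq_iff_comm.mp h4

end Cfsg.Agent.Helper1.TwoByCyc
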