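import Mathlib
import Cfsg.Agent.Helper1.TwoByCyc2

set_option autoImplicit false
set_option linter.style.haveILetI false
set_option linter.unusedSectionVars false

/-! Groups all of whose `2`-by-cyclic subgroups are cyclic, dihedral or `A₄` (S4083). -/

namespace Cfsg.Agent.Helper1.TwoByCyc

open Subgroup
open scoped Pointwise

variable {G : Type*} [Group G]

/-- four-subgroups of `P` are self-centralizing -/
def FourSC (P : Subgroup G) : Prop :=
  ∀ K : Subgroup G, K ≤ P → Nat.card K = 4 → (∀ k ∈ K, k ^ 2 = 1) →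
    centralizer (K : Set G) = K

theorem fourSC_conj {P : Subgroup G} (h : FourSC P) (g : G) (V : Subgroup G)
    (hV : V ≤ MulAut.conj g • P) (hV4 : Nat.card V = 4) (hV2 : ∀ v ∈ V, v ^ 2 = 1) :
    centralizer (V : Set G) ≤ V := by
  set V' : Subgroup G := MulAut.conj g⁻¹ • V with hV'
  have hmem : ∀ x, x ∈ V' ↔ g * x * g⁻¹ ∈ V := by
    intro x
    rw [hV', Subgroup.mem_pointwise_smul_iff_inv_smul_mem, ← map_inv, inv_inv, MulAut.smul_def,
      MulAut.conj_apply]
  have hV'P : V' ≤ P := by
    intro x hx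
    have h1 := hV ((hmem x).mp hx)
    rw [Subgroup.mem_pointwise_smul_iff_inv_smul_mem, ← map_inv, MulAut.smul_def,
      MulAut.conj_apply, inv_inv] at h1
    have e : g⁻¹ * (g * x * g⁻¹) * g = x := by group
    rwa [e] at h1
  have hV'4 : Nat.card V' = 4 := by
    rw [← hV4]
    exact (Nat.card_congr (Subgroup.equivSMul (MulAut.conj g⁻¹) V).toEquiv).symm
  have hV'2 : ∀ x ∈ V', x ^ 2 = 1 := by
    intro x hx
    have h1 := hV2 _ ((hmem x).mp hx)
    rw [conj_pow] at h1
    calc x ^ 2 = g⁻¹ * (g * x ^ 2 * g⁻¹) * g := by group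
      _ = 1 := by rw [h1]; group
  have hc := h V' hV'P hV'4 hV'2
  intro y hy
  have h1 : g⁻¹ * y * g ∈ centralizer (V' : Set G) := by
    rw [mem_centralizer_iff]
    intro x hx
    have h2 := mem_centralizer_iff.mp hy _ ((hmem x).mp hx)
    calc x * (g⁻¹ * y * g) = g⁻¹ * ((g * x * g⁻¹) * y) * g := by group
      _ = g⁻¹ * (y * (g * x * g⁻¹)) * g := by rw [h2]
      _ = g⁻¹ * y * g * x := by group
  rw [hc, hmem] at h1
  have e : g * (g⁻¹ * y * g) * g⁻¹ = y := by group
  rwa [e] at h1

/-- the backward direction of S4083 -/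
theorem backward [Finite G] (P : Sylow 2 G)
    (hP : IsCyclic (P : Subgroup G) ∨
      ((∃ n : ℕ, 1 ≤ n ∧ Nonempty ((P : Subgroup G) ≃* DihedralGroup (2 ^ n))) ∧
        FourSC (P : Subgroup G)))
    (H : Subgroup G) (S : Sylow 2 ↥H) [hSn : (S : Subgroup ↥H).Normal]
    (hcyc : IsCyclic (↥H ⧸ (S : Subgroup ↥H))) :
    IsCyclic H ∨ (∃ n : ℕ, Nonempty (H ≃* DihedralGroup (2 ^ n))) ∨
      Nonempty (H ≃* alternatingGroup (Fin 4)) := by
  haveI : Fact (Nat.Prime 2) := ⟨Nat.prime_two⟩
  set T : Subgroup G := (S : Subgroup ↥H).map H.subtype with hT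
  have hT2 : IsPGroup 2 T := S.2.map _
  obtain ⟨Q, hTQ⟩ := hT2.exists_le_sylow
  obtain ⟨g, hg⟩ := MulAction.exists_smul_eq G P Q
  have hQeq : (Q : Subgroup G) = MulAut.conj g • (P : Subgroup G) := by
    rw [← hg]; rfl
  let φ : (S : Subgroup ↥H) ≃* T :=
    (S : Subgroup ↥H).equivMapOfInjective H.subtype (subtype_injective H)
  have hφ : ∀ s : (S : Subgroup ↥H), ((φ s : T) : G) = ((s : ↥H) : G) := fun s => rfl
  let eQ : (P : Subgroup G) ≃* (Q : Subgroup G) :=
    (Subgroup.equivSMul (MulAut.conj g) (P : Subgroup G)).trans (MulEquiv.subgroupCongr hQeq.symm)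
  obtain ⟨a, ha⟩ := S.2.exists_card_eq
  have hScyc_of : IsCyclic T → IsCyclic (S : Subgroup ↥H) := by
    intro h
    exact isCyclic_of_injective φ.toMonoidHom φ.injective
  have hmemT : ∀ x : ↥H, (x : G) ∈ T → x ∈ (S : Subgroup ↥H) := by
    intro x hx
    obtain ⟨s, hs, hsx⟩ := hx
    have : s = x := Subtype.ext hsx
    rwa [← this]
  apply abstract_main S hcyc
  · rcases hP with hPc | ⟨⟨n, hn, ⟨e⟩⟩, hF⟩
    · left
      haveI : IsCyclic (Q : Subgroup G) := isCyclic_of_surjective eQ.toMonoidHom eQ.surjective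
      haveI : IsCyclic (S : Subgroup ↥H) := hScyc_of (Subgroup.isCyclic_of_le hTQ)
      exact Cfsg.Agent.Helper16.isPGroup_mulAut_of_isCyclic a ha
    · obtain ⟨b, hb⟩ := Q.2.exists_card_eq
      rcases Cfsg.Agent.Helper18.DihSylow.subgroup_dichotomy (Q : Subgroup G) (2 ^ n)
        (eQ.symm.trans e) b hb T hTQ with h | h
      · left
        exact h.of_equiv (MulAut.congr φ).symm
      · right
        have hT4 : Nat.card T = 4 := h.card_four
        have hTexp : Monoid.exponent T = 2 := h.exponent_two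
        refine ⟨by rw [Nat.card_congr φ.toEquiv, hT4], ?_⟩
        intro s hs
        have h1 : (φ ⟨s, hs⟩) ^ 2 = 1 := by
          have := Monoid.pow_exponent_eq_one (φ ⟨s, hs⟩)
          rwa [hTexp] at this
        have h2 : ((φ ⟨s, hs⟩ : T) : G) ^ 2 = 1 := by
          have := congrArg Subtype.val h1
          rwa [Subgroup.coe_pow] at this
        rw [hφ] at h2
        apply Subtype.ext
        rw [Subgroup.coe_pow]; exact h2
  · rcases hP with hPc | ⟨⟨n, hn, ⟨e⟩⟩, hF⟩
    · left
      haveI : IsCyclic (Q : Subgroup G) := isCyclic_of_surjective eQ.toMonoidHom eQ.surjective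
      exact hScyc_of (Subgroup.isCyclic_of_le hTQ)
    · obtain ⟨R, hD⟩ := exists_dihData (Q : Subgroup G) (2 ^ n) (eQ.symm.trans e)
      rcases sub_dih (Q : Subgroup G) R hD Q.2 T hTQ with h | ⟨j, hj, ⟨eT⟩, V, hVT, hV4, hV2⟩
      · left; exact hScyc_of h
      · right
        refine ⟨⟨j, ⟨φ.trans eT⟩⟩, ?_⟩
        intro x hx
        apply hmemT
        apply hVT
        apply fourSC_conj hF g V (hQeq ▸ (hVT.trans hTQ)) hV4 hV2
        rw [mem_centralizer_iff]
        intro v hv
        obtain ⟨s, hs, hsv⟩ := hVT hv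
        have h1 := mem_centralizer_iff.mp hx s hs
        have h2 := congrArg Subtype.val h1
        rw [Subgroup.coe_mul, Subgroup.coe_mul] at h2
        rw [← hsv]
        exact h2

/-- the property of S4083 -/
def Restricted (G : Type*) [Group G] : Prop :=
  ∀ H : Subgroup G, (∀ S : Sylow 2 ↥H, (S : Subgroup ↥H).Normal) →
    (∀ (S : Sylow 2 ↥H) [(S : Subgroup ↥H).Normal], IsCyclic (↥H ⧸ (S : Subgroup ↥H))) →
    IsCyclic H ∨ (∃ n : ℕ, Nonempty (H ≃* DihedralGroup (2 ^ n))) ∨
      Nonempty (H ≃* alternatingGroup (Fin 4))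

theorem not_comm_alt4 : ¬ IsMulCommutative (alternatingGroup (Fin 4)) := by
  intro h
  have h1 : Subgroup.center (alternatingGroup (Fin 4)) = ⊤ := by
    rw [eq_top_iff]
    intro x _
    rw [Subgroup.mem_center_iff]
    intro y
    exact mul_comm' y x
  have h2 := alternatingGroup.center_eq_bot (α := Fin 4) (by simp)
  rw [h1] at h2
  have h3 : Nat.card (⊤ : Subgroup (alternatingGroup (Fin 4))) = 1 := by
    rw [h2]; exact Subgroup.card_bot
  rw [Subgroup.card_top, nat_card_alternatingGroup] at h3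
  simp at h3
  revert h3
  decide

theorem forward_four [Finite G] (h : Restricted G) (K : Subgroup G) (hK4 : Nat.card K = 4)
    (hK2 : ∀ k ∈ K, k ^ 2 = 1) : centralizer (K : Set G) = K := by
  haveI : Fact (Nat.Prime 2) := ⟨Nat.prime_two⟩
  have hKcomm : ∀ a ∈ K, ∀ b ∈ K, a * b = b * a := by
    intro a ha b hb
    have h1 : a * a = 1 := by rw [← pow_two]; exact hK2 a ha
    have h2 : b * b = 1 := by rw [← pow_two]; exact hK2 b hb
    have h3 : a * b * (a * b) = 1 := by rw [← pow_two]; exact hK2 _ (mul_mem ha hb)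
    calc a * b = a * (a * b * (a * b)) * b := by rw [h3, mul_one]
      _ = (a * a) * b * a * (b * b) := by group
      _ = b * a := by rw [h1, h2, one_mul, mul_one]
  have hKnc : ¬ IsCyclic K := by
    intro hc
    have h1 := IsCyclic.exponent_eq_card (α := K)
    have h2 : Monoid.exponent K ∣ 2 :=
      Monoid.exponent_dvd_of_forall_pow_eq_one (fun s => Subtype.ext (hK2 s.1 s.2))
    rw [h1, hK4] at h2
    norm_num at h2
  apply le_antisymm
  · intro x hx
    set H : Subgroup G := K ⊔ zpowers x with hH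
    have hKH : K ≤ H := le_sup_left
    have hxH : x ∈ H := (le_sup_right : zpowers x ≤ H) (mem_zpowers x)
    -- `H` is commutative
    have hHc1 : H ≤ centralizer ((K : Set G) ∪ {x}) := by
      refine sup_le ?_ (zpowers_le.mpr ?_)
      · intro k hk
        rw [mem_centralizer_iff]
        rintro y (hy | hy)
        · exact hKcomm y hy k hk
        · rw [Set.mem_singleton_iff] at hy
          rw [hy]
          exact (mem_centralizer_iff.mp hx k hk).symm
      · rw [mem_centralizer_iff]
        rintro y (hy | hy)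
        · exact mem_centralizer_iff.mp hx y hy
        · rw [Set.mem_singleton_iff] at hy
          rw [hy]
    have hHc : ∀ a ∈ H, ∀ b ∈ H, a * b = b * a := by
      have h2 : H ≤ centralizer (H : Set G) := by
        refine sup_le ?_ (zpowers_le.mpr ?_)
        · intro k hk
          rw [mem_centralizer_iff]
          intro y hy
          exact (mem_centralizer_iff.mp (hHc1 hy) k (Or.inl hk)).symm
        · rw [mem_centralizer_iff]
          intro y hy
          exact (mem_centralizer_iff.mp (hHc1 hy) x (Or.inr rfl)).symm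
      intro a ha b hb
      exact (mem_centralizer_iff.mp (h2 hb) a ha)
    haveI hHcomm : IsMulCommutative H :=
      ⟨⟨fun a b => Subtype.ext (hHc a.1 a.2 b.1 b.2)⟩⟩
    have hnorm : ∀ S : Subgroup ↥H, S.Normal := by
      intro S
      refine ⟨fun n hn g => ?_⟩
      have : g * n * g⁻¹ = n := by rw [mul_comm' g n, mul_assoc, mul_inv_cancel, mul_one]
      rwa [this]
    have h1 := h H (fun S => hnorm _) (by
      intro S hSn
      -- the quotient is generated by the image of `x`
      set φ := QuotientGroup.mk' (S : Subgroup ↥H) with hφ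
      have hKS : K.subgroupOf H ≤ (S : Subgroup ↥H) := by
        have hKp : IsPGroup 2 (K.subgroupOf H) := by
          have : IsPGroup 2 K := IsPGroup.of_card (n := 2) (by rw [hK4]; norm_num)
          exact this.comap_subtype
        obtain ⟨Q, hQ⟩ := hKp.exists_le_sylow
        haveI := Sylow.unique_of_normal S hSn
        have : Q = S := Subsingleton.elim _ _
        rwa [this] at hQ
      refine ⟨⟨φ ⟨x, hxH⟩, ?_⟩⟩
      intro q
      obtain ⟨y, rfl⟩ := QuotientGroup.mk'_surjective (S : Subgroup ↥H) q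
      have hle : H ≤ ((zpowers (φ ⟨x, hxH⟩)).comap φ).map H.subtype := by
        refine sup_le ?_ (zpowers_le.mpr ?_)
        · intro k hk
          refine ⟨⟨k, hKH hk⟩, ?_, rfl⟩
          rw [SetLike.mem_coe, mem_comap]
          have : φ ⟨k, hKH hk⟩ = 1 := by
            rw [hφ, QuotientGroup.mk'_apply, QuotientGroup.eq_one_iff]
            apply hKS
            rw [mem_subgroupOf]; exact hk
          rw [this]; exact one_mem _
        · refine ⟨⟨x, hxH⟩, ?_, rfl⟩
          rw [SetLike.mem_coe, mem_comap]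
          exact mem_zpowers _
      obtain ⟨y', hy', hyy'⟩ := hle y.2
      have : y' = y := Subtype.ext hyy'
      rw [this, SetLike.mem_coe, mem_comap] at hy'
      exact hy')
    rcases h1 with h1 | ⟨n, ⟨e⟩⟩ | ⟨⟨e⟩⟩
    · exfalso
      exact hKnc (Subgroup.isCyclic_of_le hKH)
    · have hdc : IsMulCommutative (DihedralGroup (2 ^ n)) :=
        ⟨⟨fun a b => by
          have := mul_comm' (e.symm a) (e.symm b)
          rw [← map_mul, ← map_mul] at this
          exact e.symm.injective this⟩⟩
      have h2 : 2 ^ n = 1 ∨ 2 ^ n = 2 := DihedralGroup.commutative_iff.mp hdc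
      have h3 : Nat.card H ≤ 4 := by
        rw [Nat.card_congr e.toEquiv, DihedralGroup.nat_card]
        rcases h2 with h2 | h2 <;> rw [h2] <;> norm_num
      have h4 : K = H := Subgroup.eq_of_le_of_card_ge hKH (by rw [hK4]; exact h3)
      rw [h4]; exact hxH
    · exfalso
      apply not_comm_alt4
      exact ⟨⟨fun a b => by
        have := mul_comm' (e.symm a) (e.symm b)
        rw [← map_mul, ← map_mul] at this
        exact e.symm.injective this⟩⟩
  · intro k hk
    rw [mem_centralizer_iff]
    intro y hy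
    exact hKcomm y hy k hk

theorem forward [Finite G] (P : Sylow 2 G) (h : Restricted G) :
    IsCyclic (P : Subgroup G) ∨
      ((∃ n : ℕ, 1 ≤ n ∧ Nonempty ((P : Subgroup G) ≃* DihedralGroup (2 ^ n))) ∧
        FourSC (P : Subgroup G)) := by
  haveI : Fact (Nat.Prime 2) := ⟨Nat.prime_two⟩
  have hF : FourSC (P : Subgroup G) := fun K _ hK4 hK2 => forward_four h K hK4 hK2
  have htop : ∀ S : Sylow 2 ↥(P : Subgroup G), (S : Subgroup ↥(P : Subgroup G)) = ⊤ := by
    intro S
    have h1 : IsPGroup 2 (⊤ : Subgroup ↥(P : Subgroup G)) := P.2.to_subgroup ⊤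
    exact (S.is_maximal' h1 le_top).symm
  have h1 := h (P : Subgroup G) (fun S => by rw [htop S]; infer_instance) (by
    intro S hSn
    haveI : Subsingleton (↥(P : Subgroup G) ⧸ (S : Subgroup ↥(P : Subgroup G))) := by
      refine ⟨fun a b => ?_⟩
      obtain ⟨a', rfl⟩ := QuotientGroup.mk'_surjective _ a
      obtain ⟨b', rfl⟩ := QuotientGroup.mk'_surjective _ b
      rw [QuotientGroup.mk'_apply, QuotientGroup.mk'_apply, QuotientGroup.eq, htop S]
      exact mem_top _
    exact isCyclic_of_subsingleton)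
  obtain ⟨a, ha⟩ := P.2.exists_card_eq
  rcases h1 with h1 | ⟨n, ⟨e⟩⟩ | ⟨⟨e⟩⟩
  · left; exact h1
  · rcases Nat.eq_zero_or_pos n with hn | hn
    · left
      have hc : Nat.card (P : Subgroup G) = 2 := by
        rw [Nat.card_congr e.toEquiv, DihedralGroup.nat_card, hn]; norm_num
      exact isCyclic_of_prime_card hc
    · right
      exact ⟨⟨n, hn, ⟨e⟩⟩, hF⟩
  · exfalso
    have hc : Nat.card (P : Subgroup G) = 12 := by
      rw [Nat.card_congr e.toEquiv, nat_card_alternatingGroup]
      simp
      rfl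
    rw [ha] at hc
    have h3 : 3 ∣ 2 ^ a := by rw [hc]; norm_num
    have h4 := Nat.Prime.dvd_of_dvd_pow Nat.prime_three h3
    norm_num at h4

end Cfsg.Agent.Helper1.TwoByCyc
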