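import Mathlib
import Cfsg.Agent.Helper1.TwoByCyc3

set_option autoImplicit false
set_option linter.style.haveILetI false
set_option linter.unusedSectionVars false

/-! Groups with a normal cyclic Sylow `p`-subgroup and cyclic quotient (towards S4082). -/

namespace Cfsg.Agent.Helper1.PByCyc

open Subgroup

variable {G : Type*} [Group G]

/-- if `H = A ⊔ ⟨x⟩` and the normal subgroup `S` of `H` contains `A`, then `H ⧸ S` is cyclic -/
theorem quot_cyclic_of_sup (H A : Subgroup G) (x : G) (hAH : A ≤ H) (hxH : x ∈ H)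
    (hHle : H ≤ A ⊔ zpowers x) (S : Subgroup ↥H) [S.Normal]
    (hAS : A.subgroupOf H ≤ S) : IsCyclic (↥H ⧸ S) := by
  set φ := QuotientGroup.mk' S with hφ
  refine ⟨⟨φ ⟨x, hxH⟩, ?_⟩⟩
  intro q
  obtain ⟨y, rfl⟩ := QuotientGroup.mk'_surjective S q
  have hle : H ≤ ((zpowers (φ ⟨x, hxH⟩)).comap φ).map H.subtype := by
    refine hHle.trans (sup_le ?_ (zpowers_le.mpr ?_))
    · intro k hk
      refine ⟨⟨k, hAH hk⟩, ?_, rfl⟩
      rw [SetLike.mem_coe, mem_comap]
      have : φ ⟨k, hAH hk⟩ = 1 := by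
        rw [hφ, QuotientGroup.mk'_apply, QuotientGroup.eq_one_iff]
        apply hAS
        rw [mem_subgroupOf]; exact hk
      rw [this]; exact one_mem _
    · refine ⟨⟨x, hxH⟩, ?_, rfl⟩
      rw [SetLike.mem_coe, mem_comap]
      exact mem_zpowers _
  obtain ⟨y', hy', hyy'⟩ := hle y.2
  have : y' = y := Subtype.ext hyy'
  rw [this, SetLike.mem_coe, mem_comap] at hy'
  exact hy'

/-- The abstract structure lemma for odd `p`. -/
theorem abstract_main_p {X : Type*} [Group X] [Finite X] {p : ℕ} [Fact p.Prime]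
    (S : Sylow p X) [hSn : (S : Subgroup X).Normal]
    (hcyc : IsCyclic (X ⧸ (S : Subgroup X))) (hSc : IsCyclic (S : Subgroup X))
    (hdich : ∀ k : X, (orderOf k).Coprime p →
      (∀ s ∈ (S : Subgroup X), k * s = s * k) ∨
        (orderOf k = 2 ∧ ∀ s ∈ (S : Subgroup X), k * s * k⁻¹ = s⁻¹)) :
    IsCyclic X ∨ ∃ n : ℕ, Nonempty (X ≃* DihedralGroup (p ^ n)) := by
  have hp : p.Prime := Fact.out
  obtain ⟨a, ha⟩ := S.2.exists_card_eq
  have hnd : ¬ p ∣ (S : Subgroup X).index := S.not_dvd_index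
  have hcop : (Nat.card (S : Subgroup X)).Coprime (S : Subgroup X).index := by
    rw [ha]
    exact Nat.Coprime.pow_left a ((Nat.Prime.coprime_iff_not_dvd hp).mpr hnd)
  obtain ⟨K, hK⟩ := Subgroup.exists_right_complement'_of_coprime hcop
  have hdisj : (S : Subgroup X) ⊓ K = ⊥ := hK.disjoint.eq_bot
  have hcardmul : Nat.card (S : Subgroup X) * Nat.card K = Nat.card X := hK.card_mul_card
  have hKidx : Nat.card K = (S : Subgroup X).index := by
    have h1 := Subgroup.card_mul_index (S : Subgroup X)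
    have hpos : 0 < Nat.card (S : Subgroup X) := Nat.card_pos
    exact Nat.eq_of_mul_eq_mul_left hpos (hcardmul.trans h1.symm)
  have hKc : IsCyclic K := by
    refine isCyclic_of_injective ((QuotientGroup.mk' (S : Subgroup X)).comp K.subtype) ?_
    rw [injective_iff_map_eq_one]
    intro x hx
    have h1 : (x : X) ∈ (S : Subgroup X) := by
      rw [← QuotientGroup.eq_one_iff]; exact hx
    have h2 : (x : X) ∈ (S : Subgroup X) ⊓ K := ⟨h1, x.2⟩
    rw [hdisj, mem_bot] at h2
    exact Subtype.ext h2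
  obtain ⟨⟨k, hkK⟩, hkgen⟩ := IsCyclic.exists_generator (α := K)
  have hko : orderOf k = Nat.card K := by
    have h1 : orderOf (⟨k, hkK⟩ : K) = Nat.card K := orderOf_eq_card_of_forall_mem_zpowers hkgen
    rwa [Subgroup.orderOf_mk] at h1
  have hkcop : (orderOf k).Coprime p := by
    rw [hko, hKidx]
    exact ((Nat.Prime.coprime_iff_not_dvd hp).mpr hnd).symm
  obtain ⟨⟨s, hsS⟩, hsgen⟩ := IsCyclic.exists_generator (α := (S : Subgroup X))
  have hso : orderOf s = Nat.card (S : Subgroup X) := by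
    have h1 : orderOf (⟨s, hsS⟩ : (S : Subgroup X)) = Nat.card (S : Subgroup X) :=
      orderOf_eq_card_of_forall_mem_zpowers hsgen
    rwa [Subgroup.orderOf_mk] at h1
  rcases hdich k hkcop with hc | ⟨hk2, hinv⟩
  · left
    have hcomm : Commute s k := (hc s hsS).symm
    have hco : (orderOf s).Coprime (orderOf k) := by
      rw [hso, hko, hKidx]; exact hcop
    have h1 : orderOf (s * k) = Nat.card X := by
      rw [hcomm.orderOf_mul_eq_mul_orderOf_of_coprime hco, hso, hko, hcardmul]
    exact isCyclic_of_orderOf_eq_card (s * k) h1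
  · right
    refine ⟨a, ?_⟩
    have hkk : k * k = 1 := by rw [← pow_two, ← hk2]; exact pow_orderOf_eq_one k
    have hki : k⁻¹ = k := inv_eq_of_mul_eq_one_left hkk
    refine Cfsg.Agent.Helper11.nonempty_mulEquiv_dihedralGroup (p ^ a) ?_ s k ?_ hkk ?_ ?_
    · rw [← hcardmul, ha, ← hko, hk2, mul_comm]
    · rw [hso, ha]
    · have := hinv s hsS
      rwa [hki] at this
    · intro h
      have hkS : k ∈ (S : Subgroup X) := (zpowers_le.mpr hsS) h
      have : k ∈ (S : Subgroup X) ⊓ K := ⟨hkS, hkK⟩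
      rw [hdisj, mem_bot] at this
      rw [this, orderOf_one] at hk2
      norm_num at hk2

end Cfsg.Agent.Helper1.PByCyc
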