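import Mathlib
import Cfsg.Agent.Helper1.PByCyc1

set_option autoImplicit false
set_option linter.style.haveILetI false
set_option linter.unusedSectionVars false

/-! The backward direction of S4082. -/

namespace Cfsg.Agent.Helper1.PByCyc

open Subgroup
open scoped Pointwise

variable {G : Type*} [Group G]

/-- the condition on a subgroup `Q` of order `p` in S4082 -/
def Cond (Q : Subgroup G) : Prop :=
  IsMulCommutative ↥(centralizer (Q : Set G)) ∧
    ∀ x : G, x ∈ normalizer (Q : Set G) → x ∉ centralizer (Q : Set G) →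
      orderOf x = 2 ∧ ∀ c : G, c ∈ centralizer (Q : Set G) → x * c * x⁻¹ = c⁻¹

theorem mem_normalizer_of_conj_mem {Q : Subgroup G} {k : G}
    (h1 : ∀ q ∈ Q, k * q * k⁻¹ ∈ Q) (h2 : ∀ q ∈ Q, k⁻¹ * q * k ∈ Q) :
    k ∈ normalizer (Q : Set G) := by
  rw [mem_normalizer_iff]
  intro q
  refine ⟨h1 q, fun h => ?_⟩
  have := h2 _ h
  have e : k⁻¹ * (k * q * k⁻¹) * k = q := by group
  rwa [e] at this

theorem dich_of_le [Finite G] {p : ℕ} [Fact p.Prime] (P : Sylow p G)
    (hP : normalizer ((P : Subgroup G) : Set G) ≤ centralizer ((P : Subgroup G) : Set G) ∨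
      ∀ Q : Subgroup G, Q ≤ P → Nat.card Q = p → Cond Q)
    (T : Subgroup G) (hTP : T ≤ P) (hTc : IsCyclic T) (k : G)
    (hkT : k ∈ normalizer (T : Set G)) (hk : (orderOf k).Coprime p) :
    (∀ t ∈ T, k * t = t * k) ∨ (orderOf k = 2 ∧ ∀ t ∈ T, k * t * k⁻¹ = t⁻¹) := by
  have hp : p.Prime := Fact.out
  have hT : IsPGroup p T := P.2.to_le hTP
  rcases hP with hP | hP
  · left
    set φ := MonoidHom.transferSylow P hP with hφ
    have hkM : k ∈ φ.ker := by
      rw [MonoidHom.mem_ker]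
      obtain ⟨a, ha⟩ := P.2.exists_card_eq
      have h1 : orderOf (φ k) ∣ orderOf k := orderOf_map_dvd φ k
      have h2 : orderOf (φ k) ∣ p ^ a := by rw [← ha]; exact orderOf_dvd_natCard _
      have h3 : orderOf (φ k) = 1 :=
        Nat.eq_one_of_dvd_coprimes (Nat.Coprime.pow_right a hk) h1 h2
      exact orderOf_eq_one_iff.mp h3
    have hdisj := MonoidHom.ker_transferSylow_disjoint P hP T hT
    intro t ht
    have h1 : k * t * k⁻¹ * t⁻¹ ∈ T :=
      mul_mem ((mem_normalizer_iff.mp hkT t).mp ht) (inv_mem ht)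
    have h2 : k * t * k⁻¹ * t⁻¹ ∈ φ.ker := by
      have : k * t * k⁻¹ * t⁻¹ = k * (t * k⁻¹ * t⁻¹) := by group
      rw [this]
      exact mul_mem hkM ((MonoidHom.normal_ker φ).conj_mem _ (inv_mem hkM) t)
    have h3 : k * t * k⁻¹ * t⁻¹ = 1 := (Subgroup.disjoint_def.mp hdisj) h2 h1
    calc k * t = (k * t * k⁻¹ * t⁻¹) * t * k := by group
      _ = t * k := by rw [h3, one_mul]
  · by_cases hTbot : T = ⊥
    · left
      intro t ht
      rw [hTbot, mem_bot] at ht
      rw [ht, mul_one, one_mul]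
    obtain ⟨⟨a, haT⟩, hagen⟩ := IsCyclic.exists_generator (α := T)
    have hzp : T = zpowers a := by
      apply le_antisymm
      · intro y hy
        obtain ⟨m, hm⟩ := mem_zpowers_iff.mp (hagen ⟨y, hy⟩)
        rw [mem_zpowers_iff]
        refine ⟨m, ?_⟩
        have := congrArg Subtype.val hm
        rwa [Subgroup.coe_zpow] at this
      · exact zpowers_le.mpr haT
    have ha1 : a ≠ 1 := by
      intro h
      apply hTbot
      rw [hzp, h, zpowers_one_eq_bot]
    obtain ⟨n, hn⟩ : ∃ n, orderOf a = p ^ n := by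
      obtain ⟨n, hn⟩ := hT.exists_card_eq
      have h1 : orderOf a ∣ p ^ n := by
        rw [← hn]
        have := orderOf_dvd_natCard (⟨a, haT⟩ : T)
        rwa [Subgroup.orderOf_mk] at this
      obtain ⟨i, -, hi⟩ := (Nat.dvd_prime_pow hp).mp h1
      exact ⟨i, hi⟩
    have hnpos : 0 < n := by
      rcases Nat.eq_zero_or_pos n with h | h
      · rw [h, pow_zero, orderOf_eq_one_iff] at hn
        exact absurd hn ha1
      · exact h
    set q₀ : G := a ^ (p ^ (n - 1)) with hq₀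
    have hq₀o : orderOf q₀ = p := by
      have h2 : p ^ n = p ^ (n - 1) * p := by
        rw [← pow_succ]; congr 1; omega
      rw [hq₀, orderOf_pow' a (by have := hp.pos; positivity), hn, h2,
        Nat.gcd_eq_right (Dvd.intro _ rfl),
        Nat.mul_div_cancel_left _ (by have := hp.pos; positivity)]
    set Q₀ : Subgroup G := zpowers q₀ with hQ₀
    have hQ₀T : Q₀ ≤ T := zpowers_le.mpr (pow_mem haT _)
    have hQ₀card : Nat.card Q₀ = p := by rw [hQ₀, Nat.card_zpowers, hq₀o]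
    have hcond := hP Q₀ (hQ₀T.trans hTP) hQ₀card
    -- conjugation by an element normalizing `T` preserves `Q₀`
    have hconj : ∀ g : G, g ∈ normalizer (T : Set G) → ∀ q ∈ Q₀, g * q * g⁻¹ ∈ Q₀ := by
      intro g hg q hq
      obtain ⟨m, rfl⟩ := mem_zpowers_iff.mp hq
      have h1 : g * a * g⁻¹ ∈ T := (mem_normalizer_iff.mp hg a).mp haT
      rw [hzp] at h1
      obtain ⟨l, hl⟩ := mem_zpowers_iff.mp h1
      have h2 : g * q₀ * g⁻¹ = q₀ ^ l := by
        rw [hq₀, ← conj_pow, ← hl, ← zpow_natCast, ← zpow_mul, mul_comm, zpow_mul, zpow_natCast]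
      rw [← conj_zpow, h2]
      exact zpow_mem (zpow_mem (mem_zpowers q₀) l) m
    have hkQ₀ : k ∈ normalizer (Q₀ : Set G) := by
      apply mem_normalizer_of_conj_mem (hconj k hkT)
      intro q hq
      have := hconj k⁻¹ (inv_mem hkT) q hq
      rwa [inv_inv] at this
    have hTC : T ≤ centralizer (Q₀ : Set G) := by
      rw [hzp, zpowers_le, mem_centralizer_iff]
      intro q hq
      obtain ⟨m, rfl⟩ := mem_zpowers_iff.mp hq
      rw [hq₀, ← zpow_natCast, ← zpow_mul]
      exact ((Commute.refl a).zpow_left _).eq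
    by_cases hkC : k ∈ centralizer (Q₀ : Set G)
    · left
      intro t ht
      haveI := hcond.1
      have := mul_comm' (⟨k, hkC⟩ : centralizer (Q₀ : Set G)) ⟨t, hTC ht⟩
      exact congrArg Subtype.val this
    · right
      obtain ⟨h2, hinv⟩ := hcond.2 k hkQ₀ hkC
      exact ⟨h2, fun t ht => hinv t (hTC ht)⟩

theorem dich [Finite G] {p : ℕ} [Fact p.Prime] (P : Sylow p G) (hPc : IsCyclic (P : Subgroup G))
    (hP : normalizer ((P : Subgroup G) : Set G) ≤ centralizer ((P : Subgroup G) : Set G) ∨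
      ∀ Q : Subgroup G, Q ≤ P → Nat.card Q = p → Cond Q)
    (g : G) (T : Subgroup G) (hTP : T ≤ MulAut.conj g • (P : Subgroup G)) (k : G)
    (hkT : k ∈ normalizer (T : Set G)) (hk : (orderOf k).Coprime p) :
    (∀ t ∈ T, k * t = t * k) ∨ (orderOf k = 2 ∧ ∀ t ∈ T, k * t * k⁻¹ = t⁻¹) := by
  set T' : Subgroup G := MulAut.conj g⁻¹ • T with hT'
  have hmem : ∀ x, x ∈ T' ↔ g * x * g⁻¹ ∈ T := by
    intro x
    rw [hT', Subgroup.mem_pointwise_smul_iff_inv_smul_mem, ← map_inv, inv_inv, MulAut.smul_def,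
      MulAut.conj_apply]
  have hT'P : T' ≤ P := by
    intro x hx
    have h1 := hTP ((hmem x).mp hx)
    rw [Subgroup.mem_pointwise_smul_iff_inv_smul_mem, ← map_inv, MulAut.smul_def,
      MulAut.conj_apply, inv_inv] at h1
    have e : g⁻¹ * (g * x * g⁻¹) * g = x := by group
    rwa [e] at h1
  have hT'c : IsCyclic T' := Subgroup.isCyclic_of_le hT'P
  set k' : G := g⁻¹ * k * g with hk'
  have hk'T' : k' ∈ normalizer (T' : Set G) := by
    rw [mem_normalizer_iff]
    intro x
    rw [hmem, hmem, mem_normalizer_iff.mp hkT (g * x * g⁻¹)]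
    have e : g * (k' * x * k'⁻¹) * g⁻¹ = k * (g * x * g⁻¹) * k⁻¹ := by rw [hk']; group
    rw [e]
  have hk'o : orderOf k' = orderOf k := by
    have := (MulAut.conj g⁻¹).orderOf_eq k
    rwa [MulAut.conj_apply, inv_inv] at this
  have hmemT : ∀ t ∈ T, g⁻¹ * t * g ∈ T' := by
    intro t ht
    rw [hmem]
    have e : g * (g⁻¹ * t * g) * g⁻¹ = t := by group
    rwa [e]
  rcases dich_of_le P hP T' hT'P hT'c k' hk'T' (hk'o ▸ hk) with h | ⟨h2, h⟩
  · left
    intro t ht
    have h1 := h _ (hmemT t ht)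
    calc k * t = g * (k' * (g⁻¹ * t * g)) * g⁻¹ := by rw [hk']; group
      _ = g * ((g⁻¹ * t * g) * k') * g⁻¹ := by rw [h1]
      _ = t * k := by rw [hk']; group
  · right
    refine ⟨hk'o ▸ h2, ?_⟩
    intro t ht
    have h1 := h _ (hmemT t ht)
    calc k * t * k⁻¹ = g * (k' * (g⁻¹ * t * g) * k'⁻¹) * g⁻¹ := by rw [hk']; group
      _ = g * (g⁻¹ * t * g)⁻¹ * g⁻¹ := by rw [h1]
      _ = t⁻¹ := by group

/-- the backward direction of S4082 -/
theorem backward_p [Finite G] {p : ℕ} [Fact p.Prime] (P : Sylow p G)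
    (hPc : IsCyclic (P : Subgroup G))
    (hP : normalizer ((P : Subgroup G) : Set G) ≤ centralizer ((P : Subgroup G) : Set G) ∨
      ∀ Q : Subgroup G, Q ≤ P → Nat.card Q = p → Cond Q)
    (H : Subgroup G) (S : Sylow p ↥H) [hSn : (S : Subgroup ↥H).Normal]
    (hcyc : IsCyclic (↥H ⧸ (S : Subgroup ↥H))) :
    IsCyclic H ∨ ∃ n : ℕ, Nonempty (H ≃* DihedralGroup (p ^ n)) := by
  set T : Subgroup G := (S : Subgroup ↥H).map H.subtype with hT
  have hT2 : IsPGroup p T := S.2.map _
  obtain ⟨Q, hTQ⟩ := hT2.exists_le_sylow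
  obtain ⟨g, hg⟩ := MulAction.exists_smul_eq G P Q
  have hQeq : (Q : Subgroup G) = MulAut.conj g • (P : Subgroup G) := by
    rw [← hg]; rfl
  let φ : (S : Subgroup ↥H) ≃* T :=
    (S : Subgroup ↥H).equivMapOfInjective H.subtype (subtype_injective H)
  let eQ : (P : Subgroup G) ≃* (Q : Subgroup G) :=
    (Subgroup.equivSMul (MulAut.conj g) (P : Subgroup G)).trans (MulEquiv.subgroupCongr hQeq.symm)
  haveI : IsCyclic (Q : Subgroup G) := isCyclic_of_surjective eQ.toMonoidHom eQ.surjective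
  haveI hTc : IsCyclic T := Subgroup.isCyclic_of_le hTQ
  have hSc : IsCyclic (S : Subgroup ↥H) := isCyclic_of_injective φ.toMonoidHom φ.injective
  apply abstract_main_p S hcyc hSc
  intro k hk
  have hkT : (k : G) ∈ normalizer (T : Set G) := by
    apply mem_normalizer_of_conj_mem
    · rintro q ⟨s, hs, rfl⟩
      exact ⟨k * s * k⁻¹, hSn.conj_mem s hs k, rfl⟩
    · rintro q ⟨s, hs, rfl⟩
      refine ⟨k⁻¹ * s * k, ?_, rfl⟩
      have := hSn.conj_mem s hs k⁻¹
      rwa [inv_inv] at this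
  have hko : (orderOf (k : G)).Coprime p := by rw [Subgroup.orderOf_coe]; exact hk
  rcases dich P hPc hP g T (hQeq ▸ hTQ) (k : G) hkT hko with h | ⟨h2, h⟩
  · left
    intro s hs
    apply Subtype.ext
    exact h _ ⟨s, hs, rfl⟩
  · right
    refine ⟨by rw [← Subgroup.orderOf_coe]; exact h2, ?_⟩
    intro s hs
    apply Subtype.ext
    exact h _ ⟨s, hs, rfl⟩

end Cfsg.Agent.Helper1.PByCyc
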