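import Mathlib
import Cfsg.Agent.Helper1.PByCyc2

set_option autoImplicit false
set_option linter.style.haveILetI false
set_option linter.unusedSectionVars false

/-! The forward direction of S4082. -/

namespace Cfsg.Agent.Helper1.PByCyc

open Subgroup

variable {G : Type*} [Group G]

/-- the property of S4082 -/
def RestrictedP (p : ℕ) (G : Type*) [Group G] : Prop :=
  ∀ H : Subgroup G, (∀ S : Sylow p ↥H, (S : Subgroup ↥H).Normal) →
    (∀ (S : Sylow p ↥H) [(S : Subgroup ↥H).Normal], IsCyclic (↥H ⧸ (S : Subgroup ↥H))) →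
    IsCyclic H ∨ (∃ n : ℕ, Nonempty (H ≃* DihedralGroup (p ^ n)))

theorem restricted_apply [Finite G] {p : ℕ} [Fact p.Prime] (h : RestrictedP p G)
    (A : Subgroup G) (hA : IsPGroup p A) (x : G) (hx : x ∈ normalizer (A : Set G)) :
    IsCyclic ↥(A ⊔ zpowers x) ∨ ∃ n : ℕ, Nonempty (↥(A ⊔ zpowers x) ≃* DihedralGroup (p ^ n)) := by
  set H : Subgroup G := A ⊔ zpowers x with hH
  have hAH : A ≤ H := le_sup_left
  have hxH : x ∈ H := (le_sup_right : zpowers x ≤ H) (mem_zpowers x)
  have hHN : H ≤ normalizer (A : Set G) := sup_le le_normalizer (zpowers_le.mpr hx)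
  haveI hAn : (A.subgroupOf H).Normal := (Subgroup.normal_subgroupOf_iff_le_normalizer hAH).mpr hHN
  have hA' : IsPGroup p (A.subgroupOf H) := hA.comap_subtype
  have hqc : IsCyclic (↥H ⧸ A.subgroupOf H) :=
    quot_cyclic_of_sup H A x hAH hxH le_rfl (A.subgroupOf H) le_rfl
  -- commutators lie in `A`
  have hcomm : ∀ a b : ↥H, a * b * a⁻¹ * b⁻¹ ∈ A.subgroupOf H := by
    intro a b
    rw [← QuotientGroup.eq_one_iff]
    haveI := hqc
    have h1 : ∀ u v : ↥H ⧸ A.subgroupOf H, u * v = v * u := fun u v => by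
      obtain ⟨g, hg⟩ := IsCyclic.exists_generator (α := ↥H ⧸ A.subgroupOf H)
      obtain ⟨m, rfl⟩ := mem_zpowers_iff.mp (hg u)
      obtain ⟨l, rfl⟩ := mem_zpowers_iff.mp (hg v)
      exact ((Commute.refl g).zpow_zpow m l).eq
    rw [QuotientGroup.mk_mul, QuotientGroup.mk_mul, QuotientGroup.mk_mul, QuotientGroup.mk_inv,
      QuotientGroup.mk_inv, h1 (a : ↥H ⧸ A.subgroupOf H) b]
    group
  have hSA : ∀ S : Sylow p ↥H, A.subgroupOf H ≤ (S : Subgroup ↥H) := fun S =>
    hA'.le_sylow_of_normal S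
  have hSn : ∀ S : Sylow p ↥H, (S : Subgroup ↥H).Normal := by
    intro S
    refine ⟨fun s hs g => ?_⟩
    have h1 := hSA S (hcomm g s)
    have : g * s * g⁻¹ = (g * s * g⁻¹ * s⁻¹) * s := by group
    rw [this]
    exact mul_mem h1 hs
  exact h H hSn (fun S hS => quot_cyclic_of_sup H A x hAH hxH le_rfl (S : Subgroup ↥H) (hSA S))

/-- dichotomy for elements normalizing a `p`-subgroup in a restricted group -/
theorem restricted_dich [Finite G] {p : ℕ} [Fact p.Prime] (hp2 : p ≠ 2) (h : RestrictedP p G)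
    (A : Subgroup G) (hA : IsPGroup p A) (x : G) (hx : x ∈ normalizer (A : Set G)) :
    (∀ a ∈ A, x * a = a * x) ∨ (orderOf x = 2 ∧ ∀ a ∈ A, x * a * x⁻¹ = a⁻¹) := by
  have hp : p.Prime := Fact.out
  set H : Subgroup G := A ⊔ zpowers x with hH
  have hAH : A ≤ H := le_sup_left
  have hxH : x ∈ H := (le_sup_right : zpowers x ≤ H) (mem_zpowers x)
  rcases restricted_apply h A hA x hx with hc | ⟨n, ⟨e⟩⟩
  · left
    intro a ha
    haveI := hc
    obtain ⟨g, hg⟩ := IsCyclic.exists_generator (α := ↥H)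
    obtain ⟨m, hm⟩ := mem_zpowers_iff.mp (hg ⟨x, hxH⟩)
    obtain ⟨l, hl⟩ := mem_zpowers_iff.mp (hg ⟨a, hAH ha⟩)
    have := ((Commute.refl g).zpow_zpow m l).eq
    rw [hm, hl] at this
    exact congrArg Subtype.val this
  · -- elements of `A` map to rotations
    have hrot : ∀ a (ha : a ∈ A), ∃ j, e ⟨a, hAH ha⟩ = DihedralGroup.r j := by
      intro a ha
      rcases hh : e ⟨a, hAH ha⟩ with j | j
      · exact ⟨j, rfl⟩
      · exfalso
        have h1 : orderOf (⟨a, hAH ha⟩ : ↥H) = 2 := by
          rw [← e.orderOf_eq, hh, DihedralGroup.orderOf_sr]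
        rw [Subgroup.orderOf_mk] at h1
        obtain ⟨k, hk⟩ := hA.exists_card_eq
        have h2 : orderOf a ∣ p ^ k := by
          rw [← hk]
          have := orderOf_dvd_natCard (⟨a, ha⟩ : A)
          rwa [Subgroup.orderOf_mk] at this
        rw [h1] at h2
        have h3 := (Nat.prime_dvd_prime_iff_eq Nat.prime_two hp).mp
          (Nat.Prime.dvd_of_dvd_pow Nat.prime_two h2)
        exact hp2 h3.symm
    rcases hh : e ⟨x, hxH⟩ with i | i
    · left
      intro a ha
      obtain ⟨j, hj⟩ := hrot a ha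
      have h1 : e (⟨x, hxH⟩ * ⟨a, hAH ha⟩) = e (⟨a, hAH ha⟩ * ⟨x, hxH⟩) := by
        rw [map_mul, map_mul, hh, hj, DihedralGroup.r_mul_r, DihedralGroup.r_mul_r, add_comm]
      exact congrArg Subtype.val (e.injective h1)
    · right
      constructor
      · have h1 : orderOf (⟨x, hxH⟩ : ↥H) = 2 := by
          rw [← e.orderOf_eq, hh, DihedralGroup.orderOf_sr]
        rwa [Subgroup.orderOf_mk] at h1
      · intro a ha
        obtain ⟨j, hj⟩ := hrot a ha
        have h1 : e (⟨x, hxH⟩ * ⟨a, hAH ha⟩ * ⟨x, hxH⟩⁻¹) = e (⟨a, hAH ha⟩⁻¹) := by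
          rw [map_mul, map_mul, map_inv, map_inv, hh, hj, DihedralGroup.inv_sr,
            DihedralGroup.sr_mul_r, DihedralGroup.sr_mul_sr, DihedralGroup.inv_r]
          congr 1
          ring
        exact congrArg Subtype.val (e.injective h1)

theorem forward_p [Finite G] {p : ℕ} [Fact p.Prime] (hp2 : p ≠ 2) (P : Sylow p G)
    (h : RestrictedP p G) :
    IsCyclic (P : Subgroup G) ∧
      (normalizer ((P : Subgroup G) : Set G) = centralizer ((P : Subgroup G) : Set G) ∨
        ((centralizer ((P : Subgroup G) : Set G)).relIndex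
            (normalizer ((P : Subgroup G) : Set G)) = 2 ∧
          ∀ Q : Subgroup G, Q ≤ P → Nat.card Q = p → Cond Q)) := by
  have hp : p.Prime := Fact.out
  have hpodd : Odd p := hp.odd_of_ne_two hp2
  -- `P` is cyclic
  have hPc : IsCyclic (P : Subgroup G) := by
    have htop : ∀ S : Sylow p ↥(P : Subgroup G), (S : Subgroup ↥(P : Subgroup G)) = ⊤ := by
      intro S
      have h1 : IsPGroup p (⊤ : Subgroup ↥(P : Subgroup G)) := P.2.to_subgroup ⊤
      exact (S.is_maximal' h1 le_top).symm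
    have h1 := h (P : Subgroup G) (fun S => by rw [htop S]; infer_instance) (by
      intro S hSn
      haveI : Subsingleton (↥(P : Subgroup G) ⧸ (S : Subgroup ↥(P : Subgroup G))) := by
        refine ⟨fun a b => ?_⟩
        obtain ⟨a', rfl⟩ := QuotientGroup.mk'_surjective _ a
        obtain ⟨b', rfl⟩ := QuotientGroup.mk'_surjective _ b
        rw [QuotientGroup.mk'_apply, QuotientGroup.mk'_apply, QuotientGroup.eq, htop S]
        exact mem_top _
      exact isCyclic_of_subsingleton)
    rcases h1 with h1 | ⟨n, ⟨e⟩⟩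
    · exact h1
    · exfalso
      obtain ⟨a, ha⟩ := P.2.exists_card_eq
      have hc : Nat.card (P : Subgroup G) = 2 * p ^ n := by
        rw [Nat.card_congr e.toEquiv, DihedralGroup.nat_card]
      rw [ha] at hc
      have h3 : 2 ∣ p ^ a := by rw [hc]; exact Dvd.intro _ rfl
      have h4 := (Nat.prime_dvd_prime_iff_eq Nat.prime_two hp).mp
        (Nat.Prime.dvd_of_dvd_pow Nat.prime_two h3)
      exact hp2 h4.symm
  refine ⟨hPc, ?_⟩
  have hdichP : ∀ x ∈ normalizer ((P : Subgroup G) : Set G),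
      (∀ a ∈ (P : Subgroup G), x * a = a * x) ∨
        (orderOf x = 2 ∧ ∀ a ∈ (P : Subgroup G), x * a * x⁻¹ = a⁻¹) :=
    fun x hx => restricted_dich hp2 h (P : Subgroup G) P.2 x hx
  have hcent : ∀ x : G, (∀ a ∈ (P : Subgroup G), x * a = a * x) →
      x ∈ centralizer ((P : Subgroup G) : Set G) := by
    intro x hx
    rw [mem_centralizer_iff]
    intro a ha
    exact (hx a ha).symm
  by_cases hNC : normalizer ((P : Subgroup G) : Set G) ≤ centralizer ((P : Subgroup G) : Set G)
  · left
    exact le_antisymm hNC (centralizer_le_normalizer _)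
  right
  obtain ⟨t, htN, htC⟩ := SetLike.not_le_iff_exists.mp hNC
  obtain ⟨ht2, htinv⟩ := (hdichP t htN).resolve_left (fun hh => htC (hcent t hh))
  have htt : t * t = 1 := by rw [← pow_two, ← ht2]; exact pow_orderOf_eq_one t
  have hti : t⁻¹ = t := inv_eq_of_mul_eq_one_left htt
  constructor
  · rw [Subgroup.relIndex, Subgroup.index_eq_two_iff]
    refine ⟨⟨t, htN⟩, fun b => ?_⟩
    by_cases hbC : (b : G) ∈ centralizer ((P : Subgroup G) : Set G)
    · right
      refine ⟨by rw [mem_subgroupOf]; exact hbC, ?_⟩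
      rw [mem_subgroupOf]
      intro hbt
      apply htC
      have : t = (b : G)⁻¹ * ((b : G) * t) := by group
      rw [this]
      exact mul_mem (inv_mem hbC) hbt
    · left
      refine ⟨?_, by rw [mem_subgroupOf]; exact hbC⟩
      rw [mem_subgroupOf]
      obtain ⟨-, hbinv⟩ := (hdichP b b.2).resolve_left (fun hh => hbC (hcent b hh))
      show (b : G) * t ∈ centralizer ((P : Subgroup G) : Set G)
      rw [mem_centralizer_iff]
      intro a ha
      have h1 : t * a * t⁻¹ = a⁻¹ := htinv a ha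
      have h2 : (b : G) * a⁻¹ * (b : G)⁻¹ = a⁻¹⁻¹ := hbinv a⁻¹ (inv_mem ha)
      rw [inv_inv] at h2
      symm
      calc (b : G) * t * a = (b : G) * (t * a * t⁻¹) * (b : G)⁻¹ * ((b : G) * t) := by group
        _ = a * ((b : G) * t) := by rw [h1, h2]
  · intro Q hQP hQp
    have hQ : IsPGroup p Q := P.2.to_le hQP
    -- `t` normalizes but does not centralize `Q`
    have htQ : t ∈ normalizer (Q : Set G) := by
      apply mem_normalizer_of_conj_mem
      · intro q hq
        rw [htinv q (hQP hq)]; exact inv_mem hq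
      · intro q hq
        have := htinv q (hQP hq)
        rw [hti] at this ⊢
        rw [this]; exact inv_mem hq
    have hdichQ : ∀ x ∈ normalizer (Q : Set G), x ∉ centralizer (Q : Set G) → orderOf x = 2 := by
      intro x hx hxC
      rcases restricted_dich hp2 h Q hQ x hx with hh | ⟨h2, -⟩
      · exfalso
        apply hxC
        rw [mem_centralizer_iff]
        intro a ha
        exact (hh a ha).symm
      · exact h2
    have hinvQ : ∀ x ∈ normalizer (Q : Set G), x ∉ centralizer (Q : Set G) →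
        ∀ c ∈ centralizer (Q : Set G), x * c * x⁻¹ = c⁻¹ := by
      intro x hx hxC c hc
      have hx2 := hdichQ x hx hxC
      have hxx : x * x = 1 := by rw [← pow_two, ← hx2]; exact pow_orderOf_eq_one x
      have hxi : x⁻¹ = x := inv_eq_of_mul_eq_one_left hxx
      have hxcN : x * c ∈ normalizer (Q : Set G) := mul_mem hx (centralizer_le_normalizer _ hc)
      have hxcC : x * c ∉ centralizer (Q : Set G) := by
        intro hh
        apply hxC
        have : x = (x * c) * c⁻¹ := by group
        rw [this]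
        exact mul_mem hh (inv_mem hc)
      have h2 := hdichQ (x * c) hxcN hxcC
      have h3 : x * c * (x * c) = 1 := by rw [← pow_two, ← h2]; exact pow_orderOf_eq_one _
      rw [hxi]
      calc x * c * x = (x * c * (x * c)) * c⁻¹ := by group
        _ = c⁻¹ := by rw [h3, one_mul]
    have htQC : t ∉ centralizer (Q : Set G) := by
      intro hh
      -- a nontrivial element of `Q`
      have hQne : Q ≠ ⊥ := by
        intro hb
        rw [hb, Subgroup.card_bot] at hQp
        exact hp.one_lt.ne hQp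
      obtain ⟨q, hq, hq1⟩ := (Subgroup.ne_bot_iff_exists_ne_one (H := Q)).mp hQne |> fun ⟨a, ha⟩ =>
        (⟨a.1, a.2, fun e => ha (Subtype.ext e)⟩ : ∃ q : G, q ∈ Q ∧ q ≠ 1)
      have h1 : t * q * t⁻¹ = q⁻¹ := htinv q (hQP hq)
      have h2 : t * q * t⁻¹ = q := by
        have := mem_centralizer_iff.mp hh q hq
        rw [← this]; group
      have h3 : q * q = 1 := by
        calc q * q = q * (t * q * t⁻¹) := by rw [h2]
          _ = 1 := by rw [h1, mul_inv_cancel]
      have h4 : orderOf q ∣ 2 := orderOf_dvd_of_pow_eq_one (by rw [pow_two]; exact h3)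
      have h5 : orderOf q ∣ p := by
        rw [← hQp]
        have := orderOf_dvd_natCard (⟨q, hq⟩ : Q)
        rwa [Subgroup.orderOf_mk] at this
      have h6 : orderOf q = 1 :=
        Nat.eq_one_of_dvd_coprimes ((Nat.coprime_primes Nat.prime_two hp).mpr (Ne.symm hp2)) h4 h5
      exact hq1 (orderOf_eq_one_iff.mp h6)
    refine ⟨⟨⟨fun c d => ?_⟩⟩, fun x hx hxC => ⟨hdichQ x hx hxC, hinvQ x hx hxC⟩⟩
    have h1 := hinvQ t htQ htQC c c.2
    have h2 := hinvQ t htQ htQC d d.2
    have h3 := hinvQ t htQ htQC (c * d) (mul_mem c.2 d.2)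
    apply Subtype.ext
    show (c : G) * d = d * c
    have h4 : ((c : G) * d)⁻¹ = (c : G)⁻¹ * (d : G)⁻¹ := by
      rw [← h3, ← h1, ← h2]; group
    calc (c : G) * d = (((c : G) * d)⁻¹)⁻¹ := (inv_inv _).symm
      _ = ((c : G)⁻¹ * (d : G)⁻¹)⁻¹ := by rw [h4]
      _ = d * c := by group

end Cfsg.Agent.Helper1.PByCyc
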