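import Mathlib

set_option autoImplicit false

/-! Counting conjugacy classes of `p`-elements via orbits of the normalizer of a Sylow subgroup. -/

namespace Cfsg.Agent.Helper1.PElemCls

open scoped Classical in
/-- Orbit-counting bound: if every element outside a proper subgroup `W0` fixes at most `|X|/p`
points, then the number of orbits is at most `(p+1)/(2p) |X|`. -/
theorem orbit_bound {W X : Type*} [Group W] [Finite W] [Finite X] [MulAction W X]
    (W0 : Subgroup W) (hW0 : W0 ≠ ⊤) (p : ℕ) (hp : 1 ≤ p)
    (hfix : ∀ w : W, w ∉ W0 → p * Nat.card (MulAction.fixedBy X w) ≤ Nat.card X) :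
    2 * p * Nat.card (Quotient (MulAction.orbitRel W X)) ≤ (p + 1) * Nat.card X := by
  classical
  letI := Fintype.ofFinite W
  letI := Fintype.ofFinite X
  letI : Fintype (Quotient (MulAction.orbitRel W X)) := Fintype.ofFinite _
  have hB := MulAction.sum_card_fixedBy_eq_card_orbits_mul_card_group W X
  simp only [← Nat.card_eq_fintype_card] at hB
  set k := Nat.card (Quotient (MulAction.orbitRel W X)) with hk
  -- bound each term
  have h1 : ∀ w : W, p * Nat.card (MulAction.fixedBy X w) ≤
      if w ∈ W0 then p * Nat.card X else Nat.card X := by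
    intro w
    split_ifs with hw
    · exact Nat.mul_le_mul_left _ (Nat.card_le_card_of_injective _ Subtype.val_injective)
    · exact hfix w hw
  have h2 : p * (k * Nat.card W) ≤ ∑ w : W, (if w ∈ W0 then p * Nat.card X else Nat.card X) := by
    rw [← hB, Finset.mul_sum]
    exact Finset.sum_le_sum (fun w _ => h1 w)
  have h3 : ∑ w : W, (if w ∈ W0 then p * Nat.card X else Nat.card X) =
      Nat.card W0 * (p * Nat.card X) + (Nat.card W - Nat.card W0) * Nat.card X := by
    rw [Finset.sum_ite, Finset.sum_const, Finset.sum_const, smul_eq_mul, smul_eq_mul]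
    have e1 : (Finset.univ.filter (fun w : W => w ∈ W0)).card = Nat.card W0 := by
      rw [Nat.card_eq_fintype_card, Fintype.card_subtype]
    have e2 : (Finset.univ.filter (fun w : W => ¬ w ∈ W0)).card = Nat.card W - Nat.card W0 := by
      have := Finset.card_filter_add_card_filter_not (s := (Finset.univ : Finset W)) (fun w : W => w ∈ W0)
      rw [e1, Finset.card_univ, ← Nat.card_eq_fintype_card] at this
      omega
    rw [e1, e2]
  have h4 : 2 * Nat.card W0 ≤ Nat.card W := by
    have hidx : W0.index ≠ 1 := fun h => hW0 (Subgroup.index_eq_one.mp h)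
    have hidx0 : W0.index ≠ 0 := Subgroup.index_ne_zero_of_finite
    have : Nat.card W0 * W0.index = Nat.card W := Subgroup.card_mul_index W0
    have h2i : 2 ≤ W0.index := by omega
    calc 2 * Nat.card W0 = Nat.card W0 * 2 := by ring
      _ ≤ Nat.card W0 * W0.index := Nat.mul_le_mul_left _ h2i
      _ = Nat.card W := this
  have h5 : Nat.card W0 ≤ Nat.card W := by omega
  have hWpos : 0 < Nat.card W := Nat.card_pos
  rw [h3] at h2
  -- 2p k |W| ≤ (p+1) |X| |W|
  have h6 : 2 * p * k * Nat.card W ≤ (p + 1) * Nat.card X * Nat.card W := by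
    obtain ⟨d, hd⟩ : ∃ d, Nat.card W = 2 * Nat.card W0 + d := ⟨Nat.card W - 2 * Nat.card W0, by omega⟩
    have e : Nat.card W - Nat.card W0 = Nat.card W0 + d := by omega
    rw [e] at h2
    obtain ⟨q, rfl⟩ : ∃ q, p = q + 1 := ⟨p - 1, by omega⟩
    rw [hd] at h2 ⊢
    nlinarith [Nat.zero_le (q * d * Nat.card X)]
  exact Nat.le_of_mul_le_mul_right h6 hWpos

section Act

variable {G : Type*} [Group G]

/-- Conjugation action of the normalizer of a subgroup on that subgroup. -/
@[instance_reducible] def normAct (P : Subgroup G) : MulAction (Subgroup.normalizer (P : Set G)) P where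
  smul n x := ⟨(n : G) * x * (n : G)⁻¹, (Subgroup.mem_normalizer_iff.mp n.2 x).mp x.2⟩
  one_smul x := by
    apply Subtype.ext
    change ((1 : Subgroup.normalizer (P : Set G)) : G) * x * ((1 : Subgroup.normalizer (P : Set G)) : G)⁻¹ = x
    simp
  mul_smul a b x := by
    apply Subtype.ext
    change ((a * b : Subgroup.normalizer (P : Set G)) : G) * x * ((a * b : Subgroup.normalizer (P : Set G)) : G)⁻¹
      = (a : G) * ((b : G) * x * (b : G)⁻¹) * (a : G)⁻¹
    simp [mul_assoc]

theorem normAct_smul_coe (P : Subgroup G) (n : Subgroup.normalizer (P : Set G)) (x : P) :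
    letI := normAct P
    ((n • x : P) : G) = (n : G) * x * (n : G)⁻¹ := rfl

/-- every class of `p`-elements has a representative in a given Sylow subgroup -/
theorem exists_rep_in_sylow [Finite G] {p : ℕ} [Fact p.Prime] (P : Sylow p G)
    (c : ConjClasses G) (hc : ∀ x ∈ c.carrier, ∃ k : ℕ, orderOf x = p ^ k) :
    ∃ x : (P : Subgroup G), ConjClasses.mk (x : G) = c := by
  obtain ⟨g, hg⟩ := ConjClasses.exists_rep c
  have hgc : g ∈ c.carrier := by rw [← hg]; exact ConjClasses.mem_carrier_mk
  obtain ⟨k, hk⟩ := hc g hgc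
  have hpg : IsPGroup p (Subgroup.zpowers g) := by
    apply IsPGroup.of_card (n := k)
    rw [Nat.card_zpowers, hk]
  obtain ⟨Q, hQ⟩ := hpg.exists_le_sylow
  obtain ⟨h, hh⟩ := MulAction.exists_smul_eq G Q P
  have hgQ : g ∈ (Q : Subgroup G) := hQ (Subgroup.mem_zpowers g)
  have hmem : h * g * h⁻¹ ∈ (P : Subgroup G) := by
    rw [← hh, Sylow.smul_def, Sylow.pointwise_smul_def]
    have := Subgroup.smul_mem_pointwise_smul g (MulAut.conj h) (Q : Subgroup G) hgQ
    simpa using this
  refine ⟨⟨h * g * h⁻¹, hmem⟩, ?_⟩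
  rw [← hg]
  exact ConjClasses.mk_eq_mk_iff_isConj.mpr (isConj_iff.mpr ⟨h⁻¹, by simp [mul_assoc]⟩)

/-- the number of classes of `p`-elements is at most the number of orbits of the normalizer of
a Sylow `p`-subgroup on it. -/
theorem card_classes_le_orbits [Finite G] {p : ℕ} [Fact p.Prime] (P : Sylow p G) :
    letI := normAct (P : Subgroup G)
    Nat.card {c : ConjClasses G // ∀ x ∈ c.carrier, ∃ k : ℕ, orderOf x = p ^ k} ≤
      Nat.card (Quotient (MulAction.orbitRel (Subgroup.normalizer ((P : Subgroup G) : Set G))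
        (P : Subgroup G))) := by
  letI := normAct (P : Subgroup G)
  have hex := fun c : {c : ConjClasses G // ∀ x ∈ c.carrier, ∃ k : ℕ, orderOf x = p ^ k} =>
    exists_rep_in_sylow P c.1 c.2
  choose f hf using hex
  refine Nat.card_le_card_of_injective (fun c => Quotient.mk'' (f c)) ?_
  intro c d hcd
  have h1 : (MulAction.orbitRel (Subgroup.normalizer ((P : Subgroup G) : Set G))
        (P : Subgroup G)).r (f c) (f d) := Quotient.exact hcd
  rw [MulAction.orbitRel_apply] at h1
  obtain ⟨n, hn⟩ := h1
  apply Subtype.ext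
  rw [← hf c, ← hf d]
  apply ConjClasses.mk_eq_mk_iff_isConj.mpr
  have h2 : ((n • f d : (P : Subgroup G)) : G) = (f c : G) := congrArg Subtype.val hn
  rw [normAct_smul_coe] at h2
  exact (isConj_iff.mpr ⟨(n : G), h2⟩).symm

/-- the number of classes of `p`-elements is at most the class number of a Sylow subgroup. -/
theorem card_classes_le_classes [Finite G] {p : ℕ} [Fact p.Prime] (P : Sylow p G) :
    Nat.card {c : ConjClasses G // ∀ x ∈ c.carrier, ∃ k : ℕ, orderOf x = p ^ k} ≤
      Nat.card (ConjClasses (P : Subgroup G)) := by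
  have hex := fun c : {c : ConjClasses G // ∀ x ∈ c.carrier, ∃ k : ℕ, orderOf x = p ^ k} =>
    exists_rep_in_sylow P c.1 c.2
  choose f hf using hex
  refine Nat.card_le_card_of_injective (fun c => ConjClasses.mk (f c)) ?_
  intro c d hcd
  have h1 : IsConj (f c) (f d) := ConjClasses.mk_eq_mk_iff_isConj.mp hcd
  obtain ⟨n, hn⟩ := isConj_iff.mp h1
  apply Subtype.ext
  rw [← hf c, ← hf d]
  apply ConjClasses.mk_eq_mk_iff_isConj.mpr
  have h2 : (n : G) * (f c : G) * (n : G)⁻¹ = (f d : G) := by
    have := congrArg Subtype.val hn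
    simpa using this
  exact isConj_iff.mpr ⟨(n : G), h2⟩

end Act

section Main

variable {G : Type*} [Group G] [Finite G]

/-- an element of the normalizer not centralizing `P` fixes at most `|P|/p` elements -/
theorem fixedBy_bound {p : ℕ} [Fact p.Prime] (P : Sylow p G)
    (n : Subgroup.normalizer ((P : Subgroup G) : Set G))
    (hn : (n : G) ∉ Subgroup.centralizer ((P : Subgroup G) : Set G)) :
    letI := normAct (P : Subgroup G)
    p * Nat.card (MulAction.fixedBy (P : Subgroup G) n) ≤ Nat.card (P : Subgroup G) := by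
  letI := normAct (P : Subgroup G)
  set C : Subgroup (P : Subgroup G) :=
    (Subgroup.centralizer ({(n : G)} : Set G)).subgroupOf (P : Subgroup G) with hC
  have hset : (MulAction.fixedBy (P : Subgroup G) n) = (C : Set (P : Subgroup G)) := by
    ext x
    rw [MulAction.mem_fixedBy, SetLike.mem_coe, hC, Subgroup.mem_subgroupOf,
      Subgroup.mem_centralizer_iff]
    constructor
    · intro h y hy
      rw [Set.mem_singleton_iff] at hy
      subst hy
      have h2 : ((n • x : (P : Subgroup G)) : G) = (x : G) := congrArg Subtype.val h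
      rw [normAct_smul_coe] at h2
      calc (n : G) * x = (n : G) * x * (n : G)⁻¹ * n := by group
        _ = x * n := by rw [h2]
    · intro h
      have h1 := h (n : G) (Set.mem_singleton _)
      apply Subtype.ext
      rw [normAct_smul_coe, h1]
      group
  have hcard : Nat.card (MulAction.fixedBy (P : Subgroup G) n) = Nat.card C := by
    rw [hset]
    rfl
  rw [hcard]
  have hCtop : C ≠ ⊤ := by
    intro htop
    apply hn
    rw [Subgroup.mem_centralizer_iff]
    intro y hy
    have : (⟨y, hy⟩ : (P : Subgroup G)) ∈ C := by rw [htop]; exact Subgroup.mem_top _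
    rw [hC, Subgroup.mem_subgroupOf, Subgroup.mem_centralizer_iff] at this
    exact (this (n : G) (Set.mem_singleton _)).symm
  have hidx : C.index ≠ 1 := fun h => hCtop (Subgroup.index_eq_one.mp h)
  have hmul : Nat.card C * C.index = Nat.card (P : Subgroup G) := Subgroup.card_mul_index C
  obtain ⟨k, hk⟩ := IsPGroup.iff_card.mp P.isPGroup'
  have hdvd : C.index ∣ p ^ k := by
    rw [← hk, ← hmul]
    exact Dvd.intro_left _ rfl
  obtain ⟨j, -, hj⟩ := (Nat.dvd_prime_pow (Fact.out : p.Prime)).mp hdvd
  have hj0 : j ≠ 0 := by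
    rintro rfl
    exact hidx (by simpa using hj)
  have hple : p ≤ C.index := by
    rw [hj]
    calc p = p ^ 1 := (pow_one p).symm
      _ ≤ p ^ j := Nat.pow_le_pow_right (Fact.out : p.Prime).pos (Nat.one_le_iff_ne_zero.mpr hj0)
  calc p * Nat.card C = Nat.card C * p := by ring
    _ ≤ Nat.card C * C.index := Nat.mul_le_mul_left _ hple
    _ = Nat.card (P : Subgroup G) := hmul

/-- many classes of `p`-elements force `N_G(P) = C_G(P)` -/
theorem normalizer_le_centralizer_of_many {p : ℕ} [Fact p.Prime] (P : Sylow p G)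
    (h : (p + 1) * Nat.card (P : Subgroup G) <
      2 * p * Nat.card {c : ConjClasses G // ∀ x ∈ c.carrier, ∃ k : ℕ, orderOf x = p ^ k}) :
    Subgroup.normalizer ((P : Subgroup G) : Set G) ≤
      Subgroup.centralizer ((P : Subgroup G) : Set G) := by
  by_contra hnc
  letI := normAct (P : Subgroup G)
  have hW0 : (Subgroup.centralizer ((P : Subgroup G) : Set G)).subgroupOf
      (Subgroup.normalizer ((P : Subgroup G) : Set G)) ≠ ⊤ := by
    rw [Ne, Subgroup.subgroupOf_eq_top]
    exact hnc
  have hb := orbit_bound (X := (P : Subgroup G)) _ hW0 p (Fact.out : p.Prime).one_le (by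
    intro w hw
    rw [Subgroup.mem_subgroupOf] at hw
    exact fixedBy_bound P w hw)
  have hle := card_classes_le_orbits P
  have : 2 * p * Nat.card {c : ConjClasses G // ∀ x ∈ c.carrier, ∃ k : ℕ, orderOf x = p ^ k} ≤
      (p + 1) * Nat.card (P : Subgroup G) :=
    le_trans (Nat.mul_le_mul_left _ hle) hb
  omega

/-- a complement of one Sylow subgroup is a complement of every Sylow subgroup -/
theorem isComplement'_sylow {p : ℕ} [Fact p.Prime] (P P' : Sylow p G) (K : Subgroup G)
    (hK : K.IsComplement' (P' : Subgroup G)) : K.IsComplement' (P : Subgroup G) := by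
  have hcard : Nat.card (P : Subgroup G) = Nat.card (P' : Subgroup G) := by
    rw [Sylow.card_eq_multiplicity, Sylow.card_eq_multiplicity]
  apply Subgroup.isComplement'_of_coprime
  · rw [hcard]; exact hK.card_mul_card
  · rw [hcard]
    have h1 : Nat.card K = (P' : Subgroup G).index := hK.index_eq_card.symm
    rw [h1]
    obtain ⟨k, hk⟩ := IsPGroup.iff_card.mp P'.isPGroup'
    rw [hk]
    apply Nat.Coprime.pow_right
    rw [Nat.coprime_comm]
    exact (Nat.Prime.coprime_iff_not_dvd (Fact.out : p.Prime)).mpr P'.not_dvd_index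

/-- with a normal `p`-complement and abelian Sylow subgroup, distinct elements of `P` lie in
distinct classes -/
theorem card_le_classes_of_complement {p : ℕ} [Fact p.Prime] (P : Sylow p G) (K : Subgroup G)
    [K.Normal] (hK : K.IsComplement' (P : Subgroup G)) (hab : IsMulCommutative (P : Subgroup G)) :
    Nat.card (P : Subgroup G) ≤
      Nat.card {c : ConjClasses G // ∀ x ∈ c.carrier, ∃ k : ℕ, orderOf x = p ^ k} := by
  have hmem : ∀ x : (P : Subgroup G), ∀ y ∈ (ConjClasses.mk (x : G)).carrier,
      ∃ k : ℕ, orderOf y = p ^ k := by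
    intro x y hy
    rw [ConjClasses.mem_carrier_iff_mk_eq, ConjClasses.mk_eq_mk_iff_isConj, isConj_iff] at hy
    obtain ⟨g, hg⟩ := hy
    obtain ⟨k, hk⟩ := (IsPGroup.iff_orderOf.mp P.isPGroup') x
    refine ⟨k, ?_⟩
    have h1 : orderOf ((MulAut.conj g) y) = orderOf y := MulEquiv.orderOf_eq _ _
    rw [MulAut.conj_apply, hg, Subgroup.orderOf_coe, hk] at h1
    exact h1.symm
  refine Nat.card_le_card_of_injective (fun x => ⟨ConjClasses.mk (x : G), hmem x⟩) ?_
  intro x y hxy
  have h1 : ConjClasses.mk (x : G) = ConjClasses.mk (y : G) := congrArg Subtype.val hxy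
  rw [ConjClasses.mk_eq_mk_iff_isConj, isConj_iff] at h1
  obtain ⟨g, hg⟩ := h1
  obtain ⟨⟨k, u⟩, hku, -⟩ := hK.existsUnique g
  simp only at hku
  -- y = k x k⁻¹
  have hux : (u : G) * x * (u : G)⁻¹ = x := by
    have : u * x = x * u := by
      haveI := hab
      exact mul_comm' u x
    have h2 : (u : G) * x = x * u := by
      have := congrArg Subtype.val this
      simpa using this
    rw [h2]; group
  have hy : (y : G) = (k : G) * x * (k : G)⁻¹ := by
    rw [← hg, ← hku]
    calc (k : G) * u * x * ((k : G) * u)⁻¹ = (k : G) * ((u : G) * x * (u : G)⁻¹) * (k : G)⁻¹ := by group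
      _ = (k : G) * x * (k : G)⁻¹ := by rw [hux]
  have hK1 : (x : G)⁻¹ * y ∈ K := by
    rw [hy]
    have : (x : G)⁻¹ * ((k : G) * x * (k : G)⁻¹) = ((x : G)⁻¹ * k * ((x : G)⁻¹)⁻¹) * (k : G)⁻¹ := by group
    rw [this]
    exact K.mul_mem (‹K.Normal›.conj_mem _ k.2 _) (K.inv_mem k.2)
  have hP1 : (x : G)⁻¹ * y ∈ (P : Subgroup G) := (P : Subgroup G).mul_mem ((P : Subgroup G).inv_mem x.2) y.2
  have hdisj := hK.disjoint
  have h1 : (x : G)⁻¹ * y = 1 := by
    have := Subgroup.disjoint_def.mp hdisj hK1 hP1
    exact this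
  apply Subtype.ext
  exact (inv_mul_eq_one.mp h1)

end Main

end Cfsg.Agent.Helper1.PElemCls
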