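import Mathlib
import Cfsg.Agent.Helper1.PElemCls1

set_option autoImplicit false

/-! More on counting classes of `p`-elements: restriction to overgroups of a Sylow subgroup,
quotients, existence of isolated elements, and normal complements. -/

namespace Cfsg.Agent.Helper1.PElemCls

/-- abbreviation-free form of "class of `p`-elements" -/
theorem isPElt_class {G : Type*} [Group G] {p : ℕ} {x : G} (hx : ∃ k : ℕ, orderOf x = p ^ k) :
    ∀ y ∈ (ConjClasses.mk x).carrier, ∃ k : ℕ, orderOf y = p ^ k := by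
  intro y hy
  rw [ConjClasses.mem_carrier_iff_mk_eq, ConjClasses.mk_eq_mk_iff_isConj, isConj_iff] at hy
  obtain ⟨g, hg⟩ := hy
  obtain ⟨k, hk⟩ := hx
  refine ⟨k, ?_⟩
  have h1 : orderOf ((MulAut.conj g) y) = orderOf y := MulEquiv.orderOf_eq _ _
  rw [MulAut.conj_apply, hg, hk] at h1
  exact h1.symm

open scoped Classical in
/-- Generalized orbit-counting bound. -/
theorem orbit_bound' {W X : Type*} [Group W] [Finite W] [Finite X] [MulAction W X]
    (W0 : Subgroup W) (j : ℕ) (hj : j * Nat.card W0 ≤ Nat.card W) (p : ℕ) (hp : 1 ≤ p)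
    (hfix : ∀ w : W, w ∉ W0 → p * Nat.card (MulAction.fixedBy X w) ≤ Nat.card X) :
    p * j * Nat.card (Quotient (MulAction.orbitRel W X)) ≤ (j + p - 1) * Nat.card X := by
  classical
  letI := Fintype.ofFinite W
  letI := Fintype.ofFinite X
  letI : Fintype (Quotient (MulAction.orbitRel W X)) := Fintype.ofFinite _
  have hB := MulAction.sum_card_fixedBy_eq_card_orbits_mul_card_group W X
  simp only [← Nat.card_eq_fintype_card] at hB
  set k := Nat.card (Quotient (MulAction.orbitRel W X)) with hk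
  have h1 : ∀ w : W, p * Nat.card (MulAction.fixedBy X w) ≤
      if w ∈ W0 then p * Nat.card X else Nat.card X := by
    intro w
    split_ifs with hw
    · exact Nat.mul_le_mul_left _ (Nat.card_le_card_of_injective _ Subtype.val_injective)
    · exact hfix w hw
  have h2 : p * (k * Nat.card W) ≤ ∑ w : W, (if w ∈ W0 then p * Nat.card X else Nat.card X) := by
    rw [← hB, Finset.mul_sum]
    exact Finset.sum_le_sum (fun w _ => h1 w)
  have h3 : ∑ w : W, (if w ∈ W0 then p * Nat.card X else Nat.card X) =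
      Nat.card W0 * (p * Nat.card X) + (Nat.card W - Nat.card W0) * Nat.card X := by
    rw [Finset.sum_ite, Finset.sum_const, Finset.sum_const, smul_eq_mul, smul_eq_mul]
    have e1 : (Finset.univ.filter (fun w : W => w ∈ W0)).card = Nat.card W0 := by
      rw [Nat.card_eq_fintype_card, Fintype.card_subtype]
    have e2 : (Finset.univ.filter (fun w : W => ¬ w ∈ W0)).card = Nat.card W - Nat.card W0 := by
      have := Finset.card_filter_add_card_filter_not (s := (Finset.univ : Finset W)) (fun w : W => w ∈ W0)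
      rw [e1, Finset.card_univ, ← Nat.card_eq_fintype_card] at this
      omega
    rw [e1, e2]
  have h5 : Nat.card W0 ≤ Nat.card W := Subgroup.card_le_card_group W0
  have hWpos : 0 < Nat.card W := Nat.card_pos
  rw [h3] at h2
  have h6 : p * j * k * Nat.card W ≤ (j + p - 1) * Nat.card X * Nat.card W := by
    obtain ⟨d, hd⟩ : ∃ d, Nat.card W = Nat.card W0 + d := ⟨Nat.card W - Nat.card W0, by omega⟩
    have e : Nat.card W - Nat.card W0 = d := by omega
    rw [e] at h2
    obtain ⟨q, rfl⟩ : ∃ q, p = q + 1 := ⟨p - 1, by omega⟩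
    have e2 : j + (q + 1) - 1 = j + q := by omega
    rw [e2]
    rw [hd] at hj h2 ⊢
    -- h2 : (q+1) * (k * (w0 + d)) ≤ w0 * ((q+1) * x) + d * x
    -- hj : j * w0 ≤ w0 + d
    have h7 : (q + 1) * j * k * (Nat.card W0 + d) = j * ((q + 1) * (k * (Nat.card W0 + d))) := by ring
    rw [h7]
    calc j * ((q + 1) * (k * (Nat.card W0 + d)))
        ≤ j * (Nat.card W0 * ((q + 1) * Nat.card X) + d * Nat.card X) := Nat.mul_le_mul_left _ h2
      _ = (j * Nat.card W0) * (q * Nat.card X) + j * (Nat.card W0 + d) * Nat.card X := by ring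
      _ ≤ (Nat.card W0 + d) * (q * Nat.card X) + j * (Nat.card W0 + d) * Nat.card X :=
          Nat.add_le_add_right (Nat.mul_le_mul_right _ hj) _
      _ = (j + q) * Nat.card X * (Nat.card W0 + d) := by ring
  have h7 : p * j * k * Nat.card W = (p * j * k) * Nat.card W := rfl
  exact Nat.le_of_mul_le_mul_right h6 hWpos

section Count

variable {G : Type*} [Group G] [Finite G]

/-- classes of `p`-elements: passing to a subgroup containing a Sylow subgroup -/
theorem card_classes_le_of_sylow_le {p : ℕ} [Fact p.Prime] (P : Sylow p G) (H : Subgroup G)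
    (hPH : (P : Subgroup G) ≤ H) :
    Nat.card {c : ConjClasses G // ∀ x ∈ c.carrier, ∃ k : ℕ, orderOf x = p ^ k} ≤
      Nat.card {c : ConjClasses H // ∀ x ∈ c.carrier, ∃ k : ℕ, orderOf x = p ^ k} := by
  have hex := fun c : {c : ConjClasses G // ∀ x ∈ c.carrier, ∃ k : ℕ, orderOf x = p ^ k} =>
    exists_rep_in_sylow P c.1 c.2
  choose f hf using hex
  have hord : ∀ c, ∃ k : ℕ, orderOf (⟨(f c : G), hPH (f c).2⟩ : H) = p ^ k := by
    intro c
    obtain ⟨k, hk⟩ := (IsPGroup.iff_orderOf.mp P.isPGroup') (f c)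
    refine ⟨k, ?_⟩
    rw [← hk, ← Subgroup.orderOf_coe, ← Subgroup.orderOf_coe]
  refine Nat.card_le_card_of_injective
    (fun c => ⟨ConjClasses.mk (⟨(f c : G), hPH (f c).2⟩ : H), isPElt_class (hord c)⟩) ?_
  intro c d hcd
  have h1 : ConjClasses.mk (⟨(f c : G), hPH (f c).2⟩ : H) =
      ConjClasses.mk (⟨(f d : G), hPH (f d).2⟩ : H) := congrArg Subtype.val hcd
  rw [ConjClasses.mk_eq_mk_iff_isConj, isConj_iff] at h1
  obtain ⟨n, hn⟩ := h1
  apply Subtype.ext
  rw [← hf c, ← hf d]
  apply ConjClasses.mk_eq_mk_iff_isConj.mpr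
  have h2 : (n : G) * (f c : G) * (n : G)⁻¹ = (f d : G) := by
    have := congrArg Subtype.val hn
    simpa using this
  exact isConj_iff.mpr ⟨(n : G), h2⟩

/-- classes of `p`-elements and quotients -/
theorem card_classes_le_mul_quotient {p : ℕ} [Fact p.Prime] (Z : Subgroup G) [Z.Normal] :
    Nat.card {c : ConjClasses G // ∀ x ∈ c.carrier, ∃ k : ℕ, orderOf x = p ^ k} ≤
      Nat.card Z *
        Nat.card {c : ConjClasses (G ⧸ Z) // ∀ x ∈ c.carrier, ∃ k : ℕ, orderOf x = p ^ k} := by
  have hp : p.Prime := Fact.out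
  -- representatives
  have hex1 : ∀ c : {c : ConjClasses G // ∀ x ∈ c.carrier, ∃ k : ℕ, orderOf x = p ^ k},
      ∃ g : G, ConjClasses.mk g = c.1 := fun c => ConjClasses.exists_rep c.1
  choose g hg using hex1
  have hgord : ∀ c, ∃ k : ℕ, orderOf (QuotientGroup.mk' Z (g c)) = p ^ k := by
    intro c
    have hmem : g c ∈ c.1.carrier := by rw [← hg c]; exact ConjClasses.mem_carrier_mk
    obtain ⟨k, hk⟩ := c.2 _ hmem
    have hdvd : orderOf (QuotientGroup.mk' Z (g c)) ∣ p ^ k := by
      rw [← hk]; exact orderOf_map_dvd _ _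
    obtain ⟨j, -, hj⟩ := (Nat.dvd_prime_pow hp).mp hdvd
    exact ⟨j, hj⟩
  let e : {c : ConjClasses G // ∀ x ∈ c.carrier, ∃ k : ℕ, orderOf x = p ^ k} →
      {c : ConjClasses (G ⧸ Z) // ∀ x ∈ c.carrier, ∃ k : ℕ, orderOf x = p ^ k} :=
    fun c => ⟨ConjClasses.mk (QuotientGroup.mk' Z (g c)), isPElt_class (hgord c)⟩
  have hex2 : ∀ d : {c : ConjClasses (G ⧸ Z) // ∀ x ∈ c.carrier, ∃ k : ℕ, orderOf x = p ^ k},
      ∃ r : G, ConjClasses.mk (QuotientGroup.mk' Z r) = d.1 := by
    intro d
    obtain ⟨y, hy⟩ := ConjClasses.exists_rep d.1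
    obtain ⟨r, rfl⟩ := QuotientGroup.mk'_surjective Z y
    exact ⟨r, hy⟩
  choose r hr using hex2
  have hex3 : ∀ c, ∃ z : Z, c.1 = ConjClasses.mk (r (e c) * (z : G)) := by
    intro c
    have h1 : ConjClasses.mk (QuotientGroup.mk' Z (g c)) =
        ConjClasses.mk (QuotientGroup.mk' Z (r (e c))) := (hr (e c)).symm
    rw [ConjClasses.mk_eq_mk_iff_isConj, isConj_iff] at h1
    obtain ⟨t', ht'⟩ := h1
    obtain ⟨t, rfl⟩ := QuotientGroup.mk'_surjective Z t'
    have h2 : (r (e c))⁻¹ * (t * g c * t⁻¹) ∈ Z := by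
      rw [← QuotientGroup.eq_one_iff]
      have : ((((r (e c))⁻¹ * (t * g c * t⁻¹) : G)) : G ⧸ Z) =
          (QuotientGroup.mk' Z (r (e c)))⁻¹ *
            (QuotientGroup.mk' Z t * QuotientGroup.mk' Z (g c) * (QuotientGroup.mk' Z t)⁻¹) := by
        simp
      rw [this, ht']
      group
    refine ⟨⟨_, h2⟩, ?_⟩
    rw [← hg c]
    apply ConjClasses.mk_eq_mk_iff_isConj.mpr
    apply isConj_iff.mpr
    refine ⟨t, ?_⟩
    show t * g c * t⁻¹ = r (e c) * ((r (e c))⁻¹ * (t * g c * t⁻¹))
    group
  choose z hz using hex3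
  have hinj : Function.Injective (fun c => (z c, e c)) := by
    intro c d hcd
    simp only [Prod.mk.injEq] at hcd
    apply Subtype.ext
    rw [hz c, hz d, hcd.1, hcd.2]
  have := Nat.card_le_card_of_injective _ hinj
  rwa [Nat.card_prod] at this

/-- with a normal `p`-complement, classes of the Sylow subgroup do not fuse -/
theorem card_conjClasses_le_of_complement {p : ℕ} [Fact p.Prime] (P : Sylow p G)
    (K : Subgroup G) [K.Normal] (hK : K.IsComplement' (P : Subgroup G)) :
    Nat.card (ConjClasses (P : Subgroup G)) ≤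
      Nat.card {c : ConjClasses G // ∀ x ∈ c.carrier, ∃ k : ℕ, orderOf x = p ^ k} := by
  have hex : ∀ C : ConjClasses (P : Subgroup G), ∃ x : (P : Subgroup G), ConjClasses.mk x = C :=
    fun C => ConjClasses.exists_rep C
  choose f hf using hex
  have hord : ∀ C, ∃ k : ℕ, orderOf ((f C : (P : Subgroup G)) : G) = p ^ k := by
    intro C
    obtain ⟨k, hk⟩ := (IsPGroup.iff_orderOf.mp P.isPGroup') (f C)
    exact ⟨k, by rw [Subgroup.orderOf_coe, hk]⟩
  refine Nat.card_le_card_of_injective
    (fun C => ⟨ConjClasses.mk ((f C : (P : Subgroup G)) : G), isPElt_class (hord C)⟩) ?_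
  intro C D hCD
  have h1 : ConjClasses.mk ((f C : (P : Subgroup G)) : G) =
      ConjClasses.mk ((f D : (P : Subgroup G)) : G) := congrArg Subtype.val hCD
  rw [ConjClasses.mk_eq_mk_iff_isConj, isConj_iff] at h1
  obtain ⟨g, hg⟩ := h1
  obtain ⟨⟨k, u⟩, hku, -⟩ := hK.existsUnique g
  simp only at hku
  set x : (P : Subgroup G) := f C with hx
  set y : (P : Subgroup G) := f D with hy
  -- x' = u x u⁻¹
  set x' : (P : Subgroup G) := u * x * u⁻¹ with hx'
  have hyk : (y : G) = (k : G) * x' * (k : G)⁻¹ := by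
    rw [← hg, ← hku, hx']
    show (k : G) * (u : G) * (x : G) * ((k : G) * (u : G))⁻¹ =
      (k : G) * ((u : G) * (x : G) * (u : G)⁻¹) * (k : G)⁻¹
    group
  have hK1 : (x' : G)⁻¹ * y ∈ K := by
    rw [hyk]
    have : (x' : G)⁻¹ * ((k : G) * x' * (k : G)⁻¹) =
        ((x' : G)⁻¹ * k * ((x' : G)⁻¹)⁻¹) * (k : G)⁻¹ := by group
    rw [this]
    exact K.mul_mem (‹K.Normal›.conj_mem _ k.2 _) (K.inv_mem k.2)
  have hP1 : (x' : G)⁻¹ * y ∈ (P : Subgroup G) :=
    (P : Subgroup G).mul_mem ((P : Subgroup G).inv_mem x'.2) y.2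
  have h2 : (x' : G)⁻¹ * y = 1 := Subgroup.disjoint_def.mp hK.disjoint hK1 hP1
  have h3 : y = x' := by
    apply Subtype.ext
    exact (inv_mul_eq_one.mp h2).symm
  rw [← hf C, ← hf D]
  apply ConjClasses.mk_eq_mk_iff_isConj.mpr
  apply isConj_iff.mpr
  exact ⟨u, h3.symm⟩

end Count

section Isolated

variable {G : Type*} [Group G] [Finite G]

open scoped Classical in
/-- if there are many classes of `p`-elements, some nontrivial element of the Sylow subgroup
has no other conjugate in it -/
theorem exists_isolated_of_many {p : ℕ} [Fact p.Prime] (P : Sylow p G)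
    (h : Nat.card (P : Subgroup G) + 1 <
      2 * Nat.card {c : ConjClasses G // ∀ x ∈ c.carrier, ∃ k : ℕ, orderOf x = p ^ k}) :
    ∃ x : G, x ∈ (P : Subgroup G) ∧ x ≠ 1 ∧
      ∀ g : G, g * x * g⁻¹ ∈ (P : Subgroup G) → g * x * g⁻¹ = x := by
  classical
  by_contra hno
  push Not at hno
  have hex := fun c : {c : ConjClasses G // ∀ x ∈ c.carrier, ∃ k : ℕ, orderOf x = p ^ k} =>
    exists_rep_in_sylow P c.1 c.2
  choose f hf using hex
  have hex2 : ∀ c : {c : ConjClasses G // ∀ x ∈ c.carrier, ∃ k : ℕ, orderOf x = p ^ k},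
      ∃ y : (P : Subgroup G), (f c : G) ≠ 1 → (y ≠ f c ∧ ConjClasses.mk (y : G) = c.1) := by
    intro c
    by_cases h1 : (f c : G) = 1
    · exact ⟨1, fun h => absurd h1 h⟩
    · obtain ⟨g, hg1, hg2⟩ := hno (f c : G) (f c).2 h1
      refine ⟨⟨g * (f c : G) * g⁻¹, hg1⟩, fun _ => ⟨?_, ?_⟩⟩
      · intro heq
        exact hg2 (congrArg Subtype.val heq)
      · rw [← hf c]
        exact ConjClasses.mk_eq_mk_iff_isConj.mpr (isConj_iff.mpr ⟨g⁻¹, by simp [mul_assoc]⟩)
  choose f' hf' using hex2
  let c1 : {c : ConjClasses G // ∀ x ∈ c.carrier, ∃ k : ℕ, orderOf x = p ^ k} :=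
    ⟨ConjClasses.mk 1, isPElt_class ⟨0, by simp⟩⟩
  have hne1 : ∀ c, c ≠ c1 → (f c : G) ≠ 1 := by
    intro c hc h1
    apply hc
    apply Subtype.ext
    rw [← hf c, h1]
  let F : {c : ConjClasses G // ∀ x ∈ c.carrier, ∃ k : ℕ, orderOf x = p ^ k} ⊕
      {c : ConjClasses G // ∀ x ∈ c.carrier, ∃ k : ℕ, orderOf x = p ^ k} →
      Option (P : Subgroup G) := fun s =>
    match s with
    | Sum.inl c => some (f c)
    | Sum.inr c => if c = c1 then none else some (f' c)
  have hF : Function.Injective F := by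
    rintro (c | c) (d | d) hcd
    · have h1 : f c = f d := Option.some.inj hcd
      congr 1
      apply Subtype.ext
      rw [← hf c, ← hf d, h1]
    · exfalso
      by_cases hd : d = c1
      · simp only [F, hd, if_true] at hcd
        exact Option.some_ne_none _ hcd
      · simp only [F, hd, if_false] at hcd
        have h1 : f c = f' d := Option.some.inj hcd
        obtain ⟨h2, h3⟩ := hf' d (hne1 d hd)
        have h4 : c = d := by
          apply Subtype.ext
          rw [← hf c, h1, h3]
        rw [h4] at h1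
        exact h2 h1.symm
    · exfalso
      by_cases hc : c = c1
      · simp only [F, hc, if_true] at hcd
        exact Option.some_ne_none _ hcd.symm
      · simp only [F, hc, if_false] at hcd
        have h1 : f' c = f d := Option.some.inj hcd
        obtain ⟨h2, h3⟩ := hf' c (hne1 c hc)
        have h4 : c = d := by
          apply Subtype.ext
          rw [← hf d, ← h1, h3]
        rw [← h4] at h1
        exact h2 h1
    · by_cases hc : c = c1
      · by_cases hd : d = c1
        · rw [hc, hd]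
        · exfalso
          simp only [F, hc, hd, if_true, if_false] at hcd
          exact Option.some_ne_none _ hcd.symm
      · by_cases hd : d = c1
        · exfalso
          simp only [F, hc, hd, if_true, if_false] at hcd
          exact Option.some_ne_none _ hcd
        · simp only [F, hc, hd, if_false] at hcd
          have h1 : f' c = f' d := Option.some.inj hcd
          obtain ⟨-, h3⟩ := hf' c (hne1 c hc)
          obtain ⟨-, h3'⟩ := hf' d (hne1 d hd)
          congr 1
          apply Subtype.ext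
          rw [← h3, ← h3', h1]
  have hle := Nat.card_le_card_of_injective F hF
  rw [Nat.card_sum, Finite.card_option] at hle
  omega

end Isolated

end Cfsg.Agent.Helper1.PElemCls
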