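import Mathlib
import Cfsg.Agent.Helper1.PElemCls2
import Cfsg.Agent.Helper18.ZStar6
import Cfsg.Agent.Helper15.KChar1
import Cfsg.Agent.Lead.TNC5
import Cfsg.Agent.Helper21.NPCSections
import Cfsg.Agent.Helper23.PSeries

set_option autoImplicit false

/-! Many classes of `2`-elements force a normal `2`-complement (via Glauberman's `Z*`-theorem
for isolated `2`-elements). -/

namespace Cfsg.Agent.Helper1.PElemCls

universe u

theorem npc_of_many_two_aux : ∀ (n : ℕ) (G : Type u) [Group G] [Finite G], Nat.card G = n →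
    ∀ P : Sylow 2 G, Nat.card (P : Subgroup G) <
      2 * Nat.card {c : ConjClasses G // ∀ x ∈ c.carrier, ∃ k : ℕ, orderOf x = 2 ^ k} →
    Cfsg.HasNormalPComplement 2 G := by
  have : Fact (Nat.Prime 2) := ⟨Nat.prime_two⟩
  intro n
  induction n using Nat.strong_induction_on with
  | _ n IH =>
  intro G _ _ hn P hk
  by_cases hP1 : (P : Subgroup G) = ⊥
  · exact Cfsg.Agent.Lead.TNC.npc_of_sylow_eq_bot P hP1
  obtain ⟨m, hm⟩ := IsPGroup.iff_card.mp P.isPGroup'
  have hm0 : m ≠ 0 := by
    rintro rfl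
    apply hP1
    rw [pow_zero] at hm
    exact Subgroup.card_eq_one.mp hm
  have heven : ∃ t, Nat.card (P : Subgroup G) = 2 * t := by
    obtain ⟨m', rfl⟩ : ∃ m', m = m' + 1 := ⟨m - 1, by omega⟩
    exact ⟨2 ^ m', by rw [hm, pow_succ]; ring⟩
  have hk' : Nat.card (P : Subgroup G) + 1 <
      2 * Nat.card {c : ConjClasses G // ∀ x ∈ c.carrier, ∃ k : ℕ, orderOf x = 2 ^ k} := by
    obtain ⟨t, ht⟩ := heven
    omega
  obtain ⟨x, hxP, hx1, hxiso⟩ := exists_isolated_of_many P hk'
  have hxord : ∃ k : ℕ, orderOf x = 2 ^ k := by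
    obtain ⟨k, hk⟩ := (IsPGroup.iff_orderOf.mp P.isPGroup') ⟨x, hxP⟩
    refine ⟨k, ?_⟩
    rw [← hk, ← Subgroup.orderOf_coe]
  have hiso : Cfsg.IsIsolated x := Cfsg.Agent.Helper18.ZS.isolated_of_sylow' P hxord hxiso
  have hZ : Cfsg.InZStar 2 x := Cfsg.Agent.Helper18.ZS.zstar_gen x hxord hiso
  set Z := Subgroup.zpowers x with hZdef
  have hZcard : Nat.card Z = orderOf x := Nat.card_zpowers x
  have hZ2 : 2 ≤ Nat.card Z := by
    rw [hZcard]
    have h0 : 0 < orderOf x := orderOf_pos x
    have h1 : orderOf x ≠ 1 := fun h => hx1 (orderOf_eq_one_iff.mp h)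
    omega
  by_cases hxc : x ∈ Subgroup.center G
  · -- central case: pass to the quotient by ⟨x⟩
    have hZc : Z ≤ Subgroup.center G := by
      rw [hZdef, Subgroup.zpowers_le]; exact hxc
    haveI hZn : Z.Normal := by
      constructor
      intro z hz g
      have := Subgroup.mem_center_iff.mp (hZc hz) g
      have h2 : g * z * g⁻¹ = z := by rw [this]; group
      rw [h2]; exact hz
    have hcardG : Nat.card G = Nat.card (G ⧸ Z) * Nat.card Z :=
      Subgroup.card_eq_card_quotient_mul_card_subgroup Z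
    have hqpos : 0 < Nat.card (G ⧸ Z) := Nat.card_pos
    have hlt : Nat.card (G ⧸ Z) < n := by
      rw [← hn, hcardG]
      nlinarith
    let Pb : Sylow 2 (G ⧸ Z) := P.mapSurjective (QuotientGroup.mk'_surjective Z)
    have hPb : Nat.card (Pb : Subgroup (G ⧸ Z)) * Nat.card Z = Nat.card (P : Subgroup G) := by
      obtain ⟨j, hj⟩ := hxord
      rw [Sylow.card_eq_multiplicity, Sylow.card_eq_multiplicity, hcardG, hZcard, hj,
        Nat.factorization_mul hqpos.ne' (pow_pos (by norm_num) j).ne', Finsupp.add_apply,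
        Nat.Prime.factorization_pow Nat.prime_two, Finsupp.single_eq_same, pow_add]
    have hq := card_classes_le_mul_quotient (p := 2) Z
    have hkb : Nat.card (Pb : Subgroup (G ⧸ Z)) <
        2 * Nat.card {c : ConjClasses (G ⧸ Z) // ∀ x ∈ c.carrier, ∃ k : ℕ, orderOf x = 2 ^ k} := by
      have hZpos : 0 < Nat.card Z := Nat.card_pos
      apply Nat.lt_of_mul_lt_mul_right (a := Nat.card Z)
      rw [hPb]
      calc Nat.card (P : Subgroup G) < 2 * Nat.card {c : ConjClasses G // ∀ x ∈ c.carrier, ∃ k : ℕ, orderOf x = 2 ^ k} := hk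
        _ ≤ 2 * (Nat.card Z * Nat.card {c : ConjClasses (G ⧸ Z) // ∀ x ∈ c.carrier, ∃ k : ℕ, orderOf x = 2 ^ k}) :=
            Nat.mul_le_mul_left _ hq
        _ = _ := by ring
    have hnpc := IH _ hlt (G ⧸ Z) rfl Pb hkb
    exact Cfsg.Agent.Helper15.npc_of_quotient_central Z hZc hnpc
  · -- non-central case: pass to the centralizer
    set C := Subgroup.centralizer (Z : Set G) with hCdef
    have hCtop : C ≠ ⊤ := by
      intro htop
      apply hxc
      rw [Subgroup.mem_center_iff]
      intro g
      have hg : g ∈ C := by rw [htop]; exact Subgroup.mem_top g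
      rw [hCdef, Subgroup.mem_centralizer_iff] at hg
      exact (hg x (Subgroup.mem_zpowers x)).symm
    have hPC : (P : Subgroup G) ≤ C := by
      intro u hu
      rw [hCdef, Subgroup.mem_centralizer_iff]
      intro z hz
      obtain ⟨i, rfl⟩ := Subgroup.mem_zpowers_iff.mp hz
      have h1 : u * x * u⁻¹ = x :=
        hxiso u ((P : Subgroup G).mul_mem ((P : Subgroup G).mul_mem hu hxP) ((P : Subgroup G).inv_mem hu))
      have hc : Commute x u := by
        show x * u = u * x
        calc x * u = u * x * u⁻¹ * u := by rw [h1]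
          _ = u * x := by group
      exact (hc.zpow_left i).eq
    have hlt : Nat.card C < n := by
      rw [← hn]
      by_contra hge
      push Not at hge
      have := le_antisymm (Subgroup.card_le_card_group C) hge
      exact hCtop (Subgroup.eq_top_of_card_eq C this)
    let PC : Sylow 2 C := P.subtype hPC
    have hPCcard : Nat.card (PC : Subgroup C) = Nat.card (P : Subgroup G) := by
      show Nat.card ((P : Subgroup G).subgroupOf C) = _
      exact Nat.card_congr (Subgroup.subgroupOfEquivOfLe hPC).toEquiv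
    have hkC : Nat.card (PC : Subgroup C) <
        2 * Nat.card {c : ConjClasses C // ∀ x ∈ c.carrier, ∃ k : ℕ, orderOf x = 2 ^ k} := by
      rw [hPCcard]
      exact lt_of_lt_of_le hk (Nat.mul_le_mul_left _ (card_classes_le_of_sylow_le P C hPC))
    have hnpcC := IH _ hlt C rfl PC hkC
    -- G = O(G) C
    set N := Cfsg.pPrimeCore 2 G with hNdef
    have hcop : (Nat.card N).Coprime 2 := Cfsg.Agent.Helper23.pPrimeCore_card_coprime 2 G
    have hZp : IsPGroup 2 Z := by
      obtain ⟨j, hj⟩ := hxord
      apply IsPGroup.of_card (n := j)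
      rw [hZcard, hj]
    have hmap := Cfsg.Agent.Lead.TNC.centralizer_map_mk_eq (p := 2) (K := N) hcop (Z := Z) hZp
    have htop : Subgroup.centralizer ((Z.map (QuotientGroup.mk' N) : Subgroup (G ⧸ N)) : Set (G ⧸ N)) = ⊤ := by
      rw [eq_top_iff]
      intro y _
      obtain ⟨g, rfl⟩ := QuotientGroup.mk'_surjective N y
      rw [Subgroup.mem_centralizer_iff]
      rintro _ ⟨z, hz, rfl⟩
      obtain ⟨i, rfl⟩ := Subgroup.mem_zpowers_iff.mp hz
      have h1 : g * x * g⁻¹ * x⁻¹ ∈ N := hZ g
      have h2 : QuotientGroup.mk' N g * QuotientGroup.mk' N x = QuotientGroup.mk' N x * QuotientGroup.mk' N g := by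
        have h3 : QuotientGroup.mk' N (g * x * g⁻¹ * x⁻¹) = 1 := by
          rw [QuotientGroup.mk'_apply, QuotientGroup.eq_one_iff]; exact h1
        rw [map_mul, map_mul, map_mul, map_inv, map_inv] at h3
        calc QuotientGroup.mk' N g * QuotientGroup.mk' N x
            = (QuotientGroup.mk' N g * QuotientGroup.mk' N x * (QuotientGroup.mk' N g)⁻¹ *
                (QuotientGroup.mk' N x)⁻¹) * (QuotientGroup.mk' N x * QuotientGroup.mk' N g) := by group
          _ = QuotientGroup.mk' N x * QuotientGroup.mk' N g := by rw [h3, one_mul]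
      have hc : Commute (QuotientGroup.mk' N x) (QuotientGroup.mk' N g) := h2.symm
      rw [map_zpow]
      exact (hc.zpow_left i).eq
    let f : C →* G ⧸ N := (QuotientGroup.mk' N).comp C.subtype
    have hsurj : Function.Surjective f := by
      intro y
      have hy : y ∈ (Subgroup.centralizer (Z : Set G)).map (QuotientGroup.mk' N) := by
        rw [← hmap, htop]; exact Subgroup.mem_top y
      obtain ⟨c, hc, rfl⟩ := hy
      exact ⟨⟨c, hc⟩, rfl⟩
    have hnpcq := Cfsg.Agent.Helper21.NPCSections.npc_of_surjective f hsurj hnpcC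
    exact Cfsg.Agent.Lead.TNC.npc_of_quotient N hcop hnpcq

/-- more than `|P|/2` classes of `2`-elements force a normal `2`-complement -/
theorem npc_of_many_two {G : Type u} [Group G] [Finite G] (P : Sylow 2 G)
    (h : Nat.card (P : Subgroup G) <
      2 * Nat.card {c : ConjClasses G // ∀ x ∈ c.carrier, ∃ k : ℕ, orderOf x = 2 ^ k}) :
    Cfsg.HasNormalPComplement 2 G :=
  npc_of_many_two_aux _ G rfl P h

end Cfsg.Agent.Helper1.PElemCls
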