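import Mathlib
import Cfsg.Agent.Helper1.PElemCls2
import Cfsg.Agent.Helper18.FocalFusion

set_option autoImplicit false

/-! Classes of `π`-elements: the fibration over classes of `r`-elements. -/

namespace Cfsg.Agent.Helper1.PElemCls

section Pi

variable {G : Type*} [Group G]

theorem isPiElt_class {π : Set ℕ} {x : G} (hx : ∀ q : ℕ, q.Prime → q ∣ orderOf x → q ∈ π) :
    ∀ y ∈ (ConjClasses.mk x).carrier, ∀ q : ℕ, q.Prime → q ∣ orderOf y → q ∈ π := by
  intro y hy
  rw [ConjClasses.mem_carrier_iff_mk_eq, ConjClasses.mk_eq_mk_iff_isConj, isConj_iff] at hy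
  obtain ⟨g, hg⟩ := hy
  have h1 : orderOf ((MulAut.conj g) y) = orderOf y := MulEquiv.orderOf_eq _ _
  rw [MulAut.conj_apply, hg] at h1
  rw [← h1]
  exact hx

theorem orderOf_conj_eq (g x : G) : orderOf (g * x * g⁻¹) = orderOf x := by
  have h1 : orderOf ((MulAut.conj g) x) = orderOf x := MulEquiv.orderOf_eq _ _
  rwa [MulAut.conj_apply] at h1

/-- Fibration bound: the number of classes of `π`-elements is at most the number of classes of
`r`-elements times a bound for the number of classes of `σ`-elements in centralizers of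
`r`-elements. -/
theorem card_piCls_le_mul [Finite G] (π σ : Set ℕ) (r : ℕ) [Fact r.Prime]
    (hπ : ∀ q ∈ π, q = r ∨ q ∈ σ) (m : ℕ)
    (hm : ∀ x : G, (∃ k : ℕ, orderOf x = r ^ k) →
      Nat.card {c : ConjClasses (Subgroup.centralizer ((Subgroup.zpowers x : Subgroup G) : Set G)) //
        ∀ y ∈ c.carrier, ∀ q : ℕ, q.Prime → q ∣ orderOf y → q ∈ σ} ≤ m) :
    Nat.card {c : ConjClasses G // ∀ x ∈ c.carrier, ∀ q : ℕ, q.Prime → q ∣ orderOf x → q ∈ π} ≤
      Nat.card {c : ConjClasses G // ∀ x ∈ c.carrier, ∃ k : ℕ, orderOf x = r ^ k} * m := by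
  classical
  have hr : r.Prime := Fact.out
  -- representatives of r-classes
  have hexρ : ∀ d : {c : ConjClasses G // ∀ x ∈ c.carrier, ∃ k : ℕ, orderOf x = r ^ k},
      ∃ g : G, ConjClasses.mk g = d.1 := fun d => ConjClasses.exists_rep d.1
  choose ρ hρ using hexρ
  have hρord : ∀ d, ∃ k : ℕ, orderOf (ρ d) = r ^ k := by
    intro d
    have hmem : ρ d ∈ d.1.carrier := by rw [← hρ d]; exact ConjClasses.mem_carrier_mk
    exact d.2 _ hmem
  -- decomposition of a π-class
  have hex : ∀ c : {c : ConjClasses G // ∀ x ∈ c.carrier, ∀ q : ℕ, q.Prime → q ∣ orderOf x → q ∈ π},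
      ∃ (d : {c : ConjClasses G // ∀ x ∈ c.carrier, ∃ k : ℕ, orderOf x = r ^ k})
        (b : Subgroup.centralizer ((Subgroup.zpowers (ρ d) : Subgroup G) : Set G)),
        (∀ q : ℕ, q.Prime → q ∣ orderOf b → q ∈ σ) ∧ c.1 = ConjClasses.mk (ρ d * (b : G)) := by
    intro c
    obtain ⟨g, hg⟩ := ConjClasses.exists_rep c.1
    have hgmem : g ∈ c.1.carrier := by rw [← hg]; exact ConjClasses.mem_carrier_mk
    obtain ⟨a, b, hgab, ha, hb, ⟨k, hak⟩, hbcop⟩ := Cfsg.Agent.Helper18.exists_pPart_decomp r g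
    have hab : a * b = b * a := by
      obtain ⟨i, rfl⟩ := Subgroup.mem_zpowers_iff.mp ha
      obtain ⟨j, rfl⟩ := Subgroup.mem_zpowers_iff.mp hb
      rw [← zpow_add, ← zpow_add, add_comm]
    let d : {c : ConjClasses G // ∀ x ∈ c.carrier, ∃ k : ℕ, orderOf x = r ^ k} :=
      ⟨ConjClasses.mk a, isPElt_class ⟨k, hak⟩⟩
    have h1 : ConjClasses.mk a = ConjClasses.mk (ρ d) := (hρ d).symm
    rw [ConjClasses.mk_eq_mk_iff_isConj, isConj_iff] at h1
    obtain ⟨t, ht⟩ := h1
    have hcomm : (t * a * t⁻¹) * (t * b * t⁻¹) = (t * b * t⁻¹) * (t * a * t⁻¹) := by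
      calc (t * a * t⁻¹) * (t * b * t⁻¹) = t * (a * b) * t⁻¹ := by group
        _ = t * (b * a) * t⁻¹ := by rw [hab]
        _ = (t * b * t⁻¹) * (t * a * t⁻¹) := by group
    have hbmem : t * b * t⁻¹ ∈ Subgroup.centralizer ((Subgroup.zpowers (ρ d) : Subgroup G) : Set G) := by
      rw [Subgroup.mem_centralizer_iff]
      intro z hz
      obtain ⟨i, rfl⟩ := Subgroup.mem_zpowers_iff.mp hz
      have hc : Commute (ρ d) (t * b * t⁻¹) := by
        rw [← ht]; exact hcomm
      exact (hc.zpow_left i).eq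
    refine ⟨d, ⟨t * b * t⁻¹, hbmem⟩, ?_, ?_⟩
    · intro q hq hqd
      rw [← Subgroup.orderOf_coe] at hqd
      simp only at hqd
      rw [orderOf_conj_eq] at hqd
      have hqg : q ∣ orderOf g := hqd.trans (orderOf_dvd_of_mem_zpowers hb)
      rcases hπ q (c.2 g hgmem q hq hqg) with h | h
      · exfalso
        subst h
        have : q ∣ Nat.gcd (orderOf b) q := Nat.dvd_gcd hqd dvd_rfl
        rw [hbcop] at this
        exact hq.one_lt.ne' (Nat.dvd_one.mp this)
      · exact h
    · rw [← hg]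
      apply ConjClasses.mk_eq_mk_iff_isConj.mpr
      apply isConj_iff.mpr
      refine ⟨t, ?_⟩
      show t * g * t⁻¹ = ρ d * (t * b * t⁻¹)
      rw [← ht, hgab]; group
  choose d b hbσ hcb using hex
  -- the sigma type
  let E : {c : ConjClasses G // ∀ x ∈ c.carrier, ∃ k : ℕ, orderOf x = r ^ k} → Type _ := fun d =>
    {c : ConjClasses (Subgroup.centralizer ((Subgroup.zpowers (ρ d) : Subgroup G) : Set G)) //
        ∀ y ∈ c.carrier, ∀ q : ℕ, q.Prime → q ∣ orderOf y → q ∈ σ}
  let F : {c : ConjClasses G // ∀ x ∈ c.carrier, ∀ q : ℕ, q.Prime → q ∣ orderOf x → q ∈ π} →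
      (Σ d, E d) := fun c => ⟨d c, ⟨ConjClasses.mk (b c), isPiElt_class (hbσ c)⟩⟩
  have hout : ∀ s : (Σ d, E d), ∃ y : Subgroup.centralizer ((Subgroup.zpowers (ρ s.1) : Subgroup G) : Set G),
      ConjClasses.mk y = s.2.1 := fun s => ConjClasses.exists_rep s.2.1
  choose out hout' using hout
  let Φ : (Σ d, E d) → ConjClasses G := fun s => ConjClasses.mk (ρ s.1 * (out s : G))
  have hΦ : ∀ c, Φ (F c) = c.1 := by
    intro c
    have h1 : ConjClasses.mk (out (F c)) = ConjClasses.mk (b c) := hout' (F c)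
    rw [ConjClasses.mk_eq_mk_iff_isConj, isConj_iff] at h1
    obtain ⟨u, hu⟩ := h1
    have hu' : (u : G) * (out (F c) : G) * (u : G)⁻¹ = (b c : G) := by
      have := congrArg Subtype.val hu
      simpa using this
    have huc : (u : G) * ρ (d c) = ρ (d c) * (u : G) := by
      have := (Subgroup.mem_centralizer_iff.mp u.2) (ρ (d c)) (Subgroup.mem_zpowers _)
      exact this.symm
    rw [hcb c]
    show ConjClasses.mk (ρ (d c) * (out (F c) : G)) = ConjClasses.mk (ρ (d c) * (b c : G))
    apply ConjClasses.mk_eq_mk_iff_isConj.mpr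
    apply isConj_iff.mpr
    refine ⟨(u : G), ?_⟩
    rw [← hu']
    calc (u : G) * (ρ (d c) * (out (F c) : G)) * (u : G)⁻¹
        = ((u : G) * ρ (d c)) * (out (F c) : G) * (u : G)⁻¹ := by group
      _ = (ρ (d c) * (u : G)) * (out (F c) : G) * (u : G)⁻¹ := by rw [huc]
      _ = ρ (d c) * ((u : G) * (out (F c) : G) * (u : G)⁻¹) := by group
  have hFinj : Function.Injective F := by
    intro c c' h
    apply Subtype.ext
    rw [← hΦ c, ← hΦ c', h]
  letI : Fintype {c : ConjClasses G // ∀ x ∈ c.carrier, ∃ k : ℕ, orderOf x = r ^ k} :=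
    Fintype.ofFinite _
  have hle := Nat.card_le_card_of_injective F hFinj
  rw [Nat.card_sigma] at hle
  refine hle.trans ?_
  calc ∑ d, Nat.card (E d) ≤ ∑ _d : {c : ConjClasses G // ∀ x ∈ c.carrier, ∃ k : ℕ, orderOf x = r ^ k}, m :=
        Finset.sum_le_sum (fun d _ => hm (ρ d) (hρord d))
    _ = Nat.card {c : ConjClasses G // ∀ x ∈ c.carrier, ∃ k : ℕ, orderOf x = r ^ k} * m := by
        rw [Finset.sum_const, Finset.card_univ, smul_eq_mul, Nat.card_eq_fintype_card]

end Pi

section Bounds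

universe u

/-- `k_r(G) ≤ |G|_r` -/
theorem card_pCls_le_pow {G : Type*} [Group G] [Finite G] (r : ℕ) [Fact r.Prime] :
    Nat.card {c : ConjClasses G // ∀ x ∈ c.carrier, ∃ k : ℕ, orderOf x = r ^ k} ≤
      r ^ (Nat.card G).factorization r := by
  obtain ⟨P⟩ : Nonempty (Sylow r G) := inferInstance
  refine (card_classes_le_classes P).trans ?_
  rw [← Sylow.card_eq_multiplicity P]
  exact Nat.card_le_card_of_surjective ConjClasses.mk ConjClasses.mk_surjective

theorem prod_factorization_subgroup_le {G : Type*} [Group G] [Finite G] (σ : Finset ℕ)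
    (H : Subgroup G) :
    σ.prod (fun s => s ^ (Nat.card H).factorization s) ≤
      σ.prod (fun s => s ^ (Nat.card G).factorization s) := by
  apply Finset.prod_le_prod (fun _ _ => Nat.zero_le _)
  intro s _
  by_cases hs : s = 0
  · subst hs
    simp
  · apply Nat.pow_le_pow_right (Nat.pos_of_ne_zero hs)
    exact (Nat.factorization_le_iff_dvd Nat.card_pos.ne' Nat.card_pos.ne').mpr
      (Subgroup.card_subgroup_dvd_card H) s

/-- `k_π(G) ≤ |G|_π` -/
theorem card_piCls_le_prod : ∀ (π : Finset ℕ), (∀ r ∈ π, r.Prime) →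
    ∀ (G : Type u) [Group G] [Finite G],
    Nat.card {c : ConjClasses G // ∀ x ∈ c.carrier, ∀ q : ℕ, q.Prime → q ∣ orderOf x →
      q ∈ (↑π : Set ℕ)} ≤ π.prod (fun r => r ^ (Nat.card G).factorization r) := by
  intro π
  induction π using Finset.induction_on with
  | empty =>
    intro _ G _ _
    rw [Finset.prod_empty, Finite.card_le_one_iff_subsingleton]
    constructor
    intro c c'
    have key : ∀ c : {c : ConjClasses G // ∀ x ∈ c.carrier, ∀ q : ℕ, q.Prime → q ∣ orderOf x →
        q ∈ ((∅ : Finset ℕ) : Set ℕ)}, c.1 = ConjClasses.mk 1 := by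
      intro c
      obtain ⟨g, hg⟩ := ConjClasses.exists_rep c.1
      have hgmem : g ∈ c.1.carrier := by rw [← hg]; exact ConjClasses.mem_carrier_mk
      have h1 : orderOf g = 1 := by
        rw [Nat.eq_one_iff_not_exists_prime_dvd]
        intro q hq hqd
        have := c.2 g hgmem q hq hqd
        simp at this
      rw [← hg, orderOf_eq_one_iff.mp h1]
    apply Subtype.ext
    rw [key c, key c']
  | insert r σ hr ih =>
    intro hprime G _ _
    haveI : Fact r.Prime := ⟨hprime r (Finset.mem_insert_self r σ)⟩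
    have hσ : ∀ s ∈ σ, s.Prime := fun s hs => hprime s (Finset.mem_insert_of_mem hs)
    have h1 := card_piCls_le_mul (G := G) (↑(insert r σ) : Set ℕ) (↑σ : Set ℕ) r
      (by
        intro q hq
        rw [Finset.mem_coe, Finset.mem_insert] at hq
        exact hq)
      (σ.prod (fun s => s ^ (Nat.card G).factorization s))
      (by
        intro x _
        exact (ih hσ _).trans (prod_factorization_subgroup_le σ _))
    refine h1.trans ?_
    rw [Finset.prod_insert hr]
    exact Nat.mul_le_mul_right _ (card_pCls_le_pow r)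

/-- `k_π(G) ≤ k_r(G) |G|_{π - r}` -/
theorem card_piCls_le_pCls_mul (π : Finset ℕ) (hπ : ∀ r ∈ π, r.Prime) (G : Type u) [Group G]
    [Finite G] (r : ℕ) [Fact r.Prime] :
    Nat.card {c : ConjClasses G // ∀ x ∈ c.carrier, ∀ q : ℕ, q.Prime → q ∣ orderOf x →
      q ∈ (↑π : Set ℕ)} ≤
    Nat.card {c : ConjClasses G // ∀ x ∈ c.carrier, ∃ k : ℕ, orderOf x = r ^ k} *
      (π.erase r).prod (fun s => s ^ (Nat.card G).factorization s) := by
  apply card_piCls_le_mul (G := G) (↑π : Set ℕ) (↑(π.erase r) : Set ℕ) r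
  · intro q hq
    by_cases hqr : q = r
    · exact Or.inl hqr
    · right
      rw [Finset.mem_coe, Finset.mem_erase]
      exact ⟨hqr, hq⟩
  · intro x _
    exact (card_piCls_le_prod (π.erase r) (fun s hs => hπ s (Finset.mem_of_mem_erase hs)) _).trans
      (prod_factorization_subgroup_le _ _)

end Bounds

end Cfsg.Agent.Helper1.PElemCls
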