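import Mathlib
import Cfsg.Prelude.Def_OddOrderLocal
import Cfsg.Agent.Helper1.PElemCls4
import Cfsg.Agent.S3897

set_option autoImplicit false

/-! Normal `π`-complements and abelian Hall `π`-subgroups from `r`-nilpotency for all `r ∈ π`. -/

namespace Cfsg.Agent.Helper1.PElemCls

section Build

open scoped commutatorElement

variable {G : Type*} [Group G] [Finite G]

/-- a normal complement of an abelian subgroup contains the commutator subgroup -/
theorem commutator_le_of_complement (K P : Subgroup G) [K.Normal] (hK : K.IsComplement' P)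
    (hab : IsMulCommutative P) : commutator G ≤ K := by
  rw [commutator_def, Subgroup.commutator_le]
  intro g₁ _ g₂ _
  obtain ⟨⟨k₁, u₁⟩, h₁, -⟩ := hK.existsUnique g₁
  obtain ⟨⟨k₂, u₂⟩, h₂, -⟩ := hK.existsUnique g₂
  simp only at h₁ h₂
  rw [← QuotientGroup.eq_one_iff (N := K), ← QuotientGroup.mk'_apply, map_commutatorElement, ← h₁, ← h₂,
    map_mul, map_mul]
  have e1 : QuotientGroup.mk' K (k₁ : G) = 1 := by
    rw [QuotientGroup.mk'_apply, QuotientGroup.eq_one_iff]; exact k₁.2
  have e2 : QuotientGroup.mk' K (k₂ : G) = 1 := by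
    rw [QuotientGroup.mk'_apply, QuotientGroup.eq_one_iff]; exact k₂.2
  rw [e1, e2, one_mul, one_mul, ← map_commutatorElement]
  have hcomm : (u₁ : G) * u₂ = u₂ * u₁ := by
    have : u₁ * u₂ = u₂ * u₁ := by
      haveI := hab
      exact mul_comm' u₁ u₂
    have := congrArg Subtype.val this
    simpa using this
  have : ⁅(u₁ : G), (u₂ : G)⁆ = 1 := by
    rw [commutatorElement_eq_one_iff_mul_comm]; exact hcomm
  rw [this, map_one]

/-- intersecting normal subgroups of prime power index -/
theorem exists_normal_inter (D : Subgroup G) : ∀ (σ : Finset ℕ), (∀ r ∈ σ, r.Prime) →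
    (∀ r ∈ σ, ∃ K : Subgroup G, K.Normal ∧ D ≤ K ∧ ¬ r ∣ Nat.card K ∧ ∃ a : ℕ, K.index = r ^ a) →
    ∃ N : Subgroup G, N.Normal ∧ D ≤ N ∧ (∀ r ∈ σ, ¬ r ∣ Nat.card N) ∧
      ∀ q : ℕ, q.Prime → q ∣ N.index → q ∈ σ := by
  intro σ
  induction σ using Finset.induction_on with
  | empty =>
    intro _ _
    refine ⟨⊤, inferInstance, le_top, fun r hr => absurd hr (Finset.notMem_empty r), ?_⟩
    intro q hq hqd
    rw [Subgroup.index_top] at hqd
    exact absurd (Nat.dvd_one.mp hqd) hq.one_lt.ne'
  | insert r σ hr ih =>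
    intro hprime h
    obtain ⟨N, hNn, hDN, hNσ, hNidx⟩ := ih (fun s hs => hprime s (Finset.mem_insert_of_mem hs))
      (fun s hs => h s (Finset.mem_insert_of_mem hs))
    obtain ⟨K, hKn, hDK, hKr, a, hKa⟩ := h r (Finset.mem_insert_self r σ)
    haveI := hNn
    haveI := hKn
    refine ⟨N ⊓ K, inferInstance, le_inf hDN hDK, ?_, ?_⟩
    · intro s hs
      rw [Finset.mem_insert] at hs
      rcases hs with rfl | hs
      · intro hd
        exact hKr (hd.trans (Subgroup.card_dvd_of_le inf_le_right))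
      · intro hd
        exact hNσ s hs (hd.trans (Subgroup.card_dvd_of_le inf_le_left))
    · intro q hq hqd
      have h1 : (N ⊓ K).relIndex N * N.index = (N ⊓ K).index :=
        Subgroup.relIndex_mul_index inf_le_left
      have h2 : (N ⊓ K).relIndex N = K.relIndex N := by
        rw [inf_comm]; exact Subgroup.inf_relIndex_right K N
      have h3 : K.relIndex N ∣ K.index := Subgroup.relIndex_dvd_index_of_normal K N
      rw [← h1, h2] at hqd
      rcases (Nat.Prime.dvd_mul hq).mp hqd with hd | hd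
      · have : q ∣ r ^ a := by rw [← hKa]; exact hd.trans h3
        have hqr : q ∣ r := hq.dvd_of_dvd_pow this
        have hrp : r.Prime := hprime r (Finset.mem_insert_self r σ)
        rw [Finset.mem_insert]
        exact Or.inl ((Nat.prime_dvd_prime_iff_eq hq hrp).mp hqr)
      · exact Finset.mem_insert_of_mem (hNidx q hq hd)

/-- a complement of a normal subgroup containing the commutator subgroup is an abelian Hall
subgroup -/
theorem exists_abelian_hall (N : Subgroup G) [N.Normal] (hDN : commutator G ≤ N) (π : Set ℕ)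
    (h1 : ∀ r : ℕ, r.Prime → r ∣ Nat.card N → r ∉ π)
    (h2 : ∀ r : ℕ, r.Prime → r ∣ N.index → r ∈ π) :
    ∃ H : Subgroup G, Cfsg.IsPiHall π H ∧ IsMulCommutative H := by
  have hcop : (Nat.card N).Coprime N.index :=
    Nat.coprime_of_dvd (fun k hk hkN hkI => h1 k hk hkN (h2 k hk hkI))
  obtain ⟨H, hH⟩ := Subgroup.exists_right_complement'_of_coprime hcop
  have e1 : H.index = Nat.card N := hH.index_eq_card
  have e2 : N.index = Nat.card H := hH.symm.index_eq_card
  refine ⟨H, ⟨?_, ?_⟩, ⟨⟨fun a b => ?_⟩⟩⟩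
  · intro q hq hqd
    exact h2 q hq (by rw [e2]; exact hqd)
  · intro q hq hqπ hqd
    exact h1 q hq (by rw [← e1]; exact hqd) hqπ
  · have hc : ⁅(a : G), (b : G)⁆ ∈ N := by
      apply hDN
      rw [commutator_def]
      exact Subgroup.commutator_mem_commutator (Subgroup.mem_top _) (Subgroup.mem_top _)
    have hcH : ⁅(a : G), (b : G)⁆ ∈ H := by
      rw [commutatorElement_def]
      exact H.mul_mem (H.mul_mem (H.mul_mem a.2 b.2) (H.inv_mem a.2)) (H.inv_mem b.2)
    have h3 : ⁅(a : G), (b : G)⁆ = 1 := Subgroup.disjoint_def.mp hH.disjoint hc hcH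
    rw [commutatorElement_eq_one_iff_mul_comm] at h3
    exact Subtype.ext h3

end Build

section Main

universe u

variable {G : Type u} [Group G] [Finite G]

/-- main theorem for odd `π` -/
theorem main_odd (π : Finset ℕ) (hπ : ∀ r ∈ π, r.Prime) (h2 : 2 ∉ π) (p : ℕ) (hp : p ∈ π)
    (hmin : ∀ r ∈ π, p ≤ r)
    (hk : (p + 1) * π.prod (fun r => r ^ (Nat.card G).factorization r) <
      2 * p * Nat.card {c : ConjClasses G // ∀ x ∈ c.carrier, ∀ r : ℕ, r.Prime → r ∣ orderOf x →
        r ∈ (↑π : Set ℕ)}) :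
    (∃ N : Subgroup G, N.Normal ∧ (∀ r : ℕ, r.Prime → r ∣ Nat.card ↥N → r ∉ π) ∧
      ∀ r : ℕ, r.Prime → r ∣ N.index → r ∈ π) ∧
    ∃ H : Subgroup G, Cfsg.IsPiHall (↑π : Set ℕ) H ∧ IsMulCommutative ↥H := by
  have hp0 : 0 < p := (hπ p hp).pos
  have key : ∀ r ∈ π, ∃ K : Subgroup G, K.Normal ∧ commutator G ≤ K ∧ ¬ r ∣ Nat.card K ∧
      ∃ a : ℕ, K.index = r ^ a := by
    intro r hr
    haveI : Fact r.Prime := ⟨hπ r hr⟩
    obtain ⟨P⟩ : Nonempty (Sylow r G) := inferInstance
    have hB := card_piCls_le_pCls_mul π hπ G r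
    set M := (π.erase r).prod (fun s => s ^ (Nat.card G).factorization s) with hM
    have hMpos : 0 < M := by
      apply Finset.prod_pos
      intro s hs
      exact pow_pos (hπ s (Finset.mem_of_mem_erase hs)).pos _
    have hprod : π.prod (fun s => s ^ (Nat.card G).factorization s) =
        r ^ (Nat.card G).factorization r * M := (Finset.mul_prod_erase π _ hr).symm
    set kr := Nat.card {c : ConjClasses G // ∀ x ∈ c.carrier, ∃ k : ℕ, orderOf x = r ^ k} with hkr
    have hPcard : Nat.card (P : Subgroup G) = r ^ (Nat.card G).factorization r :=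
      Sylow.card_eq_multiplicity P
    have h3 : (p + 1) * Nat.card (P : Subgroup G) < 2 * p * kr := by
      apply Nat.lt_of_mul_lt_mul_right (a := M)
      calc (p + 1) * Nat.card (P : Subgroup G) * M
          = (p + 1) * π.prod (fun s => s ^ (Nat.card G).factorization s) := by
            rw [hprod, hPcard]; ring
        _ < 2 * p * Nat.card {c : ConjClasses G // ∀ x ∈ c.carrier, ∀ r : ℕ, r.Prime →
              r ∣ orderOf x → r ∈ (↑π : Set ℕ)} := hk
        _ ≤ 2 * p * (kr * M) := Nat.mul_le_mul_left _ hB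
        _ = 2 * p * kr * M := by ring
    have hpr : p ≤ r := hmin r hr
    have h4 : (r + 1) * Nat.card (P : Subgroup G) < 2 * r * kr := by
      apply Nat.lt_of_mul_lt_mul_left (a := p)
      calc p * ((r + 1) * Nat.card (P : Subgroup G))
          ≤ r * ((p + 1) * Nat.card (P : Subgroup G)) := by
            have : p * (r + 1) ≤ r * (p + 1) := by nlinarith
            calc p * ((r + 1) * Nat.card (P : Subgroup G))
                = (p * (r + 1)) * Nat.card (P : Subgroup G) := by ring
              _ ≤ (r * (p + 1)) * Nat.card (P : Subgroup G) := Nat.mul_le_mul_right _ this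
              _ = r * ((p + 1) * Nat.card (P : Subgroup G)) := by ring
        _ < r * (2 * p * kr) := Nat.mul_lt_mul_of_pos_left h3 (hπ r hr).pos
        _ = p * (2 * r * kr) := by ring
    have hr2 : r ≠ 2 := fun h => h2 (h ▸ hr)
    obtain ⟨⟨P', K, hKn, hK⟩, hab⟩ := (Cfsg.Agent.S3897.result hr2 P).mp h4
    haveI := hKn
    have hK' := isComplement'_sylow P P' K hK
    refine ⟨K, hKn, commutator_le_of_complement K (P : Subgroup G) hK' hab, ?_, ?_⟩
    · have e1 : (P : Subgroup G).index = Nat.card K := hK'.index_eq_card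
      rw [← e1]
      exact P.not_dvd_index
    · have e2 : K.index = Nat.card (P : Subgroup G) := hK'.symm.index_eq_card
      exact ⟨_, e2.trans hPcard⟩
  obtain ⟨N, hNn, hDN, hNπ, hNidx⟩ := exists_normal_inter (commutator G) π hπ key
  haveI := hNn
  have h1 : ∀ r : ℕ, r.Prime → r ∣ Nat.card N → r ∉ π := fun r _ hd hr => hNπ r hr hd
  exact ⟨⟨N, hNn, h1, hNidx⟩, exists_abelian_hall N hDN (↑π : Set ℕ)
    (fun r hr hd hmem => h1 r hr hd (Finset.mem_coe.mp hmem))
    (fun r hr hd => Finset.mem_coe.mpr (hNidx r hr hd))⟩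

end Main

end Cfsg.Agent.Helper1.PElemCls
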