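import Mathlib
import Cfsg.Agent.Helper1.PElemCls5
import Cfsg.Agent.Helper1.PElemCls3
import Cfsg.Agent.Helper1.MaxPNilp2
import Cfsg.Agent.Helper9.Burnside

set_option autoImplicit false

/-! Odd-order refinements of the class-counting bounds and the even case of the
`π`-element counting theorem. -/

namespace Cfsg.Agent.Helper1.PElemCls

section PGroup

variable {R : Type*} [Group R] [Finite R]

theorem card_mul_le_of_ne_top {r : ℕ} [Fact r.Prime] (hR : IsPGroup r R) (H : Subgroup R)
    (hH : H ≠ ⊤) : r * Nat.card H ≤ Nat.card R := by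
  have hidx : H.index ≠ 1 := fun h => hH (Subgroup.index_eq_one.mp h)
  have hmul : Nat.card H * H.index = Nat.card R := Subgroup.card_mul_index H
  obtain ⟨k, hk⟩ := IsPGroup.iff_card.mp hR
  have hdvd : H.index ∣ r ^ k := by
    rw [← hk, ← hmul]
    exact Dvd.intro_left _ rfl
  obtain ⟨j, -, hj⟩ := (Nat.dvd_prime_pow (Fact.out : r.Prime)).mp hdvd
  have hj0 : j ≠ 0 := by
    rintro rfl
    exact hidx (by simpa using hj)
  have hple : r ≤ H.index := by
    rw [hj]
    calc r = r ^ 1 := (pow_one r).symm
      _ ≤ r ^ j := Nat.pow_le_pow_right (Fact.out : r.Prime).pos (Nat.one_le_iff_ne_zero.mpr hj0)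
  calc r * Nat.card H = Nat.card H * r := by ring
    _ ≤ Nat.card H * H.index := Nat.mul_le_mul_left _ hple
    _ = Nat.card R := hmul

/-- class number bound for a nonabelian `r`-group -/
theorem card_conjClasses_bound {r : ℕ} [Fact r.Prime] (hR : IsPGroup r R)
    (hnc : ∃ a b : R, a * b ≠ b * a) :
    r * r ^ 2 * Nat.card (ConjClasses R) ≤ (r ^ 2 + r - 1) * Nat.card R := by
  have hr : r.Prime := Fact.out
  set Z := Subgroup.center R with hZ
  set W0 : Subgroup (ConjAct R) := Z.map (ConjAct.toConjAct (G := R)).toMonoidHom with hW0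
  have hW0card : Nat.card W0 = Nat.card Z :=
    Subgroup.card_map_of_injective (ConjAct.toConjAct (G := R)).injective
  have hWcard : Nat.card (ConjAct R) = Nat.card R := Nat.card_congr ConjAct.ofConjAct.toEquiv
  have hmemW0 : ∀ w : ConjAct R, w ∈ W0 ↔ ConjAct.ofConjAct w ∈ Z := by
    intro w
    rw [hW0, Subgroup.mem_map]
    constructor
    · rintro ⟨z, hz, rfl⟩
      simpa using hz
    · intro h
      exact ⟨ConjAct.ofConjAct w, h, by simp⟩
  -- index of the centre
  have hidx : r ^ 2 * Nat.card Z ≤ Nat.card R := by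
    have hmul : Nat.card Z * Z.index = Nat.card R := Subgroup.card_mul_index Z
    obtain ⟨k, hk⟩ := IsPGroup.iff_card.mp hR
    have hdvd : Z.index ∣ r ^ k := by
      rw [← hk, ← hmul]
      exact Dvd.intro_left _ rfl
    obtain ⟨j, -, hj⟩ := (Nat.dvd_prime_pow hr).mp hdvd
    have hj0 : j ≠ 0 := by
      rintro rfl
      rw [pow_zero, Subgroup.index_eq_one] at hj
      obtain ⟨a, b, hab⟩ := hnc
      apply hab
      have : a ∈ Z := by rw [hj]; exact Subgroup.mem_top a
      exact (Subgroup.mem_center_iff.mp this b).symm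
    have hj1 : j ≠ 1 := by
      rintro rfl
      rw [pow_one] at hj
      have hcard : Nat.card (R ⧸ Z) = r := by rw [← Subgroup.index_eq_card]; exact hj
      haveI : IsCyclic (R ⧸ Z) := isCyclic_of_prime_card hcard
      obtain ⟨a, b, hab⟩ := hnc
      apply hab
      have hcomm := MonoidHom.isMulCommutative_of_isCyclic_of_ker_le_center (QuotientGroup.mk' Z)
        (by rw [QuotientGroup.ker_mk'])
      exact mul_comm' a b
    have h2 : r ^ 2 ≤ Z.index := by
      rw [hj]
      exact Nat.pow_le_pow_right hr.pos (by omega)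
    calc r ^ 2 * Nat.card Z = Nat.card Z * r ^ 2 := by ring
      _ ≤ Nat.card Z * Z.index := Nat.mul_le_mul_left _ h2
      _ = Nat.card R := hmul
  haveI : Finite (ConjAct R) := Finite.of_equiv R ConjAct.toConjAct.toEquiv
  have hb := orbit_bound' (W := ConjAct R) (X := R) W0 (r ^ 2)
    (by rw [hW0card, hWcard]; exact hidx) r hr.one_le (by
      intro w hw
      rw [hmemW0] at hw
      set g := ConjAct.ofConjAct w with hg
      have hset : (MulAction.fixedBy R w) =
          ((Subgroup.centralizer ({g} : Set R) : Subgroup R) : Set R) := by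
        ext x
        rw [MulAction.mem_fixedBy, ConjAct.smul_def, SetLike.mem_coe, Subgroup.mem_centralizer_iff]
        constructor
        · intro h y hy
          rw [Set.mem_singleton_iff] at hy
          subst hy
          calc g * x = g * x * g⁻¹ * g := by group
            _ = x * g := by rw [h]
        · intro h
          have h1 := h g (Set.mem_singleton _)
          calc g * x * g⁻¹ = x * g * g⁻¹ := by rw [h1]
            _ = x := by group
      have hcard : Nat.card (MulAction.fixedBy R w) =
          Nat.card (Subgroup.centralizer ({g} : Set R)) := by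
        rw [hset]; rfl
      rw [hcard]
      apply card_mul_le_of_ne_top hR
      intro htop
      apply hw
      rw [hZ, Subgroup.mem_center_iff]
      intro y
      have : y ∈ Subgroup.centralizer ({g} : Set R) := by rw [htop]; exact Subgroup.mem_top y
      exact Subgroup.mem_centralizer_iff.mp this g (Set.mem_singleton _) |>.symm)
  have hquot : Nat.card (Quotient (MulAction.orbitRel (ConjAct R) R)) = Nat.card (ConjClasses R) := by
    apply Nat.card_congr
    apply Quotient.congr (Equiv.refl R)
    intro a b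
    rw [ConjAct.orbitRel_conjAct]
    rfl
  rw [hquot] at hb
  exact hb

/-- a nonabelian `r`-group with `r` odd has at most `|R|/2` classes -/
theorem two_mul_card_conjClasses_le {r : ℕ} [Fact r.Prime] (hr3 : 3 ≤ r) (hR : IsPGroup r R)
    (hnc : ∃ a b : R, a * b ≠ b * a) : 2 * Nat.card (ConjClasses R) ≤ Nat.card R := by
  have hb := card_conjClasses_bound hR hnc
  have hrpos : 0 < r * r ^ 2 := by positivity
  apply Nat.le_of_mul_le_mul_left _ hrpos
  have h1 : 2 * (r ^ 2 + r - 1) ≤ r * r ^ 2 := by
    have : r ^ 2 + r - 1 = r ^ 2 + (r - 1) := by omega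
    rw [this]
    obtain ⟨s, rfl⟩ : ∃ s, r = s + 3 := ⟨r - 3, by omega⟩
    have : s + 3 - 1 = s + 2 := by omega
    rw [this]
    nlinarith [Nat.zero_le s]
  calc r * r ^ 2 * (2 * Nat.card (ConjClasses R)) = 2 * (r * r ^ 2 * Nat.card (ConjClasses R)) := by ring
    _ ≤ 2 * ((r ^ 2 + r - 1) * Nat.card R) := Nat.mul_le_mul_left _ hb
    _ = (2 * (r ^ 2 + r - 1)) * Nat.card R := by ring
    _ ≤ r * r ^ 2 * Nat.card R := Nat.mul_le_mul_right _ h1

end PGroup

section OddOrder

variable {K : Type*} [Group K] [Finite K]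

/-- in a group of odd order, more than `|R|/2` classes of `r`-elements force `N(R) = C(R)` -/
theorem normalizer_le_centralizer_of_many_odd (hodd : Odd (Nat.card K)) {r : ℕ} [Fact r.Prime]
    (R : Sylow r K)
    (h : Nat.card (R : Subgroup K) <
      2 * Nat.card {c : ConjClasses K // ∀ x ∈ c.carrier, ∃ k : ℕ, orderOf x = r ^ k}) :
    Subgroup.normalizer ((R : Subgroup K) : Set K) ≤
      Subgroup.centralizer ((R : Subgroup K) : Set K) := by
  have hr : r.Prime := Fact.out
  by_cases hR : (R : Subgroup K) = ⊥
  · rw [hR]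
    intro x _
    rw [Subgroup.mem_centralizer_iff]
    intro y hy
    have : y = 1 := by simpa using hy
    rw [this]; simp
  have hr3 : 3 ≤ r := by
    obtain ⟨m, hm⟩ := IsPGroup.iff_card.mp R.isPGroup'
    have hm0 : m ≠ 0 := by
      rintro rfl
      apply hR
      rw [pow_zero] at hm
      exact Subgroup.card_eq_one.mp hm
    have hdvd : r ∣ Nat.card K := by
      have h1 : r ∣ r ^ m := dvd_pow_self r hm0
      rw [← hm] at h1
      exact h1.trans (Subgroup.card_subgroup_dvd_card _)
    have hrodd : Odd r := Odd.of_dvd_nat hodd hdvd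
    have h2 : 2 ≤ r := hr.two_le
    rcases hrodd with ⟨t, ht⟩
    omega
  -- R is abelian
  have hab : ∀ a b : (R : Subgroup K), a * b = b * a := by
    by_contra hnc
    push Not at hnc
    have h1 := two_mul_card_conjClasses_le hr3 R.isPGroup' hnc
    have h2 := card_classes_le_classes R
    omega
  by_contra hnc
  letI := normAct (R : Subgroup K)
  have hRC : (R : Subgroup K) ≤ (Subgroup.centralizer ((R : Subgroup K) : Set K)) := by
    intro x hx
    rw [Subgroup.mem_centralizer_iff]
    intro y hy
    have := hab ⟨y, hy⟩ ⟨x, hx⟩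
    exact congrArg Subtype.val this
  have hCN : (Subgroup.centralizer ((R : Subgroup K) : Set K)) ≤ (Subgroup.normalizer ((R : Subgroup K) : Set K)) := Subgroup.centralizer_le_normalizer _
  have hRN : (R : Subgroup K) ≤ (Subgroup.normalizer ((R : Subgroup K) : Set K)) := Subgroup.le_normalizer
  set W0 : Subgroup (Subgroup.normalizer ((R : Subgroup K) : Set K)) := (Subgroup.centralizer ((R : Subgroup K) : Set K)).subgroupOf (Subgroup.normalizer ((R : Subgroup K) : Set K)) with hW0
  have hW0top : W0 ≠ ⊤ := by
    rw [Ne, hW0, Subgroup.subgroupOf_eq_top]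
    exact hnc
  set idx := W0.index with hidx
  have hidx1 : idx ≠ 1 := fun h => hW0top (Subgroup.index_eq_one.mp h)
  have hmul : idx * Nat.card W0 = Nat.card (Subgroup.normalizer ((R : Subgroup K) : Set K)) := Subgroup.index_mul_card W0
  have hidxdvd : idx ∣ (R : Subgroup K).index := by
    have h1 : (R : Subgroup K).relIndex (Subgroup.centralizer ((R : Subgroup K) : Set K)) * (Subgroup.centralizer ((R : Subgroup K) : Set K)).relIndex (Subgroup.normalizer ((R : Subgroup K) : Set K)) = (R : Subgroup K).relIndex (Subgroup.normalizer ((R : Subgroup K) : Set K)) :=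
      Subgroup.relIndex_mul_relIndex _ _ _ hRC hCN
    have h2 : (R : Subgroup K).relIndex (Subgroup.normalizer ((R : Subgroup K) : Set K)) * (Subgroup.normalizer ((R : Subgroup K) : Set K)).index = (R : Subgroup K).index :=
      Subgroup.relIndex_mul_index hRN
    have h3 : idx = (Subgroup.centralizer ((R : Subgroup K) : Set K)).relIndex (Subgroup.normalizer ((R : Subgroup K) : Set K)) := rfl
    rw [h3, ← h2, ← h1]
    exact Dvd.dvd.mul_right (Dvd.intro_left _ rfl) _
  have hidxcop : ¬ r ∣ idx := fun hd => R.not_dvd_index (hd.trans hidxdvd)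
  have hidxodd : Odd idx := by
    apply Odd.of_dvd_nat hodd
    exact hidxdvd.trans (Subgroup.index_dvd_card _)
  have hidx0 : idx ≠ 0 := Subgroup.index_ne_zero_of_finite
  have hkey : 2 * (idx + r - 1) ≤ r * idx := by
    rcases hidxodd with ⟨t, ht⟩
    have ht1 : 1 ≤ t := by omega
    by_cases hr5 : 5 ≤ r
    · have e : idx + r - 1 = idx + (r - 1) := by omega
      rw [e]
      obtain ⟨s, rfl⟩ : ∃ s, r = s + 5 := ⟨r - 5, by omega⟩
      have e2 : s + 5 - 1 = s + 4 := by omega
      rw [e2, ht]
      nlinarith
    · have hr3' : r = 3 ∨ r = 4 := by omega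
      rcases hr3' with rfl | rfl
      · have : idx ≠ 3 := fun h3 => hidxcop (by rw [h3])
        omega
      · exact absurd hr (by norm_num)
  have hb := orbit_bound' (X := (R : Subgroup K)) W0 idx (le_of_eq hmul) r hr.one_le (by
    intro w hw
    rw [hW0, Subgroup.mem_subgroupOf] at hw
    exact fixedBy_bound R w hw)
  have hle := card_classes_le_orbits R
  set kr := Nat.card {c : ConjClasses K // ∀ x ∈ c.carrier, ∃ k : ℕ, orderOf x = r ^ k} with hkr
  have hpos : 0 < r * idx := Nat.mul_pos hr.pos (Nat.pos_of_ne_zero hidx0)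
  have hfin : 2 * kr ≤ Nat.card (R : Subgroup K) := by
    apply Nat.le_of_mul_le_mul_left _ hpos
    calc r * idx * (2 * kr) = 2 * (r * idx * kr) := by ring
      _ ≤ 2 * (r * idx * Nat.card (Quotient (MulAction.orbitRel (Subgroup.normalizer ((R : Subgroup K) : Set K)) (R : Subgroup K)))) :=
          Nat.mul_le_mul_left _ (Nat.mul_le_mul_left _ hle)
      _ ≤ 2 * ((idx + r - 1) * Nat.card (R : Subgroup K)) := Nat.mul_le_mul_left _ hb
      _ = (2 * (idx + r - 1)) * Nat.card (R : Subgroup K) := by ring
      _ ≤ r * idx * Nat.card (R : Subgroup K) := Nat.mul_le_mul_right _ hkey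
  omega

end OddOrder

end Cfsg.Agent.Helper1.PElemCls
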