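import Mathlib
import Cfsg.Agent.Helper1.PElemCls6

set_option autoImplicit false

/-! The even case: `2 ∈ π` and more than `|G|_π / 2` classes of `π`-elements. -/

namespace Cfsg.Agent.Helper1.PElemCls

section Aux

variable {G : Type*} [Group G] [Finite G]

omit [Finite G] in
/-- intersecting normal subgroups, general version -/
theorem exists_normal_inter' (τ : Set ℕ) : ∀ (σ : Finset ℕ),
    (∀ r ∈ σ, ∃ K : Subgroup G, K.Normal ∧ ¬ r ∣ Nat.card K ∧
      ∀ q : ℕ, q.Prime → q ∣ K.index → q ∈ τ) →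
    ∃ N : Subgroup G, N.Normal ∧ (∀ r ∈ σ, ¬ r ∣ Nat.card N) ∧
      ∀ q : ℕ, q.Prime → q ∣ N.index → q ∈ τ := by
  intro σ
  induction σ using Finset.induction_on with
  | empty =>
    intro _
    refine ⟨⊤, inferInstance, fun r hr => absurd hr (Finset.notMem_empty r), ?_⟩
    intro q hq hqd
    rw [Subgroup.index_top] at hqd
    exact absurd (Nat.dvd_one.mp hqd) hq.one_lt.ne'
  | insert r σ hr ih =>
    intro h
    obtain ⟨N, hNn, hNσ, hNidx⟩ := ih (fun s hs => h s (Finset.mem_insert_of_mem hs))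
    obtain ⟨K, hKn, hKr, hKidx⟩ := h r (Finset.mem_insert_self r σ)
    haveI := hNn
    haveI := hKn
    refine ⟨N ⊓ K, inferInstance, ?_, ?_⟩
    · intro s hs
      rw [Finset.mem_insert] at hs
      rcases hs with rfl | hs
      · intro hd
        exact hKr (hd.trans (Subgroup.card_dvd_of_le inf_le_right))
      · intro hd
        exact hNσ s hs (hd.trans (Subgroup.card_dvd_of_le inf_le_left))
    · intro q hq hqd
      have h1 : (N ⊓ K).relIndex N * N.index = (N ⊓ K).index :=
        Subgroup.relIndex_mul_index inf_le_left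
      have h2 : (N ⊓ K).relIndex N = K.relIndex N := by
        rw [inf_comm]; exact Subgroup.inf_relIndex_right K N
      have h3 : K.relIndex N ∣ K.index := Subgroup.relIndex_dvd_index_of_normal K N
      rw [← h1, h2] at hqd
      rcases (Nat.Prime.dvd_mul hq).mp hqd with hd | hd
      · exact hKidx q hq (hd.trans h3)
      · exact hNidx q hq hd

/-- classes of `r`-elements in a normal subgroup of `p`-power index, `p ≠ r` -/
theorem card_pCls_le_of_normal (K : Subgroup G) [K.Normal] {p a : ℕ} (hp : p.Prime)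
    (hK : K.index = p ^ a) (r : ℕ) [Fact r.Prime] (hrp : r ≠ p) :
    Nat.card {c : ConjClasses G // ∀ x ∈ c.carrier, ∃ k : ℕ, orderOf x = r ^ k} ≤
      Nat.card {c : ConjClasses K // ∀ x ∈ c.carrier, ∃ k : ℕ, orderOf x = r ^ k} := by
  have hr : r.Prime := Fact.out
  have hex : ∀ c : {c : ConjClasses G // ∀ x ∈ c.carrier, ∃ k : ℕ, orderOf x = r ^ k},
      ∃ g : K, ConjClasses.mk (g : G) = c.1 ∧ ∃ k : ℕ, orderOf g = r ^ k := by
    intro c
    obtain ⟨g, hg⟩ := ConjClasses.exists_rep c.1
    have hgmem : g ∈ c.1.carrier := by rw [← hg]; exact ConjClasses.mem_carrier_mk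
    obtain ⟨k, hk⟩ := c.2 g hgmem
    have hgK : g ∈ K := by
      apply Cfsg.Agent.Helper1.MaxPNilp.mem_of_coprime_orderOf hp K hK
      rw [hk]
      intro hd
      have := hp.dvd_of_dvd_pow hd
      exact hrp ((Nat.prime_dvd_prime_iff_eq hp hr).mp this).symm
    exact ⟨⟨g, hgK⟩, hg, k, by rw [← hk, ← Subgroup.orderOf_coe]⟩
  choose f hf hford using hex
  refine Nat.card_le_card_of_injective (fun c => ⟨ConjClasses.mk (f c), isPElt_class (hford c)⟩) ?_
  intro c d hcd
  have h1 : ConjClasses.mk (f c) = ConjClasses.mk (f d) := congrArg Subtype.val hcd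
  rw [ConjClasses.mk_eq_mk_iff_isConj, isConj_iff] at h1
  obtain ⟨n, hn⟩ := h1
  apply Subtype.ext
  rw [← hf c, ← hf d]
  apply ConjClasses.mk_eq_mk_iff_isConj.mpr
  have h2 : (n : G) * (f c : G) * (n : G)⁻¹ = (f d : G) := by
    have := congrArg Subtype.val hn
    simpa using this
  exact isConj_iff.mpr ⟨(n : G), h2⟩

/-- a normal Hall-type subgroup of a normal subgroup is normal -/
theorem normal_map_subtype_of_index_pow (K : Subgroup G) [K.Normal] (L : Subgroup K) [L.Normal]
    {r b : ℕ} (hr : r.Prime) (hL : L.index = r ^ b) (hLr : ¬ r ∣ Nat.card L) :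
    (L.map K.subtype).Normal := by
  constructor
  rintro _ ⟨l, hl, rfl⟩ g
  have hK : g * (l : G) * g⁻¹ ∈ K := ‹K.Normal›.conj_mem _ l.2 g
  refine ⟨⟨g * (l : G) * g⁻¹, hK⟩, ?_, rfl⟩
  apply Cfsg.Agent.Helper1.MaxPNilp.mem_of_coprime_orderOf hr L hL
  intro hd
  apply hLr
  have h1 : orderOf (⟨g * (l : G) * g⁻¹, hK⟩ : K) = orderOf l := by
    rw [← Subgroup.orderOf_coe, ← Subgroup.orderOf_coe]
    exact orderOf_conj_eq g (l : G)
  rw [h1] at hd
  have h2 : orderOf l ∣ Nat.card L := by
    have : orderOf (⟨l, hl⟩ : L) = orderOf l := Subgroup.orderOf_mk l hl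
    rw [← this]
    exact orderOf_dvd_natCard _
  exact hd.trans h2

end Aux

section MainEven

universe u

variable {G : Type u} [Group G] [Finite G]

/-- main theorem when `2 ∈ π` -/
theorem main_even (π : Finset ℕ) (hπ : ∀ r ∈ π, r.Prime) (h2 : 2 ∈ π)
    (hk : π.prod (fun r => r ^ (Nat.card G).factorization r) <
      2 * Nat.card {c : ConjClasses G // ∀ x ∈ c.carrier, ∀ r : ℕ, r.Prime → r ∣ orderOf x →
        r ∈ (↑π : Set ℕ)}) :
    (∃ N : Subgroup G, N.Normal ∧ (∀ r : ℕ, r.Prime → r ∣ Nat.card ↥N → r ∉ π) ∧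
      ∀ r : ℕ, r.Prime → r ∣ N.index → r ∈ π) ∧
    ∃ H : Subgroup G, Cfsg.IsPiHall ((↑π : Set ℕ) \ {2}) H ∧ IsMulCommutative ↥H := by
  have : Fact (Nat.Prime 2) := ⟨Nat.prime_two⟩
  -- (A) per-prime inequality
  have hA : ∀ r ∈ π, ∀ [Fact r.Prime], r ^ (Nat.card G).factorization r <
      2 * Nat.card {c : ConjClasses G // ∀ x ∈ c.carrier, ∃ k : ℕ, orderOf x = r ^ k} := by
    intro r hr _
    have hB := card_piCls_le_pCls_mul π hπ G r
    set M := (π.erase r).prod (fun s => s ^ (Nat.card G).factorization s) with hM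
    have hMpos : 0 < M := by
      apply Finset.prod_pos
      intro s hs
      exact pow_pos (hπ s (Finset.mem_of_mem_erase hs)).pos _
    have hprod : π.prod (fun s => s ^ (Nat.card G).factorization s) =
        r ^ (Nat.card G).factorization r * M := (Finset.mul_prod_erase π _ hr).symm
    apply Nat.lt_of_mul_lt_mul_right (a := M)
    calc r ^ (Nat.card G).factorization r * M
        = π.prod (fun s => s ^ (Nat.card G).factorization s) := hprod.symm
      _ < 2 * Nat.card {c : ConjClasses G // ∀ x ∈ c.carrier, ∀ r : ℕ, r.Prime →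
            r ∣ orderOf x → r ∈ (↑π : Set ℕ)} := hk
      _ ≤ 2 * (Nat.card {c : ConjClasses G // ∀ x ∈ c.carrier, ∃ k : ℕ, orderOf x = r ^ k} * M) :=
          Nat.mul_le_mul_left _ hB
      _ = _ := by ring
  -- (B) the normal 2-complement
  obtain ⟨S⟩ : Nonempty (Sylow 2 G) := inferInstance
  have hS : Nat.card (S : Subgroup G) <
      2 * Nat.card {c : ConjClasses G // ∀ x ∈ c.carrier, ∃ k : ℕ, orderOf x = 2 ^ k} := by
    rw [Sylow.card_eq_multiplicity]
    exact hA 2 h2
  obtain ⟨S', K, hKn, hK0⟩ := npc_of_many_two S hS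
  haveI := hKn
  have hK := isComplement'_sylow S S' K hK0
  obtain ⟨a, ha⟩ := IsPGroup.iff_card.mp S.isPGroup'
  have hKidx : K.index = 2 ^ a := by
    rw [← ha]; exact hK.symm.index_eq_card
  have hKodd : Odd (Nat.card K) := by
    have e1 : (S : Subgroup G).index = Nat.card K := hK.index_eq_card
    rw [← e1, ← Nat.not_even_iff_odd, even_iff_two_dvd]
    exact S.not_dvd_index
  have hcardG : Nat.card G = Nat.card K * 2 ^ a := by
    rw [← hKidx]; exact (Subgroup.card_mul_index K).symm
  -- (C) odd primes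
  have hC : ∀ r ∈ π.erase 2, ∃ L : Subgroup K, L.Normal ∧ commutator K ≤ L ∧ ¬ r ∣ Nat.card L ∧
      ∃ b : ℕ, L.index = r ^ b := by
    intro r hr
    rw [Finset.mem_erase] at hr
    obtain ⟨hr2, hrπ⟩ := hr
    haveI : Fact r.Prime := ⟨hπ r hrπ⟩
    have hrp : r.Prime := hπ r hrπ
    obtain ⟨R⟩ : Nonempty (Sylow r K) := inferInstance
    have hfac : (Nat.card K).factorization r = (Nat.card G).factorization r := by
      rw [hcardG, Nat.factorization_mul Nat.card_pos.ne' (pow_pos (by norm_num) a).ne',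
        Finsupp.add_apply, Nat.factorization_pow, Finsupp.smul_apply,
        Nat.factorization_eq_zero_of_not_dvd (fun hd => hr2
          ((Nat.prime_dvd_prime_iff_eq hrp Nat.prime_two).mp hd))]
      simp
    have hRcard : Nat.card (R : Subgroup K) = r ^ (Nat.card G).factorization r := by
      rw [Sylow.card_eq_multiplicity, hfac]
    have hRk : Nat.card (R : Subgroup K) <
        2 * Nat.card {c : ConjClasses K // ∀ x ∈ c.carrier, ∃ k : ℕ, orderOf x = r ^ k} := by
      rw [hRcard]
      exact lt_of_lt_of_le (hA r hrπ)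
        (Nat.mul_le_mul_left _ (card_pCls_le_of_normal K Nat.prime_two hKidx r hr2))
    have hNC := normalizer_le_centralizer_of_many_odd hKodd R hRk
    obtain ⟨R', L, hLn, hL0⟩ :=
      Cfsg.Agent.Helper9.hasNormalPComplement_of_normalizer_le_centralizer R hNC
    haveI := hLn
    have hL := isComplement'_sylow R R' L hL0
    have hab : IsMulCommutative (R : Subgroup K) := by
      refine ⟨⟨fun x y => ?_⟩⟩
      have hy : (y : K) ∈ Subgroup.centralizer (((R : Subgroup K)) : Set K) :=
        hNC (Subgroup.le_normalizer y.2)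
      apply Subtype.ext
      have := (Subgroup.mem_centralizer_iff.mp hy) (x : K) x.2
      simpa using this
    refine ⟨L, hLn, commutator_le_of_complement L (R : Subgroup K) hL hab, ?_, ?_⟩
    · have e1 : (R : Subgroup K).index = Nat.card L := hL.index_eq_card
      rw [← e1]
      exact R.not_dvd_index
    · have e2 : L.index = Nat.card (R : Subgroup K) := hL.symm.index_eq_card
      exact ⟨_, e2.trans hRcard⟩
  have hπ' : ∀ r ∈ π.erase 2, r.Prime := fun r hr => hπ r (Finset.mem_of_mem_erase hr)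
  constructor
  · -- (E) normal π-complement
    have hE : ∀ r ∈ π, ∃ K' : Subgroup G, K'.Normal ∧ ¬ r ∣ Nat.card K' ∧
        ∀ q : ℕ, q.Prime → q ∣ K'.index → q ∈ (↑π : Set ℕ) := by
      intro r hr
      by_cases hr2 : r = 2
      · subst hr2
        refine ⟨K, hKn, ?_, ?_⟩
        · rw [← even_iff_two_dvd, Nat.not_even_iff_odd]; exact hKodd
        · intro q hq hqd
          rw [hKidx] at hqd
          have := (Nat.prime_dvd_prime_iff_eq hq Nat.prime_two).mp (hq.dvd_of_dvd_pow hqd)
          rw [this]; exact h2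
      · obtain ⟨L, hLn, -, hLr, b, hLb⟩ := hC r (Finset.mem_erase.mpr ⟨hr2, hr⟩)
        haveI := hLn
        refine ⟨L.map K.subtype, normal_map_subtype_of_index_pow K L (hπ r hr) hLb hLr, ?_, ?_⟩
        · rw [Subgroup.card_map_of_injective K.subtype_injective]; exact hLr
        · intro q hq hqd
          rw [Subgroup.index_map_subtype, hLb, hKidx] at hqd
          rcases (Nat.Prime.dvd_mul hq).mp hqd with hd | hd
          · have := (Nat.prime_dvd_prime_iff_eq hq (hπ r hr)).mp (hq.dvd_of_dvd_pow hd)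
            rw [this]; exact hr
          · have := (Nat.prime_dvd_prime_iff_eq hq Nat.prime_two).mp (hq.dvd_of_dvd_pow hd)
            rw [this]; exact h2
    obtain ⟨N, hNn, hNπ, hNidx⟩ := exists_normal_inter' (↑π : Set ℕ) π hE
    exact ⟨N, hNn, fun r _ hd hr => hNπ r hr hd, fun r hr hd => Finset.mem_coe.mp (hNidx r hr hd)⟩
  · -- (D) abelian Hall subgroup
    obtain ⟨NK, hNKn, hDN, hNKπ, hNKidx⟩ := exists_normal_inter (commutator K) (π.erase 2) hπ' hC
    haveI := hNKn
    obtain ⟨HK, hHall, hHab⟩ := exists_abelian_hall NK hDN (↑(π.erase 2) : Set ℕ)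
      (fun r _ hd hmem => hNKπ r (Finset.mem_coe.mp hmem) hd)
      (fun r hr hd => Finset.mem_coe.mpr (hNKidx r hr hd))
    haveI := hHab
    refine ⟨HK.map K.subtype, ⟨?_, ?_⟩, inferInstance⟩
    · intro q hq hqd
      rw [Subgroup.card_map_of_injective K.subtype_injective] at hqd
      have := hHall.1 q hq hqd
      rw [Finset.mem_coe, Finset.mem_erase] at this
      exact ⟨Finset.mem_coe.mpr this.2, by simpa using this.1⟩
    · intro q hq hqπ hqd
      rw [Subgroup.index_map_subtype] at hqd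
      have hq2 : q ≠ 2 := by
        intro h; exact hqπ.2 (by simp [h])
      have hqmem : q ∈ (↑(π.erase 2) : Set ℕ) := by
        rw [Finset.mem_coe, Finset.mem_erase]
        exact ⟨hq2, Finset.mem_coe.mp hqπ.1⟩
      rcases (Nat.Prime.dvd_mul hq).mp hqd with hd | hd
      · exact hHall.2 q hq hqmem hd
      · rw [hKidx] at hd
        exact hq2 ((Nat.prime_dvd_prime_iff_eq hq Nat.prime_two).mp (hq.dvd_of_dvd_pow hd))

end MainEven

end Cfsg.Agent.Helper1.PElemCls
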