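import Mathlib
import Cfsg.Agent.Helper10.IndexP
import Cfsg.Agent.Helper1.ClsGraph1
import Cfsg.Agent.Helper1.MaxPNilp4

set_option autoImplicit false
open Pointwise

/-! `p`-regular class sizes all powers of `p` (S4034): hypothesis and inheritance. -/

namespace Cfsg.Agent.Helper1.PRegCls

open Subgroup

universe u

variable {G : Type*} [Group G]

/-- all `p`-regular elements have class size a power of `p`. -/
def Hyp (p : ℕ) (G : Type*) [Group G] : Prop :=
  ∀ x : G, (orderOf x).Coprime p → ∃ k : ℕ, (centralizer ({x} : Set G)).index = p ^ k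

/-- `|CV : C| = |V : C ∩ V|` for `V` normal -/
theorem relIndex_sup_normal' [Finite G] (C V : Subgroup G) [V.Normal] :
    C.relIndex (C ⊔ V) = C.relIndex V := by
  have h1 : V.relIndex (C ⊔ V) = V.relIndex C := relIndex_sup_right C V
  have e1 : (⊥ : Subgroup G).relIndex C * C.relIndex (C ⊔ V) = (⊥ : Subgroup G).relIndex (C ⊔ V) :=
    relIndex_mul_relIndex _ _ _ bot_le le_sup_left
  have e2 : (⊥ : Subgroup G).relIndex V * V.relIndex (C ⊔ V) = (⊥ : Subgroup G).relIndex (C ⊔ V) :=
    relIndex_mul_relIndex _ _ _ bot_le le_sup_right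
  have e3 : (⊥ : Subgroup G).relIndex (C ⊓ V) * (C ⊓ V).relIndex C = (⊥ : Subgroup G).relIndex C :=
    relIndex_mul_relIndex _ _ _ bot_le inf_le_left
  have e4 : (⊥ : Subgroup G).relIndex (C ⊓ V) * (C ⊓ V).relIndex V = (⊥ : Subgroup G).relIndex V :=
    relIndex_mul_relIndex _ _ _ bot_le inf_le_right
  rw [inf_relIndex_left] at e3
  rw [inf_relIndex_right] at e4
  rw [h1] at e2
  have hpos : 0 < (⊥ : Subgroup G).relIndex C := by
    rw [relIndex_bot_left]; exact Nat.card_pos
  have key : (⊥ : Subgroup G).relIndex C * C.relIndex (C ⊔ V) =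
      (⊥ : Subgroup G).relIndex C * C.relIndex V := by
    rw [e1, ← e2, ← e4, ← e3]; ring
  exact Nat.eq_of_mul_eq_mul_left hpos key

theorem Hyp.normal [Finite G] {p : ℕ} (hp : p.Prime) (h : Hyp p G) (N : Subgroup G) [N.Normal] :
    Hyp p ↥N := by
  intro x hx
  rw [← Subgroup.orderOf_coe] at hx
  obtain ⟨k, hk⟩ := h (x : G) hx
  have h1 : centralizer ({x} : Set ↥N) = (centralizer ({(x : G)} : Set G)).subgroupOf N := by
    ext y
    rw [mem_subgroupOf, mem_centralizer_iff, mem_centralizer_iff]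
    constructor
    · intro hy z hz
      rw [Set.mem_singleton_iff] at hz
      subst hz
      have := hy x rfl
      exact congrArg Subtype.val this
    · intro hy z hz
      rw [Set.mem_singleton_iff] at hz
      subst hz
      exact Subtype.ext (hy _ rfl)
  have h2 : (centralizer ({x} : Set ↥N)).index ∣ p ^ k := by
    rw [h1, ← hk]
    change (centralizer ({(x : G)} : Set G)).relIndex N ∣ _
    rw [← relIndex_sup_normal']
    exact relIndex_dvd_index_of_le le_sup_left
  obtain ⟨j, -, hj⟩ := (Nat.dvd_prime_pow hp).mp h2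
  exact ⟨j, hj⟩

theorem Hyp.quotient [Finite G] {p : ℕ} (hp : p.Prime) (h : Hyp p G) (N : Subgroup G) [N.Normal] :
    Hyp p (G ⧸ N) := by
  intro x hx
  have : Fact p.Prime := ⟨hp⟩
  obtain ⟨g, rfl, hg⟩ := Cfsg.Agent.Helper10.exists_coprime_lift (p := p) (QuotientGroup.mk' N)
    (QuotientGroup.mk'_surjective N) x hx
  obtain ⟨k, hk⟩ := h g hg
  have h1 : centralizer ({g} : Set G) ≤
      (centralizer ({(QuotientGroup.mk' N) g} : Set (G ⧸ N))).comap (QuotientGroup.mk' N) := by
    intro y hy
    rw [mem_comap, mem_centralizer_iff]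
    intro z hz
    rw [Set.mem_singleton_iff] at hz
    subst hz
    rw [mem_centralizer_iff] at hy
    rw [← map_mul, ← map_mul, hy g rfl]
  have h2 : (centralizer ({(QuotientGroup.mk' N) g} : Set (G ⧸ N))).index ∣ p ^ k := by
    rw [← hk, ← index_comap_of_surjective _ (QuotientGroup.mk'_surjective N)]
    exact index_dvd_of_le h1
  obtain ⟨j, -, hj⟩ := (Nat.dvd_prime_pow hp).mp h2
  exact ⟨j, hj⟩

end Cfsg.Agent.Helper1.PRegCls
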