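import Mathlib
import Cfsg.Agent.Helper1.PRegCls1
import Cfsg.Agent.Helper14.PCore
import Cfsg.Agent.Helper7.HallHigmanDual
import Cfsg.Agent.Helper10.SolvPSolv
import Cfsg.Agent.Helper24.Burnside

set_option autoImplicit false
open Pointwise

/-! `p`-regular class sizes all powers of `p` (S4034): the forward direction. -/

namespace Cfsg.Agent.Helper1.PRegCls

open Subgroup

universe u

/-- conclusion: solvable with an abelian `p`-complement. -/
def Concl (p : ℕ) (G : Type*) [Group G] : Prop :=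
  Group.IsSolvable G ∧ ∃ H : Subgroup G, (∀ a ∈ H, ∀ b ∈ H, a * b = b * a) ∧ ¬ p ∣ Nat.card H ∧
    ∃ k : ℕ, H.index = p ^ k

/-- the case `O_p(G) = 1`, `G` solvable. -/
theorem concl_of_pCore_eq_bot {G : Type u} [Group G] [Finite G] {p : ℕ} [hp : Fact p.Prime]
    (h : Hyp p G) (hsolv : Group.IsSolvable G) (hO : Cfsg.pCore p G = ⊥) : Concl p G := by
  refine ⟨hsolv, ?_⟩
  have hps : Cfsg.IsPSolvable p G := Cfsg.Agent.Helper10.isPSolvable_of_isSolvable p hsolv
  set K := Cfsg.pPrimeCore p G with hK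
  have hKn : K.Normal := Subgroup.sSup_normal _ (fun _ h => h.1)
  have hKc : (Nat.card K).Coprime p := Cfsg.Agent.Helper19.pPrimeCore_coprime p
  have hCK : centralizer (K : Set G) ≤ K :=
    Cfsg.Agent.Helper7.centralizer_pPrimeCore_le_of_isPSolvable hps hO
  have hmem : ∀ x : G, (orderOf x).Coprime p → x ∈ centralizer (K : Set G) := by
    intro x hx
    obtain ⟨k, hk⟩ := h x hx
    have h1 : K ≤ centralizer ({x} : Set G) := by
      apply Cfsg.Agent.Helper1.ClsGraph.le_cent_of_coprime K x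
      rw [Cfsg.Agent.Helper1.ClsGraph.idx_def, hk]
      exact Nat.Coprime.pow_right _ hKc
    rw [mem_centralizer_iff]
    intro y hy
    have := h1 hy
    rw [mem_centralizer_iff] at this
    exact (this x rfl).symm
  have hKord : ∀ a ∈ K, (orderOf a).Coprime p := by
    intro a ha
    have h1 : orderOf a ∣ Nat.card K := by
      have := orderOf_dvd_natCard (⟨a, ha⟩ : ↥K)
      rwa [Subgroup.orderOf_mk] at this
    exact Nat.Coprime.coprime_dvd_left h1 hKc
  refine ⟨K, ?_, ?_, ?_⟩
  · intro a ha b hb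
    have := hmem a (hKord a ha)
    rw [mem_centralizer_iff] at this
    exact (this b hb).symm
  · exact (Nat.Prime.coprime_iff_not_dvd hp.out).mp hKc.symm
  · refine ⟨_, Nat.eq_prime_pow_of_unique_prime_dvd index_ne_zero_of_finite ?_⟩
    intro q hq hqd
    by_contra hne
    have : Fact q.Prime := ⟨hq⟩
    obtain ⟨Q⟩ : Nonempty (Sylow q G) := inferInstance
    have hQK : (Q : Subgroup G) ≤ K := by
      intro x hx
      apply hCK
      apply hmem
      obtain ⟨j, hj⟩ := (IsPGroup.iff_orderOf.mp Q.2) ⟨x, hx⟩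
      rw [Subgroup.orderOf_mk] at hj
      rw [hj]
      exact Nat.Coprime.pow_left _ ((Nat.coprime_primes hq hp.out).mpr hne)
    exact Q.not_dvd_index (dvd_trans hqd (index_dvd_of_le hQK))


/-- lifting the conclusion through a normal `p`-subgroup. -/
theorem concl_of_quotient {G : Type u} [Group G] [Finite G] {p : ℕ} [hp : Fact p.Prime]
    (N : Subgroup G) [hNn : N.Normal] (hN : IsPGroup p N) (h : Concl p (G ⧸ N)) : Concl p G := by
  obtain ⟨hsolvQ, Hb, hHbc, hHbp, k, hHbi⟩ := h
  have hsurj : Function.Surjective (QuotientGroup.mk' N) := QuotientGroup.mk'_surjective N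
  have hsolvN : Group.IsSolvable N := by
    have := hN.isNilpotent
    infer_instance
  have hsolv : Group.IsSolvable G :=
    Group.isSolvable_of_ker_le_range N.subtype (QuotientGroup.mk' N)
      (by rw [QuotientGroup.ker_mk', range_subtype])
  refine ⟨hsolv, ?_⟩
  set H1 := Hb.comap (QuotientGroup.mk' N) with hH1
  have hNbot : (⊥ : Subgroup (G ⧸ N)).comap (QuotientGroup.mk' N) = N := by
    rw [MonoidHom.comap_bot, QuotientGroup.ker_mk']
  have hNH1 : N ≤ H1 := by
    conv_lhs => rw [← hNbot]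
    exact comap_mono bot_le
  have hrel : N.relIndex H1 = Nat.card Hb := by
    conv_lhs => rw [← hNbot]
    rw [Cfsg.Agent.Helper1.MaxPNilp.relIndex_comap_comap _ hsurj, relIndex_bot_left]
  have hcop : ¬ p ∣ N.relIndex H1 := by rw [hrel]; exact hHbp
  obtain ⟨H, hH, hHcard, a, hNcard⟩ :=
    Cfsg.Agent.Helper1.MaxPNilp.exists_compl_sub N H1 hNH1 hN hcop
  have hcardH' : Nat.card (H.map H1.subtype) = Nat.card H :=
    (Nat.card_congr (H.equivMapOfInjective H1.subtype H1.subtype_injective).toEquiv).symm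
  refine ⟨H.map H1.subtype, ?_, ?_, ?_⟩
  · rintro _ ⟨a', ha', rfl⟩ _ ⟨b', hb', rfl⟩
    have hc1 : a' * b' * (b' * a')⁻¹ ∈ H := H.mul_mem (H.mul_mem ha' hb') (H.inv_mem (H.mul_mem hb' ha'))
    have hc2 : a' * b' * (b' * a')⁻¹ ∈ N.subgroupOf H1 := by
      rw [mem_subgroupOf, ← QuotientGroup.eq_one_iff]
      have hab := hHbc _ a'.2 _ b'.2
      push_cast
      change ((QuotientGroup.mk' N) ((a' : G) * (b' : G) * ((b' : G) * (a' : G))⁻¹)) = 1
      rw [map_mul, map_mul, map_inv, map_mul, hab, mul_inv_cancel]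
    have hc3 : a' * b' * (b' * a')⁻¹ ∈ N.subgroupOf H1 ⊓ H := ⟨hc2, hc1⟩
    rw [hH.disjoint.eq_bot, mem_bot] at hc3
    have hc4 : a' * b' = b' * a' := by
      rw [← mul_inv_eq_one]; exact hc3
    change (a' : G) * (b' : G) = (b' : G) * (a' : G)
    exact_mod_cast congrArg Subtype.val hc4
  · rw [hcardH', hHcard]; exact hcop
  · obtain ⟨c, hc⟩ := hN.exists_card_eq
    refine ⟨c + k, ?_⟩
    have h1 : (H.map H1.subtype).index * Nat.card (H.map H1.subtype) = Nat.card G :=
      index_mul_card _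
    have h2 : Nat.card G = Nat.card (G ⧸ N) * Nat.card N := card_eq_card_quotient_mul_card_subgroup N
    have h3 : Hb.index * Nat.card Hb = Nat.card (G ⧸ N) := index_mul_card Hb
    rw [hcardH', hHcard, hrel, h2, ← h3, hHbi, hc] at h1
    have h4 : 0 < Nat.card Hb := Nat.card_pos
    have h5 : (H.map H1.subtype).index * Nat.card Hb = p ^ (c + k) * Nat.card Hb := by
      rw [h1, pow_add]; ring
    exact Nat.eq_of_mul_eq_mul_right h4 h5
end Cfsg.Agent.Helper1.PRegCls
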