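import Mathlib
import Cfsg.Agent.Helper1.PRegCls2
import Cfsg.Agent.S0581

set_option autoImplicit false
open Pointwise

/-! `p`-regular class sizes all powers of `p` (S4034): induction and converse. -/

namespace Cfsg.Agent.Helper1.PRegCls

open Subgroup

universe u

theorem main_aux (p : ℕ) [hp : Fact p.Prime] :
    ∀ (n : ℕ) (G : Type u) [Group G] [Finite G], Nat.card G = n → Hyp p G → Concl p G := by
  intro n
  induction n using Nat.strong_induction_on with
  | _ n ih =>
  intro G _ _ hn hyp
  by_cases hO : Cfsg.pCore p G = ⊥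
  swap
  · -- `O_p(G) ≠ 1`
    set N := Cfsg.pCore p G with hN
    have hNn : N.Normal := Cfsg.Agent.Helper14.pCore_normal p
    have hNp : IsPGroup p N := Cfsg.Agent.Helper14.pCore_isPGroup p
    have hlt : Nat.card (G ⧸ N) < n := by
      rw [← hn, ← index_eq_card, ← index_mul_card N]
      have h1 : 1 < Nat.card N := by
        rw [one_lt_card_iff_ne_bot]; exact hO
      have h2 : 0 < N.index := Nat.pos_of_ne_zero index_ne_zero_of_finite
      nlinarith
    exact concl_of_quotient N hNp (ih _ hlt (G ⧸ N) rfl (hyp.quotient hp.out N))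
  -- `O_p(G) = 1`: it suffices to show `G` solvable
  apply concl_of_pCore_eq_bot hyp _ hO
  rcases subsingleton_or_nontrivial G with htriv | hnt
  · exact Group.isSolvable_of_comm (fun a b => by rw [Subsingleton.elim a b])
  obtain ⟨N, hNn, hNne, -, hmin⟩ :=
    Cfsg.Agent.Helper1.MaxPNilp.exists_min_normal (⊤ : Subgroup G) inferInstance top_ne_bot
  by_cases hNtop : N = ⊤
  · -- `G` is simple
    have hsimple : IsSimpleGroup G := by
      refine ⟨fun H hH => ?_⟩
      by_cases hHb : H = ⊥
      · exact Or.inl hHb
      · right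
        have := hmin H hH hHb (by rw [hNtop]; exact le_top)
        rw [this, hNtop]
    -- `G` is not a `p`-group
    have hnotp : ¬ IsPGroup p G := by
      intro hpG
      have htop : (⊤ : Subgroup G) ≤ Cfsg.pCore p G :=
        Cfsg.Agent.Helper14.le_pCore p inferInstance (hpG.to_subgroup ⊤)
      rw [hO] at htop
      exact top_ne_bot (le_bot_iff.mp htop)
    have hex : ∃ g : G, g ≠ 1 ∧ (orderOf g).Coprime p := by
      by_contra hcon
      push Not at hcon
      apply hnotp
      intro g
      -- write the order as p^a * m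
      obtain ⟨a, m, hm, hgm⟩ := Nat.exists_eq_pow_mul_and_not_dvd (orderOf_pos g).ne' p hp.out.ne_one
      refine ⟨a, ?_⟩
      by_contra hne
      have h1 : (orderOf (g ^ p ^ a)).Coprime p := by
        have h2 : orderOf (g ^ p ^ a) = m := by
          rw [orderOf_pow' g (pow_ne_zero a hp.out.ne_zero), hgm, Nat.gcd_eq_right (dvd_mul_right _ _),
            Nat.mul_div_cancel_left _ (pow_pos hp.out.pos a)]
        rw [h2]
        exact ((Nat.Prime.coprime_iff_not_dvd hp.out).mpr hm).symm
      exact hcon _ hne h1
    obtain ⟨g, hg1, hgc⟩ := hex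
    obtain ⟨k, hk⟩ := hyp g hgc
    have hprime : (Nat.card G).Prime :=
      Cfsg.Agent.Helper24.prime_card_of_prime_pow_class p k hp.out g hg1 hk
    have : Fact (Nat.card G).Prime := ⟨hprime⟩
    have hcyc : IsCyclic G := isCyclic_of_prime_card rfl
    exact Group.isSolvable_of_comm (fun a b => (IsCyclic.isMulCommutative).is_comm.comm a b)
  · -- proper minimal normal subgroup
    have hltN : Nat.card N < n := by
      rw [← hn, ← index_mul_card N]
      have h1 : 1 < N.index := by
        rw [Nat.one_lt_iff_ne_zero_and_ne_one]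
        exact ⟨index_ne_zero_of_finite, fun h => hNtop (index_eq_one.mp h)⟩
      have h2 : 0 < Nat.card N := Nat.card_pos
      nlinarith
    have hltQ : Nat.card (G ⧸ N) < n := by
      rw [← hn, ← index_eq_card, ← index_mul_card N]
      have h1 : 1 < Nat.card N := by
        rw [one_lt_card_iff_ne_bot]; exact hNne
      have h2 : 0 < N.index := Nat.pos_of_ne_zero index_ne_zero_of_finite
      nlinarith
    have hsN : Group.IsSolvable N := (ih _ hltN N rfl (hyp.normal hp.out N)).1
    have hsQ : Group.IsSolvable (G ⧸ N) := (ih _ hltQ (G ⧸ N) rfl (hyp.quotient hp.out N)).1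
    exact Group.isSolvable_of_ker_le_range N.subtype (QuotientGroup.mk' N)
      (by rw [QuotientGroup.ker_mk', range_subtype])


open scoped IsMulCommutative in
/-- the converse: an abelian `p`-complement forces `p`-power class sizes of `p`-regular elements. -/
theorem hyp_of_compl {G : Type u} [Group G] [Finite G] {p : ℕ} [hp : Fact p.Prime]
    (H : Subgroup G) (hc : IsMulCommutative H) (hHp : ¬ p ∣ Nat.card H) (k : ℕ)
    (hHi : H.index = p ^ k) : Hyp p G := by
  intro x hx
  have hnil : Group.IsNilpotent H := inferInstance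
  have hHall : (Nat.card H).Coprime H.index := by
    rw [hHi]
    exact Nat.Coprime.pow_right _ ((Nat.Prime.coprime_iff_not_dvd hp.out).mpr hHp).symm
  have hK : ∀ q : ℕ, q.Prime → q ∣ Nat.card (zpowers x) → q ∣ Nat.card H := by
    intro q hq hqd
    rw [Nat.card_zpowers] at hqd
    have hqp : q ≠ p := by
      rintro rfl
      exact (Nat.Prime.coprime_iff_not_dvd hq).mp hx.symm hqd
    have h1 : q ∣ Nat.card G := dvd_trans hqd (orderOf_dvd_natCard x)
    rw [← index_mul_card H, hHi] at h1
    rcases (Nat.Prime.dvd_mul hq).mp h1 with h2 | h2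
    · exact absurd ((Nat.prime_dvd_prime_iff_eq hq hp.out).mp (hq.dvd_of_dvd_pow h2)) hqp
    · exact h2
  obtain ⟨g, hg⟩ := Cfsg.Agent.S0581.result H (zpowers x) hnil hHall hK
  have hxg : x ∈ MulAut.conj g • H := hg (mem_zpowers x)
  have hle : MulAut.conj g • H ≤ centralizer ({x} : Set G) := by
    intro y hy
    rw [mem_centralizer_iff]
    intro z hz
    rw [Set.mem_singleton_iff] at hz
    subst hz
    obtain ⟨y', hy', rfl⟩ := hy
    obtain ⟨x', hx', rfl⟩ := hxg
    have hcomm : x' * y' = y' * x' := by
      have := mul_comm (⟨x', hx'⟩ : ↥H) ⟨y', hy'⟩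
      exact congrArg Subtype.val this
    change MulAut.conj g x' * MulAut.conj g y' = MulAut.conj g y' * MulAut.conj g x'
    rw [← map_mul, ← map_mul, hcomm]
  have hidx : (MulAut.conj g • H).index = p ^ k := by
    have h1 := index_mul_card (MulAut.conj g • H)
    have h2 := index_mul_card H
    rw [Cfsg.Agent.Helper1.card_conj_smul'] at h1
    rw [← h2, hHi] at h1
    exact Nat.eq_of_mul_eq_mul_right Nat.card_pos h1
  have h3 : (centralizer ({x} : Set G)).index ∣ p ^ k := by
    rw [← hidx]; exact index_dvd_of_le hle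
  obtain ⟨j, -, hj⟩ := (Nat.dvd_prime_pow hp.out).mp h3
  exact ⟨j, hj⟩
end Cfsg.Agent.Helper1.PRegCls
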