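import Mathlib

set_option linter.style.haveILetI false
set_option linter.unusedSectionVars false
set_option linter.unusedVariables false

namespace Cfsg.Agent.Helper1.Pearl3

open Subgroup

section comm
variable {V : Type*} [CommGroup V] [Finite V]

theorem x2_card_zpowers (hexp : ∀ v : V, v ^ 3 = 1) {w : V} (hw : w ≠ 1) :
    Nat.card (zpowers w) = 3 := by
  haveI : Fact (Nat.Prime 3) := ⟨by norm_num⟩
  rw [Nat.card_zpowers]
  exact orderOf_eq_prime (hexp w) hw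

theorem x2_zpowers_eq (hexp : ∀ v : V, v ^ 3 = 1) {x y : V} (hx : x ≠ 1) (hy : y ≠ 1)
    (h : x ∈ zpowers y) : zpowers x = zpowers y := by
  have hle : zpowers x ≤ zpowers y := (zpowers_le).2 h
  exact Subgroup.eq_of_le_of_card_ge hle
    (by rw [x2_card_zpowers hexp hx, x2_card_zpowers hexp hy])

theorem x2_span (hV : Nat.card V = 9) (hexp : ∀ v : V, v ^ 3 = 1) {w v : V} (hw : w ≠ 1)
    (hv : v ∉ zpowers w) (x : V) : ∃ i j : ℕ, x = w ^ i * v ^ j := by
  have hH : zpowers w ⊔ zpowers v = ⊤ := by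
    have h1 : zpowers w ≤ zpowers w ⊔ zpowers v := le_sup_left
    have h3 : Nat.card (zpowers w) ∣ Nat.card (zpowers w ⊔ zpowers v : Subgroup V) :=
      Subgroup.card_dvd_of_le h1
    have h9 : Nat.card (zpowers w ⊔ zpowers v : Subgroup V) ∣ 9 :=
      hV ▸ Subgroup.card_subgroup_dvd_card _
    rw [x2_card_zpowers hexp hw] at h3
    have hne : Nat.card (zpowers w ⊔ zpowers v : Subgroup V) ≠ 3 := by
      intro h
      have : zpowers w = zpowers w ⊔ zpowers v :=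
        Subgroup.eq_of_le_of_card_ge h1 (by rw [h, x2_card_zpowers hexp hw])
      apply hv
      rw [this]
      exact (le_sup_right : zpowers v ≤ zpowers w ⊔ zpowers v) (mem_zpowers v)
    have h99 : Nat.card (zpowers w ⊔ zpowers v : Subgroup V) = 9 := by
      have hle : Nat.card (zpowers w ⊔ zpowers v : Subgroup V) ≤ 9 :=
        Nat.le_of_dvd (by norm_num) h9
      generalize Nat.card (zpowers w ⊔ zpowers v : Subgroup V) = d at *
      interval_cases d <;> omega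
    exact Subgroup.eq_top_of_card_eq _ (h99.trans hV.symm)
  have hx : x ∈ zpowers w ⊔ zpowers v := hH ▸ mem_top x
  obtain ⟨a, ha, b, hb, rfl⟩ := Subgroup.mem_sup.1 hx
  obtain ⟨i, rfl⟩ := (mem_powers_iff_mem_zpowers.2 ha)
  obtain ⟨j, rfl⟩ := (mem_powers_iff_mem_zpowers.2 hb)
  exact ⟨i, j, rfl⟩

theorem x2_ext (hV : Nat.card V = 9) (hexp : ∀ v : V, v ^ 3 = 1) {w v : V} (hw : w ≠ 1)
    (hv : v ∉ zpowers w) (β γ : MulAut V) (h1 : β w = γ w) (h2 : β v = γ v) : β = γ := by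
  apply MulEquiv.ext
  intro x
  obtain ⟨i, j, rfl⟩ := x2_span hV hexp hw hv x
  simp only [map_mul, map_pow, h1, h2]

theorem x2_key (hV : Nat.card V = 9) (hexp : ∀ v : V, v ^ 3 = 1) (β : MulAut V)
    (hβ3 : β ^ 3 = 1) {w : V} (hw : w ≠ 1) (hβw : β w = w) (v : V) :
    ∃ k : ℕ, β v = v * w ^ k := by
  by_cases hv : v ∈ zpowers w
  · obtain ⟨m, rfl⟩ := mem_zpowers_iff.1 hv
    exact ⟨0, by rw [map_zpow, hβw, pow_zero, mul_one]⟩
  · obtain ⟨i, j, hij⟩ := x2_span hV hexp hw hv (β v)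
    have hj : v ^ j = v ^ (j % 3) := pow_eq_pow_mod j (hexp v)
    have hlt : j % 3 < 3 := Nat.mod_lt _ (by norm_num)
    rw [hj] at hij
    generalize j % 3 = r at hij hlt
    interval_cases r
    · exfalso
      apply hv
      have h1 : β v = β (w ^ i) := by rw [map_pow, hβw, hij, pow_zero, mul_one]
      have h2 := β.injective h1
      rw [h2]
      exact Subgroup.pow_mem _ (mem_zpowers w) i
    · exact ⟨i, by rw [hij, pow_one, mul_comm]⟩
    · exfalso
      apply hv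
      have hv2 : v ^ 2 = v⁻¹ := by
        rw [eq_inv_iff_mul_eq_one, ← pow_succ]
        exact hexp v
      have h1 : β v = w ^ i * v⁻¹ := by rw [hij, hv2]
      have h2 : β (β v) = v := by
        rw [h1, map_mul, map_pow, hβw, map_inv, h1]
        simp
      have h3 : β (β (β v)) = v := by
        have := congrArg (fun f : MulAut V => f v) hβ3
        simpa [pow_succ, MulAut.mul_apply] using this
      rw [h2] at h3
      have h4 : w ^ i = v ^ 2 := by
        rw [h3] at h1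
        rw [pow_two]
        nth_rewrite 1 [h1]
        simp
      have h5 : v = (w ^ i) ^ 2 := by
        rw [h4, ← pow_mul]
        have : v ^ (2 * 2) = v ^ 3 * v := by rw [← pow_succ]
        rw [this, hexp v, one_mul]
      rw [h5]
      exact Subgroup.pow_mem _ (Subgroup.pow_mem _ (mem_zpowers w) i) 2

theorem x2_pow_fix (β : MulAut V) {w : V} (hβw : β w = w) (k : ℕ) : (β ^ k) w = w := by
  induction k with
  | zero => simp
  | succ k ih => rw [pow_succ', MulAut.mul_apply, ih, hβw]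

theorem x2_pow_apply (β : MulAut V) {w v : V} (hβw : β w = w) (a : ℕ)
    (h : β v = v * w ^ a) (k : ℕ) : (β ^ k) v = v * w ^ (a * k) := by
  induction k with
  | zero => simp
  | succ k ih =>
    rw [pow_succ', MulAut.mul_apply, ih, map_mul, map_pow, hβw, h, mul_assoc, ← pow_add,
      Nat.mul_succ, add_comm]

theorem x2_transvection (hV : Nat.card V = 9) (hexp : ∀ v : V, v ^ 3 = 1) (β : MulAut V)
    (hβ3 : β ^ 3 = 1) (hβ1 : β ≠ 1) {w v : V} (hw : w ≠ 1) (hβw : β w = w)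
    (hv : v ∉ zpowers w) :
    ∃ a : ℕ, (β ^ a) w = w ∧ (β ^ a) v = v * w := by
  obtain ⟨a, ha⟩ := x2_key hV hexp β hβ3 hw hβw v
  have ha0 : a % 3 ≠ 0 := by
    intro h0
    apply hβ1
    apply x2_ext hV hexp hw hv β 1 (by simpa using hβw)
    rw [ha, pow_eq_pow_mod a (hexp w), h0]
    simp
  refine ⟨a, x2_pow_fix β hβw a, ?_⟩
  rw [x2_pow_apply β hβw a ha a, pow_eq_pow_mod (a * a) (hexp w)]
  have : (a * a) % 3 = 1 := by
    have h1 : a % 3 = 1 ∨ a % 3 = 2 := by omega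
    rcases h1 with h1 | h1 <;> simp [Nat.mul_mod, h1]
  rw [this, pow_one]

theorem x2_main (hV : Nat.card V = 9) (hexp : ∀ v : V, v ^ 3 = 1)
    (A : Subgroup (MulAut V)) (c α : MulAut V) (hc : c ∈ A) (hα : α ∈ A) (z : V) (hz : z ≠ 1)
    (hcz : c z = z) (hc1 : c ≠ 1) (hc3 : c ^ 3 = 1) (hαc : α * c * α⁻¹ ∉ Subgroup.zpowers c) :
    ∃ τ ∈ A, ∀ v : V, τ v = v⁻¹ := by
  obtain ⟨c', hc'⟩ : ∃ c', c' = α * c * α⁻¹ := ⟨_, rfl⟩
  obtain ⟨z', hz'⟩ : ∃ z', z' = α z := ⟨_, rfl⟩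
  rw [← hc'] at hαc
  have hc'A : c' ∈ A := hc' ▸ A.mul_mem (A.mul_mem hα hc) (A.inv_mem hα)
  have hz'1 : z' ≠ 1 := by
    intro h
    apply hz
    apply α.injective
    rw [← hz', h, map_one]
  have hc'z' : c' z' = z' := by
    rw [hc', hz', MulAut.mul_apply, MulAut.mul_apply, MulAut.inv_apply_self, hcz]
  have hc'3 : c' ^ 3 = 1 := by
    rw [hc', conj_pow, hc3]
    simp
  have hc'1 : c' ≠ 1 := by
    intro h
    apply hc1
    rw [hc'] at h
    have := conj_eq_one_iff.1 h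
    exact this
  -- Step (i)
  have hz'z : z' ∉ zpowers z := by
    intro hmem
    have heq : zpowers z' = zpowers z := x2_zpowers_eq hexp hz'1 hz hmem
    have hzz' : z ∈ zpowers z' := heq ▸ mem_zpowers z
    obtain ⟨m, hm⟩ := mem_zpowers_iff.1 hzz'
    have hc'z : c' z = z := by rw [← hm, map_zpow, hc'z']
    obtain ⟨e, he⟩ : ∃ e : V, e ∉ zpowers z := by
      by_contra hcon
      simp only [not_exists, not_not] at hcon
      have htop : zpowers z = ⊤ := eq_top_iff.2 (fun x _ => hcon x)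
      have h3 := x2_card_zpowers hexp hz
      rw [htop, Subgroup.card_top, hV] at h3
      norm_num at h3
    obtain ⟨a, ha1, ha2⟩ := x2_transvection hV hexp c hc3 hc1 hz hcz he
    obtain ⟨b, hb⟩ := x2_key hV hexp c' hc'3 hz hc'z e
    apply hαc
    have hcc : c' = (c ^ a) ^ b := by
      apply x2_ext hV hexp hz he
      · rw [hc'z, x2_pow_fix _ ha1]
      · rw [hb, x2_pow_apply (c ^ a) ha1 1 (by simpa using ha2) b, one_mul]
    rw [hcc, ← pow_mul]
    exact Subgroup.pow_mem _ (mem_zpowers c) _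
  have hzz' : z ∉ zpowers z' := by
    intro hmem
    apply hz'z
    rw [x2_zpowers_eq hexp hz hz'1 hmem]
    exact mem_zpowers z'
  obtain ⟨a, ha1, ha2⟩ := x2_transvection hV hexp c hc3 hc1 hz hcz hz'z
  obtain ⟨b, hb1, hb2⟩ := x2_transvection hV hexp c' hc'3 hc'1 hz'1 hc'z' hzz'
  obtain ⟨A₁, hA₁⟩ : ∃ A₁, A₁ = c ^ a := ⟨_, rfl⟩
  obtain ⟨B₁, hB₁⟩ : ∃ B₁, B₁ = c' ^ b := ⟨_, rfl⟩
  rw [← hA₁] at ha1 ha2
  rw [← hB₁] at hb1 hb2
  have hA₁A : A₁ ∈ A := hA₁ ▸ A.pow_mem hc a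
  have hB₁A : B₁ ∈ A := hB₁ ▸ A.pow_mem hc'A b
  have hW : A₁ * B₁⁻¹ * A₁ ∈ A := A.mul_mem (A.mul_mem hA₁A (A.inv_mem hB₁A)) hA₁A
  have hBinv_z : B₁⁻¹ z = z * z'⁻¹ := by
    have : B₁ (z * z'⁻¹) = z := by
      rw [map_mul, map_inv, hb1, hb2]
      simp
    conv_lhs => rw [← this]
    rw [MulAut.inv_apply_self]
  have hBinv_z' : B₁⁻¹ z' = z' := by
    conv_lhs => rw [← hb1]
    rw [MulAut.inv_apply_self]
  have hWz : (A₁ * B₁⁻¹ * A₁) z = z'⁻¹ := by
    rw [MulAut.mul_apply, MulAut.mul_apply, ha1, hBinv_z, map_mul, map_inv, ha1, ha2]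
    simp
  have hWz' : (A₁ * B₁⁻¹ * A₁) z' = z := by
    rw [MulAut.mul_apply, MulAut.mul_apply, ha2, map_mul, hBinv_z', hBinv_z, map_mul, map_mul,
      map_inv, ha1, ha2]
    simp
  refine ⟨(A₁ * B₁⁻¹ * A₁) * (A₁ * B₁⁻¹ * A₁), A.mul_mem hW hW, fun x => ?_⟩
  obtain ⟨i, j, rfl⟩ := x2_span hV hexp hz hz'z x
  rw [MulAut.mul_apply, map_mul, map_pow, map_pow, hWz, hWz', map_mul, map_pow, map_pow, map_inv,
    hWz', hWz]
  simp [mul_comm]

end comm

theorem exists_inverting_of_not_normal {V : Type*} [Group V] [Finite V]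
    (hV : Nat.card V = 9) (hcomm : ∀ a b : V, a * b = b * a) (hexp : ∀ v : V, v ^ 3 = 1)
    (A : Subgroup (MulAut V)) (c α : MulAut V) (hc : c ∈ A) (hα : α ∈ A) (z : V) (hz : z ≠ 1)
    (hcz : c z = z) (hc1 : c ≠ 1) (hc3 : c ^ 3 = 1) (hαc : α * c * α⁻¹ ∉ Subgroup.zpowers c) :
    ∃ τ ∈ A, ∀ v : V, τ v = v⁻¹ := by
  letI : CommGroup V := { (inferInstance : Group V) with mul_comm := hcomm }
  exact x2_main hV hexp A c α hc hα z hz hcz hc1 hc3 hαc

end Cfsg.Agent.Helper1.Pearl3
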