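import Mathlib
import Cfsg.Agent.Helper29.PqDefs

/-!
# S4306: elementary facts on the Frobenius structure `FrobPQ A f η ℓ h`
-/

set_option autoImplicit false

namespace Cfsg.Agent.Helper1.PqB

open Cfsg.Agent.Helper29.Pq

variable {A : Type*} [Group A] {f η : A} {ℓ h : ℕ}

theorem orderOf_f (hA : FrobPQ A f η ℓ h) : orderOf f = ℓ :=
  haveI := Fact.mk hA.hℓ
  orderOf_eq_prime hA.f_pow hA.f_ne

theorem orderOf_η (hA : FrobPQ A f η ℓ h) : orderOf η = h :=
  haveI := Fact.mk hA.hh
  orderOf_eq_prime hA.η_pow hA.η_ne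

theorem card_zpowers_f (hA : FrobPQ A f η ℓ h) : Nat.card (Subgroup.zpowers f) = ℓ := by
  rw [Nat.card_zpowers, orderOf_f hA]

theorem card_zpowers_η (hA : FrobPQ A f η ℓ h) : Nat.card (Subgroup.zpowers η) = h := by
  rw [Nat.card_zpowers, orderOf_η hA]

theorem η_conj_mem (hA : FrobPQ A f η ℓ h) (g : A) (hg : g ∈ Subgroup.zpowers f) :
    η * g * η⁻¹ ∈ Subgroup.zpowers f := by
  obtain ⟨k, rfl⟩ := Subgroup.mem_zpowers_iff.mp hg
  rw [← conj_zpow]
  exact Subgroup.zpow_mem _ hA.norm k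

theorem normal_zpowers_f [Finite A] (hA : FrobPQ A f η ℓ h) : (Subgroup.zpowers f).Normal := by
  rw [← Subgroup.normalizer_eq_top_iff, eq_top_iff]
  intro x _
  obtain ⟨u, hu, v, hv, rfl⟩ := hA.gen x
  have h1 : Subgroup.zpowers f ≤ Subgroup.normalizer ((Subgroup.zpowers f : Subgroup A) : Set A) :=
    Subgroup.le_normalizer
  have h2 : Subgroup.zpowers η ≤ Subgroup.normalizer ((Subgroup.zpowers f : Subgroup A) : Set A) := by
    rw [Subgroup.zpowers_le]
    exact Subgroup.mem_normalizer_fintype (fun n hn => η_conj_mem hA n hn)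
  exact Subgroup.mul_mem _ (h1 hu) (h2 hv)

/-- an element outside `⟨f⟩` commutes with no nontrivial element of `⟨f⟩` -/
theorem not_commute (hA : FrobPQ A f η ℓ h) (a : A) (ha : a ∉ Subgroup.zpowers f) (g : A)
    (hg : g ∈ Subgroup.zpowers f) (hag : a * g = g * a) : g = 1 := by
  by_contra hg1
  -- `f` is a power of `g`
  have hprimeF : (Nat.card (Subgroup.zpowers f)).Prime := by
    rw [card_zpowers_f hA]; exact hA.hℓ
  have hfg : f ∈ Subgroup.zpowers g := by
    haveI : Fact (Nat.card (Subgroup.zpowers f)).Prime := ⟨hprimeF⟩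
    have h1 : Subgroup.zpowers (⟨g, hg⟩ : Subgroup.zpowers f) = ⊤ := by
      apply zpowers_eq_top_of_prime_card rfl
      intro h0
      exact hg1 (congrArg Subtype.val h0)
    have h2 : (⟨f, Subgroup.mem_zpowers f⟩ : Subgroup.zpowers f) ∈
        Subgroup.zpowers (⟨g, hg⟩ : Subgroup.zpowers f) := by rw [h1]; trivial
    obtain ⟨k, hk⟩ := Subgroup.mem_zpowers_iff.mp h2
    rw [Subgroup.mem_zpowers_iff]
    refine ⟨k, ?_⟩
    have := congrArg Subtype.val hk
    rwa [Subgroup.coe_zpow] at this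
  have haf : Commute a f := by
    obtain ⟨k, hk⟩ := Subgroup.mem_zpowers_iff.mp hfg
    rw [← hk]
    exact Commute.zpow_right hag k
  obtain ⟨u, hu, v, hv, rfl⟩ := hA.gen a
  have huf : Commute u f := by
    obtain ⟨k, hk⟩ := Subgroup.mem_zpowers_iff.mp hu
    rw [← hk]
    exact (Commute.refl f).zpow_left k
  have hvf : Commute v f := by
    have h1 : v = u⁻¹ * (u * v) := by group
    rw [h1]
    exact Commute.mul_left huf.inv_left haf
  have hv1 : v ≠ 1 := by
    intro hv1
    apply ha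
    rw [hv1, mul_one]
    exact hu
  -- `η` is a power of `v`
  have hprimeH : (Nat.card (Subgroup.zpowers η)).Prime := by
    rw [card_zpowers_η hA]; exact hA.hh
  have hηv : η ∈ Subgroup.zpowers v := by
    haveI : Fact (Nat.card (Subgroup.zpowers η)).Prime := ⟨hprimeH⟩
    have h1 : Subgroup.zpowers (⟨v, hv⟩ : Subgroup.zpowers η) = ⊤ := by
      apply zpowers_eq_top_of_prime_card rfl
      intro h0
      exact hv1 (congrArg Subtype.val h0)
    have h2 : (⟨η, Subgroup.mem_zpowers η⟩ : Subgroup.zpowers η) ∈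
        Subgroup.zpowers (⟨v, hv⟩ : Subgroup.zpowers η) := by rw [h1]; trivial
    obtain ⟨k, hk⟩ := Subgroup.mem_zpowers_iff.mp h2
    rw [Subgroup.mem_zpowers_iff]
    refine ⟨k, ?_⟩
    have := congrArg Subtype.val hk
    rwa [Subgroup.coe_zpow] at this
  have hηf : Commute η f := by
    obtain ⟨k, hk⟩ := Subgroup.mem_zpowers_iff.mp hηv
    rw [← hk]
    exact Commute.zpow_left hvf k
  apply hA.ncomm
  rw [hηf.eq, mul_inv_cancel_right]

end Cfsg.Agent.Helper1.PqB
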