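import Mathlib
import Cfsg.Agent.Helper1.S3fCaseB2

/-!
# S4305, case (b): abstract core, part 3 (norm maps and stabilizers of characters)
-/

set_option autoImplicit false

namespace Cfsg.Agent.Helper1.S3fCaseB

open Cfsg.Agent.Helper29.S3f

namespace Cfg

variable {S P T : Type*} [CommGroup S] [CommGroup P] [CommGroup T] {s q : ℕ}
variable (c : Cfg S P T s q)
include c

/-- the norm map of a subgroup `L` of `P` on `S` -/
noncomputable def nrm [Finite P] (L : Subgroup P) (u : S) : S :=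
  @Finset.prod L S _ (@Finset.univ L (Fintype.ofFinite L)) (fun k => c.ι (k : P) u)

theorem nrm_eq [Finite P] (L : Subgroup P) [Fintype L] (u : S) :
    c.nrm L u = ∏ k : L, c.ι (k : P) u := by
  unfold nrm
  congr 1
  exact congrArg (fun i => @Finset.univ L i) (Subsingleton.elim _ _)

theorem nrm_mul [Finite P] (L : Subgroup P) (u v : S) :
    c.nrm L (u * v) = c.nrm L u * c.nrm L v := by
  let _ := Fintype.ofFinite L
  rw [c.nrm_eq, c.nrm_eq, c.nrm_eq, ← Finset.prod_mul_distrib]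
  apply Finset.prod_congr rfl
  intro k _
  rw [map_mul]

theorem nrm_fixed [Finite P] (L : Subgroup P) (u : S) (y : P) (hy : y ∈ L) :
    c.ι y (c.nrm L u) = c.nrm L u := by
  let _ := Fintype.ofFinite L
  rw [c.nrm_eq, map_prod]
  exact Fintype.prod_equiv (Equiv.mulLeft (⟨y, hy⟩ : L)) _ _
    (fun k => by rw [Equiv.coe_mulLeft, Subgroup.coe_mul, c.ι_mul])

theorem nrm_of_fixed [Finite P] (L : Subgroup P) (u : S) (h : ∀ k ∈ L, c.ι k u = u) :
    c.nrm L u = u ^ Nat.card L := by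
  let _ := Fintype.ofFinite L
  rw [c.nrm_eq, Finset.prod_congr rfl (fun (k : L) _ => h (k : P) k.2), Finset.prod_const,
    Finset.card_univ, Nat.card_eq_fintype_card]

theorem chi_nrm [Finite P] (L : Subgroup P) (χ : S →* T) (h : ∀ k ∈ L, ∀ v : S, χ (c.ι k v) = χ v)
    (u : S) : χ (c.nrm L u) = χ u ^ Nat.card L := by
  let _ := Fintype.ofFinite L
  rw [c.nrm_eq, map_prod, Finset.prod_congr rfl (fun (k : L) _ => h (k : P) k.2 u),
    Finset.prod_const, Finset.card_univ, Nat.card_eq_fintype_card]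

theorem nrm_mem [Finite P] (L : Subgroup P) (W : Subgroup S) (h : ∀ k ∈ L, ∀ w ∈ W, c.ι k w ∈ W)
    (u : S) (hu : u ∈ W) : c.nrm L u ∈ W := by
  let _ := Fintype.ofFinite L
  rw [c.nrm_eq]
  exact Subgroup.prod_mem W (fun (k : L) _ => h (k : P) k.2 u hu)

/-- the stabilizer in `P` of a character -/
def stabP (χ : S →* T) : Subgroup P where
  carrier := {x | ∀ u : S, χ (c.ι x u) = χ u}
  mul_mem' := by
    intro a b ha hb u
    rw [c.ι_mul, ha, hb]
  one_mem' := by
    intro u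
    rw [c.ι_one]
  inv_mem' := by
    intro a ha u
    have := ha (c.ι a⁻¹ u)
    rw [c.ι_ι_inv] at this
    exact this.symm

theorem mem_stabP (χ : S →* T) (x : P) : x ∈ c.stabP χ ↔ ∀ u : S, χ (c.ι x u) = χ u := Iff.rfl

/-- values of characters are killed by `s` -/
theorem chi_pow_s (χ : S →* T) (u : S) : χ u ^ s = 1 := by
  rw [← map_pow, c.hSexp, map_one]

/-- a character killed by a power prime to `s` is trivial there -/
theorem chi_eq_one_of_pow (χ : S →* T) (u : S) {m : ℕ} (hm : m.Coprime s) (h : χ u ^ m = 1) :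
    χ u = 1 :=
  eq_one_of_pow_coprime (χ u) hm h (c.chi_pow_s χ u)

theorem eq_one_of_pow_S (u : S) {m : ℕ} (hm : m.Coprime s) (h : u ^ m = 1) : u = 1 :=
  eq_one_of_pow_coprime u hm h (c.hSexp u)

/-- a nontrivial character is not `P`-invariant -/
theorem stabP_ne_top [Finite P] (χ : S →* T) (hχ : χ ≠ 1) : c.stabP χ ≠ ⊤ := by
  intro htop
  apply hχ
  ext u
  have hall : ∀ k ∈ (⊤ : Subgroup P), ∀ v : S, χ (c.ι k v) = χ v := by
    intro k _ v
    have : k ∈ c.stabP χ := by rw [htop]; trivial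
    exact this v
  have h1 : c.nrm ⊤ u = 1 := by
    apply c.hCSP
    intro x
    exact c.nrm_fixed ⊤ u x trivial
  have h2 := c.chi_nrm ⊤ χ hall u
  rw [h1, map_one] at h2
  have := c.chi_eq_one_of_pow χ u (c.card_coprime ⊤) h2.symm
  rw [this]
  rfl

/-- the translate of a character by an element of `P` -/
def tr (χ : S →* T) (x : P) : S →* T := χ.comp (c.ι x : S ≃* S).toMonoidHom

theorem tr_apply (χ : S →* T) (x : P) (u : S) : c.tr χ x u = χ (c.ι x u) := rfl

theorem tr_mem (χ : S →* T) (hχ : χ ∈ c.Λ) (x : P) : c.tr χ x ∈ c.Λ := c.hΛP χ hχ x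

theorem stabP_tr (χ : S →* T) (x : P) : c.stabP (c.tr χ x) = c.stabP χ := by
  ext k
  rw [mem_stabP, mem_stabP]
  constructor
  · intro h u
    have := h (c.ι x⁻¹ u)
    rw [tr_apply, tr_apply, c.ι_comm, c.ι_ι_inv] at this
    exact this
  · intro h u
    rw [tr_apply, tr_apply, c.ι_comm, h]

/-- `x ∈ X_a`: the translate `χ ∘ x` is `a`-invariant -/
def inX (χ : S →* T) (a : A0) (x : P) : Prop := ∀ v : S, χ (c.ι x (c.α a v)) = χ (c.ι x v)

theorem inX_inv (χ : S →* T) (a : A0) (x : P) (h : c.inX χ a x) : c.inX χ a⁻¹ x := by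
  intro v
  have := h (c.α a⁻¹ v)
  rw [act_act_inv] at this
  exact this.symm

theorem cover (χ : S →* T) (hχ : χ ∈ c.Λ) (x : P) :
    c.inX χ f0 x ∨ ∃ r : A0, IsRefl r ∧ c.inX χ r x := by
  obtain ⟨a, ha1, ha⟩ := c.hnorm _ (c.tr_mem χ hχ x)
  have hax : c.inX χ a x := fun v => ha v
  rcases A0_ne_one_cases a ha1 with rfl | rfl | hr
  · exact Or.inl hax
  · left
    have := c.inX_inv χ _ x hax
    rwa [inv_inv] at this
  · exact Or.inr ⟨a, hr, hax⟩

/-- the commutator map `x ↦ a(x)/x` on `P` -/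
def D (a : A0) : P →* P := (c.β a : P ≃* P).toMonoidHom / MonoidHom.id P

theorem D_apply (a : A0) (x : P) : c.D a x = c.β a x / x := rfl

theorem D_ker (a : A0) : (c.D a).ker = fixSub (c.β a) := by
  ext x
  rw [MonoidHom.mem_ker, D_apply, mem_fixSub, div_eq_one]

theorem D_mul (a b : A0) (x : P) : c.D (a * b) x = c.D a (c.β b x) * c.D b x := by
  rw [D_apply, D_apply, D_apply, act_mul, div_mul_div_cancel]

/-- key computation: two elements of `X_a` differ by an element whose commutator with `a`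
stabilizes `χ` -/
theorem D_mem_stabP (χ : S →* T) (a : A0) (x y : P) (hx : c.inX χ a x) (hy : c.inX χ a y) :
    c.D a (x⁻¹ * y) ∈ c.stabP χ := by
  rw [← c.stabP_tr χ x, mem_stabP]
  intro w
  set z := x⁻¹ * y with hz
  -- `χ_x (ι z (α a v)) = χ_x (ι z v)` for all `v`
  have h1 : ∀ v : S, χ (c.ι x (c.ι z (c.α a v))) = χ (c.ι x (c.ι z v)) := by
    intro v
    rw [← c.ι_mul, ← c.ι_mul, hz, mul_inv_cancel_left]
    exact hy v
  -- rewrite with `w`
  rw [tr_apply, tr_apply, D_apply, div_eq_mul_inv, c.ι_mul]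
  -- goal: χ (ι x (ι (β a z) (ι z⁻¹ w))) = χ (ι x w)
  set v := c.α a⁻¹ (c.ι z⁻¹ w) with hv
  have h2 : c.ι z⁻¹ w = c.α a v := by rw [hv, act_act_inv]
  have h3 : c.ι (c.β a z) (c.ι z⁻¹ w) = c.α a (c.ι z v) := by
    rw [c.compat, ← h2]
  rw [h3, hx, ← h1, ← h2, c.ι_ι_inv]

/-- if `X_a` is nonempty then `a` normalizes the stabilizer -/
theorem normalizes_of_inX (χ : S →* T) (a : A0) (x : P) (hx : c.inX χ a x) (k : P)
    (hk : k ∈ c.stabP χ) : c.β a k ∈ c.stabP χ := by
  rw [← c.stabP_tr χ x] at hk ⊢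
  rw [mem_stabP] at hk ⊢
  intro w
  have hx' := c.inX_inv χ a x hx
  rw [tr_apply, tr_apply]
  have h1 : c.ι (c.β a k) w = c.α a (c.ι k (c.α a⁻¹ w)) := by
    rw [c.compat, act_act_inv]
  rw [h1, hx]
  have := hk (c.α a⁻¹ w)
  rw [tr_apply, tr_apply] at this
  rw [this, hx']

end Cfg

end Cfsg.Agent.Helper1.S3fCaseB
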