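import Mathlib
import Cfsg.Agent.Helper1.S3fCaseB3

/-!
# S4305, case (b): abstract core, part 4 (counting)
-/

set_option autoImplicit false

namespace Cfsg.Agent.Helper1.S3fCaseB

open Cfsg.Agent.Helper29.S3f

namespace Cfg

variable {S P T : Type*} [CommGroup S] [CommGroup P] [CommGroup T] {s q : ℕ}
variable (c : Cfg S P T s q)
include c

/-- the set `X_a` -/
def X (χ : S →* T) (a : A0) : Set P := {x | c.inX χ a x}

theorem mem_X (χ : S →* T) (a : A0) (x : P) : x ∈ c.X χ a ↔ c.inX χ a x := Iff.rfl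

theorem ncard_X_le [Finite P] (χ : S →* T) (hK : c.stabP χ = ⊥) (a : A0) :
    (c.X χ a).ncard ≤ Nat.card (fixSub (c.β a)) := by
  rcases (c.X χ a).eq_empty_or_nonempty with h | ⟨x0, hx0⟩
  · rw [h, Set.ncard_empty]; exact Nat.zero_le _
  · have hcard : Nat.card (fixSub (c.β a)) = ((fixSub (c.β a) : Subgroup P) : Set P).ncard := by
      rw [← Nat.card_coe_set_eq]
      rfl
    rw [hcard]
    apply Set.ncard_le_ncard_of_injOn (fun x => x0⁻¹ * x)
    · intro x hx
      have h1 := c.D_mem_stabP χ a x0 x hx0 hx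
      rw [hK, Subgroup.mem_bot, D_apply, div_eq_one] at h1
      exact h1
    · intro x _ y _ hxy
      exact mul_left_cancel hxy

theorem five_mul_card_fix [Finite P] (a : A0) (ha : ∃ x : P, c.β a x ≠ x) :
    5 * Nat.card (fixSub (c.β a)) ≤ Nat.card P := by
  have h1 := Subgroup.card_mul_index (c.D a).ker
  rw [Subgroup.index_ker, c.D_ker] at h1
  have h2 : (c.D a).range ≠ ⊥ := by
    obtain ⟨x, hx⟩ := ha
    intro hbot
    apply hx
    have : c.D a x ∈ (c.D a).range := ⟨x, rfl⟩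
    rw [hbot, Subgroup.mem_bot, D_apply, div_eq_one] at this
    exact this
  have h3 := c.five_le_card _ h2
  calc 5 * Nat.card (fixSub (c.β a)) = Nat.card (fixSub (c.β a)) * 5 := Nat.mul_comm _ _
    _ ≤ Nat.card (fixSub (c.β a)) * Nat.card (c.D a).range := Nat.mul_le_mul_left _ h3
    _ = Nat.card P := h1

theorem five_le_card_P [Finite P] : 5 ≤ Nat.card P := by
  have h : (⊤ : Subgroup P) ≠ ⊥ := by
    intro h
    obtain ⟨x, hx⟩ := c.exists_ne_one
    apply hx
    have : x ∈ (⊤ : Subgroup P) := trivial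
    rw [h, Subgroup.mem_bot] at this
    exact this
  have := c.five_le_card ⊤ h
  rwa [Subgroup.card_top] at this

/-- the counting contradiction when the stabilizer is trivial -/
theorem count_false [Finite P] (χ : S →* T) (hχ : χ ∈ c.Λ) (hK : c.stabP χ = ⊥)
    (hf : (c.X χ f0).ncard ≤ 1) (hr : ∀ r : A0, IsRefl r → ∃ x : P, c.β r x ≠ x) : False := by
  have hcov : (Set.univ : Set P) ⊆
      c.X χ f0 ∪ c.X χ t0 ∪ c.X χ (f0 * t0) ∪ c.X χ (f0 * f0 * t0) := by
    intro x _
    rcases c.cover χ hχ x with h | ⟨r, hr, h⟩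
    · exact Or.inl (Or.inl (Or.inl h))
    · rcases refl_list r hr with rfl | rfl | rfl
      · exact Or.inl (Or.inl (Or.inr h))
      · exact Or.inl (Or.inr h)
      · exact Or.inr h
  have h1 := Set.ncard_le_ncard hcov (Set.toFinite _)
  rw [Set.ncard_univ] at h1
  have h2 := Set.ncard_union_le (c.X χ f0 ∪ c.X χ t0 ∪ c.X χ (f0 * t0)) (c.X χ (f0 * f0 * t0))
  have h3 := Set.ncard_union_le (c.X χ f0 ∪ c.X χ t0) (c.X χ (f0 * t0))
  have h4 := Set.ncard_union_le (c.X χ f0) (c.X χ t0)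
  have b1 := Nat.le_trans (Nat.mul_le_mul_left 5 (c.ncard_X_le χ hK t0))
    (c.five_mul_card_fix t0 (hr _ isRefl_t0))
  have b2 := Nat.le_trans (Nat.mul_le_mul_left 5 (c.ncard_X_le χ hK (f0 * t0)))
    (c.five_mul_card_fix (f0 * t0) (hr _ isRefl_f0t0))
  have b3 := Nat.le_trans (Nat.mul_le_mul_left 5 (c.ncard_X_le χ hK (f0 * f0 * t0)))
    (c.five_mul_card_fix (f0 * f0 * t0) (hr _ isRefl_f0f0t0))
  have b0 := c.five_le_card_P
  omega

/-- `fixSub (β f0)` is `A0`-invariant, hence trivial or everything -/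
theorem fixSub_f0_cases : fixSub (c.β f0) = ⊥ ∨ fixSub (c.β f0) = ⊤ := by
  apply c.hPirr
  intro a x hx
  rw [mem_fixSub] at hx ⊢
  rcases f0_mul_conj_cases a with h | h
  · rw [← act_mul, h, act_mul, hx]
  · rw [← act_mul, h, act_mul, act_inv_fixed _ _ _ hx]

end Cfg

end Cfsg.Agent.Helper1.S3fCaseB
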