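import Mathlib
import Cfsg.Agent.Helper1.S3fCaseB4

/-!
# S4305, case (b): abstract core, part 5 (case (b1): `f0` centralizes `P`)
-/

set_option autoImplicit false

namespace Cfsg.Agent.Helper1.S3fCaseB

open Cfsg.Agent.Helper29.S3f

namespace Cfg

variable {S P T : Type*} [CommGroup S] [CommGroup P] [CommGroup T] {s q : ℕ}
variable (c : Cfg S P T s q)
include c

/-- in case (b1) every reflection inverts `P` -/
theorem b1_refl_inv (hb1 : ∀ x : P, c.β f0 x = x) (r : A0) (hr : IsRefl r) (x : P) :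
    c.β r x = x⁻¹ := by
  set y := x * c.β r x with hy
  have h1 : c.β r y = y := by
    rw [hy, map_mul, ← act_mul, hr.1, act_one, mul_comm]
  have h2 : y = 1 := c.hfpfP y (fixed_of_gens c.β r hr y (hb1 y) h1)
  exact eq_inv_of_mul_eq_one_right h2

theorem b1_act (hb1 : ∀ x : P, c.β f0 x = x) (a : A0) (x : P) :
    c.β a x = x ∨ c.β a x = x⁻¹ := by
  by_cases ha : a = 1
  · left; rw [ha, act_one]
  · rcases A0_ne_one_cases a ha with rfl | rfl | hr
    · exact Or.inl (hb1 x)
    · exact Or.inl (act_inv_fixed _ _ _ (hb1 x))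
    · exact Or.inr (c.b1_refl_inv hb1 a hr x)

theorem b1_sub (hb1 : ∀ x : P, c.β f0 x = x) (L : Subgroup P) : L = ⊥ ∨ L = ⊤ := by
  apply c.hPirr
  intro a x hx
  rcases c.b1_act hb1 a x with h | h
  · rw [h]; exact hx
  · rw [h]; exact L.inv_mem hx

theorem b1_fixS_cases (hb1 : ∀ x : P, c.β f0 x = x) :
    fixSub (c.α f0) = ⊥ ∨ fixSub (c.α f0) = ⊤ := by
  apply c.hSirr
  · intro x u hu
    rw [mem_fixSub] at hu ⊢
    rw [c.compat, hb1, hu]
  · intro a u hu
    rw [mem_fixSub] at hu ⊢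
    rcases f0_mul_conj_cases a with h | h
    · rw [← act_mul, h, act_mul, hu]
    · rw [← act_mul, h, act_mul, act_inv_fixed _ _ _ hu]

/-- case (b1-i) -/
theorem b1i_false (hb1 : ∀ x : P, c.β f0 x = x) (hS : ∀ u : S, c.α f0 u = u) : False := by
  have hinv : ∀ u : S, c.α t0 u = u⁻¹ := by
    intro u
    set v := u * c.α t0 u with hv
    have h1 : c.α t0 v = v := by
      rw [hv, map_mul, ← act_mul, isRefl_t0.1, act_one, mul_comm]
    have h2 : v = 1 := c.hfpfS v (fixed_of_gens c.α t0 isRefl_t0 v (hS v) h1)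
    exact eq_inv_of_mul_eq_one_right h2
  obtain ⟨x, hx⟩ := c.exists_ne_one
  apply hx
  apply c.sq_eq_one_P
  apply c.faith
  intro u
  have h1 := c.compat t0 x u
  rw [hinv, hinv, c.b1_refl_inv hb1 t0 isRefl_t0, map_inv, inv_inj] at h1
  rw [c.ι_mul, h1, c.ι_ι_inv]

/-- case (b1-ii) -/
theorem b1ii_false [Finite S] [Finite P] (hb1 : ∀ x : P, c.β f0 x = x)
    (hS : ∀ u : S, c.α f0 u = u → u = 1) : False := by
  obtain ⟨χ, hχ⟩ := c.hΛne
  have hK : c.stabP χ = ⊥ := by
    rcases c.b1_sub hb1 (c.stabP χ) with h | h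
    · exact h
    · exact absurd h (c.stabP_ne_top χ (c.hΛ1 χ hχ))
  -- the commutator map of `f0` on `S` is surjective
  let E : S →* S := (c.α f0 : S ≃* S).toMonoidHom / MonoidHom.id S
  have hE : ∀ v : S, E v = c.α f0 v / v := fun v => rfl
  have hEinj : Function.Injective E := by
    rw [injective_iff_map_eq_one]
    intro v hv
    rw [hE, div_eq_one] at hv
    exact hS v hv
  have hEsurj : Function.Surjective E := Finite.injective_iff_surjective.mp hEinj
  have hXf : c.X χ f0 = ∅ := by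
    rw [Set.eq_empty_iff_forall_notMem]
    intro x hx
    apply c.hΛ1 _ (c.tr_mem χ hχ x)
    ext u
    obtain ⟨v, rfl⟩ := hEsurj u
    rw [hE, map_div, tr_apply, tr_apply, hx v, div_self']
    rfl
  apply c.count_false χ hχ hK
  · rw [hXf, Set.ncard_empty]; exact Nat.zero_le _
  · intro r hr
    obtain ⟨x, hx⟩ := c.exists_ne_one
    refine ⟨x, ?_⟩
    intro h
    apply hx
    apply c.sq_eq_one_P
    rw [c.b1_refl_inv hb1 r hr] at h
    calc x * x = x⁻¹ * x := by rw [h]
      _ = 1 := inv_mul_cancel x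

end Cfg

end Cfsg.Agent.Helper1.S3fCaseB
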