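import Mathlib
import Cfsg.Agent.Helper1.S3fCaseB5

/-!
# S4305, case (b): abstract core, part 6 (case (b2): `f0` fixed-point-free on `P`)
-/

set_option autoImplicit false

namespace Cfsg.Agent.Helper1.S3fCaseB

open Cfsg.Agent.Helper29.S3f

namespace Cfg

variable {S P T : Type*} [CommGroup S] [CommGroup P] [CommGroup T] {s q : ℕ}
variable (c : Cfg S P T s q)
include c

theorem b2_inv (hb2 : ∀ x : P, c.β f0 x = x → x = 1) (x : P) (h : c.β f0⁻¹ x = x) : x = 1 := by
  apply hb2
  have := act_inv_fixed c.β f0⁻¹ x h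
  rwa [inv_inv] at this

/-- in case (b2) no reflection centralizes `P` -/
theorem b2_refl_moves (hb2 : ∀ x : P, c.β f0 x = x → x = 1) (r : A0) (hr : IsRefl r) :
    ∃ x : P, c.β r x ≠ x := by
  by_contra hcon
  rw [not_exists] at hcon
  have hfix : ∀ x : P, c.β r x = x := fun x => not_not.mp (hcon x)
  obtain ⟨x, hx⟩ := c.exists_ne_one
  apply hx
  apply c.b2_inv hb2
  -- `β f0⁻¹ x = β f0 x`
  have h1 : c.β f0⁻¹ x = c.β f0 x := by
    rw [← refl_conj_f0 r hr, act_mul, act_mul, hfix, act_inv_fixed _ _ _ (hfix x)]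
  -- hence `β f0⁻¹ x = β f0 (β f0 x) = x` after one more step
  have h2 : c.β f0 (c.β f0 x) = c.β f0⁻¹ x := by
    rw [← act_mul, f0_inv]
  have h3 : c.β f0 (c.β f0⁻¹ x) = x := act_act_inv c.β f0 x
  rw [h1] at h3
  rw [← h2, h3]

theorem D_surj [Finite P] (g : A0) (hg : ∀ x : P, c.β g x = x → x = 1) :
    Function.Surjective (c.D g) := by
  apply Finite.injective_iff_surjective.mp
  rw [injective_iff_map_eq_one]
  intro x hx
  rw [D_apply, div_eq_one] at hx
  exact hg x hx

/-- the key decomposition `P = K * g(K)` -/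
theorem T_lemma [Finite P] (χ : S →* T) (r : A0) (hDK : ∀ y : P, c.D r y ∈ c.stabP χ)
    (g : A0) (hg : r * (g * r * g⁻¹) = g) (hgfix : ∀ x : P, c.β g x = x → x = 1) (u : S)
    (h1 : ∀ k ∈ c.stabP χ, c.ι k u = u)
    (h2 : ∀ k ∈ c.stabP χ, c.ι k (c.α g⁻¹ u) = c.α g⁻¹ u) : u = 1 := by
  apply c.hCSP
  intro x
  obtain ⟨y, rfl⟩ := c.D_surj g hgfix x
  have e1 : c.D g y = c.D (r * (g * r * g⁻¹)) y := by rw [hg]
  have e2 : c.D (g * r * g⁻¹) y = c.β g (c.D r (c.β g⁻¹ y)) := by
    rw [D_apply, D_apply, map_div, act_mul, act_mul, act_act_inv]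
  rw [e1, D_mul, e2, c.ι_mul]
  have e3 : c.ι (c.β g (c.D r (c.β g⁻¹ y))) u = u := by
    have := c.compat g (c.D r (c.β g⁻¹ y)) (c.α g⁻¹ u)
    rw [act_act_inv, h2 _ (hDK _), act_act_inv] at this
    exact this.symm
  rw [e3]
  exact h1 _ (hDK _)

/-- the final contradiction of case (b2) -/
theorem b2_final [Finite P] (hb2 : ∀ x : P, c.β f0 x = x → x = 1) (χ : S →* T) (hχ : χ ∈ c.Λ)
    (r : A0) (hr : IsRefl r) (hall : ∀ x : P, c.inX χ r x) : False := by
  have hχr : ∀ v : S, χ (c.α r v) = χ v := by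
    intro v
    have := hall 1 v
    rwa [c.ι_one, c.ι_one] at this
  have hDK : ∀ y : P, c.D r y ∈ c.stabP χ := by
    intro y
    have := c.D_mem_stabP χ r 1 y (hall 1) (hall y)
    rwa [inv_one, one_mul] at this
  have hNr : ∀ k ∈ c.stabP χ, c.β r k ∈ c.stabP χ := c.normalizes_of_inX χ r 1 (hall 1)
  -- `K`-fixed points are inverted by `r`, provided `Y = 1`
  have hY : ∀ u : S, c.α r u = u → (∀ k ∈ c.stabP χ, c.ι k u = u) → u = 1 := by
    intro u hru hKu
    set v := u * c.α f0 u * c.α (f0 * f0) u with hv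
    have hvf : c.α f0 v = v := by
      rw [hv, map_mul, map_mul, ← act_mul c.α f0 (f0 * f0), ← mul_assoc, f0_mul_f0_mul_f0, act_one,
        ← act_mul]
      rw [mul_comm, mul_assoc]
    have e1 : c.α r (c.α f0 u) = c.α (f0 * f0) u := by
      rw [← act_mul, refl_mul_f0 r hr, act_mul, hru, f0_inv]
    have e2 : c.α r (c.α (f0 * f0) u) = c.α f0 u := by
      rw [← act_mul, ← f0_inv, refl_mul_f0_inv r hr, act_mul, hru]
    have hvr : c.α r v = v := by
      rw [hv, map_mul, map_mul, hru, e1, e2, mul_assoc, mul_assoc, mul_comm (c.α (f0 * f0) u)]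
    have hv1 : v = 1 := c.hfpfS v (fixed_of_gens c.α r hr v hvf hvr)
    -- apply the norm of `K`
    have hN : c.nrm (c.stabP χ) v = 1 := by
      rw [hv1]
      have := c.nrm_of_fixed (c.stabP χ) 1 (fun k _ => map_one _)
      rw [this, one_pow]
    rw [hv, c.nrm_mul, c.nrm_mul, c.nrm_of_fixed _ u hKu] at hN
    -- the two other norms vanish
    have hW : ∀ g : A0, (∀ k ∈ c.stabP χ, c.ι k (c.α g⁻¹ (c.α g u)) = c.α g⁻¹ (c.α g u)) := by
      intro g k hk
      rw [act_inv_act]
      exact hKu k hk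
    have hN1 : ∀ g : A0, r * (g * r * g⁻¹) = g → (∀ x : P, c.β g x = x → x = 1) →
        c.nrm (c.stabP χ) (c.α g u) = 1 := by
      intro g hg hgfix
      apply c.T_lemma χ r hDK g hg hgfix
      · intro k hk
        exact c.nrm_fixed _ _ k hk
      · -- the subgroup `W = g (C_S(K))` is `P`-invariant
        let W : Subgroup S :=
          { carrier := {w | ∀ k ∈ c.stabP χ, c.ι k (c.α g⁻¹ w) = c.α g⁻¹ w}
            mul_mem' := by
              intro a b ha hb k hk
              rw [map_mul, map_mul, ha k hk, hb k hk]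
            one_mem' := by
              intro k _
              rw [map_one, map_one]
            inv_mem' := by
              intro a ha k hk
              rw [map_inv, map_inv, ha k hk] }
        have hWP : ∀ k ∈ c.stabP χ, ∀ w ∈ W, c.ι k w ∈ W := by
          intro k _ w hw k' hk'
          rw [c.compat, c.ι_comm, hw k' hk']
        have hmem : c.nrm (c.stabP χ) (c.α g u) ∈ W :=
          c.nrm_mem _ W hWP _ (hW g)
        exact hmem
    have hf0 := hN1 f0 (refl_decomp r hr) hb2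
    have hf0' := hN1 f0⁻¹ (by rw [inv_inv]; exact refl_decomp' r hr) (c.b2_inv hb2)
    rw [f0_inv] at hf0'
    rw [hf0, hf0', mul_one, mul_one] at hN
    exact c.eq_one_of_pow_S u (c.card_coprime _) hN
  have hinv : ∀ u : S, (∀ k ∈ c.stabP χ, c.ι k u = u) → c.α r u = u⁻¹ := by
    intro u hKu
    set v := u * c.α r u with hv
    have h1 : c.α r v = v := by
      rw [hv, map_mul, ← act_mul, hr.1, act_one, mul_comm]
    have h2 : ∀ k ∈ c.stabP χ, c.ι k v = v := by
      intro k hk
      rw [hv, map_mul, hKu k hk]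
      congr 1
      have := c.compat r (c.β r⁻¹ k) u
      rw [act_act_inv] at this
      rw [← this, hKu]
      rw [refl_inv r hr]
      exact hNr k hk
    exact eq_inv_of_mul_eq_one_right (hY v h1 h2)
  -- `χ` is trivial
  apply c.hΛ1 χ hχ
  ext u
  have hw := c.chi_nrm (c.stabP χ) χ (fun k hk v => hk v) u
  set w := c.nrm (c.stabP χ) u with hwdef
  have hwK : ∀ k ∈ c.stabP χ, c.ι k w = w := fun k hk => c.nrm_fixed _ _ k hk
  have h1 := hχr w
  rw [hinv w hwK, map_inv] at h1
  have h2 : χ w ^ 2 = 1 := by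
    rw [pow_two]
    nth_rewrite 1 [← h1]
    exact inv_mul_cancel _
  have hs2 : Nat.Coprime 2 s := by
    rw [Nat.coprime_comm, Nat.Prime.coprime_iff_not_dvd c.sprime]
    intro h
    exact c.hs2 ((Nat.prime_dvd_prime_iff_eq c.sprime Nat.prime_two).mp h)
  have h3 : χ w = 1 := c.chi_eq_one_of_pow χ w hs2 h2
  rw [h3] at hw
  have := c.chi_eq_one_of_pow χ u (c.card_coprime _) hw.symm
  rw [this]
  rfl

end Cfg

end Cfsg.Agent.Helper1.S3fCaseB
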