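import Mathlib
import Cfsg.Agent.Helper1.S3fCaseB6

/-!
# S4305, case (b): abstract core, part 7 (the abstract contradiction)
-/

set_option autoImplicit false

namespace Cfsg.Agent.Helper1.S3fCaseB

open Cfsg.Agent.Helper29.S3f

namespace Cfg

variable {S P T : Type*} [CommGroup S] [CommGroup P] [CommGroup T] {s q : ℕ}
variable (c : Cfg S P T s q)
include c

/-- case (b2) -/
theorem b2_false [Finite P] (hb2 : ∀ x : P, c.β f0 x = x → x = 1) : False := by
  obtain ⟨χ, hχ⟩ := c.hΛne
  have hKtop : c.stabP χ ≠ ⊤ := c.stabP_ne_top χ (c.hΛ1 χ hχ)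
  have hfix0 : fixSub (c.β f0) = ⊥ := by
    rw [Subgroup.eq_bot_iff_forall]
    intro x hx
    exact hb2 x hx
  have hKbot : c.stabP χ ≠ ⊥ := by
    intro hK
    apply c.count_false χ hχ hK
    · have := c.ncard_X_le χ hK f0
      rwa [hfix0, Subgroup.card_bot] at this
    · exact c.b2_refl_moves hb2
  -- two independent normalizing elements are impossible
  have NKgen : ∀ a b : A0, a ≠ 1 → b ≠ 1 → a ≠ b → a ≠ b⁻¹ →
      (∀ k ∈ c.stabP χ, c.β a k ∈ c.stabP χ) → (∀ k ∈ c.stabP χ, c.β b k ∈ c.stabP χ) →
      False := by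
    intro a b ha hb hab hab' hNa hNb
    have hall : ∀ d : A0, ∀ k ∈ c.stabP χ, c.β d k ∈ c.stabP χ := by
      intro d k hk
      rcases gen_words a b ha hb hab hab' d with
        rfl | rfl | rfl | rfl | rfl | rfl | rfl | rfl | rfl | rfl
      · rw [act_one]; exact hk
      · exact hNa k hk
      · exact hNb k hk
      · rw [act_mul]; exact hNa _ (hNa k hk)
      · rw [act_mul]; exact hNb _ (hNb k hk)
      · rw [act_mul]; exact hNa _ (hNb k hk)
      · rw [act_mul]; exact hNb _ (hNa k hk)
      · rw [act_mul, act_mul]; exact hNa _ (hNb _ (hNa k hk))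
      · rw [act_mul, act_mul]; exact hNa _ (hNa _ (hNb k hk))
      · rw [act_mul, act_mul]; exact hNb _ (hNb _ (hNa k hk))
    rcases c.hPirr _ hall with h | h
    · exact hKbot h
    · exact hKtop h
  have hnotall : ¬ ∀ x : P, c.inX χ f0 x := by
    intro hall
    apply hKtop
    rw [eq_top_iff]
    intro y _
    obtain ⟨z, rfl⟩ := c.D_surj f0 hb2 y
    have := c.D_mem_stabP χ f0 1 z (hall 1) (hall z)
    rwa [inv_one, one_mul] at this
  obtain ⟨x0, hx0⟩ := not_forall.mp hnotall
  obtain ⟨r, hr, hrx0⟩ := (c.cover χ hχ x0).resolve_left hx0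
  have hNr := c.normalizes_of_inX χ r x0 hrx0
  have hall : ∀ x : P, c.inX χ r x := by
    intro x
    rcases c.cover χ hχ x with h | ⟨r', hr', h⟩
    · exfalso
      exact NKgen f0 r f0_ne_one hr.2 (refl_ne_f0 r hr).1 (refl_ne_f0 r hr).2
        (c.normalizes_of_inX χ f0 x h) hNr
    · by_cases hrr : r' = r
      · rw [← hrr]; exact h
      · exfalso
        exact NKgen r' r hr'.2 hr.2 hrr (by rw [refl_inv r hr]; exact hrr)
          (c.normalizes_of_inX χ r' x h) hNr
  exact c.b2_final hb2 χ hχ r hr hall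

/-- the abstract configuration of case (b) is contradictory -/
theorem false [Finite S] [Finite P] : False := by
  rcases c.fixSub_f0_cases with h | h
  · apply c.b2_false
    intro x hx
    have : x ∈ fixSub (c.β f0) := hx
    rwa [h, Subgroup.mem_bot] at this
  · have hb1 : ∀ x : P, c.β f0 x = x := by
      intro x
      have : x ∈ fixSub (c.β f0) := by rw [h]; trivial
      exact this
    rcases c.b1_fixS_cases hb1 with h' | h'
    · apply c.b1ii_false hb1
      intro u hu
      have : u ∈ fixSub (c.α f0) := hu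
      rwa [h', Subgroup.mem_bot] at this
    · apply c.b1i_false hb1
      intro u
      have : u ∈ fixSub (c.α f0) := by rw [h']; trivial
      exact this

end Cfg

end Cfsg.Agent.Helper1.S3fCaseB
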