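import Mathlib
import Cfsg.Agent.Helper1.S3fCaseB7
import Cfsg.Agent.Lead.Coprime2

/-!
# S4305, case (b): the internal statement requested by helper29 (msg 1237)

We transport the internal configuration (`S`, `Q` subgroups of `Γ`, `A0` acting by conjugation
through `j`) to the abstract configuration `Cfg` (with `P` the image of `Q` in `MulAut S`) and
apply `Cfg.false`.
-/

set_option autoImplicit false

namespace Cfsg.Agent.Helper1.S3fCaseB

open Cfsg.Agent.Helper29.S3f

/-- conjugation action of `A` (through `α`) on a subgroup `P` it normalizes -/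
def conjSub {M A : Type*} [Group M] [Group A] (P : Subgroup M) (α : A →* M)
    (h : ∀ a : A, ∀ x ∈ P, α a * x * (α a)⁻¹ ∈ P) : A →* MulAut ↥P :=
  MonoidHom.mk' (fun a =>
    { toFun := fun x => ⟨α a * x * (α a)⁻¹, h a x x.2⟩
      invFun := fun x => ⟨α a⁻¹ * x * (α a⁻¹)⁻¹, h a⁻¹ x x.2⟩
      left_inv := by
        intro x
        apply Subtype.ext
        simp only [map_inv]
        group
      right_inv := by
        intro x
        apply Subtype.ext
        simp only [map_inv]
        group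
      map_mul' := by
        intro x y
        apply Subtype.ext
        simp only [Subgroup.coe_mul]
        group })
    (by
      intro a b
      ext x
      simp only [MulEquiv.coe_mk, Equiv.coe_fn_mk, MulAut.mul_apply, map_mul]
      group)

theorem conjSub_apply {M A : Type*} [Group M] [Group A] (P : Subgroup M) (α : A →* M)
    (h : ∀ a : A, ∀ x ∈ P, α a * x * (α a)⁻¹ ∈ P) (a : A) (x : ↥P) :
    ((conjSub P α h a x : ↥P) : M) = α a * x * (α a)⁻¹ := rfl

theorem card_A0 : Nat.card A0 = 6 := by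
  rw [Nat.card_eq_fintype_card, Fintype.card_perm]; rfl

theorem coprime_six {q : ℕ} (hqp : q.Prime) (hq : 5 ≤ q) (n : ℕ) : Nat.Coprime 6 (q ^ n) := by
  apply Nat.Coprime.pow_right
  rw [Nat.coprime_comm, Nat.Prime.coprime_iff_not_dvd hqp]
  intro h
  have h1 := Nat.le_of_dvd (by norm_num) h
  interval_cases q
  · norm_num at h
  · norm_num at hqp

/-- CASE (b): pure group theory + characters of `S`. -/
theorem caseB {Γ : Type*} [Group Γ] [Finite Γ] (j : A0 →* Γ) (hj : Function.Injective j)
    {K : Type*} [Field K]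
    (S Q : Subgroup Γ) [S.Normal] {s q : ℕ} [Fact s.Prime] [Fact q.Prime]
    (hs : 5 ≤ s) (hq : 5 ≤ q) (hsq : s ≠ q)
    (hSab : ∀ a ∈ S, ∀ b ∈ S, a * b = b * a) (hSexp : ∀ a ∈ S, a ^ s = 1) (hSne : S ≠ ⊥)
    (hQab : ∀ a ∈ Q, ∀ b ∈ Q, a * b = b * a) (hQ : IsPGroup q Q) (hQA : AInv j Q)
    (hCSQ : ∀ u ∈ S, (∀ x ∈ Q, x * u * x⁻¹ = u) → u = 1)
    (hSirr : ∀ S1 : Subgroup Γ, S1 ≤ S → (∀ x ∈ Q, ∀ u ∈ S1, x * u * x⁻¹ ∈ S1) → AInv j S1 →
      S1 = ⊥ ∨ S1 = S)
    (hQmin : ∀ Q1 : Subgroup Γ, Q1 ≤ Q → Q1 ≠ Q → AInv j Q1 →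
      ∀ x ∈ Q1, ∀ u ∈ S, x * u * x⁻¹ = u)
    (hfpfS : ∀ u ∈ S, (∀ a : A0, j a * u * (j a)⁻¹ = u) → u = 1)
    (hfpfQ : ∀ x ∈ Q, (∀ a : A0, j a * x * (j a)⁻¹ = x) → x = 1)
    (Λ : Set (↥S →* Kˣ)) (hΛne : Λ.Nonempty) (hΛ1 : ∀ χ ∈ Λ, χ ≠ 1)
    (hΛQ : ∀ χ ∈ Λ, ∀ x ∈ Q, conjChar x χ ∈ Λ) (hΛA : ∀ χ ∈ Λ, ∀ a : A0, conjChar (j a) χ ∈ Λ)
    (hnorm : ∀ χ ∈ Λ, ∃ a : A0, a ≠ 1 ∧ conjChar (j a) χ = χ) : False := by
  let instS : CommGroup ↥S :=
    { (inferInstance : Group ↥S) with
      mul_comm := fun a b => Subtype.ext (hSab a a.2 b b.2) }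
  let ρ : Γ →* MulAut ↥S := MulAut.conjNormal
  have hρ : ∀ (g : Γ) (u : ↥S), ((ρ g u : ↥S) : Γ) = g * u * g⁻¹ :=
    fun g u => MulAut.conjNormal_apply g u
  have hρ1 : ∀ g : Γ, (∀ u ∈ S, g * u * g⁻¹ = u) → ρ g = 1 := by
    intro g hg
    ext u
    rw [hρ, MulAut.one_apply]
    exact hg u u.2
  let P : Subgroup (MulAut ↥S) := Q.map ρ
  let instP : CommGroup ↥P :=
    { (inferInstance : Group ↥P) with
      mul_comm := by
        intro a b
        apply Subtype.ext
        obtain ⟨x, hx, hxa⟩ := a.2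
        obtain ⟨y, hy, hyb⟩ := b.2
        rw [Subgroup.coe_mul, Subgroup.coe_mul, ← hxa, ← hyb, ← map_mul, ← map_mul, hQab x hx y hy] }
  let α : A0 →* MulAut ↥S := ρ.comp j
  have hPA : ∀ a : A0, ∀ x ∈ P, α a * x * (α a)⁻¹ ∈ P := by
    intro a x hx
    obtain ⟨y, hy, rfl⟩ := hx
    refine ⟨j a * y * (j a)⁻¹, hQA a y hy, ?_⟩
    rw [map_mul, map_mul, map_inv]
    rfl
  let β : A0 →* MulAut ↥P := conjSub P α hPA
  have hβ : ∀ (a : A0) (x : ↥P), ((β a x : ↥P) : MulAut ↥S) = α a * x * (α a)⁻¹ :=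
    fun a x => rfl
  -- `Q0`-facts
  have hfpfP : ∀ x : ↥P, (∀ a : A0, β a x = x) → x = 1 := by
    intro p hp
    obtain ⟨x, hx, hxp⟩ := p.2
    have hfix : ∀ a ∈ j.range, a * x * a⁻¹ * x⁻¹ ∈ Q ⊓ ρ.ker := by
      rintro _ ⟨a, rfl⟩
      refine ⟨Q.mul_mem (hQA a x hx) (Q.inv_mem hx), ?_⟩
      change ρ (j a * x * (j a)⁻¹ * x⁻¹) = 1
      rw [map_mul, map_mul, map_mul, map_inv, map_inv, hxp]
      have := congrArg Subtype.val (hp a)
      rw [hβ] at this
      change ρ (j a) * (p : MulAut ↥S) * (ρ (j a))⁻¹ = p at this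
      rw [this, mul_inv_cancel]
    have hnormQ : ∀ g : Γ, g ∈ Subgroup.normalizer (Q : Set Γ) →
        g ∈ Subgroup.normalizer ((Q ⊓ ρ.ker : Subgroup Γ) : Set Γ) := by
      intro g hg
      rw [Subgroup.mem_normalizer_iff] at hg ⊢
      intro n
      have hk : g ∈ Subgroup.normalizer ((ρ.ker : Subgroup Γ) : Set Γ) := by
        rw [Subgroup.normalizer_eq_top]; trivial
      rw [Subgroup.mem_normalizer_iff] at hk
      rw [Subgroup.mem_inf, Subgroup.mem_inf, hg n, hk n]
    have hAQ : j.range ≤ Subgroup.normalizer (Q : Set Γ) := by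
      rintro _ ⟨a, rfl⟩
      rw [Subgroup.mem_normalizer_iff]
      intro n
      constructor
      · exact hQA a n
      · intro h
        have := hQA a⁻¹ _ h
        rw [map_inv] at this
        have e : (j a)⁻¹ * (j a * n * (j a)⁻¹) * (j a)⁻¹⁻¹ = n := by group
        rwa [e] at this
    have hcop : (Nat.card j.range).Coprime (Nat.card Q) := by
      rw [← Nat.card_congr (MonoidHom.ofInjective hj).toEquiv, card_A0]
      obtain ⟨n, hn⟩ := IsPGroup.iff_card.mp hQ
      rw [hn]
      exact coprime_six (Fact.out) hq n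
    have hsolv : Group.IsSolvable j.range ∨ Group.IsSolvable Q :=
      Or.inr (Group.isSolvable_of_comm (fun a b => Subtype.ext (hQab a a.2 b b.2)))
    obtain ⟨c, hc, hcN⟩ := Cfsg.Agent.Lead.coprime_fixed_points_quotient j.range Q hAQ hcop hsolv
      (Q ⊓ ρ.ker) inf_le_left (fun g hg => hnormQ g (Subgroup.le_normalizer hg))
      (fun g hg => hnormQ g (hAQ hg)) x hx hfix
    have hc1 : c = 1 := by
      apply hfpfQ c hc.1
      intro a
      have := Subgroup.mem_centralizer_iff.mp hc.2 (j a) ⟨a, rfl⟩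
      rw [this, mul_inv_cancel_right]
    rw [hc1, mul_one] at hcN
    have : ρ x⁻¹ = 1 := hcN.2
    rw [map_inv, inv_eq_one] at this
    apply Subtype.ext
    rw [← hxp, this]
    rfl
  have hsp : s.Prime := Fact.out
  have hqp : q.Prime := Fact.out
  let cfg : Cfg ↥S ↥P Kˣ s q :=
    { α := α
      β := β
      ι := P.subtype
      compat := by
        intro a x u
        change α a ((x : MulAut ↥S) u) = ((β a x : ↥P) : MulAut ↥S) (α a u)
        rw [hβ, MulAut.mul_apply, MulAut.mul_apply, MulAut.inv_apply_self]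
      faith := by
        intro x hx
        apply Subtype.ext
        ext u
        exact congrArg Subtype.val (hx u)
      sprime := hsp
      qprime := hqp
      hq := hq
      hs2 := by omega
      hsq := hsq
      hSexp := by
        intro u
        apply Subtype.ext
        rw [Subgroup.coe_pow]
        exact hSexp u u.2
      hSne := Subgroup.ne_bot_iff_exists_ne_one.mp hSne
      hP := IsPGroup.map hQ ρ
      hCSP := by
        intro u hu
        apply Subtype.ext
        apply hCSQ u u.2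
        intro x hx
        have := congrArg Subtype.val (hu ⟨ρ x, Subgroup.mem_map_of_mem ρ hx⟩)
        rw [← hρ]
        exact this
      hSirr := by
        intro S1 hS1P hS1A
        rcases hSirr (S1.map S.subtype) (Subgroup.map_subtype_le S1) (by
          rintro x hx _ ⟨u, hu, rfl⟩
          refine ⟨ρ x u, hS1P ⟨ρ x, Subgroup.mem_map_of_mem ρ hx⟩ u hu, ?_⟩
          exact hρ x u) (by
          rintro a _ ⟨u, hu, rfl⟩
          refine ⟨α a u, hS1A a u hu, ?_⟩
          exact hρ (j a) u) with h | h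
        · left
          exact (Subgroup.map_eq_bot_iff_of_injective S1 (Subgroup.subtype_injective S)).mp h
        · right
          rw [eq_top_iff]
          intro u _
          have hu : (u : Γ) ∈ S1.map S.subtype := by rw [h]; exact u.2
          obtain ⟨v, hv, hvu⟩ := hu
          have : v = u := Subtype.ext hvu
          rwa [← this]
      hPirr := by
        intro P1 hP1
        let Q1 : Subgroup Γ := Q ⊓ (P1.map P.subtype).comap ρ
        have hQ1A : AInv j Q1 := by
          intro a x hx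
          refine ⟨hQA a x hx.1, ?_⟩
          obtain ⟨p, hp, hpx⟩ := hx.2
          change ρ (j a * x * (j a)⁻¹) ∈ P1.map P.subtype
          refine ⟨β a p, hP1 a p hp, ?_⟩
          change ((β a p : ↥P) : MulAut ↥S) = ρ (j a * x * (j a)⁻¹)
          rw [hβ, map_mul, map_mul, map_inv]
          change ρ (j a) * (p : MulAut ↥S) * (ρ (j a))⁻¹ = _
          have : (p : MulAut ↥S) = ρ x := hpx
          rw [this]
        by_cases hQ1 : Q1 = Q
        · right
          rw [eq_top_iff]
          intro p _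
          obtain ⟨x, hx, hxp⟩ := p.2
          have hx1 : x ∈ Q1 := by rw [hQ1]; exact hx
          obtain ⟨p', hp', hpx⟩ := hx1.2
          have : p' = p := by
            apply Subtype.ext
            have : (p' : MulAut ↥S) = ρ x := hpx
            rw [this, hxp]
          rwa [← this]
        · left
          have hcent := hQmin Q1 inf_le_left hQ1 hQ1A
          rw [Subgroup.eq_bot_iff_forall]
          intro p hp
          obtain ⟨x, hx, hxp⟩ := p.2
          have hx1 : x ∈ Q1 := by
            refine ⟨hx, ?_⟩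
            change ρ x ∈ P1.map P.subtype
            exact ⟨p, hp, hxp.symm⟩
          apply Subtype.ext
          rw [← hxp]
          exact hρ1 x (hcent x hx1)
      hfpfS := by
        intro u hu
        apply Subtype.ext
        apply hfpfS u u.2
        intro a
        rw [← hρ]
        exact congrArg Subtype.val (hu a)
      hfpfP := hfpfP
      Λ := Λ
      hΛne := hΛne
      hΛ1 := hΛ1
      hΛP := by
        intro χ hχ p
        obtain ⟨x, hx, hxp⟩ := p.2
        have h1 := hΛQ χ hχ x⁻¹ (Q.inv_mem hx)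
        have h2 : conjChar x⁻¹ χ = χ.comp ((P.subtype p : MulAut ↥S) : ↥S ≃* ↥S).toMonoidHom := by
          apply MonoidHom.ext
          intro u
          rw [conjChar_apply, inv_inv]
          change χ (ρ x u) = χ ((p : MulAut ↥S) u)
          rw [hxp]
        rw [← h2]
        exact h1
      hnorm := by
        intro χ hχ
        obtain ⟨a, ha, hfix⟩ := hnorm χ hχ
        refine ⟨a, ha, ?_⟩
        intro u
        have h1 : conjChar (j a) χ (α a u) = χ (α a u) := by rw [hfix]
        rw [conjChar_apply] at h1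
        rw [← h1]
        congr 1
        change (ρ (j a)⁻¹) (ρ (j a) u) = u
        rw [map_inv, MulAut.inv_apply_self] }
  exact cfg.false

end Cfsg.Agent.Helper1.S3fCaseB
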