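import Mathlib
import Cfsg.Agent.Helper1.FrobFpfB6
import Cfsg.Agent.Helper1.PqB0
import Cfsg.Agent.Helper1.S3fCaseB
import Cfsg.Agent.Helper29.PqAsm
import Cfsg.Agent.Helper29.PqWt
import Cfsg.Agent.Lead.Coprime2

/-!
# S4306, piece (B): the case `C_S(Q) = 1` (internal statement requested by helper29, msg 1367)

We transport the internal configuration (`S`, `Q` subgroups of `Γ`, `A` acting by conjugation
through `j`) to the abstract configuration `FrobFpfB.GCfg` (with `P` the image of `Q` in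
`MulAut S`) and apply `GCfg.false`.
-/

set_option autoImplicit false

namespace Cfsg.Agent.Helper1.PqB

open Cfsg.Agent.Helper29.S3f Cfsg.Agent.Helper29.Pq
open scoped commutatorElement
open Cfsg.Agent.Helper1.S3fCaseB (conjSub conjSub_apply)
open Cfsg.Agent.Helper1.FrobFpfB

/-- the derived subgroup of a nontrivial `p`-subgroup is proper -/
theorem commutator_ne_self_of_pgroup {Γ : Type*} [Group Γ] [Finite Γ] {p : ℕ} [Fact p.Prime]
    (H : Subgroup Γ) (hH : IsPGroup p H) (hne : H ≠ ⊥) : ⁅H, H⁆ ≠ H := by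
  intro heq
  haveI : Nontrivial ↥H := (Subgroup.nontrivial_iff_ne_bot H).mpr hne
  haveI : Group.IsNilpotent ↥H := hH.isNilpotent
  have hlt := Group.IsSolvable.commutator_lt_top_of_nontrivial ↥H
  have hmap := Subgroup.map_subtype_commutator H
  apply hlt.ne
  rw [eq_top_iff]
  intro u _
  have hu : (u : Γ) ∈ ⁅H, H⁆ := by rw [heq]; exact u.2
  rw [← hmap] at hu
  obtain ⟨v, hv, hvu⟩ := hu
  have : v = u := Subtype.ext hvu
  rwa [← this]

/-- the commutator of `A`-invariant subgroups is `A`-invariant -/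
theorem ginv_commutator {Γ : Type*} [Group Γ] {A : Type*} [Group A] (j : A →* Γ)
    (H K : Subgroup Γ) (hH : GInv j H) (hK : GInv j K) : GInv j ⁅H, K⁆ := by
  intro a x hx
  let φ : Γ →* Γ := (MulAut.conj (j a)).toMonoidHom
  have h1 : φ x ∈ (⁅H, K⁆).map φ := Subgroup.mem_map_of_mem φ hx
  rw [Subgroup.map_commutator] at h1
  have hHm : H.map φ ≤ H := by
    rintro _ ⟨y, hy, rfl⟩
    exact hH a y hy
  have hKm : K.map φ ≤ K := by
    rintro _ ⟨y, hy, rfl⟩
    exact hK a y hy
  exact Subgroup.commutator_mono hHm hKm h1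

theorem ne_of_coprime_mul_left {ℓ h s : ℕ} (hs : s.Prime) (hcop : (ℓ * h).Coprime s) : s ≠ ℓ := by
  rintro rfl
  have h1 : s ∣ Nat.gcd (s * h) s := Nat.dvd_gcd (Dvd.intro _ rfl) dvd_rfl
  rw [hcop] at h1
  exact hs.one_lt.ne' (Nat.dvd_one.mp h1)

theorem ne_of_coprime_mul_right {ℓ h s : ℕ} (hs : s.Prime) (hcop : (ℓ * h).Coprime s) : s ≠ h := by
  rintro rfl
  have h1 : s ∣ Nat.gcd (ℓ * s) s := Nat.dvd_gcd (Dvd.intro_left _ rfl) dvd_rfl
  rw [hcop] at h1
  exact hs.one_lt.ne' (Nat.dvd_one.mp h1)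

/-- (B) the case `C_S(Q) = 1` (so `S` is abelian): weights of `S`. -/
theorem caseAb {Γ : Type*} [Group Γ] [Finite Γ] {A : Type*} [Group A] [Finite A] {f η : A}
    {ℓ h : ℕ} (hA : FrobPQ A f η ℓ h) (hAcard : Nat.card A = ℓ * h)
    (j : A →* Γ) (hj : Function.Injective j) {K : Type*} [Field K]
    (S Q : Subgroup Γ) [S.Normal] {s q : ℕ} [Fact s.Prime] [Fact q.Prime] (hsq : s ≠ q)
    (hsA : (Nat.card A).Coprime s) (hqA : (Nat.card A).Coprime q)
    (hSp : IsPGroup s S) (hSne : S ≠ ⊥) (hQ : IsPGroup q Q) (hQA : GInv j Q)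
    (hcomm : ⁅S, Q⁆ = S)
    (hCSQ : ∀ u ∈ S, (∀ x ∈ Q, x * u * x⁻¹ = u) → u = 1)
    (hSmin : ∀ S1 : Subgroup Γ, S1 ≤ S → S1 ≠ S → (∀ x ∈ Q, ∀ u ∈ S1, x * u * x⁻¹ ∈ S1) →
      GInv j S1 → ∀ x ∈ Q, ∀ u ∈ S1, x * u * x⁻¹ = u)
    (hQmin : ∀ Q1 : Subgroup Γ, Q1 ≤ Q → Q1 ≠ Q → GInv j Q1 →
      ∀ x ∈ Q1, ∀ u ∈ S, x * u * x⁻¹ = u)
    (hfpfS : ∀ u ∈ S, (∀ a : A, j a * u * (j a)⁻¹ = u) → u = 1)
    (hfpfQ : ∀ x ∈ Q, (∀ a : A, j a * x * (j a)⁻¹ = x) → x = 1)
    (Λ : Set (↥S →* Kˣ)) (hΛne : Λ.Nonempty) (hΛ1 : ∀ χ ∈ Λ, χ ≠ 1)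
    (hΛQ : ∀ χ ∈ Λ, ∀ x ∈ Q, conjChar x χ ∈ Λ) (hΛA : ∀ χ ∈ Λ, ∀ a : A, conjChar (j a) χ ∈ Λ)
    (hnorm : ∀ χ ∈ Λ, ∃ a : A, a ≠ 1 ∧ conjChar (j a) χ = χ) : False := by
  have hsp : s.Prime := Fact.out
  have hqp : q.Prime := Fact.out
  -- `S` is abelian
  have hSab : ∀ a ∈ S, ∀ b ∈ S, a * b = b * a := by
    have hDle : ⁅S, S⁆ ≤ S := Subgroup.commutator_le_self S
    have hDne : ⁅S, S⁆ ≠ S := commutator_ne_self_of_pgroup S hSp hSne
    have hcent := hSmin ⁅S, S⁆ hDle hDne
      (fun x _ u hu => Subgroup.Normal.conj_mem inferInstance u hu x) (GInv.of_normal j _)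
    have hD1 : ∀ u ∈ ⁅S, S⁆, u = 1 :=
      fun u hu => hCSQ u (hDle hu) (fun x hx => hcent x hx u hu)
    intro a ha b hb
    have : ⁅a, b⁆ = 1 := hD1 _ (Subgroup.commutator_mem_commutator ha hb)
    exact commutatorElement_eq_one_iff_mul_comm.mp this
  let instS : CommGroup ↥S :=
    { (inferInstance : Group ↥S) with
      mul_comm := fun a b => Subtype.ext (hSab a a.2 b b.2) }
  let ρ : Γ →* MulAut ↥S := MulAut.conjNormal
  have hρ : ∀ (g : Γ) (u : ↥S), ((ρ g u : ↥S) : Γ) = g * u * g⁻¹ :=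
    fun g u => MulAut.conjNormal_apply g u
  have hρ1 : ∀ g : Γ, (∀ u ∈ S, g * u * g⁻¹ = u) → ρ g = 1 := by
    intro g hg
    ext u
    rw [hρ, MulAut.one_apply]
    exact hg u u.2
  -- `Q` is nontrivial
  have hQne : Q ≠ ⊥ := by
    intro hQb
    apply hSne
    rw [← hcomm, hQb, Subgroup.commutator_bot_right]
  -- the image of `Q` in `MulAut S` is abelian
  have hQ' : ∀ x ∈ Q, ∀ y ∈ Q, ρ x * ρ y = ρ y * ρ x := by
    have hDle : ⁅Q, Q⁆ ≤ Q := Subgroup.commutator_le_self Q
    have hDne : ⁅Q, Q⁆ ≠ Q := commutator_ne_self_of_pgroup Q hQ hQne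
    have hcent := hQmin ⁅Q, Q⁆ hDle hDne (ginv_commutator j Q Q hQA hQA)
    intro x hx y hy
    have h1 : ρ ⁅x, y⁆ = 1 :=
      hρ1 _ (hcent _ (Subgroup.commutator_mem_commutator hx hy))
    rw [map_commutatorElement] at h1
    exact commutatorElement_eq_one_iff_mul_comm.mp h1
  let P : Subgroup (MulAut ↥S) := Q.map ρ
  let instP : CommGroup ↥P :=
    { (inferInstance : Group ↥P) with
      mul_comm := by
        intro a b
        apply Subtype.ext
        obtain ⟨x, hx, hxa⟩ := a.2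
        obtain ⟨y, hy, hyb⟩ := b.2
        rw [Subgroup.coe_mul, Subgroup.coe_mul, ← hxa, ← hyb]
        exact hQ' x hx y hy }
  let α : A →* MulAut ↥S := ρ.comp j
  have hPA : ∀ a : A, ∀ x ∈ P, α a * x * (α a)⁻¹ ∈ P := by
    intro a x hx
    obtain ⟨y, hy, rfl⟩ := hx
    refine ⟨j a * y * (j a)⁻¹, hQA a y hy, ?_⟩
    rw [map_mul, map_mul, map_inv]
    rfl
  let β : A →* MulAut ↥P := conjSub P α hPA
  have hβ : ∀ (a : A) (x : ↥P), ((β a x : ↥P) : MulAut ↥S) = α a * x * (α a)⁻¹ :=
    fun a x => rfl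
  have hfpfP : ∀ x : ↥P, (∀ a : A, β a x = x) → x = 1 := by
    intro p hp
    obtain ⟨x, hx, hxp⟩ := p.2
    have hfix : ∀ a ∈ j.range, a * x * a⁻¹ * x⁻¹ ∈ Q ⊓ ρ.ker := by
      rintro _ ⟨a, rfl⟩
      refine ⟨Q.mul_mem (hQA a x hx) (Q.inv_mem hx), ?_⟩
      change ρ (j a * x * (j a)⁻¹ * x⁻¹) = 1
      rw [map_mul, map_mul, map_mul, map_inv, map_inv, hxp]
      have := congrArg Subtype.val (hp a)
      rw [hβ] at this
      change ρ (j a) * (p : MulAut ↥S) * (ρ (j a))⁻¹ = p at this
      rw [this, mul_inv_cancel]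
    have hnormQ : ∀ g : Γ, g ∈ Subgroup.normalizer (Q : Set Γ) →
        g ∈ Subgroup.normalizer ((Q ⊓ ρ.ker : Subgroup Γ) : Set Γ) := by
      intro g hg
      rw [Subgroup.mem_normalizer_iff] at hg ⊢
      intro n
      have hk : g ∈ Subgroup.normalizer ((ρ.ker : Subgroup Γ) : Set Γ) := by
        rw [Subgroup.normalizer_eq_top]; trivial
      rw [Subgroup.mem_normalizer_iff] at hk
      rw [Subgroup.mem_inf, Subgroup.mem_inf, hg n, hk n]
    have hAQ : j.range ≤ Subgroup.normalizer (Q : Set Γ) :=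
      range_le_normalizer_of_GInv j hQA
    have hcop : (Nat.card j.range).Coprime (Nat.card Q) := by
      rw [← Nat.card_congr (MonoidHom.ofInjective hj).toEquiv]
      obtain ⟨n, hn⟩ := IsPGroup.iff_card.mp hQ
      rw [hn]
      exact Nat.Coprime.pow_right n hqA
    have hsolv : Group.IsSolvable j.range ∨ Group.IsSolvable Q := by
      right
      haveI : Group.IsNilpotent ↥Q := hQ.isNilpotent
      infer_instance
    obtain ⟨c, hc, hcN⟩ := Cfsg.Agent.Lead.coprime_fixed_points_quotient j.range Q hAQ hcop hsolv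
      (Q ⊓ ρ.ker) inf_le_left (fun g hg => hnormQ g (Subgroup.le_normalizer hg))
      (fun g hg => hnormQ g (hAQ hg)) x hx hfix
    have hc1 : c = 1 := by
      apply hfpfQ c hc.1
      intro a
      have := Subgroup.mem_centralizer_iff.mp hc.2 (j a) ⟨a, rfl⟩
      rw [this, mul_inv_cancel_right]
    rw [hc1, mul_one] at hcN
    have : ρ x⁻¹ = 1 := hcN.2
    rw [map_inv, inv_eq_one] at this
    apply Subtype.ext
    rw [← hxp, this]
    rfl
  haveI hFn : (Subgroup.zpowers f).Normal := normal_zpowers_f hA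
  have hsA' : (ℓ * h).Coprime s := by rw [← hAcard]; exact hsA
  have hqA' : (ℓ * h).Coprime q := by rw [← hAcard]; exact hqA
  let cfg : GCfg A ↥S ↥P Kˣ s q ℓ h :=
    { α := α
      β := β
      ι := P.subtype
      compat := by
        intro a x u
        change α a ((x : MulAut ↥S) u) = ((β a x : ↥P) : MulAut ↥S) (α a u)
        rw [hβ, MulAut.mul_apply, MulAut.mul_apply, MulAut.inv_apply_self]
      faith := by
        intro x hx
        apply Subtype.ext
        ext u
        exact congrArg Subtype.val (hx u)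
      F := Subgroup.zpowers f
      hFn := hFn
      sprime := hsp
      qprime := hqp
      lprime := hA.hℓ
      hprime := hA.hh
      hcardF := card_zpowers_f hA
      hcardA := hAcard
      hnc := fun a ha g hg hag => not_commute hA a ha g hg hag
      hsq := hsq
      hsl := ne_of_coprime_mul_left hsp hsA'
      hsh := ne_of_coprime_mul_right hsp hsA'
      hql := ne_of_coprime_mul_left hqp hqA'
      hqh := ne_of_coprime_mul_right hqp hqA'
      hS := hSp
      hSne := Subgroup.ne_bot_iff_exists_ne_one.mp hSne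
      hP := IsPGroup.map hQ ρ
      hCSP := by
        intro u hu
        apply Subtype.ext
        apply hCSQ u u.2
        intro x hx
        have := congrArg Subtype.val (hu ⟨ρ x, Subgroup.mem_map_of_mem ρ hx⟩)
        rw [← hρ]
        exact this
      hSirr := by
        intro S1 hS1P hS1A
        by_cases hS1 : S1.map S.subtype = S
        · right
          rw [eq_top_iff]
          intro u _
          have hu : (u : Γ) ∈ S1.map S.subtype := by rw [hS1]; exact u.2
          obtain ⟨v, hv, hvu⟩ := hu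
          have : v = u := Subtype.ext hvu
          rwa [← this]
        · left
          have hcent := hSmin (S1.map S.subtype) (Subgroup.map_subtype_le S1) hS1 (by
            rintro x hx _ ⟨u, hu, rfl⟩
            refine ⟨ρ x u, hS1P ⟨ρ x, Subgroup.mem_map_of_mem ρ hx⟩ u hu, ?_⟩
            exact hρ x u) (by
            rintro a _ ⟨u, hu, rfl⟩
            refine ⟨α a u, hS1A a u hu, ?_⟩
            exact hρ (j a) u)
          rw [Subgroup.eq_bot_iff_forall]
          intro u hu
          apply Subtype.ext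
          apply hCSQ u u.2
          intro x hx
          exact hcent x hx u ⟨u, hu, rfl⟩
      hPirr := by
        intro P1 hP1
        let Q1 : Subgroup Γ := Q ⊓ (P1.map P.subtype).comap ρ
        have hQ1A : GInv j Q1 := by
          intro a x hx
          refine ⟨hQA a x hx.1, ?_⟩
          obtain ⟨p, hp, hpx⟩ := hx.2
          change ρ (j a * x * (j a)⁻¹) ∈ P1.map P.subtype
          refine ⟨β a p, hP1 a p hp, ?_⟩
          change ((β a p : ↥P) : MulAut ↥S) = ρ (j a * x * (j a)⁻¹)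
          rw [hβ, map_mul, map_mul, map_inv]
          change ρ (j a) * (p : MulAut ↥S) * (ρ (j a))⁻¹ = _
          have : (p : MulAut ↥S) = ρ x := hpx
          rw [this]
        by_cases hQ1 : Q1 = Q
        · right
          rw [eq_top_iff]
          intro p _
          obtain ⟨x, hx, hxp⟩ := p.2
          have hx1 : x ∈ Q1 := by rw [hQ1]; exact hx
          obtain ⟨p', hp', hpx⟩ := hx1.2
          have : p' = p := by
            apply Subtype.ext
            have : (p' : MulAut ↥S) = ρ x := hpx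
            rw [this, hxp]
          rwa [← this]
        · left
          have hcent := hQmin Q1 inf_le_left hQ1 hQ1A
          rw [Subgroup.eq_bot_iff_forall]
          intro p hp
          obtain ⟨x, hx, hxp⟩ := p.2
          have hx1 : x ∈ Q1 := by
            refine ⟨hx, ?_⟩
            change ρ x ∈ P1.map P.subtype
            exact ⟨p, hp, hxp.symm⟩
          apply Subtype.ext
          rw [← hxp]
          exact hρ1 x (hcent x hx1)
      hfpfS := by
        intro u hu
        apply Subtype.ext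
        apply hfpfS u u.2
        intro a
        rw [← hρ]
        exact congrArg Subtype.val (hu a)
      hfpfP := hfpfP
      Λ := Λ
      hΛne := hΛne
      hΛ1 := hΛ1
      hΛP := by
        intro χ hχ p
        obtain ⟨x, hx, hxp⟩ := p.2
        have h1 := hΛQ χ hχ x⁻¹ (Q.inv_mem hx)
        have h2 : conjChar x⁻¹ χ = χ.comp ((P.subtype p : MulAut ↥S) : ↥S ≃* ↥S).toMonoidHom := by
          apply MonoidHom.ext
          intro u
          rw [conjChar_apply, inv_inv]
          change χ (ρ x u) = χ ((p : MulAut ↥S) u)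
          rw [hxp]
        rw [← h2]
        exact h1
      hnorm := by
        intro χ hχ
        obtain ⟨a, ha, hfix⟩ := hnorm χ hχ
        refine ⟨a, ha, ?_⟩
        intro u
        have h1 : conjChar (j a) χ (α a u) = χ (α a u) := by rw [hfix]
        rw [conjChar_apply] at h1
        rw [← h1]
        congr 1
        change (ρ (j a)⁻¹) (ρ (j a) u) = u
        rw [map_inv, MulAut.inv_apply_self] }
  exact cfg.false

end Cfsg.Agent.Helper1.PqB
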