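import Mathlib
import Cfsg.Prelude.Def_RootSubgroups
import Cfsg.Agent.Helper25.QPDefs

set_option autoImplicit false

/-! S5063 (quadratic pairs: `G` is a central product of quasisimple groups): definitions for the
board `s5063pieces` (driver helper1). -/

noncomputable section

namespace Cfsg.Agent.QP63

open Cfsg Cfsg.Agent.Helper25.QP Cfsg.Agent.Helper25.QuadPair Cfsg.Agent.QPP

variable {k : Type*} [Field k] {M : Type*} [AddCommGroup M] [Module k M]

local notation "GLkM" => LinearMap.GeneralLinearGroup k M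

/-- `G₀ = ⟨Σ⟩` -/
def G0 (G : Subgroup GLkM) : Subgroup GLkM := ⨆ A ∈ quadraticRootSubgroups G, A

/-- the quadratic elements of `G` centralizing `G₀` -/
def QC (G : Subgroup GLkM) : Set GLkM :=
  quadraticElements G ∩ (Subgroup.centralizer (G0 G : Set GLkM) : Set GLkM)

/-- the subgroup generated by the quadratic elements centralizing `G₀` -/
def C1 (G : Subgroup GLkM) : Subgroup GLkM := Subgroup.closure (QC G)

/-- the subgroup generated by the `i`-th part -/
def Lc {r : ℕ} (part : Fin r → Set (Subgroup GLkM)) (i : Fin r) : Subgroup GLkM :=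
  ⨆ A ∈ part i, A

/-- what is used of the conclusion of S5069 -/
structure Parts (G : Subgroup GLkM) {r : ℕ} (part : Fin r → Set (Subgroup GLkM)) : Prop where
  cover : (⋃ i, part i) = quadraticRootSubgroups G
  comm : ∀ i j, i ≠ j → ⁅Lc part i, Lc part j⁆ = ⊥
  qs : ∀ i, IsQuasisimple ↥(Lc part i)

/-- the conclusion of S5063 -/
def Concl (G : Subgroup GLkM) : Prop :=
  ∃ (s : ℕ) (Gi : Fin s → Subgroup GLkM),
    (∀ i, Gi i ≤ G ∧ ∀ g ∈ G, conjBy (Gi i) g = Gi i) ∧ (∀ i j, i ≠ j → ⁅Gi i, Gi j⁆ = ⊥) ∧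
      (⨆ i, Gi i) = G ∧
      (∀ i, IsQuasisimple ↥(Gi i) ∧
        Subgroup.closure (quadraticElements G ∩ (Gi i : Set GLkM)) = Gi i) ∧
      quadraticElements G ⊆ ⋃ i, (Gi i : Set GLkM)

/-- the PEEL lemma (helper12, board `qp74pieces`) as a hypothesis -/
def PeelHyp (G : Subgroup GLkM) (d : ℕ) : Prop :=
  ∀ a b : Module.End k M, QFam G a → Qd G d b → ¬ IsNilpotent (a * b) →
    ∃ a₁ a₀ : Module.End k M, a = a₁ + a₀ ∧ a₁ * a₀ = 0 ∧ a₀ * a₁ = 0 ∧ Qd G d a₁ ∧
      (a₀ = 0 ∨ QFam G a₀) ∧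
      Module.finrank k (LinearMap.range a₀) + d = Module.finrank k (LinearMap.range a)

/-- CASE2 (helper13) as a hypothesis -/
def Case2Hyp (G : Subgroup GLkM) (d : ℕ) : Prop :=
  ∀ a : Module.End k M, QFam G a → (∀ b, Qd G d b → IsNilpotent (a * b)) →
    ∀ b, Qd G d b → a * b = b * a

/-- S5074 as a hypothesis -/
def H74 (G : Subgroup GLkM) : Prop :=
  G0 G ⊔ (G ⊓ Subgroup.centralizer (G0 G : Set GLkM)) = G

/-- every quadratic element centralizes `G₀` or lies in one component -/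
def LocHyp (G : Subgroup GLkM) {r : ℕ} (part : Fin r → Set (Subgroup GLkM)) : Prop :=
  ∀ σ ∈ quadraticElements G,
    σ ∈ Subgroup.centralizer (G0 G : Set GLkM) ∨ ∃ i, σ ∈ Lc part i

/-- `U` is invariant under `H` -/
def Inv (H : Subgroup GLkM) (U : Submodule k M) : Prop :=
  ∀ h ∈ H, ∀ u ∈ U, (h : Module.End k M) u ∈ U

/-- `U` is a minimal nonzero `H`-invariant subspace -/
def MinInv (H : Subgroup GLkM) (U : Submodule k M) : Prop :=
  U ≠ ⊥ ∧ Inv H U ∧ ∀ W : Submodule k M, W ≤ U → Inv H W → W = ⊥ ∨ W = U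

/-- `M` is the sum of the translates `g U`, `g ∈ K` -/
def Spans (K : Subgroup GLkM) (U : Submodule k M) : Prop :=
  (⨆ g ∈ K, U.map ((g : GLkM) : M →ₗ[k] M)) = ⊤

/-- restriction of the subgroup `H` of `GL(M)` to the `H`-invariant subspace `U` -/
def resHom (H : Subgroup GLkM) (U : Submodule k M) (hU : Inv H U) :
    ↥H →* LinearMap.GeneralLinearGroup k ↥U where
  toFun h :=
    { val := LinearMap.restrict ((h : GLkM) : M →ₗ[k] M) (hU h h.2)
      inv := LinearMap.restrict (((h⁻¹ : ↥H) : GLkM) : M →ₗ[k] M) (hU _ (h⁻¹).2)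
      val_inv := by
        apply LinearMap.ext
        intro u
        apply Subtype.ext
        show ((h : GLkM) : M →ₗ[k] M) ((((h⁻¹ : ↥H) : GLkM) : M →ₗ[k] M) u) = u
        rw [Subgroup.coe_inv]
        exact LinearMap.congr_fun (Units.mul_inv (h : GLkM)) (u : M)
      inv_val := by
        apply LinearMap.ext
        intro u
        apply Subtype.ext
        show (((h⁻¹ : ↥H) : GLkM) : M →ₗ[k] M) (((h : GLkM) : M →ₗ[k] M) u) = u
        rw [Subgroup.coe_inv]
        exact LinearMap.congr_fun (Units.inv_mul (h : GLkM)) (u : M) }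
  map_one' := by
    apply Units.ext
    apply LinearMap.ext
    intro u
    apply Subtype.ext
    rfl
  map_mul' g h := by
    apply Units.ext
    apply LinearMap.ext
    intro u
    apply Subtype.ext
    rfl

@[simp] theorem resHom_apply (H : Subgroup GLkM) (U : Submodule k M) (hU : Inv H U) (h : ↥H)
    (u : ↥U) :
    (((resHom H U hU h : LinearMap.GeneralLinearGroup k ↥U) : Module.End k ↥U) u : M)
      = ((h : GLkM) : Module.End k M) (u : M) := rfl

/-- pull a subgroup of `GL(U)` back to a subgroup of `GL(M)` inside `H` -/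
def pull (H : Subgroup GLkM) (U : Submodule k M) (hU : Inv H U)
    (X : Subgroup (LinearMap.GeneralLinearGroup k ↥U)) : Subgroup GLkM :=
  (X.comap (resHom H U hU)).map H.subtype

theorem mem_pull {H : Subgroup GLkM} {U : Submodule k M} {hU : Inv H U}
    {X : Subgroup (LinearMap.GeneralLinearGroup k ↥U)} {g : GLkM} :
    g ∈ pull H U hU X ↔ ∃ hg : g ∈ H, resHom H U hU ⟨g, hg⟩ ∈ X := by
  constructor
  · rintro ⟨h, hh, rfl⟩
    exact ⟨h.2, hh⟩
  · rintro ⟨hg, hX⟩
    exact ⟨⟨g, hg⟩, hX, rfl⟩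

end Cfsg.Agent.QP63

end
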