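import Mathlib
import Cfsg.Agent.Helper1.QP63Defs
import Cfsg.Agent.Helper23.QP2IF
import Cfsg.Agent.Helper7.Quasisimple

set_option autoImplicit false

/-! S5063, board `s5063pieces`: the pieces G0EQ, ROOTIN, LCLE, LGEN, C1LE. -/

noncomputable section

namespace Cfsg.Agent.QP63

open Cfsg Cfsg.Agent.Helper25.QP Cfsg.Agent.Helper25.QuadPair Cfsg.Agent.QPP

variable {k : Type*} [Field k] {M : Type*} [AddCommGroup M] [Module k M]

local notation "GLkM" => LinearMap.GeneralLinearGroup k M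

theorem G0EQ_aux_mem {G : Subgroup GLkM} {r : ℕ} {part : Fin r → Set (Subgroup GLkM)}
    (hP : Parts G part) {i : Fin r} {A : Subgroup GLkM} (hA : A ∈ part i) :
    A ∈ quadraticRootSubgroups G := by
  rw [← hP.cover]
  exact Set.mem_iUnion.2 ⟨i, hA⟩

theorem G0EQ_aux_ex {G : Subgroup GLkM} {r : ℕ} {part : Fin r → Set (Subgroup GLkM)}
    (hP : Parts G part) {A : Subgroup GLkM} (hA : A ∈ quadraticRootSubgroups G) :
    ∃ i, A ∈ part i := by
  rw [← hP.cover] at hA
  exact Set.mem_iUnion.1 hA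

theorem G0EQ {G : Subgroup GLkM} {r : ℕ} {part : Fin r → Set (Subgroup GLkM)}
    (hP : Parts G part) : G0 G = ⨆ i, Lc part i := by
  apply le_antisymm
  · refine iSup₂_le fun A hA => ?_
    obtain ⟨i, hi⟩ := G0EQ_aux_ex hP hA
    exact (le_iSup₂_of_le (f := fun (B : Subgroup GLkM) (_ : B ∈ part i) => B) A hi le_rfl).trans
      (le_iSup (fun i => Lc part i) i)
  · refine iSup_le fun i => iSup₂_le fun A hA => ?_
    exact le_iSup₂_of_le (f := fun (B : Subgroup GLkM) (_ : B ∈ quadraticRootSubgroups G) => B) A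
      (G0EQ_aux_mem hP hA) le_rfl

theorem ROOTIN {G : Subgroup GLkM} {r : ℕ} {part : Fin r → Set (Subgroup GLkM)}
    (hP : Parts G part) {σ : GLkM} (hσ : σ ∈ minimalQuadraticElements G) :
    ∃ i, σ ∈ Lc part i := by
  have hA : sameActionSubgroup G σ ∈ quadraticRootSubgroups G := ⟨σ, hσ, rfl⟩
  obtain ⟨i, hi⟩ := G0EQ_aux_ex hP hA
  refine ⟨i, ?_⟩
  have hle : sameActionSubgroup G σ ≤ Lc part i :=
    le_iSup₂_of_le (f := fun (B : Subgroup GLkM) (_ : B ∈ part i) => B) _ hi le_rfl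
  exact hle (Cfsg.Agent.QP2.IF1_self_mem hσ)

theorem LCLE {G : Subgroup GLkM} {r : ℕ} {part : Fin r → Set (Subgroup GLkM)}
    (hP : Parts G part) (i : Fin r) : Lc part i ≤ G0 G ∧ Lc part i ≤ G ∧ Lc part i ≠ ⊥ := by
  have h1 : Lc part i ≤ G0 G := by
    refine iSup₂_le fun A hA => ?_
    exact le_iSup₂_of_le (f := fun (B : Subgroup GLkM) (_ : B ∈ quadraticRootSubgroups G) => B) A
      (G0EQ_aux_mem hP hA) le_rfl
  refine ⟨h1, h1.trans Cfsg.Agent.QP2.IF1_gen_le, ?_⟩
  intro hb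
  have hn : Nontrivial ↥(Lc part i) := Cfsg.Agent.Helper7.IsQuasisimple.nontrivial (hP.qs i)
  obtain ⟨x, y, hxy⟩ := hn
  apply hxy
  apply Subtype.ext
  have hx : (x : GLkM) ∈ (⊥ : Subgroup GLkM) := hb ▸ x.2
  have hy : (y : GLkM) ∈ (⊥ : Subgroup GLkM) := hb ▸ y.2
  rw [Subgroup.mem_bot] at hx hy
  rw [hx, hy]

/-- the components are generated by their quadratic elements -/
theorem LGEN {G : Subgroup GLkM} {r : ℕ} {part : Fin r → Set (Subgroup GLkM)}
    (hP : Parts G part) (i : Fin r) :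
    Subgroup.closure (quadraticElements G ∩ (Lc part i : Set GLkM)) = Lc part i := by
  apply le_antisymm
  · rw [Subgroup.closure_le]
    exact Set.inter_subset_right
  · refine iSup₂_le fun A hA => ?_
    have hAL : A ≤ Lc part i :=
      le_iSup₂_of_le (f := fun (B : Subgroup GLkM) (_ : B ∈ part i) => B) A hA le_rfl
    obtain ⟨σ, -, rfl⟩ := G0EQ_aux_mem hP hA
    show Subgroup.closure (sameActionClass G σ) ≤ _
    rw [Subgroup.closure_le]
    intro τ hτ
    exact Subgroup.subset_closure ⟨hτ.1.1, hAL (Subgroup.subset_closure hτ)⟩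

theorem C1LE (G : Subgroup GLkM) :
    C1 G ≤ G ∧ C1 G ≤ Subgroup.centralizer (G0 G : Set GLkM) := by
  constructor
  · unfold C1
    rw [Subgroup.closure_le]
    intro σ hσ
    exact hσ.1.1
  · unfold C1
    rw [Subgroup.closure_le]
    intro σ hσ
    exact hσ.2

end Cfsg.Agent.QP63

end
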