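import Mathlib
import Cfsg.Agent.Helper1.QP63Defs
import Cfsg.Agent.Helper1.QP63Easy
import Cfsg.Agent.Helper13.QP63NRM
import Cfsg.Agent.Helper15.QP63CGEN
import Cfsg.Agent.Helper15.QP63PULLCOV
import Cfsg.Agent.Helper15.QP63PULLCOMM
import Cfsg.Agent.Helper17.QP63PULLNRM
import Cfsg.Agent.Helper17.QP63PULLGEN
import Cfsg.Agent.Helper20.QP63RESPAIR
import Cfsg.Agent.Helper20.QP63PULLQS
import Cfsg.Agent.Helper24.QP63PULLSUP
import Cfsg.Agent.Helper9.QP63UMIN

set_option autoImplicit false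

/-! S5063, piece ASM: the induction step. -/

noncomputable section

namespace Cfsg.Agent.QP63

open Cfsg Cfsg.Agent.Helper25.QP Cfsg.Agent.Helper25.QuadPair Cfsg.Agent.QPP

variable {k : Type*} [Field k] {M : Type*} [AddCommGroup M] [Module k M]

local notation "GLkM" => LinearMap.GeneralLinearGroup k M

/-- a nonempty set of quadratic elements contains one of minimal rank -/
theorem ASM_aux_exists_min {G : Subgroup GLkM} {σ : GLkM} (hσ : σ ∈ quadraticElements G) :
    ∃ τ, τ ∈ minimalQuadraticElements G := by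
  classical
  have hex : ∃ n : ℕ, ∃ τ ∈ quadraticElements G, commutatorRank τ = n := ⟨_, σ, hσ, rfl⟩
  obtain ⟨τ, hτ, hn⟩ := Nat.find_spec hex
  refine ⟨τ, hτ, fun ρ hρ => ?_⟩
  rw [hn]
  exact Nat.find_min' hex ⟨ρ, hρ, rfl⟩

/-- elementwise commuting subgroups have trivial commutator -/
theorem ASM_aux_comm_bot {Γ : Type*} [Group Γ] {A B C : Subgroup Γ} (hA : A ≤ C)
    (hB : B ≤ Subgroup.centralizer (C : Set Γ)) : ⁅A, B⁆ = ⊥ := by
  rw [Subgroup.commutator_comm, Subgroup.commutator_eq_bot_iff_le_centralizer]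
  intro b hb
  rw [Subgroup.mem_centralizer_iff]
  intro a ha
  exact (Subgroup.mem_centralizer_iff.mp (hB hb) a (hA ha))

theorem ASM_aux_iSup_append {Γ : Type*} [Group Γ] {r s : ℕ} (f : Fin r → Subgroup Γ)
    (g : Fin s → Subgroup Γ) : (⨆ i, Fin.append f g i) = (⨆ i, f i) ⊔ (⨆ j, g j) := by
  apply le_antisymm
  · refine iSup_le fun i => ?_
    refine Fin.addCases (fun a => ?_) (fun b => ?_) i
    · rw [Fin.append_left]
      exact le_sup_of_le_left (le_iSup f a)
    · rw [Fin.append_right]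
      exact le_sup_of_le_right (le_iSup g b)
  · refine sup_le (iSup_le fun a => ?_) (iSup_le fun b => ?_)
    · have := le_iSup (Fin.append f g) (Fin.castAdd s a)
      rwa [Fin.append_left] at this
    · have := le_iSup (Fin.append f g) (Fin.natAdd r b)
      rwa [Fin.append_right] at this

theorem ASM [FiniteDimensional k M] {G : Subgroup GLkM} (hG : IsQuadraticPair G) {r : ℕ}
    {part : Fin r → Set (Subgroup GLkM)} (hP : Parts G part) (h74 : H74 G)
    (hloc : LocHyp G part)
    (ih : ∀ (U : Submodule k M) (G' : Subgroup (LinearMap.GeneralLinearGroup k ↥U)),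
      Module.finrank k ↥U < Module.finrank k M → IsQuadraticPair G' → Concl G') : Concl G := by
  have hgen : G0 G ⊔ C1 G = G := CGEN hG hP hloc
  have hG0 : G0 G = ⨆ i, Lc part i := G0EQ hP
  by_cases hQC : QC G = ∅
  · -- no quadratic element centralizes `G₀`
    have hC1 : C1 G = ⊥ := by
      unfold C1
      rw [hQC, Subgroup.closure_empty]
    rw [hC1, sup_bot_eq] at hgen
    refine ⟨r, Lc part, fun i => ⟨(LCLE hP i).2.1, NRM hP h74 i⟩, hP.comm, ?_,
      fun i => ⟨hP.qs i, LGEN hP i⟩, ?_⟩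
    · rw [← hG0, hgen]
    · intro σ hσ
      rcases hloc σ hσ with h | ⟨i, hi⟩
      · exfalso
        have : σ ∈ QC G := ⟨hσ, h⟩
        rw [hQC] at this
        exact this
      · exact Set.mem_iUnion.mpr ⟨i, hi⟩
  · -- restrict `C₁` to a minimal invariant subspace
    obtain ⟨σ, hσ⟩ := Set.nonempty_iff_ne_empty.mpr hQC
    obtain ⟨τ, hτ⟩ := ASM_aux_exists_min hσ.1
    obtain ⟨U, hU⟩ := UMIN (C1 G) hG.1.1
    have hsum : Spans (G0 G) U := USUM hG hgen hU
    have hlt := DIMLT hτ hU
    obtain ⟨s, X, hX1, hX2, hX3, hX4, hX5⟩ := ih U _ hlt (RESPAIR hU hsum)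
    have hXle : ∀ j, X j ≤ (resHom (C1 G) U hU.2.1).range := fun j => (hX1 j).1
    have hpull_le : ∀ j, pull (C1 G) U hU.2.1 (X j) ≤ C1 G := by
      intro j g hg
      exact (mem_pull.mp hg).1
    refine ⟨r + s, Fin.append (Lc part) (fun j => pull (C1 G) U hU.2.1 (X j)), ?_, ?_, ?_, ?_, ?_⟩
    · intro i
      refine Fin.addCases (fun a => ?_) (fun b => ?_) i
      · rw [Fin.append_left]
        exact ⟨(LCLE hP a).2.1, NRM hP h74 a⟩
      · rw [Fin.append_right]
        exact ⟨(hpull_le b).trans (C1LE G).1, PULLNRM hU.2.1 hgen (hX1 b).2⟩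
    · intro i j
      refine Fin.addCases (fun a => ?_) (fun b => ?_) i <;>
        refine Fin.addCases (fun a' => ?_) (fun b' => ?_) j
      · intro hne
        rw [Fin.append_left, Fin.append_left]
        exact hP.comm a a' (fun h => hne (by rw [h]))
      · intro _
        rw [Fin.append_left, Fin.append_right]
        exact ASM_aux_comm_bot (LCLE hP a).1 ((hpull_le b').trans (C1LE G).2)
      · intro _
        rw [Fin.append_right, Fin.append_left, Subgroup.commutator_comm]
        exact ASM_aux_comm_bot (LCLE hP a').1 ((hpull_le b).trans (C1LE G).2)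
      · intro hne
        rw [Fin.append_right, Fin.append_right]
        exact PULLCOMM hU.2.1 hsum (hX2 b b' (fun h => hne (by rw [h])))
    · rw [ASM_aux_iSup_append, ← hG0, PULLSUP hU.2.1 hsum hX3, hgen]
    · intro i
      refine Fin.addCases (fun a => ?_) (fun b => ?_) i
      · rw [Fin.append_left]
        exact ⟨hP.qs a, LGEN hP a⟩
      · rw [Fin.append_right]
        exact ⟨PULLQS hU.2.1 hsum (hXle b) (hX4 b).1, PULLGEN hU.2.1 hsum (hXle b) (hX4 b).2⟩
    · intro ρ hρ
      rcases hloc ρ hρ with h | ⟨i, hi⟩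
      · have hmem := PULLCOV hU.2.1 hsum hX5 (⟨hρ, h⟩ : ρ ∈ QC G)
        obtain ⟨j, hj⟩ := Set.mem_iUnion.mp hmem
        refine Set.mem_iUnion.mpr ⟨Fin.natAdd r j, ?_⟩
        rw [Fin.append_right]
        exact hj
      · refine Set.mem_iUnion.mpr ⟨Fin.castAdd s i, ?_⟩
        rw [Fin.append_left]
        exact hi

end Cfsg.Agent.QP63

end
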