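import Mathlib
import Cfsg.Agent.Helper1.QP63Defs
import Cfsg.Agent.Helper1.QP63Easy
import Cfsg.Agent.Helper25.QPAlpha
import Cfsg.Agent.Helper23.QP2IF
import Cfsg.Agent.Helper23.QPTRANS
import Cfsg.Agent.Helper29.QP63LOCSTEP

set_option autoImplicit false

/-! S5063, piece LOC (hedge by the driver, theorem `LOCh`): every quadratic element centralizes
`G₀` or lies in one component. -/

noncomputable section

namespace Cfsg.Agent.QP63

open Cfsg Cfsg.Agent.Helper25.QP Cfsg.Agent.Helper25.QuadPair Cfsg.Agent.QPP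

variable {k : Type*} [Field k] {M : Type*} [AddCommGroup M] [Module k M]

local notation "GLkM" => LinearMap.GeneralLinearGroup k M

theorem LOCh_aux_rank (a : Module.End k M) (ha : a * a = 0) :
    commutatorRank (unipUnit a ha) = Module.finrank k (LinearMap.range a) := by
  have hval : ((unipUnit a ha : GLkM) : Module.End k M) - 1 = a := by
    rw [val_unipUnit]; abel
  have hval' : (((unipUnit a ha : GLkM) : M →ₗ[k] M) - 1) = a := hval
  unfold commutatorRank
  rw [hval']

theorem LOCh_aux_dpos [FiniteDimensional k M] {G : Subgroup GLkM} {σ₀ : GLkM}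
    (hσ₀ : σ₀ ∈ minimalQuadraticElements G) : commutatorRank σ₀ ≠ 0 := by
  intro h
  unfold commutatorRank at h
  rw [Submodule.finrank_eq_zero, LinearMap.range_eq_bot] at h
  exact hσ₀.1.2.1.2 h

theorem LOCh_aux_min [FiniteDimensional k M] {G : Subgroup GLkM} {σ₀ : GLkM}
    (hσ₀ : σ₀ ∈ minimalQuadraticElements G) {a : Module.End k M}
    (ha : Qd G (commutatorRank σ₀) a) (h0 : a ≠ 0) :
    unipUnit a ha.1.1 ∈ minimalQuadraticElements G := by
  refine ⟨QFam.mem_quadraticElements ha.1 h0, fun τ hτ => ?_⟩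
  rw [LOCh_aux_rank, ha.2]
  exact hσ₀.2 τ hτ

theorem LOCh_aux_cent [FiniteDimensional k M] {G : Subgroup GLkM} {σ₀ : GLkM}
    (hσ₀ : σ₀ ∈ minimalQuadraticElements G) {a : Module.End k M} (ha : a * a = 0)
    (hc : ∀ b, Qd G (commutatorRank σ₀) b → a * b = b * a) :
    unipUnit a ha ∈ Subgroup.centralizer (G0 G : Set GLkM) := by
  have hle : G0 G ≤ Subgroup.centralizer ({unipUnit a ha} : Set GLkM) := by
    refine iSup₂_le fun A hA => ?_
    obtain ⟨τ, -, rfl⟩ := hA
    show Subgroup.closure (sameActionClass G τ) ≤ _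
    rw [Subgroup.closure_le]
    intro ρ hρ
    have hρm : ρ ∈ minimalQuadraticElements G := hρ.1
    have hq : Qd G (commutatorRank σ₀) ((ρ : Module.End k M) - 1) := by
      have := (TRANS_Qd hρm).2
      rwa [TRANS_rank hρm hσ₀] at this
    have hcomm := hc _ hq
    rw [SetLike.mem_coe, Subgroup.mem_centralizer_iff]
    intro x hx
    rw [Set.mem_singleton_iff] at hx
    subst hx
    apply Units.ext
    rw [Units.val_mul, Units.val_mul, val_unipUnit]
    have e : (ρ : Module.End k M) = 1 + ((ρ : Module.End k M) - 1) := by abel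
    rw [e]
    generalize (ρ : Module.End k M) - 1 = b at hcomm
    simp only [add_mul, mul_add, one_mul, mul_one, hcomm]
    abel
  rw [Subgroup.mem_centralizer_iff]
  intro h hh
  have := hle hh
  rw [Subgroup.mem_centralizer_iff] at this
  exact (this _ (Set.mem_singleton _)).symm

theorem LOCh_aux_mul {a a₁ a₀ : Module.End k M} (ha : a * a = 0) (ha₁ : a₁ * a₁ = 0)
    (ha₀ : a₀ * a₀ = 0) (h : a = a₁ + a₀) (h10 : a₁ * a₀ = 0) :
    unipUnit a ha = unipUnit a₁ ha₁ * unipUnit a₀ ha₀ := by
  apply Units.ext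
  rw [Units.val_mul, val_unipUnit, val_unipUnit, val_unipUnit, h]
  rw [add_mul, mul_add, mul_add, h10]
  simp only [one_mul, mul_one, add_zero]
  abel

theorem LOCh_aux_ind [FiniteDimensional k M] {G : Subgroup GLkM} (hG : IsQuadraticPair G)
    {σ₀ : GLkM} (hσ₀ : σ₀ ∈ minimalQuadraticElements G) {r : ℕ}
    {part : Fin r → Set (Subgroup GLkM)} (hP : Parts G part) (h74 : H74 G)
    (hpeel : PeelHyp G (commutatorRank σ₀)) (hc2 : Case2Hyp G (commutatorRank σ₀)) :
    ∀ (n : ℕ) (a : Module.End k M) (ha : QFam G a), a ≠ 0 →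
      Module.finrank k (LinearMap.range a) = n →
      (unipUnit a ha.1 ∈ Subgroup.centralizer (G0 G : Set GLkM) ∨
        ∃ i, unipUnit a ha.1 ∈ Lc part i) := by
  intro n
  induction n using Nat.strong_induction_on with
  | _ n IH =>
    intro a ha hne hn
    by_cases hA : ∀ b, Qd G (commutatorRank σ₀) b → IsNilpotent (a * b)
    · exact Or.inl (LOCh_aux_cent hσ₀ ha.1 (hc2 a ha hA))
    · right
      obtain ⟨b, hb, hnil⟩ : ∃ b, Qd G (commutatorRank σ₀) b ∧ ¬ IsNilpotent (a * b) := by
        by_contra hcon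
        apply hA
        intro b hb
        by_contra hnil
        exact hcon ⟨b, hb, hnil⟩
      obtain ⟨a₁, a₀, hsum, h10, h01, hq₁, h0, hrk⟩ := hpeel a b ha hb hnil
      have hd := LOCh_aux_dpos hσ₀
      have hn₁ : a₁ ≠ 0 := by
        rintro rfl
        apply hd
        rw [← hq₁.2, LinearMap.range_zero, finrank_bot]
      have hm₁ := LOCh_aux_min hσ₀ hq₁ hn₁
      obtain ⟨i, hi⟩ := ROOTIN hP hm₁
      refine ⟨i, ?_⟩
      by_cases hz : a₀ = 0
      · subst hz
        have e : a = a₁ := by rw [hsum, add_zero]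
        subst e
        exact hi
      · have ha₀ : QFam G a₀ := h0.resolve_left hz
        have hlt : Module.finrank k (LinearMap.range a₀) < n := by
          rw [← hn, ← hrk]
          exact Nat.lt_add_of_pos_right (Nat.pos_of_ne_zero hd)
        have h := IH _ hlt a₀ ha₀ hz rfl
        have hi₀ := LOCSTEP hG hP h74 h10 h01 hq₁.1 hn₁ ha₀ hz hi h
        rw [LOCh_aux_mul ha.1 hq₁.1.1 ha₀.1 hsum h10]
        exact (Lc part i).mul_mem hi hi₀

/-- every quadratic element centralizes `G₀` or lies in one component -/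
theorem LOCh [FiniteDimensional k M] {G : Subgroup GLkM} (hG : IsQuadraticPair G) {σ₀ : GLkM}
    (hσ₀ : σ₀ ∈ minimalQuadraticElements G) {r : ℕ} {part : Fin r → Set (Subgroup GLkM)}
    (hP : Parts G part) (h74 : H74 G) (hpeel : PeelHyp G (commutatorRank σ₀))
    (hc2 : Case2Hyp G (commutatorRank σ₀)) : LocHyp G part := by
  intro σ hσ
  have ha : QFam G ((σ : Module.End k M) - 1) := QFam.of_mem_quadraticElements hσ
  have hne : (σ : Module.End k M) - 1 ≠ 0 := hσ.2.1.2
  have e : unipUnit ((σ : Module.End k M) - 1) ha.1 = σ := by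
    apply Units.ext
    rw [val_unipUnit]
    abel
  have := LOCh_aux_ind hG hσ₀ hP h74 hpeel hc2 _ _ ha hne rfl
  rwa [e] at this

end Cfsg.Agent.QP63

end
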