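import Mathlib
import Cfsg.Agent.Helper25.QPDefs2
import Cfsg.Agent.Helper25.QPAct
import Cfsg.Agent.Helper18.SL2Ext5
import Cfsg.Agent.Helper19.QPFIT
import Cfsg.Agent.Helper14.QPVANU
import Cfsg.Agent.Helper12.QPSTRA
import Cfsg.Agent.Helper12.QPTHMA
import Cfsg.Agent.Helper21.QPELT

set_option autoImplicit false
set_option linter.unusedVariables false

/-! Quadratic pairs, piece INVY: the member `y = z⁻¹ b` of the family of `b` inverse to `a`. -/

noncomputable section

universe u v

namespace Cfsg.Agent.QPP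

open Cfsg Cfsg.Agent.Helper25.QP Cfsg.Agent.Helper25.QuadPair Polynomial

variable {k : Type u} [Field k] {M : Type v} [AddCommGroup M] [Module k M]

local notation "GLkM" => LinearMap.GeneralLinearGroup k M

/-- two endomorphisms agreeing on two complementary submodules are equal -/
theorem INVY_aux_ext (N P : Submodule k M) (hc : IsCompl N P) (f g : Module.End k M)
    (hN : ∀ m ∈ N, f m = g m) (hP : ∀ m ∈ P, f m = g m) : f = g := by
  apply LinearMap.ext
  intro m
  have hm : m ∈ N ⊔ P := by rw [hc.sup_eq_top]; trivial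
  obtain ⟨n, hn, p, hp, rfl⟩ := Submodule.mem_sup.mp hm
  rw [map_add, map_add, hN n hn, hP p hp]

/-- `u(z) (z m) = m` for `m ∈ M₁` when `X u - 1 ∈ Van1` -/
theorem INVY_aux_inv {a b : Module.End k M} {u : k[X]} (hu : X * u - 1 ∈ Van1 a b) {m : M}
    (hm : m ∈ M1 a b) : aeval (zz a b) u (zz a b m) = m := by
  have h := hu m hm
  rw [map_sub, map_one, LinearMap.sub_apply, Module.End.one_apply, aeval_X_mul_apply,
    sub_eq_zero] at h
  exact h

theorem INVY [FiniteDimensional k M] (hk2 : ringChar k ≠ 2) (hk3 : Nat.card k ≠ 3)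
    {G : Subgroup GLkM} {d : ℕ} {a b : Module.End k M} (hp : QPair G d a b)
    (hnu : ¬ UnipPair a b) :
    ∃ y : Module.End k M, QFam G y ∧ LinearMap.ker y = LinearMap.ker b ∧
      LinearMap.range y = LinearMap.range b ∧ (∀ m ∈ LinearMap.range a, a (y m) = m) ∧
      (∀ m ∈ LinearMap.range b, y (a m) = m) := by
  have ha : a * a = 0 := hp.qa.1.1
  have hb : b * b = 0 := hp.qb.1.1
  obtain ⟨u, hu0⟩ := FIT_invpoly (zz a b)
  have hu : X * u - 1 ∈ Van1 a b := hu0
  have hv : VanM0 a b := THMA hk2 hk3 hp hnu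
  obtain ⟨-, hra, hrb, -, -⟩ := STRA a b ha hb hv
  have hc : IsCompl (M0 a b) (M1 a b) := FIT_compl (zz a b)
  -- the element `y`
  have hyapp : ∀ m : M, (aeval (zz a b) u * b) m = aeval (zz a b) u (b m) := fun m => rfl
  have hyapp' : ∀ m : M, (aeval (zz a b) u * b) m = b (aeval (zz a b) u m) := fun m => by
    rw [hyapp, aeval_b_apply ha hb]
  have hbM1 : ∀ m : M, b m ∈ M1 a b := fun m => by
    have : b m ∈ LinearMap.range b := ⟨m, rfl⟩
    rw [hrb] at this
    exact this.1
  refine ⟨aeval (zz a b) u * b, ⟨?_, ?_⟩, ?_, ?_, ?_, ?_⟩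
  · -- `y * y = 0`
    apply LinearMap.ext
    intro m
    rw [Module.End.mul_apply, hyapp, hyapp', ← Module.End.mul_apply b b, hb]
    simp
  · -- `1 + c • y ∈ G`
    intro c
    have hdet : (1 + Co.matn (⟨0, 0, C c * u, 0⟩ : Co k)).det - 1 ∈ Van1 a b := by
      have : (1 + Co.matn (⟨0, 0, C c * u, 0⟩ : Co k)).det - 1 = 0 := by
        simp [Co.matn, Matrix.det_fin_two]
      rw [this]
      exact (Van1 a b).zero_mem
    obtain ⟨h, hh, h0, h1⟩ := ELT hk2 hk3 hp hnu ⟨0, 0, C c * u, 0⟩ hdet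
    refine ⟨h, Hgrp_le hp.qa.1 hp.qb.1 hh, ?_⟩
    have hopn : opn a b (⟨0, 0, C c * u, 0⟩ : Co k) = c • (aeval (zz a b) u * b) := by
      simp only [opn, map_zero, zero_mul, zero_add, add_zero, map_mul, aeval_C,
        Algebra.algebraMap_eq_smul_one, smul_mul_assoc, one_mul]
    apply INVY_aux_ext _ _ hc
    · intro m hm
      rw [h0 m hm, LinearMap.add_apply, Module.End.one_apply, LinearMap.smul_apply, hyapp,
        (hv m hm).2, map_zero, smul_zero, add_zero]
    · intro m hm
      rw [h1 m hm, hopn, LinearMap.add_apply, Module.End.one_apply]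
  · -- kernel
    apply le_antisymm
    · intro m hm
      rw [LinearMap.mem_ker] at hm ⊢
      rw [hyapp] at hm
      have := INVY_aux_inv hu (hbM1 m)
      rw [aeval_zz_apply, hm, map_zero] at this
      exact this.symm
    · intro m hm
      rw [LinearMap.mem_ker] at hm ⊢
      rw [hyapp, hm, map_zero]
  · -- range
    apply le_antisymm
    · rintro _ ⟨m, rfl⟩
      rw [hyapp']
      exact ⟨_, rfl⟩
    · rintro _ ⟨m, rfl⟩
      refine ⟨zz a b m, ?_⟩
      rw [hyapp]
      have hbz : b (zz a b m) = zz a b (b m) := by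
        have := LinearMap.congr_fun (zz_mul_b (a := a) hb) m
        simpa using this.symm
      rw [hbz]
      exact INVY_aux_inv hu (hbM1 m)
  · -- `a y = 1` on `range a`
    intro m hm
    rw [hra] at hm
    have hm1 : m ∈ M1 a b := hm.1
    have ham : a m = 0 := LinearMap.mem_ker.mp hm.2
    rw [hyapp, ← aeval_a_apply ha hb, ab_apply_of_a ha hb ham]
    exact INVY_aux_inv hu hm1
  · -- `y a = 1` on `range b`
    intro m hm
    rw [hrb] at hm
    have hm1 : m ∈ M1 a b := hm.1
    have hbm : b m = 0 := LinearMap.mem_ker.mp hm.2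
    rw [hyapp, ba_apply_of_b ha hb hbm]
    exact INVY_aux_inv hu hm1

end Cfsg.Agent.QPP

end
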