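import Mathlib
import Cfsg.Agent.Helper1.QP63ASM
import Cfsg.Agent.Helper1.QP63LOCh
import Cfsg.Agent.S5069

set_option autoImplicit false

/-! S5063: the strong induction on the dimension. -/

noncomputable section

universe u

namespace Cfsg.Agent.QP63

open Cfsg Cfsg.Agent.Helper25.QP Cfsg.Agent.Helper25.QuadPair Cfsg.Agent.QPP

/-- the induction, with the three inputs of the S5074 effort as hypotheses -/
theorem FINAL {k : Type u} [Field k] (hk2 : ringChar k ≠ 2) (hk3 : Nat.card k ≠ 3)
    (h74 : ∀ (M : Type u) [AddCommGroup M] [Module k M] [FiniteDimensional k M]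
      (G : Subgroup (LinearMap.GeneralLinearGroup k M)), IsQuadraticPair G → H74 G)
    (hpeel : ∀ (M : Type u) [AddCommGroup M] [Module k M] [FiniteDimensional k M]
      (G : Subgroup (LinearMap.GeneralLinearGroup k M)) (σ₀ : LinearMap.GeneralLinearGroup k M),
      IsQuadraticPair G → σ₀ ∈ minimalQuadraticElements G → PeelHyp G (commutatorRank σ₀))
    (hc2 : ∀ (M : Type u) [AddCommGroup M] [Module k M] [FiniteDimensional k M]
      (G : Subgroup (LinearMap.GeneralLinearGroup k M)) (σ₀ : LinearMap.GeneralLinearGroup k M),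
      IsQuadraticPair G → σ₀ ∈ minimalQuadraticElements G → Case2Hyp G (commutatorRank σ₀)) :
    ∀ (n : ℕ) (M : Type u) [AddCommGroup M] [Module k M] [FiniteDimensional k M]
      (G : Subgroup (LinearMap.GeneralLinearGroup k M)),
      Module.finrank k M = n → IsQuadraticPair G → Concl G := by
  intro n
  induction n using Nat.strong_induction_on with
  | _ n IH =>
    intro M _ _ _ G hn hG
    by_cases hQ : quadraticElements G = ∅
    · -- `G` is trivial
      have hGbot : G = ⊥ := by
        rw [← hG.2, hQ, Subgroup.closure_empty]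
      refine ⟨0, Fin.elim0, fun i => i.elim0, fun i => i.elim0, ?_, fun i => i.elim0, ?_⟩
      · rw [iSup_of_empty, hGbot]
      · rw [hQ]
        exact Set.empty_subset _
    · obtain ⟨σ, hσ⟩ := Set.nonempty_iff_ne_empty.mpr hQ
      obtain ⟨σ₀, hσ₀⟩ := ASM_aux_exists_min hσ
      obtain ⟨r, part, hcover, -, -, hcomm, hrest⟩ := Cfsg.Agent.S5069.result hk2 hk3 hG
      have hP : Parts G part := ⟨hcover, hcomm, fun i => (hrest i).1⟩
      have h74G : H74 G := h74 M G hG
      have hloc : LocHyp G part :=
        LOCh hG hσ₀ hP h74G (hpeel M G σ₀ hG hσ₀) (hc2 M G σ₀ hG hσ₀)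
      refine ASM hG hP h74G hloc ?_
      intro U G' hlt hG'
      exact IH (Module.finrank k ↥U) (hn ▸ hlt) ↥U G' rfl hG'

end Cfsg.Agent.QP63

end
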