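import Mathlib
import Cfsg.Agent.Helper24.QP889Defs
import Cfsg.Agent.Helper24.GlaubCyc

/-!
# S0889, piece CENT: elements with the same image under a central extension have character values
of the same absolute value.
-/

set_option autoImplicit false

namespace Cfsg.Agent.QP889

open Cfsg
open scoped ComplexConjugate

universe u

theorem norm_eq_of_map_eq {G Γ : Type u} [Group G] [Group Γ] [Finite Γ] (p : Γ →* G)
    (hker : p.ker ≤ Subgroup.center Γ) (ρ : Γ → ℂ) (hρ : IsIrrCharacter Γ ρ)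
    (y y' : Γ) (hy : p y = p y') : ‖ρ y‖ = ‖ρ y'‖ := by
  have hz : y'⁻¹ * y ∈ Subgroup.center Γ := by
    apply hker
    rw [MonoidHom.mem_ker, map_mul, map_inv, hy, inv_mul_cancel]
  have hz' : ∀ d : Γ, d * (y'⁻¹ * y) = (y'⁻¹ * y) * d := fun d =>
    ((Subgroup.mem_center_iff.mp hz) d)
  obtain ⟨ω, hω, hval⟩ := Cfsg.Agent.Helper24.exists_central_scalar ⟨ρ, hρ⟩ (y'⁻¹ * y) hz'
  have h1 := hval y' 1
  rw [pow_one, pow_one, mul_inv_cancel_left] at h1
  have hpos : orderOf (y'⁻¹ * y) ≠ 0 := (orderOf_pos _).ne'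
  have hnorm : ‖ω‖ = 1 := Complex.norm_eq_one_of_pow_eq_one hω hpos
  change ρ y = ω * ρ y' at h1
  rw [h1, norm_mul, hnorm, one_mul]

end Cfsg.Agent.QP889
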