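import Mathlib
import Cfsg.Agent.Helper24.QP889Defs
import Cfsg.Agent.Helper24.CharBasic
import Cfsg.Agent.Helper24.Ito

/-!
# S0889, piece LIN: a homogeneous restriction whose constituent has degree dividing coprime
prime powers is a multiple of a linear character.
-/

set_option autoImplicit false
set_option linter.unusedVariables false

namespace Cfsg.Agent.QP889

open Cfsg
open scoped ComplexConjugate

universe u

theorem norm_eq_of_homogeneous {X : Type u} [Group X] [Fintype X] (ρ : X → ℂ)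
    (hρ : IsCharacter X ρ) (K Y : Subgroup X) (hYK : Y ≤ K)
    (κ : K → ℂ) (hκ : IsIrrCharacter K κ) (e : ℕ) (hρK : (fun x : K => ρ x) = (e : ℂ) • κ)
    (hY : ∀ y ∈ Y, ‖ρ y‖ = ‖ρ 1‖) (r q a b : ℕ) (hr : r.Prime) (hq : q.Prime) (hqr : q ≠ r)
    (hdeg : (ρ 1) ^ 2 = ((r ^ a : ℕ) : ℂ)) (hidx : Y.relIndex K = q ^ b) :
    ∀ x ∈ K, ‖ρ x‖ = ‖ρ 1‖ := by
  classical
  obtain ⟨k, R, hRirr, rfl⟩ := hκ
  haveI := hRirr
  have hk1 : R.character 1 = (k : ℂ) := by
    rw [Representation.char_one]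
    simp
  have h1 : ρ 1 = (e : ℂ) * (k : ℂ) := by
    have h := congrFun hρK 1
    simp only [Pi.smul_apply, smul_eq_mul, hk1] at h
    exact h
  have hnat : (e * k) ^ 2 = r ^ a := by
    have h : (((e * k) ^ 2 : ℕ) : ℂ) = ((r ^ a : ℕ) : ℂ) := by
      rw [← hdeg, h1]; push_cast; ring
    exact_mod_cast h
  have hpos : 0 < e * k := by
    rcases Nat.eq_zero_or_pos (e * k) with h | h
    · rw [h] at hnat
      exact absurd hnat.symm (by simpa using pow_ne_zero a hr.ne_zero)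
    · exact h
  have he : 0 < e := Nat.pos_of_mul_pos_right hpos
  have hk : 0 < k := Nat.pos_of_mul_pos_left hpos
  have hkr : k ∣ r ^ a := by
    rw [← hnat]
    exact (Dvd.intro_left e rfl).trans (dvd_pow_self _ two_ne_zero)
  have hn1 : ‖ρ 1‖ = (e : ℝ) * k := by rw [h1]; simp
  have hval : ∀ y : K, ρ y = (e : ℂ) * R.character y := fun y => by
    have h := congrFun hρK y
    simpa using h
  have hscal : ∀ y ∈ Y.subgroupOf K, ∃ c : ℂ, R y = c • (LinearMap.id : (Fin k → ℂ) →ₗ[ℂ] _) := by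
    intro y hy
    rw [← Cfsg.Agent.Helper24.norm_char_eq_iff]
    have hyY : (y : X) ∈ Y := Subgroup.mem_subgroupOf.1 hy
    have h2 := hY _ hyY
    rw [hval y, norm_mul, hn1] at h2
    simp only [Complex.norm_natCast] at h2
    have he' : (e : ℝ) ≠ 0 := by exact_mod_cast he.ne'
    have h3 : ‖R.character y‖ = k := mul_left_cancel₀ he' h2
    rw [h3]; simp
  have hkq : k ∣ q ^ b := by
    have h := Cfsg.Agent.Helper24.finrank_dvd_index_of_scalar R (Y.subgroupOf K) hscal
    rw [Module.finrank_fin_fun] at h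
    rw [← hidx]
    exact h
  have hcop : Nat.Coprime (r ^ a) (q ^ b) := Nat.coprime_pow_primes a b hr hq (Ne.symm hqr)
  have hk1' : k = 1 := (hcop.coprime_dvd_left hkr).eq_one_of_dvd hkq
  subst hk1'
  intro x hx
  have hlin : ∃ c : ℂ, R ⟨x, hx⟩ = c • (LinearMap.id : (Fin 1 → ℂ) →ₗ[ℂ] _) := by
    refine ⟨R ⟨x, hx⟩ (fun _ => 1) 0, ?_⟩
    apply LinearMap.ext
    intro v
    funext i
    have hi : i = 0 := Subsingleton.elim _ _
    have hv : v = (v 0) • (fun _ : Fin 1 => (1 : ℂ)) := by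
      funext j
      simp [Subsingleton.elim j 0]
    rw [hv, map_smul]
    simp [hi, mul_comm]
  have h4 := (Cfsg.Agent.Helper24.norm_char_eq_iff R ⟨x, hx⟩).2 hlin
  rw [Module.finrank_fin_fun] at h4
  have h5 := hval ⟨x, hx⟩
  change ρ x = _ at h5
  rw [h5, norm_mul, h4, hn1]
  simp

end Cfsg.Agent.QP889
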