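import Mathlib

/-!
# Counting square roots of `1` in a group whose squares and commutators lie in a central `{1, z}`

Character-sum (Gauss-sum) computation: if `j` is the number of solutions of `x ^ 2 = 1`, then
`(2 j - |G|) ^ 2` is `|G| |Z(G)|` (when `Z(G)` has exponent `2`) or `0`.
-/

set_option autoImplicit false
set_option linter.unusedSectionVars false

namespace Cfsg.Agent.Helper1.QuadCount

variable {G : Type*} [Group G]

/-- sum of a function that is negated by a left translation -/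
theorem sum_eq_zero_of_translate [Fintype G] (f : G → ℤ) (x₀ : G) (h : ∀ x, f (x₀ * x) = - f x) :
    ∑ x, f x = 0 := by
  have h1 : ∑ x, f x = ∑ x, f (x₀ * x) :=
    (Fintype.sum_equiv (Equiv.mulLeft x₀) (fun x => f (x₀ * x)) f (fun x => rfl)).symm
  have h2 : ∑ x, f (x₀ * x) = - ∑ x, f x := by
    rw [← Finset.sum_neg_distrib]
    exact Finset.sum_congr rfl (fun x _ => h x)
  linarith

variable [DecidableEq G]

/-- the sign character of `{1, z}` extended to `G` -/
def sgn (g : G) : ℤ := if g = 1 then 1 else -1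

theorem sgn_one : sgn (1 : G) = 1 := by simp [sgn]

theorem sgn_of_ne {g : G} (h : g ≠ 1) : sgn g = -1 := by simp [sgn, h]

theorem sgn_mul_self (g : G) : sgn g * sgn g = 1 := by
  unfold sgn; split_ifs <;> norm_num

theorem sgn_mul {z : G} (hzz : z * z = 1) {g h : G} (hg : g = 1 ∨ g = z)
    (hh : h = 1 ∨ h = z) : sgn (g * h) = sgn g * sgn h := by
  by_cases hz1 : z = 1
  · have hg1 : g = 1 := by rcases hg with h | h <;> simp [h, hz1]
    have hh1 : h = 1 := by rcases hh with h | h <;> simp [h, hz1]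
    simp [hg1, hh1, sgn_one]
  rcases hg with rfl | rfl <;> rcases hh with rfl | rfl
  · simp [sgn_one]
  · simp [sgn_one]
  · simp [sgn_one]
  · rw [hzz, sgn_one, sgn_of_ne hz1]; norm_num

section main

variable [Fintype G] (z : G) (hzz : z * z = 1) (hzc : ∀ g : G, g * z = z * g)
  (hsq : ∀ x : G, x ^ 2 = 1 ∨ x ^ 2 = z)
  (hcm : ∀ w x : G, w⁻¹ * x⁻¹ * w * x = 1 ∨ w⁻¹ * x⁻¹ * w * x = z)

include hzc hcm in
theorem comm_central (w x g : G) : g * (w⁻¹ * x⁻¹ * w * x) = (w⁻¹ * x⁻¹ * w * x) * g := by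
  rcases hcm w x with h | h
  · rw [h, one_mul, mul_one]
  · rw [h]; exact hzc g

include hzc hcm in
theorem sq_mul (x w : G) : (x * w) ^ 2 = x ^ 2 * w ^ 2 * (w⁻¹ * x⁻¹ * w * x) := by
  set c := w⁻¹ * x⁻¹ * w * x with hc
  have h1 : w * x = x * w * c := by rw [hc]; group
  have h2 : c * w = w * c := (comm_central z hzc hcm w x w).symm
  calc (x * w) ^ 2 = x * (w * x) * w := by rw [pow_two]; group
    _ = x * (x * w * c) * w := by rw [h1]
    _ = x * x * w * (c * w) := by group
    _ = x * x * w * (w * c) := by rw [h2]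
    _ = x ^ 2 * w ^ 2 * c := by rw [pow_two, pow_two]; group

include hzc hcm in
theorem comm_mul (w x y : G) :
    w⁻¹ * (x * y)⁻¹ * w * (x * y) = (w⁻¹ * y⁻¹ * w * y) * (w⁻¹ * x⁻¹ * w * x) := by
  set c := w⁻¹ * x⁻¹ * w * x with hc
  have h1 : x⁻¹ * w * x = w * c := by rw [hc]; group
  have h2 : c * y = y * c := (comm_central z hzc hcm w x y).symm
  calc w⁻¹ * (x * y)⁻¹ * w * (x * y) = w⁻¹ * y⁻¹ * (x⁻¹ * w * x) * y := by group
    _ = w⁻¹ * y⁻¹ * (w * c) * y := by rw [h1]
    _ = w⁻¹ * y⁻¹ * w * (c * y) := by group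
    _ = w⁻¹ * y⁻¹ * w * (y * c) := by rw [h2]
    _ = (w⁻¹ * y⁻¹ * w * y) * c := by group

/-- `χ x = ±1` according to `x ^ 2 = 1` or not -/
def chi (x : G) : ℤ := sgn (x ^ 2)

/-- `β w x = ±1` according to `w`, `x` commuting or not -/
def beta (w x : G) : ℤ := sgn (w⁻¹ * x⁻¹ * w * x)

include hzz hzc hsq hcm in
theorem chi_mul (x w : G) : chi (x * w) = chi x * chi w * beta w x := by
  unfold chi beta
  rw [sq_mul z hzc hcm x w]
  have h1 : x ^ 2 * w ^ 2 = 1 ∨ x ^ 2 * w ^ 2 = z := by
    rcases hsq x with h | h <;> rcases hsq w with h' | h' <;> rw [h, h']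
    · left; simp
    · right; simp
    · right; simp
    · left; exact hzz
  rw [sgn_mul hzz h1 (hcm w x), sgn_mul hzz (hsq x) (hsq w)]

theorem chi_mul_self (x : G) : chi x * chi x = 1 := sgn_mul_self _

include hzz hzc hcm in
theorem beta_mul (w x y : G) : beta w (x * y) = beta w x * beta w y := by
  unfold beta
  rw [comm_mul z hzc hcm w x y, sgn_mul hzz (hcm w y) (hcm w x), mul_comm]

include hzz hzc hcm in
theorem sum_beta (w : G) :
    ∑ x, beta w x = if w ∈ Subgroup.center G then (Fintype.card G : ℤ) else 0 := by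
  split_ifs with hw
  · have : ∀ x : G, beta w x = 1 := by
      intro x
      unfold beta
      have h1 : w⁻¹ * x⁻¹ * w * x = 1 := by
        have := Subgroup.mem_center_iff.mp hw x⁻¹
        calc w⁻¹ * x⁻¹ * w * x = w⁻¹ * (x⁻¹ * w) * x := by group
          _ = w⁻¹ * (w * x⁻¹) * x := by rw [this]
          _ = 1 := by group
      rw [h1, sgn_one]
    simp [this]
  · have hex : ∃ x₀ : G, w⁻¹ * x₀⁻¹ * w * x₀ ≠ 1 := by
      by_contra hcon
      push Not at hcon
      apply hw
      rw [Subgroup.mem_center_iff]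
      intro g
      have := hcon g
      calc g * w = w * g * (w⁻¹ * g⁻¹ * w * g)⁻¹ := by group
        _ = w * g := by rw [this]; group
    obtain ⟨x₀, hx₀⟩ := hex
    apply sum_eq_zero_of_translate _ x₀
    intro x
    rw [beta_mul z hzz hzc hcm w x₀ x]
    have : beta w x₀ = -1 := sgn_of_ne hx₀
    rw [this]; ring

include hzz hzc hsq hcm in
theorem sum_chi_sq :
    (∑ x : G, chi x) * (∑ x : G, chi x) =
      (Fintype.card G : ℤ) * ∑ w : G, (if w ∈ Subgroup.center G then chi w else 0) := by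
  rw [Finset.sum_mul_sum]
  have h1 : ∀ x : G, ∑ y : G, chi x * chi y = ∑ w : G, chi w * beta w x := by
    intro x
    rw [← Fintype.sum_equiv (Equiv.mulLeft x) (fun w => chi x * chi (x * w))
      (fun y => chi x * chi y) (fun w => rfl)]
    apply Finset.sum_congr rfl
    intro w _
    rw [chi_mul z hzz hzc hsq hcm x w, ← mul_assoc, ← mul_assoc, chi_mul_self, one_mul]
  rw [Finset.sum_congr rfl (fun x _ => h1 x), Finset.sum_comm, Finset.mul_sum]
  apply Finset.sum_congr rfl
  intro w _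
  rw [← Finset.mul_sum, sum_beta z hzz hzc hcm w]
  split_ifs <;> ring

include hzz hzc hsq hcm in
theorem sum_center_chi :
    ((∀ w ∈ Subgroup.center G, w ^ 2 = 1) ∧
      ∑ w : G, (if w ∈ Subgroup.center G then chi w else 0) = Nat.card (Subgroup.center G)) ∨
    ((∃ w ∈ Subgroup.center G, w ^ 2 ≠ 1) ∧
      ∑ w : G, (if w ∈ Subgroup.center G then chi w else 0) = 0) := by
  by_cases hall : ∀ w ∈ Subgroup.center G, w ^ 2 = 1
  · left
    refine ⟨hall, ?_⟩
    have : ∀ w : G, (if w ∈ Subgroup.center G then chi w else 0) =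
        if w ∈ Subgroup.center G then (1 : ℤ) else 0 := by
      intro w
      split_ifs with hw
      · unfold chi; rw [hall w hw, sgn_one]
      · rfl
    rw [Finset.sum_congr rfl (fun w _ => this w), Finset.sum_boole, Nat.card_eq_fintype_card,
      Fintype.card_subtype]
  · right
    push Not at hall
    obtain ⟨w₀, hw₀, hw₀2⟩ := hall
    refine ⟨⟨w₀, hw₀, hw₀2⟩, ?_⟩
    apply sum_eq_zero_of_translate _ w₀
    intro w
    have hiff : w₀ * w ∈ Subgroup.center G ↔ w ∈ Subgroup.center G := by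
      constructor
      · intro h
        have := (Subgroup.center G).mul_mem ((Subgroup.center G).inv_mem hw₀) h
        rwa [inv_mul_cancel_left] at this
      · intro h; exact (Subgroup.center G).mul_mem hw₀ h
    by_cases hw : w ∈ Subgroup.center G
    · rw [if_pos (hiff.mpr hw), if_pos hw, chi_mul z hzz hzc hsq hcm w₀ w]
      have h1 : chi w₀ = -1 := sgn_of_ne hw₀2
      have h2 : beta w w₀ = 1 := by
        unfold beta
        have h3 : w⁻¹ * w₀⁻¹ * w * w₀ = 1 := by
          have := Subgroup.mem_center_iff.mp hw₀ w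
          calc w⁻¹ * w₀⁻¹ * w * w₀ = w⁻¹ * w₀⁻¹ * (w * w₀) := by group
            _ = w⁻¹ * w₀⁻¹ * (w₀ * w) := by rw [this]
            _ = 1 := by group
        rw [h3, sgn_one]
      rw [h1, h2]; ring
    · rw [if_neg (fun h => hw (hiff.mp h)), if_neg hw, neg_zero]

theorem sum_chi_eq :
    ∑ x : G, chi x = 2 * (Nat.card {x : G // x ^ 2 = 1} : ℤ) - Nat.card G := by
  have h1 : ∀ x : G, chi x = if x ^ 2 = 1 then (1 : ℤ) else -1 := fun x => rfl
  rw [Finset.sum_congr rfl (fun x _ => h1 x), Finset.sum_ite, Finset.sum_const, Finset.sum_const,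
    Nat.card_eq_fintype_card, Nat.card_eq_fintype_card, Fintype.card_subtype]
  have h2 := Finset.card_filter_add_card_filter_not (s := (Finset.univ : Finset G))
    (fun x => x ^ 2 = 1)
  rw [Finset.card_univ] at h2
  simp only [nsmul_eq_mul, mul_one, mul_neg]
  have h3 : (Fintype.card G : ℤ) =
      ((Finset.univ.filter (fun x : G => x ^ 2 = 1)).card : ℤ) +
        ((Finset.univ.filter (fun x : G => ¬ x ^ 2 = 1)).card : ℤ) := by
    rw [← h2]; push_cast; ring
  rw [h3]; ring

include hzz hzc hsq hcm in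
/-- the main dichotomy -/
theorem quad_count :
    ((∀ w ∈ Subgroup.center G, w ^ 2 = 1) ∧
      (2 * (Nat.card {x : G // x ^ 2 = 1} : ℤ) - Nat.card G) ^ 2 =
        Nat.card G * Nat.card (Subgroup.center G)) ∨
    ((∃ w ∈ Subgroup.center G, w ^ 2 ≠ 1) ∧
      2 * Nat.card {x : G // x ^ 2 = 1} = Nat.card G) := by
  have hS := sum_chi_sq z hzz hzc hsq hcm
  rw [sum_chi_eq] at hS
  rcases sum_center_chi z hzz hzc hsq hcm with ⟨h1, h2⟩ | ⟨h1, h2⟩
  · left
    refine ⟨h1, ?_⟩
    rw [h2, ← Nat.card_eq_fintype_card] at hS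
    rw [pow_two]; exact hS
  · right
    refine ⟨h1, ?_⟩
    rw [h2, mul_zero] at hS
    have h3 : 2 * (Nat.card {x : G // x ^ 2 = 1} : ℤ) - Nat.card G = 0 :=
      mul_self_eq_zero.mp hS
    have h4 : (2 * Nat.card {x : G // x ^ 2 = 1} : ℤ) = Nat.card G := by linarith
    exact_mod_cast h4

end main

end Cfsg.Agent.Helper1.QuadCount
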