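import Mathlib
import Cfsg.Agent.Helper2.RGD.Defs
import Cfsg.Agent.Helper24.RGDGBDECOMP
import Cfsg.Agent.Helper26.RGDGROOTP
import Cfsg.Agent.Helper26.RGDGUDECOMP
import Cfsg.Agent.Helper26.RGDGUNORM

/-! Generic Bruhat decomposition (driver helper2): piece GBNBSTEP, `n_s · B̂N̂B̂ ⊆ B̂N̂B̂`. -/

set_option autoImplicit false
set_option linter.unusedSectionVars false
set_option linter.unusedVariables false

namespace Cfsg.Agent.RGD

variable {M : Type*} [Group M] {R : Type*} {D : Datum M R}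

namespace GBNBSTEP

theorem T_le_Nh (D : Datum M R) : D.T ≤ D.Nh := by
  intro t ht
  exact Subgroup.subset_closure (Or.inl ht)

theorem nS_mem_Nh {s : R} (hs : D.Simple s) {n : M} (hn : n ∈ D.nS s) : n ∈ D.Nh :=
  Subgroup.subset_closure (Or.inr ⟨s, hs, hn⟩)

theorem Uh_le_Bh (D : Datum M R) : D.Uh ≤ D.Bh := le_sup_left

theorem U_le_Uh {r : R} (hr : D.Pos r) : D.U r ≤ D.Uh := by
  intro g hg
  exact Subgroup.subset_closure ⟨r, hr, hg⟩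

end GBNBSTEP

open GBNBSTEP in
/-- GBNBSTEP -/
theorem nS_mul_mem_BNB (hD : IsRGD D) {s : R} (hs : D.Simple s) {n : M} (hn : n ∈ D.nS s) {x : M}
    (hx : x ∈ D.BNB) : n * x ∈ D.BNB := by
  obtain ⟨b, hb, m, hm, b', hb', rfl⟩ := hx
  obtain ⟨u, hu, k, hk, rfl⟩ := exists_of_mem_Bh hD hb
  obtain ⟨y, hy, z, hz, rfl⟩ := exists_of_mem_Uh hD hs hu
  have hnN : n ∈ D.Nh := nS_mem_Nh hs hn
  have hm' : k * m ∈ D.Nh := D.Nh.mul_mem (T_le_Nh D hk) hm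
  have hy' : n * y * n⁻¹ ∈ D.Bh :=
    Uh_le_Bh D (UhE_le_Uh D s (nS_conj_mem_UhE hD hs hn hy))
  -- it suffices to treat `n * z * (k * m)`
  suffices h : ∃ b₁ ∈ D.Bh, ∃ m₁ ∈ D.Nh, ∃ b₂ ∈ D.Bh, n * z * (k * m) = b₁ * m₁ * b₂ by
    obtain ⟨b₁, hb₁, m₁, hm₁, b₂, hb₂, h⟩ := h
    refine ⟨n * y * n⁻¹ * b₁, D.Bh.mul_mem hy' hb₁, m₁, hm₁, b₂ * b', D.Bh.mul_mem hb₂ hb', ?_⟩
    calc n * (y * z * k * m * b') = (n * y * n⁻¹) * (n * z * (k * m)) * b' := by group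
      _ = (n * y * n⁻¹) * (b₁ * m₁ * b₂) * b' := by rw [h]
      _ = n * y * n⁻¹ * b₁ * m₁ * (b₂ * b') := by group
  set m' := k * m with hm'def
  by_cases hz1 : z = 1
  · refine ⟨1, D.Bh.one_mem, n * m', D.Nh.mul_mem hnN hm', 1, D.Bh.one_mem, ?_⟩
    rw [hz1]
    group
  · obtain ⟨σ', hσneg, hσalt, hσ⟩ := rootP_of_mem_Nh hD (D.Nh.inv_mem hm')
    have hconj : ∀ r, ∀ w ∈ D.U r, m'⁻¹ * w * m' ∈ D.U (σ' r) := by
      intro r w hw
      have := hσ r w hw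
      rwa [inv_inv] at this
    by_cases hpos : D.Pos (σ' s)
    · refine ⟨1, D.Bh.one_mem, n * m', D.Nh.mul_mem hnN hm', m'⁻¹ * z * m',
        Uh_le_Bh D (U_le_Uh hpos (hconj s z hz)), ?_⟩
      group
    · have hposneg : D.Pos (D.neg (σ' s)) := (hD.pos_neg _).mpr hpos
      have h1 : n * z * n⁻¹ ∈ D.U (D.neg s) := by
        have := hD.nS_conj s hs n hn s z hz
        rwa [hD.refl_self s hs] at this
      have h1ne : n * z * n⁻¹ ≠ 1 := by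
        intro h
        apply hz1
        have : z = n⁻¹ * (n * z * n⁻¹) * n := by group
        rw [this, h]
        group
      obtain ⟨y₁, hy₁, n₁, hn₁, y₂, hy₂, hrk⟩ := hD.rank_one s hs _ h1 h1ne
      have h2 : n⁻¹ * y₂ * n ∈ D.U (D.neg s) := by
        have := hD.nS_conj s hs n⁻¹ (hD.nS_inv s hs n hn) s y₂ hy₂
        rwa [hD.refl_self s hs, inv_inv] at this
      have h3 : m'⁻¹ * (n⁻¹ * y₂ * n) * m' ∈ D.U (D.neg (σ' s)) := by
        have := hconj _ _ h2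
        rwa [hσneg] at this
      refine ⟨y₁, Uh_le_Bh D (U_le_Uh (hD.simple_pos s hs) hy₁), n₁ * n * m',
        D.Nh.mul_mem (D.Nh.mul_mem (nS_mem_Nh hs hn₁) hnN) hm',
        m'⁻¹ * (n⁻¹ * y₂ * n) * m', Uh_le_Bh D (U_le_Uh hposneg h3), ?_⟩
      calc n * z * m' = (n * z * n⁻¹) * n * m' := by group
        _ = (y₁ * n₁ * y₂) * n * m' := by rw [hrk]
        _ = y₁ * (n₁ * n * m') * (m'⁻¹ * (n⁻¹ * y₂ * n) * m') := by group

end Cfsg.Agent.RGD
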