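import Mathlib
import Cfsg.Agent.S4314

/-!
Relative version of "all noncentral centralizers are maximal": a group `N` with a group `Γ` of
automorphisms containing the inner ones, such that every `Γ`-orbit of a noncentral element is a
conjugacy class of `N`, and such that for noncentral `u` no subgroup invariant under the
stabiliser of `u` lies strictly between `C_N(u)` and `N`.  Basics.
-/

set_option autoImplicit false

namespace Cfsg.Agent.Helper1.RelMaxCent

open Subgroup
open scoped commutatorElement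
open Cfsg.Agent.S4314 (centralizer_singleton_eq_top_iff centralizer_le_of_pow
  exists_pow_mul_eq_left exists_pow_mul_eq_right exists_pow_primePow cen mem_centralizer_conj
  conj_not_mem_center mem_of_pow_mem_of_coprime exists_mem_normalizer_not_mem)

variable {N : Type*} [Group N]

/-- a subgroup invariant under a group of automorphisms -/
def Inv (Γ : Subgroup (MulAut N)) (R : Subgroup N) : Prop :=
  ∀ g ∈ Γ, ∀ r ∈ R, g r ∈ R

/-- a subgroup invariant under the stabiliser of `u` -/
def InvAt (Γ : Subgroup (MulAut N)) (u : N) (R : Subgroup N) : Prop :=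
  ∀ g ∈ Γ, g u = u → ∀ r ∈ R, g r ∈ R

/-- the relative hypothesis -/
structure RelHyp (Γ : Subgroup (MulAut N)) : Prop where
  inn : ∀ n : N, MulAut.conj n ∈ Γ
  orbit : ∀ u : N, u ∉ center N → ∀ g ∈ Γ, ∃ n : N, g u = n * u * n⁻¹
  max : ∀ u : N, u ∉ center N → ∀ J : Subgroup N, centralizer ({u} : Set N) ≤ J →
    InvAt Γ u J → J ≠ ⊤ → J = centralizer ({u} : Set N)

variable {Γ : Subgroup (MulAut N)}

theorem Inv.invAt {R : Subgroup N} (h : Inv Γ R) (u : N) : InvAt Γ u R :=
  fun g hg _ r hr => h g hg r hr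

theorem Inv.mem_iff {R : Subgroup N} (h : Inv Γ R) {g : MulAut N} (hg : g ∈ Γ) (r : N) :
    g r ∈ R ↔ r ∈ R := by
  constructor
  · intro hr
    have := h g⁻¹ (Γ.inv_mem hg) _ hr
    rwa [MulAut.inv_apply_self] at this
  · exact h g hg r

theorem InvAt.mem_iff {R : Subgroup N} {u : N} (h : InvAt Γ u R) {g : MulAut N} (hg : g ∈ Γ)
    (hgu : g u = u) (r : N) : g r ∈ R ↔ r ∈ R := by
  constructor
  · intro hr
    have hgu' : g⁻¹ u = u := by
      conv_lhs => rw [← hgu]
      exact MulAut.inv_apply_self _ g u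
    have := h g⁻¹ (Γ.inv_mem hg) hgu' _ hr
    rwa [MulAut.inv_apply_self] at this
  · exact h g hg hgu r

theorem RelHyp.inv_normal (h : RelHyp Γ) {R : Subgroup N} (hR : Inv Γ R) : R.Normal := by
  constructor
  intro r hr n
  have := hR _ (h.inn n) r hr
  rwa [MulAut.conj_apply] at this

theorem inv_of_characteristic (R : Subgroup N) [hR : R.Characteristic] : Inv Γ R := by
  intro g _ r hr
  have := hR.fixed g
  have h2 : r ∈ R.comap g.toMonoidHom := by rw [this]; exact hr
  exact h2

theorem inv_center : Inv Γ (center N) := inv_of_characteristic _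

theorem inv_top : Inv Γ (⊤ : Subgroup N) := fun _ _ _ _ => mem_top _

theorem Inv.sup {R S : Subgroup N} (hR : Inv Γ R) (hS : Inv Γ S) : Inv Γ (R ⊔ S) := by
  intro g hg r hr
  have h1 : (R ⊔ S).map g.toMonoidHom ≤ R ⊔ S := by
    rw [Subgroup.map_sup]
    apply sup_le_sup
    · rintro _ ⟨a, ha, rfl⟩
      exact hR g hg a ha
    · rintro _ ⟨a, ha, rfl⟩
      exact hS g hg a ha
  exact h1 ⟨r, hr, rfl⟩

theorem InvAt.sup {u : N} {R S : Subgroup N} (hR : InvAt Γ u R) (hS : InvAt Γ u S) :
    InvAt Γ u (R ⊔ S) := by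
  intro g hg hgu r hr
  have h1 : (R ⊔ S).map g.toMonoidHom ≤ R ⊔ S := by
    rw [Subgroup.map_sup]
    apply sup_le_sup
    · rintro _ ⟨a, ha, rfl⟩
      exact hR g hg hgu a ha
    · rintro _ ⟨a, ha, rfl⟩
      exact hS g hg hgu a ha
  exact h1 ⟨r, hr, rfl⟩

theorem Inv.inf {R S : Subgroup N} (hR : Inv Γ R) (hS : Inv Γ S) : Inv Γ (R ⊓ S) :=
  fun g hg r hr => mem_inf.mpr ⟨hR g hg r (mem_inf.mp hr).1, hS g hg r (mem_inf.mp hr).2⟩

/-- an automorphism maps `C(u)` into `C(g u)` -/
theorem map_mem_centralizer (g : MulAut N) {u c : N} (hc : c ∈ centralizer ({u} : Set N)) :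
    g c ∈ centralizer ({g u} : Set N) := by
  rw [mem_centralizer_singleton_iff] at hc ⊢
  rw [← map_mul, ← map_mul, hc]

theorem invAt_centralizer_of_fixed (Γ : Subgroup (MulAut N)) (u v : N)
    (hv : ∀ g ∈ Γ, g u = u → g v = v) : InvAt Γ u (centralizer ({v} : Set N)) := by
  intro g hg hgu c hc
  have := map_mem_centralizer g hc
  rwa [hv g hg hgu] at this

theorem invAt_centralizer (Γ : Subgroup (MulAut N)) (u : N) :
    InvAt Γ u (centralizer ({u} : Set N)) :=
  invAt_centralizer_of_fixed Γ u u (fun _ _ h => h)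

theorem invAt_normalizer {u : N} {R : Subgroup N} (hR : InvAt Γ u R) :
    InvAt Γ u (normalizer (R : Set N)) := by
  intro g hg hgu n hn
  rw [mem_normalizer_iff] at hn ⊢
  intro c
  have e : g n * c * (g n)⁻¹ = g (n * g⁻¹ c * n⁻¹) := by
    rw [map_mul, map_mul, map_inv, MulAut.apply_inv_self]
  rw [e, hR.mem_iff hg hgu, ← hn, ← hR.mem_iff hg hgu (g⁻¹ c), MulAut.apply_inv_self]

theorem ne_top_of_not_mem {x : N} (hx : x ∉ center N) : centralizer ({x} : Set N) ≠ ⊤ :=
  fun h => hx ((centralizer_singleton_eq_top_iff x).mp h)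

theorem center_le_centralizer (x : N) : center N ≤ centralizer ({x} : Set N) := by
  intro z hz
  rw [mem_centralizer_singleton_iff]
  exact (mem_center_iff.mp hz x).symm

theorem self_mem_centralizer (x : N) : x ∈ centralizer ({x} : Set N) := by
  rw [mem_centralizer_singleton_iff]

/-- (F4) an invariant subgroup lies in `C(u)` or supplements it -/
theorem RelHyp.le_or_sup_eq_top (h : RelHyp Γ) {R : Subgroup N} (hR : Inv Γ R) {u : N}
    (hu : u ∉ center N) : R ≤ centralizer ({u} : Set N) ∨ R ⊔ centralizer ({u} : Set N) = ⊤ := by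
  by_cases ht : R ⊔ centralizer ({u} : Set N) = ⊤
  · exact Or.inr ht
  · left
    have := h.max u hu (R ⊔ centralizer ({u} : Set N)) le_sup_right
      ((hR.invAt u).sup (invAt_centralizer Γ u)) ht
    rw [← this]
    exact le_sup_left

/-- (F5) a non-normal noncentral centralizer is self-normalizing -/
theorem RelHyp.normalizer_eq (h : RelHyp Γ) {u : N} (hu : u ∉ center N)
    (hn : ¬ (centralizer ({u} : Set N)).Normal) :
    normalizer ((centralizer ({u} : Set N) : Subgroup N) : Set N) = centralizer ({u} : Set N) := by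
  apply h.max u hu _ le_normalizer (invAt_normalizer (invAt_centralizer Γ u))
  intro e
  exact hn (normalizer_eq_top_iff.mp e)

theorem RelHyp.pow_centralizer_eq (h : RelHyp Γ) {y : N} {k : ℕ} (hk : y ^ k ∉ center N) :
    centralizer ({y ^ k} : Set N) = centralizer ({y} : Set N) := by
  have hy : y ∉ center N := fun hy => hk ((center N).pow_mem hy k)
  refine h.max y hy _ (centralizer_le_of_pow y k) ?_ (ne_top_of_not_mem hk)
  apply invAt_centralizer_of_fixed
  intro g _ hgu
  rw [map_pow, hgu]

/-- Key lemma: an element of `C(u)` of order coprime to that of the noncentral `u` is central in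
`C(u)`. -/
theorem RelHyp.key [Finite N] (h : RelHyp Γ) {u y : N} (hu : u ∉ center N)
    (hy : y ∈ centralizer ({u} : Set N)) (hco : (orderOf u).Coprime (orderOf y)) :
    centralizer ({u} : Set N) ≤ centralizer ({y} : Set N) := by
  have hc : Commute u y := by
    rw [mem_centralizer_singleton_iff] at hy
    exact hy.symm
  obtain ⟨j, hj⟩ := exists_pow_mul_eq_left hc hco
  obtain ⟨j', hj'⟩ := exists_pow_mul_eq_right hc hco
  have h1 : centralizer ({(u * y) ^ j} : Set N) = centralizer ({u * y} : Set N) :=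
    h.pow_centralizer_eq (by rw [hj]; exact hu)
  rw [hj] at h1
  rw [h1]
  have h2 := centralizer_le_of_pow (u * y) j'
  rwa [hj'] at h2

/-- as `key`, with equality when `y` is also noncentral -/
theorem RelHyp.key_eq [Finite N] (h : RelHyp Γ) {u y : N} (hu : u ∉ center N)
    (hyc : y ∉ center N) (hy : y ∈ centralizer ({u} : Set N))
    (hco : (orderOf u).Coprime (orderOf y)) :
    centralizer ({y} : Set N) = centralizer ({u} : Set N) := by
  have hu' : u ∈ centralizer ({y} : Set N) := by
    rw [mem_centralizer_singleton_iff] at hy ⊢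
    exact hy.symm
  exact le_antisymm (h.key hyc hu' hco.symm) (h.key hu hy hco)

/-- every noncentral element has a noncentral power of prime power order with the same
centralizer -/
theorem RelHyp.exists_primePow [Finite N] (h : RelHyp Γ) {g : N} (hg : g ∉ center N) :
    ∃ (j s k : ℕ), s.Prime ∧ orderOf (g ^ j) = s ^ k ∧ g ^ j ∉ center N ∧
      centralizer ({g ^ j} : Set N) = centralizer ({g} : Set N) := by
  obtain ⟨j, s, k, hs, hord, hx⟩ := exists_pow_primePow (center N) (orderOf g) g rfl hg
  exact ⟨j, s, k, hs, hord, hx, h.pow_centralizer_eq hx⟩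

/-- `M / Z(M)` is an `s`-group when `M = C(x)` for a noncentral `s`-element `x` -/
theorem RelHyp.isPGroup_quotient_cen [Finite N] (h : RelHyp Γ) {x : N} {s k : ℕ} (hs : s.Prime)
    (hx : x ∉ center N) (hord : orderOf x = s ^ k) :
    IsPGroup s (↥(centralizer ({x} : Set N)) ⧸
      (cen (centralizer ({x} : Set N))).subgroupOf (centralizer ({x} : Set N))) := by
  set M := centralizer ({x} : Set N) with hM
  intro g
  obtain ⟨m, rfl⟩ := QuotientGroup.mk_surjective g
  obtain ⟨j, l, hsl, hjl⟩ :=
    Nat.exists_eq_pow_mul_and_not_dvd (orderOf_pos (m : N)).ne' s hs.ne_one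
  refine ⟨j, ?_⟩
  rw [← QuotientGroup.mk_pow, QuotientGroup.eq_one_iff, mem_subgroupOf]
  have hsj0 : s ^ j ≠ 0 := pow_ne_zero _ hs.ne_zero
  have hordl : orderOf ((m : N) ^ (s ^ j)) = l := by
    rw [orderOf_pow_of_dvd hsj0 (by rw [hjl]; exact Dvd.intro _ rfl), hjl]
    exact Nat.mul_div_cancel_left _ (Nat.pos_of_ne_zero hsj0)
  have hmem : (m : N) ^ (s ^ j) ∈ M := M.pow_mem m.2 _
  have hco : (orderOf x).Coprime (orderOf ((m : N) ^ (s ^ j))) := by
    rw [hord, hordl]
    exact Nat.Coprime.pow_left k ((Nat.Prime.coprime_iff_not_dvd hs).mpr hsl)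
  have hle := h.key hx hmem hco
  rw [Subgroup.coe_pow]
  unfold cen
  refine Subgroup.mem_inf.mpr ⟨hmem, ?_⟩
  rw [mem_centralizer_iff]
  intro g' hg'
  have := hle hg'
  rw [mem_centralizer_singleton_iff] at this
  exact this

theorem cen_subgroupOf_le_center (M : Subgroup N) : (cen M).subgroupOf M ≤ center M := by
  intro a ha
  rw [mem_subgroupOf] at ha
  rw [mem_center_iff]
  intro m
  have hc : (m : N) * (a : N) = (a : N) * (m : N) := (mem_centralizer_iff.mp ha.2) m m.2
  exact Subtype.ext hc

/-- every noncentral centralizer is nilpotent -/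
theorem RelHyp.nilpotent [Finite N] (h : RelHyp Γ) {g : N} (hg : g ∉ center N) :
    Group.IsNilpotent (centralizer ({g} : Set N)) := by
  obtain ⟨j, s, k, hs, hord, hx, hC⟩ := h.exists_primePow hg
  rw [← hC]
  set x := g ^ j with hxdef
  have hp := h.isPGroup_quotient_cen hs hx hord
  have : Fact s.Prime := ⟨hs⟩
  have hnil := hp.isNilpotent
  refine Subgroup.isNilpotent_of_ker_le_center
    (QuotientGroup.mk' ((cen (centralizer ({x} : Set N))).subgroupOf (centralizer ({x} : Set N))))
    ?_
  rw [QuotientGroup.ker_mk']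
  exact cen_subgroupOf_le_center _

/-- `C(x)` is abelian -/
def AbelianCent (x : N) : Prop :=
  ∀ a ∈ centralizer ({x} : Set N), ∀ b ∈ centralizer ({x} : Set N), a * b = b * a

/-- if all noncentral elements of `M = C(x)` have centralizer `M`, then `M` is abelian -/
theorem abelianCent_of_forall {x : N}
    (hall : ∀ w ∈ centralizer ({x} : Set N), w ∉ center N →
      centralizer ({w} : Set N) = centralizer ({x} : Set N)) : AbelianCent x := by
  intro a ha b hb
  by_cases hac : a ∈ center N
  · exact (mem_center_iff.mp hac b).symm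
  · have := hall a ha hac
    rw [← this, mem_centralizer_singleton_iff] at hb
    exact hb.symm

/-- in an abelian self-normalizing noncentral centralizer `M`, all noncentral elements have
centralizer `M` -/
theorem RelHyp.centralizer_eq_of_abelian [Finite N] (h : RelHyp Γ) {x : N}
    (hsn : normalizer ((centralizer ({x} : Set N) : Subgroup N) : Set N) =
      centralizer ({x} : Set N))
    (hab : AbelianCent x) {w : N} (hw : w ∈ centralizer ({x} : Set N)) (hwc : w ∉ center N) :
    centralizer ({w} : Set N) = centralizer ({x} : Set N) := by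
  have hle : centralizer ({x} : Set N) ≤ centralizer ({w} : Set N) := by
    intro m hm
    rw [mem_centralizer_singleton_iff]
    exact hab m hm w hw
  by_contra hne
  have hlt : centralizer ({x} : Set N) < centralizer ({w} : Set N) :=
    lt_of_le_of_ne hle (fun e => hne e.symm)
  obtain ⟨t, -, htn, htx⟩ := exists_mem_normalizer_not_mem (h.nilpotent hwc) hlt
  rw [hsn] at htn
  exact htx htn

/-- a noncentral element of `C(x)` of order prime to `s` (the prime of `x`) forces `C(x)` to be
abelian -/
theorem RelHyp.abelian_of_coprime [Finite N] (h : RelHyp Γ) {x y : N} {s k : ℕ} (hs : s.Prime)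
    (hx : x ∉ center N) (hord : orderOf x = s ^ k) (hy : y ∈ centralizer ({x} : Set N))
    (hyc : y ∉ center N) (hco : (orderOf y).Coprime s) : AbelianCent x := by
  have hCy : centralizer ({y} : Set N) = centralizer ({x} : Set N) :=
    h.key_eq hx hyc hy (by rw [hord]; exact (Nat.Coprime.pow_right k hco).symm)
  apply abelianCent_of_forall
  intro w hw hwc
  obtain ⟨j, t, f, ht, hordw, hwc', hCw⟩ := h.exists_primePow hwc
  rw [← hCw]
  have hw' : w ^ j ∈ centralizer ({x} : Set N) := Subgroup.pow_mem _ hw j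
  by_cases hts : t = s
  · rw [← hCy] at hw' ⊢
    refine h.key_eq hyc hwc' hw' ?_
    rw [hordw, hts]
    exact Nat.Coprime.pow_right f hco
  · refine h.key_eq hx hwc' hw' ?_
    rw [hord, hordw]
    exact Nat.Coprime.pow _ _ ((Nat.coprime_primes hs ht).mpr (Ne.symm hts))

/-- if `C(x)` is not abelian then `C(x) / Z(N)` is an `s`-group, for a noncentral `s`-element
`x` -/
theorem RelHyp.exists_pow_mem_center [Finite N] (h : RelHyp Γ) {x : N} {s k : ℕ} (hs : s.Prime)
    (hx : x ∉ center N) (hord : orderOf x = s ^ k) (hna : ¬ AbelianCent x) {m : N}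
    (hm : m ∈ centralizer ({x} : Set N)) : ∃ j : ℕ, m ^ (s ^ j) ∈ center N := by
  obtain ⟨j, l, hsl, hjl⟩ :=
    Nat.exists_eq_pow_mul_and_not_dvd (orderOf_pos m).ne' s hs.ne_one
  refine ⟨j, ?_⟩
  by_contra hmc
  have hsj0 : s ^ j ≠ 0 := pow_ne_zero _ hs.ne_zero
  have hordl : orderOf (m ^ (s ^ j)) = l := by
    rw [orderOf_pow_of_dvd hsj0 (by rw [hjl]; exact Dvd.intro _ rfl), hjl]
    exact Nat.mul_div_cancel_left _ (Nat.pos_of_ne_zero hsj0)
  refine hna (h.abelian_of_coprime hs hx hord (Subgroup.pow_mem _ hm _) hmc ?_)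
  rw [hordl]
  exact ((Nat.Prime.coprime_iff_not_dvd hs).mpr hsl).symm

/-- elements of `C(x)` of order prime to `s` are central, when `C(x)` is not abelian -/
theorem RelHyp.mem_center_of_coprime [Finite N] (h : RelHyp Γ) {x : N} {s k : ℕ} (hs : s.Prime)
    (hx : x ∉ center N) (hord : orderOf x = s ^ k) (hna : ¬ AbelianCent x) {m : N}
    (hm : m ∈ centralizer ({x} : Set N)) (hco : (orderOf m).Coprime s) : m ∈ center N := by
  by_contra hmc
  exact hna (h.abelian_of_coprime hs hx hord hm hmc hco)

/-- the TI property of an abelian, self-normalizing, noncentral centralizer -/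
theorem RelHyp.ti_of_abelian [Finite N] (h : RelHyp Γ) {x : N}
    (hsn : normalizer ((centralizer ({x} : Set N) : Subgroup N) : Set N) =
      centralizer ({x} : Set N))
    (hab : AbelianCent x) {g w : N}
    (hg : g ∉ centralizer ({x} : Set N)) (hw : w ∈ centralizer ({x} : Set N))
    (hw' : g⁻¹ * w * g ∈ centralizer ({x} : Set N)) : w ∈ center N := by
  by_contra hwc
  have hwc' : g⁻¹ * w * g ∉ center N := by
    have := conj_not_mem_center (h := g⁻¹) hwc
    rwa [inv_inv] at this
  have h1 := h.centralizer_eq_of_abelian hsn hab hw hwc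
  have h2 := h.centralizer_eq_of_abelian hsn hab hw' hwc'
  apply hg
  rw [← hsn]
  have hinv : g⁻¹ ∈ normalizer ((centralizer ({x} : Set N) : Subgroup N) : Set N) := by
    rw [mem_normalizer_iff]
    intro m
    have e := mem_centralizer_conj g⁻¹ w (g⁻¹ * m * g⁻¹⁻¹)
    rw [inv_inv] at e ⊢
    have e2 : g * (g⁻¹ * m * g) * g⁻¹ = m := by group
    rw [e2, h1, h2] at e
    exact e.symm
  have := Subgroup.inv_mem _ hinv
  rwa [inv_inv] at this

end Cfsg.Agent.Helper1.RelMaxCent
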