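import Mathlib
import Cfsg.Agent.Helper1.RelMaxCent1

/-!
Relative maximal centralizers: normal closures of noncentral elements, normal centralizers, and
the case where all noncentral centralizers are normal.
-/

set_option autoImplicit false
set_option linter.unusedSectionVars false

namespace Cfsg.Agent.Helper1.RelMaxCent

open Subgroup
open scoped commutatorElement
open Cfsg.Agent.S4314 (centralizer_singleton_eq_top_iff mem_of_pow_mem_of_coprime)

variable {N : Type*} [Group N] {Γ : Subgroup (MulAut N)}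

/-- the normal closure of a noncentral element is invariant -/
theorem RelHyp.inv_normalClosure (h : RelHyp Γ) {u : N} (hu : u ∉ center N) :
    Inv Γ (normalClosure ({u} : Set N)) := by
  intro g hg r hr
  have h1 : (normalClosure ({u} : Set N)).map g.toMonoidHom ≤ normalClosure ({u} : Set N) := by
    refine (Subgroup.map_normalClosure_le _ _).trans ?_
    apply normalClosure_le_normal
    rintro _ ⟨a, ha, rfl⟩
    rw [Set.mem_singleton_iff] at ha
    subst ha
    obtain ⟨n, hn⟩ := h.orbit a hu g hg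
    change g a ∈ _
    rw [hn]
    exact normalClosure_normal.conj_mem _ (subset_normalClosure (Set.mem_singleton a)) n
  exact h1 ⟨r, hr, rfl⟩

theorem mem_center_of_forall_mem_centralizer {c : N}
    (hc : ∀ g : N, g ∉ center N → c ∈ centralizer ({g} : Set N)) : c ∈ center N := by
  rw [mem_center_iff]
  intro g
  by_cases hg : g ∈ center N
  · exact (mem_center_iff.mp hg c).symm
  · have := hc g hg
    rw [mem_centralizer_singleton_iff] at this
    exact this.symm

section NormalCent

variable [Finite N]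

/-- for `C(u)` normal, the normal closure of `u` centralizes `C(u)` -/
theorem normalClosure_le_centralizer {u : N} (hn : (centralizer ({u} : Set N)).Normal) :
    normalClosure ({u} : Set N) ≤
      centralizer ((centralizer ({u} : Set N) : Subgroup N) : Set N) := by
  apply normalClosure_le_normal
  rw [Set.singleton_subset_iff]
  change u ∈ centralizer _
  rw [mem_centralizer_iff]
  intro c hc
  rw [SetLike.mem_coe, mem_centralizer_singleton_iff] at hc
  exact hc

theorem normalClosure_le_self_centralizer {u : N} (hn : (centralizer ({u} : Set N)).Normal) :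
    normalClosure ({u} : Set N) ≤ centralizer ({u} : Set N) := by
  apply normalClosure_le_normal
  rw [Set.singleton_subset_iff]
  exact self_mem_centralizer u

/-- for `C(u)` normal and `w ∉ C(u)`, the normal closure of `u` supplements `C(w)` -/
theorem RelHyp.normalClosure_sup (h : RelHyp Γ) {u w : N} (hu : u ∉ center N)
    (hw : w ∉ centralizer ({u} : Set N)) :
    normalClosure ({u} : Set N) ⊔ centralizer ({w} : Set N) = ⊤ := by
  have hwc : w ∉ center N := fun hc => hw (center_le_centralizer u hc)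
  rcases h.le_or_sup_eq_top (h.inv_normalClosure hu) hwc with h1 | h1
  · exfalso
    apply hw
    have h2 : u ∈ centralizer ({w} : Set N) :=
      h1 (subset_normalClosure (Set.mem_singleton u))
    rw [mem_centralizer_singleton_iff] at h2 ⊢
    exact h2.symm
  · exact h1

/-- for `C(u)` normal, the quotient `N / C(u)` is nilpotent -/
theorem RelHyp.nilpotent_quotient (h : RelHyp Γ) {u : N} (hu : u ∉ center N)
    [hn : (centralizer ({u} : Set N)).Normal] :
    Group.IsNilpotent (N ⧸ centralizer ({u} : Set N)) := by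
  obtain ⟨w, -, hw⟩ := SetLike.exists_of_lt (lt_top_iff_ne_top.mpr (ne_top_of_not_mem hu))
  have hwc : w ∉ center N := fun hc => hw (center_le_centralizer u hc)
  have hsup := h.normalClosure_sup hu hw
  have hnil : Group.IsNilpotent (centralizer ({w} : Set N)) := h.nilpotent hwc
  let f : centralizer ({w} : Set N) →* N ⧸ centralizer ({u} : Set N) :=
    (QuotientGroup.mk' (centralizer ({u} : Set N))).comp (centralizer ({w} : Set N)).subtype
  refine Group.nilpotent_of_surjective f ?_
  intro q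
  obtain ⟨n, rfl⟩ := QuotientGroup.mk_surjective q
  have hn' : n ∈ normalClosure ({u} : Set N) ⊔ centralizer ({w} : Set N) := by
    rw [hsup]; exact mem_top n
  obtain ⟨l, hl, c, hc, rfl⟩ := mem_sup_of_normal_left.mp hn'
  refine ⟨⟨c, hc⟩, ?_⟩
  change ((c : N) : N ⧸ centralizer ({u} : Set N)) = ((l * c : N) : N ⧸ centralizer ({u} : Set N))
  rw [QuotientGroup.eq]
  have : c⁻¹ * (l * c) = c⁻¹ * l * c⁻¹⁻¹ := by group
  rw [this]
  exact hn.conj_mem _ (normalClosure_le_self_centralizer hn hl) _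

/-- for `C(u)` normal, `N' ≤ C(u)` -/
theorem RelHyp.commutator_le (h : RelHyp Γ) {u : N} (hu : u ∉ center N)
    (hn : (centralizer ({u} : Set N)).Normal) :
    _root_.commutator N ≤ centralizer ({u} : Set N) := by
  set C := centralizer ({u} : Set N) with hC
  have hnil : Group.IsNilpotent (N ⧸ C) := h.nilpotent_quotient hu
  have hinv : InvAt Γ u (C ⊔ _root_.commutator N) :=
    (invAt_centralizer Γ u).sup ((inv_of_characteristic (_root_.commutator N)).invAt u)
  by_cases ht : C ⊔ _root_.commutator N = ⊤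
  · exfalso
    have hnt : Nontrivial (N ⧸ C) := by
      rw [← not_subsingleton_iff_nontrivial]
      intro hs
      apply ne_top_of_not_mem hu
      rw [eq_top_iff]
      intro n _
      rw [← QuotientGroup.eq_one_iff]
      exact Subsingleton.elim _ _
    have hlt := Group.IsSolvable.commutator_lt_top_of_nontrivial (N ⧸ C)
    apply hlt.ne
    have h1 : (C ⊔ _root_.commutator N).map (QuotientGroup.mk' C) = ⊤ := by
      rw [ht]
      exact Subgroup.map_top_of_surjective _ (QuotientGroup.mk'_surjective C)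
    rw [Subgroup.map_sup] at h1
    have h2 : C.map (QuotientGroup.mk' C) = ⊥ := by
      rw [eq_bot_iff]
      rintro _ ⟨c, hc, rfl⟩
      rw [mem_bot, QuotientGroup.mk'_apply, QuotientGroup.eq_one_iff]
      exact hc
    rw [h2, bot_sup_eq, commutator_def, Subgroup.map_commutator,
      Subgroup.map_top_of_surjective _ (QuotientGroup.mk'_surjective C)] at h1
    rw [commutator_def]
    exact h1
  · have := h.max u hu _ le_sup_left hinv ht
    rw [← hC] at this
    rw [← this]
    exact le_sup_right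

end NormalCent

section ClassTwo

/-- commutator identities when commutators are central -/
theorem comm_mul_right' (hc : ∀ a b : N, ⁅a, b⁆ ∈ center N) (u a b : N) :
    ⁅u, a * b⁆ = ⁅u, a⁆ * ⁅u, b⁆ := by
  have h1 : ⁅u, a * b⁆ = ⁅u, a⁆ * (a * ⁅u, b⁆ * a⁻¹) := by
    simp only [commutatorElement_def]; group
  have h2 : a * ⁅u, b⁆ * a⁻¹ = ⁅u, b⁆ := by
    rw [(mem_center_iff.mp (hc u b) a), mul_inv_cancel_right]
  rw [h1, h2]

theorem comm_mul_left' (hc : ∀ a b : N, ⁅a, b⁆ ∈ center N) (a b z : N) :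
    ⁅a * b, z⁆ = ⁅a, z⁆ * ⁅b, z⁆ := by
  have h1 : ⁅a * b, z⁆ = a * ⁅b, z⁆ * a⁻¹ * ⁅a, z⁆ := by
    simp only [commutatorElement_def]; group
  have h2 : a * ⁅b, z⁆ * a⁻¹ = ⁅b, z⁆ := by
    rw [(mem_center_iff.mp (hc b z) a), mul_inv_cancel_right]
  rw [h1, h2]
  exact (mem_center_iff.mp (hc b z) _).symm

theorem comm_pow_right' (hc : ∀ a b : N, ⁅a, b⁆ ∈ center N) (u a : N) (k : ℕ) :
    ⁅u, a ^ k⁆ = ⁅u, a⁆ ^ k := by
  induction k with
  | zero => simp
  | succ k ih => rw [pow_succ, comm_mul_right' hc, ih, pow_succ]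

theorem comm_pow_left' (hc : ∀ a b : N, ⁅a, b⁆ ∈ center N) (u a : N) (k : ℕ) :
    ⁅u ^ k, a⁆ = ⁅u, a⁆ ^ k := by
  induction k with
  | zero => simp
  | succ k ih => rw [pow_succ, comm_mul_left' hc, ih, pow_succ]

theorem comm_inv_right' (hc : ∀ a b : N, ⁅a, b⁆ ∈ center N) (u a : N) :
    ⁅u, a⁻¹⁆ = ⁅u, a⁆⁻¹ := by
  have h1 := comm_mul_right' hc u a a⁻¹
  rw [mul_inv_cancel, commutatorElement_one_right] at h1
  exact eq_inv_of_mul_eq_one_right h1.symm

/-- the subgroup of elements whose commutator with `u` has order dividing `q` -/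
def commTorsion (hc : ∀ a b : N, ⁅a, b⁆ ∈ center N) (u : N) (q : ℕ) : Subgroup N where
  carrier := {n | ⁅u, n⁆ ^ q = 1}
  one_mem' := by
    change ⁅u, (1 : N)⁆ ^ q = 1
    rw [commutatorElement_one_right, one_pow]
  mul_mem' := by
    intro a b ha hb
    change ⁅u, a * b⁆ ^ q = 1
    have ha' : ⁅u, a⁆ ^ q = 1 := ha
    have hb' : ⁅u, b⁆ ^ q = 1 := hb
    have hcm : Commute ⁅u, a⁆ ⁅u, b⁆ := (mem_center_iff.mp (hc u a) _).symm
    rw [comm_mul_right' hc, hcm.mul_pow, ha', hb', one_mul]
  inv_mem' := by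
    intro a ha
    change ⁅u, a⁻¹⁆ ^ q = 1
    have ha' : ⁅u, a⁆ ^ q = 1 := ha
    rw [comm_inv_right' hc, inv_pow, ha', inv_one]

theorem mem_commTorsion (hc : ∀ a b : N, ⁅a, b⁆ ∈ center N) (u : N) (q : ℕ) (n : N) :
    n ∈ commTorsion hc u q ↔ ⁅u, n⁆ ^ q = 1 := Iff.rfl

end ClassTwo

section CaseNormal

variable [Finite N]

theorem comm_eq_one_iff (u n : N) : ⁅u, n⁆ = 1 ↔ n ∈ centralizer ({u} : Set N) := by
  rw [commutatorElement_eq_one_iff_mul_comm, mem_centralizer_singleton_iff]
  exact eq_comm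

/-- if all commutators are central, then every noncentral `u` has `u ^ q` central for some
prime `q` -/
theorem RelHyp.exists_prime_pow_mem_center (h : RelHyp Γ) (hc : ∀ a b : N, ⁅a, b⁆ ∈ center N)
    {u : N} (hu : u ∉ center N) : ∃ q : ℕ, q.Prime ∧ u ^ q ∈ center N := by
  obtain ⟨n₀, -, hn₀⟩ := SetLike.exists_of_lt (lt_top_iff_ne_top.mpr (ne_top_of_not_mem hu))
  set c := ⁅u, n₀⁆ with hcdef
  have hc1 : c ≠ 1 := fun e => hn₀ ((comm_eq_one_iff u n₀).mp e)
  have ho1 : orderOf c ≠ 1 := fun e => hc1 (orderOf_eq_one_iff.mp e)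
  set q := (orderOf c).minFac with hq
  have hqp : q.Prime := Nat.minFac_prime ho1
  have hqd : q ∣ orderOf c := Nat.minFac_dvd _
  obtain ⟨d, hd⟩ := hqd
  refine ⟨q, hqp, ?_⟩
  -- the subgroup `J`
  set J := commTorsion hc u q with hJ
  have hCJ : centralizer ({u} : Set N) ≤ J := by
    intro n hn
    rw [hJ, mem_commTorsion, (comm_eq_one_iff u n).mpr hn, one_pow]
  have hJinv : InvAt Γ u J := by
    intro g _ hgu n hn
    rw [hJ, mem_commTorsion] at hn ⊢
    have : ⁅u, g n⁆ = g ⁅u, n⁆ := by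
      rw [map_commutatorElement, hgu]
    rw [this, ← map_pow, hn, map_one]
  have hJne : J ≠ centralizer ({u} : Set N) := by
    intro e
    have hm : n₀ ^ d ∈ J := by
      rw [hJ, mem_commTorsion, comm_pow_right' hc, ← pow_mul, mul_comm, ← hd]
      exact pow_orderOf_eq_one c
    rw [e, ← comm_eq_one_iff, comm_pow_right' hc] at hm
    have hdvd : orderOf c ∣ d := orderOf_dvd_of_pow_eq_one hm
    rw [hd] at hdvd
    have hdpos : 0 < d := by
      rcases Nat.eq_zero_or_pos d with h0 | h0
      · rw [h0, mul_zero] at hd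
        exact absurd hd (orderOf_pos c).ne'
      · exact h0
    have := Nat.le_of_dvd hdpos hdvd
    have h2 : 2 * d ≤ q * d := Nat.mul_le_mul_right d hqp.two_le
    omega
  have hJt : J = ⊤ := by
    by_contra ht
    exact hJne (h.max u hu J hCJ hJinv ht)
  apply mem_center_iff.mpr
  intro n
  have hn : n ∈ J := by rw [hJt]; exact mem_top n
  rw [hJ, mem_commTorsion, ← comm_pow_left' hc] at hn
  have := (commutatorElement_eq_one_iff_mul_comm).mp hn
  exact this.symm

/-- the case where all noncentral centralizers are normal -/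
theorem RelHyp.elementary_of_all_normal (h : RelHyp Γ)
    (hall : ∀ u : N, u ∉ center N → (centralizer ({u} : Set N)).Normal) :
    ∃ p : ℕ, p.Prime ∧ (∀ a b : N ⧸ center N, a * b = b * a) ∧
      ∀ a : N ⧸ center N, a ^ p = 1 := by
  have hc : ∀ a b : N, ⁅a, b⁆ ∈ center N := by
    intro a b
    apply mem_center_of_forall_mem_centralizer
    intro g hg
    exact h.commutator_le hg (hall g hg) (Subgroup.commutator_mem_commutator (mem_top a) (mem_top b))
  have hcomm : ∀ a b : N ⧸ center N, a * b = b * a := by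
    intro a b
    obtain ⟨a, rfl⟩ := QuotientGroup.mk_surjective a
    obtain ⟨b, rfl⟩ := QuotientGroup.mk_surjective b
    rw [← QuotientGroup.mk_mul, ← QuotientGroup.mk_mul, QuotientGroup.eq]
    have : (a * b)⁻¹ * (b * a) = ⁅b⁻¹, a⁻¹⁆ := by
      rw [commutatorElement_def]; group
    rw [this]
    exact hc _ _
  have hex : ∀ a : N ⧸ center N, ∃ q : ℕ, q.Prime ∧ a ^ q = 1 := by
    intro a
    obtain ⟨a, rfl⟩ := QuotientGroup.mk_surjective a
    by_cases ha : a ∈ center N
    · refine ⟨2, Nat.prime_two, ?_⟩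
      rw [(QuotientGroup.eq_one_iff a).mpr ha, one_pow]
    · obtain ⟨q, hq, hqa⟩ := h.exists_prime_pow_mem_center hc ha
      refine ⟨q, hq, ?_⟩
      rw [← QuotientGroup.mk_pow, QuotientGroup.eq_one_iff]
      exact hqa
  by_cases htriv : ∀ a : N ⧸ center N, a = 1
  · exact ⟨2, Nat.prime_two, hcomm, fun a => by rw [htriv a, one_pow]⟩
  push Not at htriv
  obtain ⟨x₀, hx₀⟩ := htriv
  obtain ⟨p, hp, hpx⟩ := hex x₀
  have hox : orderOf x₀ = p := by
    have hdvd : orderOf x₀ ∣ p := orderOf_dvd_of_pow_eq_one hpx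
    rcases (Nat.dvd_prime hp).mp hdvd with e | e
    · exact absurd (orderOf_eq_one_iff.mp e) hx₀
    · exact e
  refine ⟨p, hp, hcomm, ?_⟩
  intro y
  by_cases hy1 : y = 1
  · rw [hy1, one_pow]
  obtain ⟨q, hq, hqy⟩ := hex y
  have hoy : orderOf y = q := by
    have hdvd : orderOf y ∣ q := orderOf_dvd_of_pow_eq_one hqy
    rcases (Nat.dvd_prime hq).mp hdvd with e | e
    · exact absurd (orderOf_eq_one_iff.mp e) hy1
    · exact e
  by_cases hpq : q = p
  · rw [← hpq]; exact hqy
  exfalso
  obtain ⟨r, hr, hrxy⟩ := hex (x₀ * y)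
  have hcm : Commute x₀ y := hcomm x₀ y
  rw [hcm.mul_pow] at hrxy
  -- `x₀ ^ r = (y ^ r)⁻¹`
  have e1 : x₀ ^ r = (y ^ r)⁻¹ := eq_inv_of_mul_eq_one_left hrxy
  have h1 : (x₀ ^ r) ^ p = 1 := by rw [← pow_mul, mul_comm, pow_mul, hpx, one_pow]
  have h2 : (x₀ ^ r) ^ q = 1 := by
    rw [e1, inv_pow, ← pow_mul, mul_comm, pow_mul, hqy, one_pow, inv_one]
  have hcop : p.Coprime q := (Nat.coprime_primes hp hq).mpr (Ne.symm hpq)
  have h3 : x₀ ^ r = 1 := by
    have := mem_of_pow_mem_of_coprime (⊥ : Subgroup (N ⧸ center N)) (g := x₀ ^ r)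
      (mem_bot.mpr h1) (mem_bot.mpr h2) hcop
    exact mem_bot.mp this
  have h4 : y ^ r = 1 := by
    rw [h3] at e1
    exact inv_eq_one.mp e1.symm
  have hpr : p ∣ r := hox ▸ orderOf_dvd_of_pow_eq_one h3
  have hqr : q ∣ r := hoy ▸ orderOf_dvd_of_pow_eq_one h4
  have e2 : p = r := (Nat.prime_dvd_prime_iff_eq hp hr).mp hpr
  have e3 : q = r := (Nat.prime_dvd_prime_iff_eq hq hr).mp hqr
  exact hpq (e3.trans e2.symm)

end CaseNormal

end Cfsg.Agent.Helper1.RelMaxCent
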