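import Mathlib
import Cfsg.Agent.Helper1.RelMaxCent1
import Cfsg.Agent.Helper6.MaxCentFrob
import Cfsg.Agent.Helper1.FrobeniusThm
import Cfsg.Agent.Helper1.FrobeniusConj

/-!
Relative maximal centralizers: an abelian self-normalizing noncentral centralizer gives the
Frobenius structure of `N / Z(N)`.
-/

set_option autoImplicit false
set_option linter.unusedSectionVars false

namespace Cfsg.Agent.Helper1.RelMaxCent

open Subgroup
open scoped commutatorElement Pointwise
open Cfsg.Agent.Helper6.MaxCent (mk_mem_map_iff)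
open Cfsg.Agent.S4314 (mem_centralizer_conj conj_not_mem_center)

variable {N : Type*} [Group N] {Γ : Subgroup (MulAut N)} [Finite N]

/-- an abelian self-normalizing noncentral centralizer gives a Frobenius complement in
`N / Z(N)` -/
theorem RelHyp.isFrobeniusComplement_map (h : RelHyp Γ) {x : N} (hx : x ∉ center N)
    (hsn : normalizer ((centralizer ({x} : Set N) : Subgroup N) : Set N) =
      centralizer ({x} : Set N))
    (hab : AbelianCent x) :
    Cfsg.IsFrobeniusComplement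
      ((centralizer ({x} : Set N)).map (QuotientGroup.mk' (center N))) := by
  set Z := center N with hZ
  set M := centralizer ({x} : Set N) with hM
  have hZM : Z ≤ M := center_le_centralizer x
  set π := QuotientGroup.mk' Z with hπ
  have hπ1 : ∀ a : N, π a = 1 ↔ a ∈ Z := fun a => by
    rw [hπ, QuotientGroup.mk'_apply, QuotientGroup.eq_one_iff]
  set H := M.map π with hH
  have hmem : ∀ a : N, π a ∈ H ↔ a ∈ M := fun a => mk_mem_map_iff hZM a
  have hH1 : H ≠ ⊥ := by
    intro e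
    have h1 : π x ∈ H := (hmem x).mpr (self_mem_centralizer x)
    rw [e, mem_bot, hπ1] at h1
    exact hx h1
  have hMt : M ≠ ⊤ := ne_top_of_not_mem hx
  have hH2 : H ≠ ⊤ := by
    intro e
    apply hMt
    rw [eq_top_iff]
    intro a _
    rw [← hmem a, e]
    exact mem_top _
  refine ⟨hH1, hH2, ?_⟩
  intro g' hg'
  obtain ⟨g, rfl⟩ := QuotientGroup.mk'_surjective Z g'
  rw [eq_bot_iff]
  intro a' ha'
  obtain ⟨a, rfl⟩ := QuotientGroup.mk'_surjective Z a'
  rw [mem_inf, Cfsg.Agent.Helper1.mem_conj_smul_iff] at ha'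
  rw [mem_bot]
  change π a = 1
  rw [hπ1]
  have hg : g ∉ M := fun hg => hg' ((hmem g).mpr hg)
  have ha1 : a ∈ M := (hmem a).mp ha'.1
  have ha2 : g⁻¹ * a * g ∈ M := by
    rw [← hmem]
    have := ha'.2
    rwa [← map_inv, ← map_mul, ← map_mul] at this
  exact h.ti_of_abelian hsn hab hg ha1 ha2

/-- the structure of `N / Z(N)` in the presence of an abelian self-normalizing noncentral
centralizer -/
theorem RelHyp.frobenius_structure (h : RelHyp Γ) {x : N} (hx : x ∉ center N)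
    (hsn : normalizer ((centralizer ({x} : Set N) : Subgroup N) : Set N) =
      centralizer ({x} : Set N))
    (hab : AbelianCent x) :
    ∃ (Q K : Subgroup (N ⧸ center N)) (p : ℕ), p.Prime ∧ Cfsg.IsFrobeniusComplement Q ∧
      (Nat.card ↥Q).Prime ∧ K.Normal ∧ (K : Set (N ⧸ center N)) = Cfsg.frobeniusKernel Q ∧
      (IsMulCommutative K ∧ ∀ a ∈ K, a ^ p = 1) := by
  classical
  have hfrob := h.isFrobeniusComplement_map hx hsn hab
  set Z := center N with hZ
  set M := centralizer ({x} : Set N) with hM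
  have hZM : Z ≤ M := center_le_centralizer x
  set π := QuotientGroup.mk' Z with hπ
  have hπ1 : ∀ a : N, π a = 1 ↔ a ∈ Z := fun a => by
    rw [hπ, QuotientGroup.mk'_apply, QuotientGroup.eq_one_iff]
  have hπs : Function.Surjective π := QuotientGroup.mk'_surjective Z
  set H := M.map π with hH
  have hmem : ∀ a : N, π a ∈ H ↔ a ∈ M := fun a => mk_mem_map_iff hZM a
  have : Fintype (N ⧸ Z) := Fintype.ofFinite _
  obtain ⟨Kq, hN, hNn, hNc⟩ := Cfsg.Agent.Helper1.frobenius_theorem hfrob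
  have hNmem : ∀ a : N ⧸ Z, a ∈ Kq ↔ a ∈ Cfsg.frobeniusKernel H := fun a => by
    rw [← hN]; rfl
  have hdisj : ∀ a : N ⧸ Z, a ∈ Kq → a ∈ H → a = 1 := by
    intro a h1 h2
    have := hNc.disjoint
    rw [disjoint_iff] at this
    have h3 : a ∈ Kq ⊓ H := mem_inf.mpr ⟨h1, h2⟩
    rw [this, mem_bot] at h3
    exact h3
  have hHab : ∀ a ∈ H, ∀ b ∈ H, a * b = b * a := by
    rintro _ ⟨a, ha, rfl⟩ _ ⟨b, hb, rfl⟩
    rw [← map_mul, ← map_mul, hab a ha b hb]
  set K := Kq.comap π with hK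
  have hKn : K.Normal := hNn.comap π
  have hZK : Z ≤ K := by
    intro z hz
    change π z ∈ Kq
    rw [(hπ1 z).mpr hz]
    exact Kq.one_mem
  have hKt : K ≠ ⊤ := by
    intro e
    apply hfrob.1
    rw [eq_bot_iff]
    intro a' ha'
    obtain ⟨a, rfl⟩ := hπs a'
    rw [mem_bot]
    apply hdisj _ _ ha'
    have : a ∈ K := by rw [e]; exact mem_top _
    exact this
  -- `K` is invariant
  have hKinv : Inv Γ K := by
    intro g hg k hk
    change π (g k) ∈ Kq
    by_contra hcN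
    rw [hNmem, Cfsg.Agent.Helper1.not_mem_frobeniusKernel_iff] at hcN
    obtain ⟨hc1, n', hn'⟩ := hcN
    obtain ⟨n, rfl⟩ := hπs n'
    rw [← map_inv, ← map_mul, ← map_mul, hmem] at hn'
    -- `g k ∈ C(n⁻¹ x n)`
    have h1 : g k ∈ centralizer ({n⁻¹ * x * n⁻¹⁻¹} : Set N) := by
      rw [mem_centralizer_conj, inv_inv]
      exact hn'
    obtain ⟨n₁, hn₁⟩ := h.orbit x hx g⁻¹ (Γ.inv_mem hg)
    have h2 : g⁻¹ (g k) ∈ centralizer ({g⁻¹ (n⁻¹ * x * n⁻¹⁻¹)} : Set N) :=
      map_mem_centralizer g⁻¹ h1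
    rw [MulAut.inv_apply_self] at h2
    have e1 : g⁻¹ (n⁻¹ * x * n⁻¹⁻¹) = ((g⁻¹ n)⁻¹ * n₁) * x * ((g⁻¹ n)⁻¹ * n₁)⁻¹ := by
      rw [inv_inv, map_mul, map_mul, map_inv, hn₁]
      group
    rw [e1, mem_centralizer_conj] at h2
    set n₂ := (g⁻¹ n)⁻¹ * n₁ with hn₂
    have h3 : π (n₂⁻¹ * k * n₂) ∈ H := (hmem _).mpr h2
    have h4 : π (n₂⁻¹ * k * n₂) ∈ Kq := by
      have := hNn.conj_mem _ hk (π n₂)⁻¹
      rwa [inv_inv, ← map_inv, ← map_mul, ← map_mul] at this
    have h5 := hdisj _ h4 h3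
    rw [hπ1] at h5
    have h6 : k ∈ Z := by
      have := (Subgroup.normal_of_characteristic Z).conj_mem _ h5 n₂
      have e : n₂ * (n₂⁻¹ * k * n₂) * n₂⁻¹ = k := by group
      rwa [e] at this
    apply hc1
    rw [hπ1]
    exact inv_center g hg k h6
  have hcent : ∀ n ∈ K, n ∉ Z → centralizer ({n} : Set N) = K := by
    intro n hnK hnZ
    have hle : centralizer ({n} : Set N) ≤ K := by
      intro c hc
      rw [mem_centralizer_singleton_iff] at hc
      change π c ∈ Kq
      by_contra hcN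
      rw [hNmem, Cfsg.Agent.Helper1.not_mem_frobeniusKernel_iff] at hcN
      obtain ⟨hc1, g', hg'⟩ := hcN
      have hn' : g' * π n * g'⁻¹ ∈ Kq := hNn.conj_mem _ hnK g'
      have hcomm : (g' * π n * g'⁻¹) * (g' * π c * g'⁻¹) =
          (g' * π c * g'⁻¹) * (g' * π n * g'⁻¹) := by
        have e1 : (g' * π n * g'⁻¹) * (g' * π c * g'⁻¹) = g' * π (n * c) * g'⁻¹ := by
          rw [map_mul]; group
        have e2 : (g' * π c * g'⁻¹) * (g' * π n * g'⁻¹) = g' * π (c * n) * g'⁻¹ := by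
          rw [map_mul]; group
        rw [e1, e2, hc]
      have hne : g' * π c * g'⁻¹ ≠ 1 := by
        intro e
        apply hc1
        have : π c = g'⁻¹ * (g' * π c * g'⁻¹) * g' := by group
        rw [this, e]; group
      have hnH := Cfsg.Agent.Helper1.frob_centralizer_le hfrob hg' hne hcomm
      have h1 := hdisj _ hn' hnH
      apply hnZ
      rw [← hπ1]
      have : π n = g'⁻¹ * (g' * π n * g'⁻¹) * g' := by group
      rw [this, h1]; group
    exact (h.max n hnZ K hle (hKinv.invAt n) hKt).symm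
  have hNbot : Kq ≠ ⊥ := by
    intro e
    apply hfrob.2.1
    have := hNc.sup_eq_top
    rwa [e, bot_sup_eq] at this
  have hKZ : ¬ K ≤ Z := by
    intro hKZ
    apply hNbot
    rw [eq_bot_iff]
    intro a' ha'
    obtain ⟨a, rfl⟩ := hπs a'
    rw [mem_bot]
    change π a = 1
    rw [hπ1]
    exact hKZ ha'
  obtain ⟨n₀, hn₀K, hn₀Z⟩ := SetLike.not_le_iff_exists.mp hKZ
  have hKab : ∀ a ∈ K, ∀ b ∈ K, a * b = b * a := by
    intro a ha b hb
    by_cases hac : a ∈ Z
    · exact (mem_center_iff.mp hac b).symm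
    · have := hcent a ha hac
      rw [← this, mem_centralizer_singleton_iff] at hb
      exact hb.symm
  have hNab : ∀ a ∈ Kq, ∀ b ∈ Kq, a * b = b * a := by
    intro a' ha' b' hb'
    obtain ⟨a, rfl⟩ := hπs a'
    obtain ⟨b, rfl⟩ := hπs b'
    rw [← map_mul, ← map_mul, hKab a ha' b hb']
  -- a prime dividing `|Kq|`
  have hNcard1 : Nat.card Kq ≠ 1 := fun e => hNbot (Subgroup.card_eq_one.mp e)
  obtain ⟨p, hp, hpN⟩ := Nat.exists_prime_and_dvd hNcard1
  have hpF : Fact p.Prime := ⟨hp⟩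
  obtain ⟨y, hy⟩ := exists_prime_orderOf_dvd_card' p hpN
  let L : Subgroup (N ⧸ Z) :=
    { carrier := {n | n ∈ Kq ∧ n ^ p = 1}
      mul_mem' := by
        rintro a b ⟨ha, ha'⟩ ⟨hb, hb'⟩
        refine ⟨Kq.mul_mem ha hb, ?_⟩
        have hc : Commute a b := hNab a ha b hb
        rw [hc.mul_pow, ha', hb', one_mul]
      one_mem' := ⟨Kq.one_mem, one_pow _⟩
      inv_mem' := by
        rintro a ⟨ha, ha'⟩
        exact ⟨Kq.inv_mem ha, by rw [inv_pow, ha', inv_one]⟩ }
  have hLmem : ∀ n : N ⧸ Z, n ∈ L ↔ n ∈ Kq ∧ n ^ p = 1 := fun n => Iff.rfl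
  have hLn : L.Normal := by
    constructor
    intro n hn g
    rw [hLmem] at hn ⊢
    refine ⟨hNn.conj_mem n hn.1 g, ?_⟩
    rw [conj_pow, hn.2, mul_one, mul_inv_cancel]
  have hLN : L ≤ Kq := fun n hn => hn.1
  have hyL : (y : N ⧸ Z) ∈ L := by
    rw [hLmem]
    refine ⟨y.2, ?_⟩
    have := pow_orderOf_eq_one y
    rw [hy] at this
    have := congrArg Subtype.val this
    simpa using this
  have hy1 : (y : N ⧸ Z) ≠ 1 := by
    intro e
    have : y = 1 := Subtype.ext e
    rw [this, orderOf_one] at hy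
    exact hp.one_lt.ne hy
  -- the preimage of `L` is invariant
  have hLinv : Inv Γ (L.comap π) := by
    intro g hg n hn
    have hn' : π n ∈ Kq ∧ π n ^ p = 1 := hn
    change π (g n) ∈ Kq ∧ π (g n) ^ p = 1
    refine ⟨hKinv g hg n hn'.1, ?_⟩
    rw [← map_pow, hπ1, ← map_pow]
    apply inv_center g hg
    rw [← hπ1, map_pow]
    exact hn'.2
  have hLH : L ⊔ H = ⊤ := by
    rcases h.le_or_sup_eq_top hLinv hx with h1 | h1
    · exfalso
      obtain ⟨n, hn⟩ := hπs (y : N ⧸ Z)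
      have h2 : n ∈ L.comap π := by
        change π n ∈ L
        rw [hn]; exact hyL
      have h3 : π n ∈ H := (hmem n).mpr (h1 h2)
      rw [hn] at h3
      exact hy1 (hdisj _ y.2 h3)
    · have h2 : (L.comap π ⊔ M).map π = ⊤ := by
        rw [← hM] at h1
        rw [h1]
        exact Subgroup.map_top_of_surjective _ hπs
      rw [Subgroup.map_sup, Subgroup.map_comap_eq_self_of_surjective hπs] at h2
      exact h2
  have hNL : Kq ≤ L := by
    intro n hn
    have hn' : n ∈ L ⊔ H := by rw [hLH]; exact mem_top n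
    obtain ⟨l, hl, h', hh', rfl⟩ := mem_sup_of_normal_left.mp hn'
    have h1 : h' ∈ Kq := by
      have := Kq.mul_mem (Kq.inv_mem (hLN hl)) hn
      rwa [inv_mul_cancel_left] at this
    have := hdisj h' h1 hh'
    rw [this, mul_one]
    exact hl
  have hNexp : ∀ n ∈ Kq, n ^ p = 1 := fun n hn => (hNL hn).2
  -- the complement has prime order
  have hHcard1 : Nat.card H ≠ 1 := fun e => hfrob.1 (Subgroup.card_eq_one.mp e)
  obtain ⟨q, hq, hqH⟩ := Nat.exists_prime_and_dvd hHcard1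
  have hqF : Fact q.Prime := ⟨hq⟩
  obtain ⟨b, hb⟩ := exists_prime_orderOf_dvd_card' q hqH
  have hb1 : (b : N ⧸ Z) ≠ 1 := by
    intro e
    have : b = 1 := Subtype.ext e
    rw [this, orderOf_one] at hb
    exact hq.one_lt.ne hb
  obtain ⟨h₀, hh₀⟩ := hπs (b : N ⧸ Z)
  have hh₀Z : h₀ ∉ Z := by
    intro e
    apply hb1
    rw [← hh₀, hπ1]
    exact e
  -- commutators lie in `K`
  have hcommK : ∀ a c : N, ⁅a, c⁆ ∈ K := by
    intro a c
    change π ⁅a, c⁆ ∈ Kq
    rw [map_commutatorElement]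
    have ha' : π a ∈ Kq ⊔ H := by rw [hNc.sup_eq_top]; exact mem_top _
    have hc' : π c ∈ Kq ⊔ H := by rw [hNc.sup_eq_top]; exact mem_top _
    obtain ⟨k₁, hk₁, h₁, hh₁, e₁⟩ := mem_sup_of_normal_left.mp ha'
    obtain ⟨k₂, hk₂, h₂, hh₂, e₂⟩ := mem_sup_of_normal_left.mp hc'
    rw [← QuotientGroup.eq_one_iff, ← QuotientGroup.mk'_apply, map_commutatorElement,
      commutatorElement_eq_one_iff_mul_comm, ← e₁, ← e₂, map_mul, map_mul]
    have hk₁' : (QuotientGroup.mk' Kq) k₁ = 1 := by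
      rw [QuotientGroup.mk'_apply, QuotientGroup.eq_one_iff]; exact hk₁
    have hk₂' : (QuotientGroup.mk' Kq) k₂ = 1 := by
      rw [QuotientGroup.mk'_apply, QuotientGroup.eq_one_iff]; exact hk₂
    rw [hk₁', hk₂', one_mul, one_mul, ← map_mul, ← map_mul, hHab h₁ hh₁ h₂ hh₂]
  set J := K ⊔ zpowers h₀ with hJ
  have hJinv : Inv Γ J := by
    intro g hg r hr
    have h1 : J.map g.toMonoidHom ≤ J := by
      rw [hJ, Subgroup.map_sup]
      apply sup_le
      · rintro _ ⟨a, ha, rfl⟩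
        exact le_sup_left (a := K) (hKinv g hg a ha)
      · rw [MonoidHom.map_zpowers, zpowers_le]
        change g h₀ ∈ _
        obtain ⟨n, hn⟩ := h.orbit h₀ hh₀Z g hg
        rw [hn]
        have e : n * h₀ * n⁻¹ = ⁅n, h₀⁆ * h₀ := by
          rw [commutatorElement_def]; group
        rw [e]
        exact mul_mem (le_sup_left (a := K) (hcommK n h₀))
          (le_sup_right (b := zpowers h₀) (mem_zpowers h₀))
    exact h1 ⟨r, hr, rfl⟩
  have hKJ : centralizer ({n₀} : Set N) ≤ J := by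
    rw [hcent n₀ hn₀K hn₀Z]
    exact le_sup_left
  have hJt : J = ⊤ := by
    by_contra ht
    have := h.max n₀ hn₀Z J hKJ (hJinv.invAt n₀) ht
    rw [hcent n₀ hn₀K hn₀Z] at this
    have h1 : h₀ ∈ K := by
      rw [← this]
      exact le_sup_right (b := zpowers h₀) (mem_zpowers h₀)
    have h2 : π h₀ ∈ Kq := h1
    rw [hh₀] at h2
    exact hb1 (hdisj _ h2 b.2)
  have hsup : Kq ⊔ zpowers (b : N ⧸ Z) = ⊤ := by
    have h2 : J.map π = ⊤ := by
      rw [hJt]
      exact Subgroup.map_top_of_surjective _ hπs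
    rw [hJ, Subgroup.map_sup, Subgroup.map_comap_eq_self_of_surjective hπs,
      MonoidHom.map_zpowers, hh₀] at h2
    exact h2
  have hHz : H ≤ zpowers (b : N ⧸ Z) := by
    intro c hc
    have hc' : c ∈ Kq ⊔ zpowers (b : N ⧸ Z) := by rw [hsup]; exact mem_top c
    obtain ⟨k, hk, z, hz, rfl⟩ := mem_sup_of_normal_left.mp hc'
    have hzH : z ∈ H := (zpowers_le.mpr b.2) hz
    have h1 : k ∈ H := by
      have := H.mul_mem hc (H.inv_mem hzH)
      rwa [mul_inv_cancel_right] at this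
    rw [hdisj k hk h1, one_mul]
    exact hz
  have hHeq : H = zpowers (b : N ⧸ Z) := le_antisymm hHz (zpowers_le.mpr b.2)
  have hHcard : Nat.card H = q := by
    rw [hHeq, Nat.card_zpowers, Subgroup.orderOf_coe, hb]
  refine ⟨H, Kq, p, hp, hfrob, ?_, hNn, hN, ?_, hNexp⟩
  · rw [hHcard]; exact hq
  · exact ⟨⟨fun a b => Subtype.ext (hNab a a.2 b b.2)⟩⟩

end Cfsg.Agent.Helper1.RelMaxCent
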