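import Mathlib
import Cfsg.Agent.Helper1.RelMaxCent2
import Cfsg.Agent.Helper6.MaxCentFrob

/-!
Relative maximal centralizers: if some noncentral centralizer is normal, then some
self-normalizing noncentral centralizer is abelian (or there is none).
-/

set_option autoImplicit false
set_option linter.unusedSectionVars false

namespace Cfsg.Agent.Helper1.RelMaxCent

open Subgroup
open scoped commutatorElement
open Cfsg.Agent.S4314 (mem_of_pow_mem_of_coprime normal_of_commutator_le)
open Cfsg.Agent.Helper6.MaxCent (mk_mem_map_iff)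

variable {N : Type*} [Group N] {Γ : Subgroup (MulAut N)}

/-- the `n`-torsion of a commutative subgroup -/
def torsionIn (L : Subgroup N) (hL : ∀ a ∈ L, ∀ b ∈ L, a * b = b * a) (n : ℕ) : Subgroup N where
  carrier := {l | l ∈ L ∧ l ^ n = 1}
  one_mem' := ⟨L.one_mem, one_pow _⟩
  mul_mem' := by
    rintro a b ⟨ha, ha'⟩ ⟨hb, hb'⟩
    refine ⟨L.mul_mem ha hb, ?_⟩
    have hc : Commute a b := hL a ha b hb
    rw [hc.mul_pow, ha', hb', one_mul]
  inv_mem' := by
    rintro a ⟨ha, ha'⟩
    exact ⟨L.inv_mem ha, by rw [inv_pow, ha', inv_one]⟩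

theorem mem_torsionIn {L : Subgroup N} {hL : ∀ a ∈ L, ∀ b ∈ L, a * b = b * a} {n : ℕ} {l : N} :
    l ∈ torsionIn L hL n ↔ l ∈ L ∧ l ^ n = 1 := Iff.rfl

theorem torsionIn_inv {L : Subgroup N} {hL : ∀ a ∈ L, ∀ b ∈ L, a * b = b * a} (n : ℕ)
    (hLinv : Inv Γ L) : Inv Γ (torsionIn L hL n) := by
  intro g hg l hl
  exact ⟨hLinv g hg l hl.1, by rw [← map_pow, hl.2, map_one]⟩

theorem torsionIn_normal {L : Subgroup N} {hL : ∀ a ∈ L, ∀ b ∈ L, a * b = b * a} (n : ℕ)
    (hLn : L.Normal) : (torsionIn L hL n).Normal :=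
  ⟨fun l hl g => ⟨hLn.conj_mem l hl.1 g, by rw [conj_pow, hl.2, mul_one, mul_inv_cancel]⟩⟩

theorem le_torsionIn_sup [Finite N] (L : Subgroup N) (hL : ∀ a ∈ L, ∀ b ∈ L, a * b = b * a)
    {a b : ℕ} (hcard : Nat.card N = a * b) (hco : a.Coprime b) :
    L ≤ torsionIn L hL a ⊔ torsionIn L hL b := by
  intro l hl
  refine mem_of_pow_mem_of_coprime _ (a := b) (b := a) ?_ ?_ hco.symm
  · apply le_sup_left (a := torsionIn L hL a)
    refine ⟨L.pow_mem hl _, ?_⟩
    rw [← pow_mul, mul_comm, ← hcard]
    exact pow_card_eq_one'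
  · apply le_sup_right (b := torsionIn L hL b)
    refine ⟨L.pow_mem hl _, ?_⟩
    rw [← pow_mul, ← hcard]
    exact pow_card_eq_one'

variable [Finite N]

/-- `N / ⟨u^N⟩` is nilpotent for noncentral `u` -/
theorem RelHyp.nilpotent_quotient_normalClosure (h : RelHyp Γ) {u : N} (hu : u ∉ center N) :
    Group.IsNilpotent (N ⧸ normalClosure ({u} : Set N)) := by
  obtain ⟨w, -, hw⟩ := SetLike.exists_of_lt (lt_top_iff_ne_top.mpr (ne_top_of_not_mem hu))
  have hwc : w ∉ center N := fun hc => hw (center_le_centralizer u hc)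
  have hsup := h.normalClosure_sup hu hw
  have hnil : Group.IsNilpotent (centralizer ({w} : Set N)) := h.nilpotent hwc
  let f : centralizer ({w} : Set N) →* N ⧸ normalClosure ({u} : Set N) :=
    (QuotientGroup.mk' (normalClosure ({u} : Set N))).comp (centralizer ({w} : Set N)).subtype
  refine Group.nilpotent_of_surjective f ?_
  intro q
  obtain ⟨n, rfl⟩ := QuotientGroup.mk_surjective q
  have hn' : n ∈ normalClosure ({u} : Set N) ⊔ centralizer ({w} : Set N) := by
    rw [hsup]; exact mem_top n
  obtain ⟨l, hl, c, hc, rfl⟩ := mem_sup_of_normal_left.mp hn'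
  refine ⟨⟨c, hc⟩, ?_⟩
  change ((c : N) : N ⧸ normalClosure ({u} : Set N)) = ((l * c : N) : N ⧸ normalClosure ({u} : Set N))
  rw [QuotientGroup.eq]
  have : c⁻¹ * (l * c) = c⁻¹ * l * c⁻¹⁻¹ := by group
  rw [this]
  exact normalClosure_normal.conj_mem _ hl _

/-- the normal closure of a noncentral element supplements every self-normalizing noncentral
centralizer -/
theorem RelHyp.normalClosure_sup_selfnorm (h : RelHyp Γ) {u y : N} (hu : u ∉ center N)
    (hy : y ∉ center N)
    (hsn : normalizer ((centralizer ({y} : Set N) : Subgroup N) : Set N) =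
      centralizer ({y} : Set N)) :
    normalClosure ({u} : Set N) ⊔ centralizer ({y} : Set N) = ⊤ := by
  rcases h.le_or_sup_eq_top (h.inv_normalClosure hu) hy with h1 | h1
  · exfalso
    set L := normalClosure ({u} : Set N) with hL
    set M := centralizer ({y} : Set N) with hM
    have hnil : Group.IsNilpotent (N ⧸ L) := h.nilpotent_quotient_normalClosure hu
    set π := QuotientGroup.mk' L with hπ
    have hmem : ∀ a : N, π a ∈ M.map π ↔ a ∈ M := fun a => mk_mem_map_iff h1 a
    have hself : normalizer ((M.map π : Subgroup (N ⧸ L)) : Set (N ⧸ L)) = M.map π := by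
      apply le_antisymm _ le_normalizer
      intro q hq
      obtain ⟨n, rfl⟩ := QuotientGroup.mk'_surjective L q
      rw [hmem, ← hsn, mem_normalizer_iff]
      intro c
      rw [mem_normalizer_iff] at hq
      have := hq (π c)
      rw [← map_inv, ← map_mul, ← map_mul, hmem, hmem] at this
      exact this
    have htop := normalizerCondition_iff_only_full_group_self_normalizing.mp
      Group.normalizerCondition_of_isNilpotent _ hself
    apply ne_top_of_not_mem hy
    rw [eq_top_iff]
    intro n _
    rw [← hmem, htop]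
    exact mem_top _
  · exact h1

/-- a normal `s`-subgroup cannot supplement a nonabelian self-normalizing centralizer of an
`s`-element -/
theorem RelHyp.sup_ne_top_of_pgroup (h : RelHyp Γ) {y : N} {s k : ℕ} (hs : s.Prime)
    (hy : y ∉ center N) (hord : orderOf y = s ^ k) (hna : ¬ AbelianCent y)
    (hsn : normalizer ((centralizer ({y} : Set N) : Subgroup N) : Set N) =
      centralizer ({y} : Set N))
    {R : Subgroup N} (hRn : R.Normal) {a : ℕ} (hR : ∀ r ∈ R, r ^ (s ^ a) = 1) :
    R ⊔ centralizer ({y} : Set N) ≠ ⊤ := by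
  intro ht
  have hsF : Fact s.Prime := ⟨hs⟩
  have hp : IsPGroup s (N ⧸ center N) := by
    intro q
    obtain ⟨n, rfl⟩ := QuotientGroup.mk_surjective q
    have hn : n ∈ R ⊔ centralizer ({y} : Set N) := by rw [ht]; exact mem_top n
    obtain ⟨r, hr, c, hc, rfl⟩ := mem_sup_of_normal_left.mp hn
    obtain ⟨j, hj⟩ := h.exists_pow_mem_center hs hy hord hna hc
    refine ⟨j + a, ?_⟩
    rw [← QuotientGroup.mk_pow, QuotientGroup.eq_one_iff]
    have h1 : (r * c) ^ (s ^ j) * (c ^ (s ^ j))⁻¹ ∈ R := by
      rw [← QuotientGroup.eq_one_iff, QuotientGroup.mk_mul, QuotientGroup.mk_inv,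
        QuotientGroup.mk_pow, QuotientGroup.mk_pow, QuotientGroup.mk_mul,
        (QuotientGroup.eq_one_iff r).mpr hr, one_mul, mul_inv_cancel]
    set r' := (r * c) ^ (s ^ j) * (c ^ (s ^ j))⁻¹ with hr'
    set z := c ^ (s ^ j) with hz
    have e1 : (r * c) ^ (s ^ j) = r' * z := by rw [hr', inv_mul_cancel_right]
    have hcm : Commute r' z := mem_center_iff.mp hj r'
    rw [pow_add, pow_mul, e1, hcm.mul_pow, hR r' h1, one_mul]
    exact (center N).pow_mem hj _
  have hnilq : Group.IsNilpotent (N ⧸ center N) := hp.isNilpotent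
  have hnil : Group.IsNilpotent N :=
    Subgroup.isNilpotent_of_ker_le_center (QuotientGroup.mk' (center N))
      (by rw [QuotientGroup.ker_mk'])
  have htop := normalizerCondition_iff_only_full_group_self_normalizing.mp
    Group.normalizerCondition_of_isNilpotent _ hsn
  exact ne_top_of_not_mem hy htop

/-- the normal closure of `u` is commutative when `C(u)` is normal -/
theorem normalClosure_comm {u : N} (hn : (centralizer ({u} : Set N)).Normal) :
    ∀ a ∈ normalClosure ({u} : Set N), ∀ b ∈ normalClosure ({u} : Set N), a * b = b * a := by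
  intro a ha b hb
  have h1 := normalClosure_le_centralizer hn ha
  have h2 := normalClosure_le_self_centralizer hn hb
  rw [mem_centralizer_iff] at h1
  exact (h1 b h2).symm

/-- the `s'`-part of the normal closure of `u` supplements nonabelian self-normalizing
centralizers of `s`-elements -/
theorem RelHyp.coprime_part_sup (h : RelHyp Γ) {u : N} (hu : u ∉ center N)
    (hun : (centralizer ({u} : Set N)).Normal) {s a m : ℕ} (hs : s.Prime)
    (hcard : Nat.card N = s ^ a * m) (hsm : ¬ s ∣ m) {y : N} {k : ℕ} (hy : y ∉ center N)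
    (hord : orderOf y = s ^ k) (hna : ¬ AbelianCent y)
    (hsn : normalizer ((centralizer ({y} : Set N) : Subgroup N) : Set N) =
      centralizer ({y} : Set N)) :
    torsionIn (normalClosure ({u} : Set N)) (normalClosure_comm hun) m ⊔
      centralizer ({y} : Set N) = ⊤ := by
  set L := normalClosure ({u} : Set N) with hL
  have hLinv : Inv Γ L := h.inv_normalClosure hu
  have hLn : L.Normal := normalClosure_normal
  have hsup := h.normalClosure_sup_selfnorm hu hy hsn
  have hco : (s ^ a).Coprime m :=
    Nat.Coprime.pow_left a ((Nat.Prime.coprime_iff_not_dvd hs).mpr hsm)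
  have hle := le_torsionIn_sup L (normalClosure_comm hun) hcard hco
  rcases h.le_or_sup_eq_top (torsionIn_inv (hL := normalClosure_comm hun) m hLinv) hy with h1 | h1
  · exfalso
    refine h.sup_ne_top_of_pgroup hs hy hord hna hsn
      (torsionIn_normal (hL := normalClosure_comm hun) (s ^ a) hLn) (a := a)
      (fun r hr => hr.2) ?_
    rw [eq_top_iff, ← hsup]
    apply sup_le _ le_sup_right
    refine hle.trans (sup_le le_sup_left (h1.trans le_sup_right))
  · exact h1

/-- the key step: a noncentral `s`-element `w` of `C(y)` with non-normal centralizer is central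
in `C(y)` -/
theorem RelHyp.centralizer_le_of_mem (h : RelHyp Γ)
    (hβ : ∀ y : N, y ∉ center N → ¬ (centralizer ({y} : Set N)).Normal → ¬ AbelianCent y)
    {u : N} (hu : u ∉ center N)
    (hun : (centralizer ({u} : Set N)).Normal) {s : ℕ} (hs : s.Prime)
    {y : N} {k : ℕ} (hy : y ∉ center N)
    (hord : orderOf y = s ^ k) (hyn : ¬ (centralizer ({y} : Set N)).Normal)
    {w : N} {i : ℕ} (hw : w ∈ centralizer ({y} : Set N)) (hwc : w ∉ center N)
    (hordw : orderOf w = s ^ i) (hwn : ¬ (centralizer ({w} : Set N)).Normal) :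
    centralizer ({y} : Set N) ≤ centralizer ({w} : Set N) := by
  obtain ⟨a, m, hsm, hcard⟩ :=
    Nat.exists_eq_pow_mul_and_not_dvd (Nat.card_pos (α := N)).ne' s hs.ne_one
  have hna := hβ y hy hyn
  have hnaw := hβ w hwc hwn
  have hsn := h.normalizer_eq hy hyn
  have hsnw := h.normalizer_eq hwc hwn
  set B := torsionIn (normalClosure ({u} : Set N)) (normalClosure_comm hun) m with hB
  have hBn : B.Normal := torsionIn_normal m normalClosure_normal
  have hBw : B ⊔ centralizer ({w} : Set N) = ⊤ :=
    h.coprime_part_sup hu hun hs hcard hsm hwc hordw hnaw hsnw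
  -- elements of `B` in `C(y)` are central
  have hBZ : ∀ b ∈ B, b ∈ centralizer ({y} : Set N) → b ∈ center N := by
    intro b hb hby
    refine h.mem_center_of_coprime hs hy hord hna hby ?_
    have hdvd : orderOf b ∣ m := orderOf_dvd_of_pow_eq_one hb.2
    exact Nat.Coprime.coprime_dvd_left hdvd ((Nat.Prime.coprime_iff_not_dvd hs).mpr hsm).symm
  -- `w` commutes with the `s`-elements of `C(y)`
  have hkey : ∀ g ∈ centralizer ({y} : Set N), ∀ e : ℕ, g ^ (s ^ e) = 1 →
      g ∈ centralizer ({w} : Set N) := by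
    intro g hg e hge
    have hg' : g ∈ B ⊔ centralizer ({w} : Set N) := by rw [hBw]; exact mem_top g
    obtain ⟨b, hb, c, hc, rfl⟩ := mem_sup_of_normal_left.mp hg'
    have hc' : ⁅w, c⁆ = 1 := (comm_eq_one_iff w c).mpr hc
    have e1 : ⁅w, b * c⁆ = ⁅w, b⁆ := by
      have : ⁅w, b * c⁆ = ⁅w, b⁆ * (b * ⁅w, c⁆ * b⁻¹) := by
        simp only [commutatorElement_def]; group
      rw [this, hc', mul_one, mul_inv_cancel, mul_one]
    set z := ⁅w, b * c⁆ with hz
    have hzB : z ∈ B := by
      rw [e1, commutatorElement_def]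
      exact B.mul_mem (hBn.conj_mem b hb w) (B.inv_mem hb)
    have hzy : z ∈ centralizer ({y} : Set N) := by
      rw [hz, commutatorElement_def]
      exact mul_mem (mul_mem (mul_mem hw hg) (inv_mem hw)) (inv_mem hg)
    have hzZ : z ∈ center N := hBZ z hzB hzy
    have e2 : w * (b * c) * w⁻¹ = z * (b * c) := by
      rw [hz, commutatorElement_def]; group
    have e3 : (w * (b * c) * w⁻¹) ^ (s ^ e) = 1 := by
      rw [conj_pow, hge, mul_one, mul_inv_cancel]
    have hcm : Commute z (b * c) := (mem_center_iff.mp hzZ _).symm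
    rw [e2, hcm.mul_pow, hge, mul_one] at e3
    have hz1 : z = 1 := by
      have h1 : orderOf z ∣ s ^ e := orderOf_dvd_of_pow_eq_one e3
      have h2 : orderOf z ∣ m := orderOf_dvd_of_pow_eq_one hzB.2
      have hco : (s ^ e).Coprime m :=
        Nat.Coprime.pow_left e ((Nat.Prime.coprime_iff_not_dvd hs).mpr hsm)
      exact orderOf_eq_one_iff.mp (Nat.eq_one_of_dvd_coprimes hco h1 h2)
    exact (comm_eq_one_iff w (b * c)).mp hz1
  intro g hg
  obtain ⟨e, l, hsl, hel⟩ :=
    Nat.exists_eq_pow_mul_and_not_dvd (orderOf_pos g).ne' s hs.ne_one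
  have h1 : g ^ l ∈ centralizer ({w} : Set N) := by
    refine hkey _ (Subgroup.pow_mem _ hg _) e ?_
    rw [← pow_mul, mul_comm, ← hel]
    exact pow_orderOf_eq_one g
  have h2 : g ^ (s ^ e) ∈ centralizer ({w} : Set N) := by
    apply center_le_centralizer w
    refine h.mem_center_of_coprime hs hy hord hna (Subgroup.pow_mem _ hg _) ?_
    have hse0 : s ^ e ≠ 0 := pow_ne_zero _ hs.ne_zero
    have hordl : orderOf (g ^ (s ^ e)) = l := by
      rw [orderOf_pow_of_dvd hse0 (by rw [hel]; exact Dvd.intro _ rfl), hel]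
      exact Nat.mul_div_cancel_left _ (Nat.pos_of_ne_zero hse0)
    rw [hordl]
    exact ((Nat.Prime.coprime_iff_not_dvd hs).mpr hsl).symm
  exact mem_of_pow_mem_of_coprime _ h1 h2
    (Nat.Coprime.pow_right e ((Nat.Prime.coprime_iff_not_dvd hs).mpr hsl).symm)

/-- if some noncentral centralizer is normal and every non-normal noncentral centralizer is
nonabelian, then all noncentral centralizers are normal -/
theorem RelHyp.false_of_normal_of_nonabelian (h : RelHyp Γ)
    (hβ : ∀ y : N, y ∉ center N → ¬ (centralizer ({y} : Set N)).Normal → ¬ AbelianCent y)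
    {u : N} (hu : u ∉ center N) (hun : (centralizer ({u} : Set N)).Normal)
    {y₀ : N} (hy₀ : y₀ ∉ center N) (hyn₀ : ¬ (centralizer ({y₀} : Set N)).Normal) : False := by
  obtain ⟨j, s, k, hs, hord, hy, hC⟩ := h.exists_primePow hy₀
  set y := y₀ ^ j with hydef
  have hyn : ¬ (centralizer ({y} : Set N)).Normal := by rw [hC]; exact hyn₀
  have hna := hβ y hy hyn
  set D := centralizer ((_root_.commutator N : Subgroup N) : Set N) with hD
  have hDmem : ∀ w : N, _root_.commutator N ≤ centralizer ({w} : Set N) → w ∈ D := by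
    intro w hw
    rw [hD, mem_centralizer_iff]
    intro c hc
    have := hw hc
    rw [mem_centralizer_singleton_iff] at this
    exact this
  have hZD : center N ≤ D := by
    intro z hz
    apply hDmem
    rw [(Cfsg.Agent.S4314.centralizer_singleton_eq_top_iff z).mpr hz]
    exact le_top
  have hyD : y ∉ D := by
    intro hyD
    apply hyn
    apply normal_of_commutator_le
    intro c hc
    rw [hD, mem_centralizer_iff] at hyD
    rw [mem_centralizer_singleton_iff]
    exact hyD c hc
  -- every element of `C(y)` lies in `D` or is central in `C(y)`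
  have hdich : ∀ w ∈ centralizer ({y} : Set N),
      w ∈ D ∨ centralizer ({y} : Set N) ≤ centralizer ({w} : Set N) := by
    intro w hw
    obtain ⟨e, l, hsl, hel⟩ :=
      Nat.exists_eq_pow_mul_and_not_dvd (orderOf_pos w).ne' s hs.ne_one
    have hse0 : s ^ e ≠ 0 := pow_ne_zero _ hs.ne_zero
    have hl0 : l ≠ 0 := by
      rintro rfl
      exact hsl (dvd_zero s)
    have hcop : l.Coprime (s ^ e) :=
      Nat.Coprime.pow_right e ((Nat.Prime.coprime_iff_not_dvd hs).mpr hsl).symm
    have hord1 : orderOf (w ^ l) = s ^ e := by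
      rw [orderOf_pow_of_dvd hl0 (by rw [hel]; exact Dvd.intro_left _ rfl), hel]
      exact Nat.mul_div_cancel _ (Nat.pos_of_ne_zero hl0)
    have hord2 : orderOf (w ^ (s ^ e)) = l := by
      rw [orderOf_pow_of_dvd hse0 (by rw [hel]; exact Dvd.intro _ rfl), hel]
      exact Nat.mul_div_cancel_left _ (Nat.pos_of_ne_zero hse0)
    have hw2 : w ^ (s ^ e) ∈ center N := by
      refine h.mem_center_of_coprime hs hy hord hna (Subgroup.pow_mem _ hw _) ?_
      rw [hord2]
      exact ((Nat.Prime.coprime_iff_not_dvd hs).mpr hsl).symm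
    by_cases hw1 : w ^ l ∈ center N
    · right
      have : w ∈ center N := mem_of_pow_mem_of_coprime _ hw1 hw2 hcop
      rw [(Cfsg.Agent.S4314.centralizer_singleton_eq_top_iff w).mpr this]
      exact le_top
    · by_cases hn1 : (centralizer ({w ^ l} : Set N)).Normal
      · left
        have h1 : w ^ l ∈ D := hDmem _ (h.commutator_le hw1 hn1)
        exact mem_of_pow_mem_of_coprime _ h1 (hZD hw2) hcop
      · right
        have h1 := h.centralizer_le_of_mem hβ hu hun hs hy hord hyn
          (Subgroup.pow_mem _ hw l) hw1 hord1 hn1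
        intro c hc
        have h2 : w ^ l ∈ centralizer ({c} : Set N) := by
          have := h1 hc
          rw [mem_centralizer_singleton_iff] at this ⊢
          exact this.symm
        have h3 : w ^ (s ^ e) ∈ centralizer ({c} : Set N) := center_le_centralizer c hw2
        have h4 : w ∈ centralizer ({c} : Set N) := mem_of_pow_mem_of_coprime _ h2 h3 hcop
        rw [mem_centralizer_singleton_iff] at h4 ⊢
        exact h4.symm
  -- `y ∉ D`, so `y` is central in `C(y)` (of course); find noncommuting pair
  have hex : ∃ b ∈ centralizer ({y} : Set N), ∃ c ∈ centralizer ({y} : Set N), b * c ≠ c * b := by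
    by_contra hcon
    push Not at hcon
    exact hna (fun a ha b hb => hcon a ha b hb)
  obtain ⟨b, hb, c, hc, hbc⟩ := hex
  have hbD : b ∈ D := by
    rcases hdich b hb with h1 | h1
    · exact h1
    · exfalso
      apply hbc
      have := h1 hc
      rw [mem_centralizer_singleton_iff] at this
      exact this.symm
  have hyb : y * b ∈ centralizer ({y} : Set N) := mul_mem (self_mem_centralizer y) hb
  rcases hdich (y * b) hyb with h1 | h1
  · apply hyD
    have := D.mul_mem h1 (D.inv_mem hbD)
    rwa [mul_inv_cancel_right] at this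
  · apply hbc
    have h2 := h1 hc
    rw [mem_centralizer_singleton_iff] at h2 hc
    -- c * (y * b) = (y * b) * c and c * y = y * c
    have h3 : y * (c * b) = y * (b * c) := by
      rw [← mul_assoc, ← hc, mul_assoc, h2, mul_assoc]
    exact (mul_left_cancel h3).symm

end Cfsg.Agent.Helper1.RelMaxCent
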