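import Mathlib
import Cfsg.Agent.Helper1.RelMaxCent1
import Cfsg.Agent.Helper6.MaxCentCount
import Cfsg.Agent.Helper1.SylowBasic

/-!
Relative maximal centralizers: the counting argument excluding the case where every noncentral
centralizer is self-normalizing and nonabelian (after the argument of `Helper6.MaxCentCount`).
-/

set_option autoImplicit false
set_option linter.unusedSectionVars false

namespace Cfsg.Agent.Helper1.RelMaxCent

open Subgroup
open Cfsg.Agent.S4314 (cen mem_of_pow_mem_of_coprime exists_mem_normalizer_not_mem)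
open Cfsg.Agent.Helper6.MaxCent (mk_mem_map_iff E sum_inv_sq_le)

variable {N : Type*} [Group N] {Γ : Subgroup (MulAut N)}

/-- the standing assumptions of the final case -/
structure CaseC (Γ : Subgroup (MulAut N)) : Prop where
  hyp : RelHyp Γ
  nnorm : ∀ x : N, x ∉ center N → ¬ (centralizer ({x} : Set N)).Normal
  nna : ∀ x : N, x ∉ center N → ¬ AbelianCent x
  ncomm : ∃ y : N, y ∉ center N

/-- in case C the image of `C(x)` in `N / Z(N)` is a Sylow subgroup -/
theorem CaseC.exists_sylow [Finite N] (c : CaseC Γ) {x : N} {s k : ℕ} (hs : s.Prime)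
    (hx : x ∉ center N) (hord : orderOf x = s ^ k) :
    ∃ P : Sylow s (N ⧸ center N), ∀ a : N,
      (QuotientGroup.mk' (center N)) a ∈ (P : Subgroup (N ⧸ center N)) ↔
        a ∈ centralizer ({x} : Set N) := by
  set M := centralizer ({x} : Set N) with hM
  set π := QuotientGroup.mk' (center N) with hπ
  have hsF : Fact s.Prime := ⟨hs⟩
  have hZM : center N ≤ M := center_le_centralizer x
  have hmem : ∀ a : N, π a ∈ M.map π ↔ a ∈ M := fun a => mk_mem_map_iff hZM a
  have hsn : normalizer ((M : Subgroup N) : Set N) = M := c.hyp.normalizer_eq hx (c.nnorm x hx)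
  have hp : IsPGroup s (M.map π) := by
    rintro ⟨a', ha'⟩
    obtain ⟨a, ha, rfl⟩ := ha'
    obtain ⟨j, hj⟩ := c.hyp.exists_pow_mem_center hs hx hord (c.nna x hx) ha
    refine ⟨j, ?_⟩
    apply Subtype.ext
    rw [Subgroup.coe_pow, Subgroup.coe_one]
    change π a ^ (s ^ j) = 1
    rw [← map_pow, hπ, QuotientGroup.mk'_apply, QuotientGroup.eq_one_iff]
    exact hj
  obtain ⟨P, hP⟩ := hp.exists_le_sylow
  have hle : (P : Subgroup (N ⧸ center N)) ≤ M.map π := by
    by_contra hnle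
    have hlt : M.map π < (P : Subgroup (N ⧸ center N)) :=
      lt_of_le_of_ne hP (fun e => hnle (le_of_eq e.symm))
    obtain ⟨t, -, htn, htM⟩ := exists_mem_normalizer_not_mem (P.isPGroup'.isNilpotent) hlt
    obtain ⟨n, rfl⟩ := QuotientGroup.mk'_surjective (center N) t
    apply htM
    rw [hmem, ← hsn, mem_normalizer_iff]
    intro d
    rw [mem_normalizer_iff] at htn
    have := htn (π d)
    rw [← map_inv, ← map_mul, ← map_mul, hmem, hmem] at this
    exact this
  refine ⟨P, fun a => ?_⟩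
  rw [← hmem]
  exact ⟨fun h1 => hle h1, fun h1 => hP h1⟩

/-- in case C the centralizers of noncentral `s`-elements are conjugate -/
theorem CaseC.conj [Finite N] (c : CaseC Γ) {x₁ x₂ : N} {s k₁ k₂ : ℕ} (hs : s.Prime)
    (hx₁ : x₁ ∉ center N) (hord₁ : orderOf x₁ = s ^ k₁)
    (hx₂ : x₂ ∉ center N) (hord₂ : orderOf x₂ = s ^ k₂) :
    ∃ g : N, ∀ m : N, m ∈ centralizer ({x₂} : Set N) ↔
      g⁻¹ * m * g ∈ centralizer ({x₁} : Set N) := by
  have : Fact s.Prime := ⟨hs⟩
  obtain ⟨P₁, h₁⟩ := c.exists_sylow hs hx₁ hord₁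
  obtain ⟨P₂, h₂⟩ := c.exists_sylow hs hx₂ hord₂
  obtain ⟨g', hg'⟩ := MulAction.exists_smul_eq (N ⧸ center N) P₁ P₂
  obtain ⟨g, rfl⟩ := QuotientGroup.mk'_surjective _ g'
  refine ⟨g, fun m => ?_⟩
  rw [← h₂, ← h₁, ← hg', Sylow.coe_subgroup_smul, Cfsg.Agent.Helper1.mem_conj_smul_iff,
    map_mul, map_mul, map_inv]

theorem RelHyp.E_pow [Finite N] (h : RelHyp Γ) {s : ℕ} (hs : s.Prime) {w : N} (hw : w ∈ E N s) :
    ∃ l a : ℕ, orderOf (w ^ l) = s ^ a ∧ w ^ l ∉ center N ∧
      centralizer ({w ^ l} : Set N) = centralizer ({w} : Set N) := by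
  obtain ⟨hwc, j, hj⟩ := hw
  obtain ⟨a, l, hsl, hal⟩ := Nat.exists_eq_pow_mul_and_not_dvd (orderOf_pos w).ne' s hs.ne_one
  have hl0 : l ≠ 0 := by
    rintro rfl
    exact hsl (dvd_zero s)
  have hord : orderOf (w ^ l) = s ^ a := by
    rw [orderOf_pow_of_dvd hl0 (by rw [hal]; exact Dvd.intro_left _ rfl), hal]
    exact Nat.mul_div_cancel _ (Nat.pos_of_ne_zero hl0)
  have hnc : w ^ l ∉ center N := by
    intro hc
    apply hwc
    exact mem_of_pow_mem_of_coprime (center N) hc hj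
      (Nat.Coprime.pow_right j ((Nat.Prime.coprime_iff_not_dvd hs).mpr hsl).symm)
  exact ⟨l, a, hord, hnc, h.pow_centralizer_eq hnc⟩

theorem RelHyp.card_cen_mul_sq_le [Finite N] (h : RelHyp Γ) {x : N} {s k : ℕ} (hs : s.Prime)
    (hx : x ∉ center N) (hord : orderOf x = s ^ k) (hna : ¬ AbelianCent x) :
    Nat.card (cen (centralizer ({x} : Set N))) * s ^ 2 ≤
      Nat.card (centralizer ({x} : Set N)) := by
  set M := centralizer ({x} : Set N) with hM
  have : Fact s.Prime := ⟨hs⟩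
  have hp := h.isPGroup_quotient_cen hs hx hord
  obtain ⟨n, hn⟩ := IsPGroup.iff_card.mp hp
  have hcard : Nat.card M =
      Nat.card (M ⧸ (cen M).subgroupOf M) * Nat.card ((cen M).subgroupOf M) :=
    Subgroup.card_eq_card_quotient_mul_card_subgroup _
  have hcen : Nat.card ((cen M).subgroupOf M) = Nat.card (cen M) :=
    Nat.card_congr (Subgroup.subgroupOfEquivOfLe (inf_le_left)).toEquiv
  have hn2 : 2 ≤ n := by
    by_contra hlt
    apply hna
    have hcyc : IsCyclic (M ⧸ (cen M).subgroupOf M) := by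
      have hn' : n = 0 ∨ n = 1 := by omega
      rcases hn' with rfl | rfl
      · rw [pow_zero] at hn
        have : Subsingleton (M ⧸ (cen M).subgroupOf M) :=
          (Nat.card_eq_one_iff_unique.mp hn).1
        exact isCyclic_of_subsingleton
      · rw [pow_one] at hn
        exact isCyclic_of_prime_card (p := s) hn
    have hcomm := (QuotientGroup.mk' ((cen M).subgroupOf M)).isMulCommutative_of_isCyclic_of_ker_le_center
      (by rw [QuotientGroup.ker_mk']; exact cen_subgroupOf_le_center M)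
    intro a ha b hb
    have := hcomm.is_comm.comm (⟨a, ha⟩ : M) ⟨b, hb⟩
    exact congrArg Subtype.val this
  rw [hcard, hn, hcen, mul_comm]
  exact Nat.mul_le_mul_right _ (Nat.pow_le_pow_right hs.pos hn2)

theorem CaseC.card_E_le [Finite N] (c : CaseC Γ) {s : ℕ} (hs : s.Prime) :
    (E N s).ncard * s ^ 2 ≤ Nat.card N := by
  by_cases hE : (E N s) = ∅
  · rw [hE, Set.ncard_empty, zero_mul]
    exact Nat.zero_le _
  obtain ⟨w₀, hw₀⟩ := Set.nonempty_iff_ne_empty.mpr hE
  obtain ⟨l₀, a₀, hord₀, hnc₀, hC₀⟩ := c.hyp.E_pow hs hw₀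
  set x₀ := w₀ ^ l₀ with hx₀
  set M₀ := centralizer ({x₀} : Set N) with hM₀
  let ψ : (N ⧸ M₀) × cen M₀ → N := fun p => p.1.out * (p.2 : N) * (p.1.out)⁻¹
  have hsub : E N s ⊆ Set.range ψ := by
    intro w hw
    obtain ⟨l, a, hord, hnc, hC⟩ := c.hyp.E_pow hs hw
    obtain ⟨g, hg⟩ := c.conj hs hnc₀ hord₀ hnc hord
    rw [hC] at hg
    have hw1 : g⁻¹ * w * g ∈ M₀ := (hg w).mp (self_mem_centralizer w)
    have hw2 : g⁻¹ * w * g ∈ cen M₀ := by
      refine mem_inf.mpr ⟨hw1, ?_⟩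
      rw [mem_centralizer_iff]
      intro m hm
      have h1 : g * m * g⁻¹ ∈ centralizer ({w} : Set N) := by
        apply (hg _).mpr
        have : g⁻¹ * (g * m * g⁻¹) * g = m := by group
        rw [this]
        exact hm
      rw [mem_centralizer_singleton_iff] at h1
      calc m * (g⁻¹ * w * g) = g⁻¹ * (g * m * g⁻¹ * w) * g := by group
        _ = g⁻¹ * (w * (g * m * g⁻¹)) * g := by rw [h1]
        _ = g⁻¹ * w * g * m := by group
    obtain ⟨m, hm⟩ := QuotientGroup.mk_out_eq_mul M₀ g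
    refine ⟨((g : N ⧸ M₀), ⟨g⁻¹ * w * g, hw2⟩), ?_⟩
    change (g : N ⧸ M₀).out * (g⁻¹ * w * g) * ((g : N ⧸ M₀).out)⁻¹ = w
    rw [hm]
    have hcm : (m : N) * (g⁻¹ * w * g) = (g⁻¹ * w * g) * m :=
      (mem_centralizer_iff.mp (mem_inf.mp hw2).2) m m.2
    calc g * m * (g⁻¹ * w * g) * (g * m)⁻¹ = g * (m * (g⁻¹ * w * g)) * (m : N)⁻¹ * g⁻¹ := by group
      _ = g * ((g⁻¹ * w * g) * m) * (m : N)⁻¹ * g⁻¹ := by rw [hcm]
      _ = w := by group
  have h1 : (E N s).ncard ≤ Nat.card ((N ⧸ M₀) × cen M₀) := by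
    calc (E N s).ncard ≤ (Set.range ψ).ncard := Set.ncard_le_ncard hsub
      _ = (ψ '' Set.univ).ncard := by rw [Set.image_univ]
      _ ≤ (Set.univ : Set ((N ⧸ M₀) × cen M₀)).ncard := Set.ncard_image_le
      _ = Nat.card ((N ⧸ M₀) × cen M₀) := Set.ncard_univ _
  rw [Nat.card_prod] at h1
  have h2 := c.hyp.card_cen_mul_sq_le hs hnc₀ hord₀ (c.nna x₀ hnc₀)
  calc (E N s).ncard * s ^ 2 ≤ (Nat.card (N ⧸ M₀) * Nat.card (cen M₀)) * s ^ 2 :=
        Nat.mul_le_mul_right _ h1
    _ = Nat.card (N ⧸ M₀) * (Nat.card (cen M₀) * s ^ 2) := by ring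
    _ ≤ Nat.card (N ⧸ M₀) * Nat.card M₀ := Nat.mul_le_mul_left _ h2
    _ = Nat.card N := (Subgroup.card_eq_card_quotient_mul_card_subgroup M₀).symm

theorem CaseC.cover [Finite N] (c : CaseC Γ) :
    ((center N : Set N))ᶜ ⊆ ⋃ s ∈ (Nat.card N).primeFactors, E N s := by
  intro g hg
  have hg' : g ∉ center N := hg
  obtain ⟨j, s, k, hs, hord, hx, hC⟩ := c.hyp.exists_primePow hg'
  have hgM : g ∈ centralizer ({g ^ j} : Set N) := by
    rw [hC]
    exact self_mem_centralizer g
  obtain ⟨j', hj'⟩ := c.hyp.exists_pow_mem_center hs hx hord (c.nna _ hx) hgM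
  have hk : k ≠ 0 := by
    rintro rfl
    rw [pow_zero, orderOf_eq_one_iff] at hord
    apply hx
    rw [hord]
    exact one_mem _
  have hdvd : s ∣ Nat.card N := by
    have h1 : s ^ k ∣ Nat.card N := hord ▸ orderOf_dvd_natCard _
    exact dvd_trans (dvd_pow_self s hk) h1
  rw [Set.mem_iUnion₂]
  refine ⟨s, ?_, hg', j', hj'⟩
  rw [Nat.mem_primeFactors]
  exact ⟨hs, hdvd, Nat.card_pos.ne'⟩

theorem CaseC.false [Finite N] (c : CaseC Γ) : False := by
  classical
  set n := Nat.card N with hn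
  set z := Nat.card (center N) with hz
  have hnz : n = Nat.card (N ⧸ center N) * z :=
    Subgroup.card_eq_card_quotient_mul_card_subgroup _
  have hq4 : 4 ≤ Nat.card (N ⧸ center N) := by
    by_contra hlt
    have hpos : 0 < Nat.card (N ⧸ center N) := Nat.card_pos
    have hcyc : IsCyclic (N ⧸ center N) := by
      have hcases : Nat.card (N ⧸ center N) = 1 ∨ Nat.card (N ⧸ center N) = 2 ∨
          Nat.card (N ⧸ center N) = 3 := by omega
      rcases hcases with e | e | e
      · have : Subsingleton (N ⧸ center N) := (Nat.card_eq_one_iff_unique.mp e).1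
        exact isCyclic_of_subsingleton
      · have : Fact (Nat.Prime 2) := ⟨Nat.prime_two⟩
        exact isCyclic_of_prime_card (p := 2) e
      · have : Fact (Nat.Prime 3) := ⟨Nat.prime_three⟩
        exact isCyclic_of_prime_card (p := 3) e
    obtain ⟨y, hy⟩ := c.ncomm
    apply hy
    rw [mem_center_iff]
    intro g
    have hcm := (QuotientGroup.mk' (center N)).isMulCommutative_of_isCyclic_of_ker_le_center
      (by rw [QuotientGroup.ker_mk'])
    exact hcm.is_comm.comm g y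
  have hzpos : 0 < z := Nat.card_pos
  have h4 : 4 * z ≤ n := by
    rw [hnz]
    exact Nat.mul_le_mul_right _ hq4
  have hcount : n - z ≤ ∑ s ∈ n.primeFactors, (E N s).ncard := by
    calc n - z = (((center N : Set N))ᶜ).ncard := by
          rw [Set.ncard_compl, hn, hz]
          rfl
      _ ≤ (⋃ s ∈ n.primeFactors, E N s).ncard := Set.ncard_le_ncard c.cover
      _ ≤ _ := Finset.set_ncard_biUnion_le _ _
  have hn2 : 2 ≤ n := by omega
  have hnpos : (0 : ℚ) < n := by exact_mod_cast (by omega : 0 < n)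
  have hbound : ∀ s ∈ n.primeFactors, ((E N s).ncard : ℚ) ≤ n * (1 / (s : ℚ) ^ 2) := by
    intro s hs
    have hsp : s.Prime := Nat.prime_of_mem_primeFactors hs
    have h1 := c.card_E_le hsp
    have h2 : ((E N s).ncard : ℚ) * (s : ℚ) ^ 2 ≤ n := by exact_mod_cast h1
    have hs0 : (0 : ℚ) < (s : ℚ) ^ 2 := by
      have : (0 : ℚ) < s := by exact_mod_cast hsp.pos
      positivity
    rw [mul_one_div, le_div_iff₀ hs0]
    exact h2
  have hsub : n.primeFactors ⊆ Finset.Icc 2 n := by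
    intro s hs
    rw [Finset.mem_Icc]
    have hsp : s.Prime := Nat.prime_of_mem_primeFactors hs
    exact ⟨hsp.two_le, Nat.le_of_dvd (by omega) (Nat.dvd_of_mem_primeFactors hs)⟩
  have hsum : ((n - z : ℕ) : ℚ) ≤ n * (3 / 4 - 1 / n) := by
    calc ((n - z : ℕ) : ℚ) ≤ ((∑ s ∈ n.primeFactors, (E N s).ncard : ℕ) : ℚ) := by
          exact_mod_cast hcount
      _ = ∑ s ∈ n.primeFactors, ((E N s).ncard : ℚ) := by push_cast; rfl
      _ ≤ ∑ s ∈ n.primeFactors, (n : ℚ) * (1 / (s : ℚ) ^ 2) := Finset.sum_le_sum hbound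
      _ = n * ∑ s ∈ n.primeFactors, 1 / (s : ℚ) ^ 2 := by rw [Finset.mul_sum]
      _ ≤ n * ∑ s ∈ Finset.Icc 2 n, 1 / (s : ℚ) ^ 2 := by
          apply mul_le_mul_of_nonneg_left _ hnpos.le
          apply Finset.sum_le_sum_of_subset_of_nonneg hsub
          intro i _ _
          positivity
      _ ≤ n * (3 / 4 - 1 / n) := mul_le_mul_of_nonneg_left (sum_inv_sq_le n hn2) hnpos.le
  have hcast : ((n - z : ℕ) : ℚ) = (n : ℚ) - z := by
    rw [Nat.cast_sub (by omega)]
  rw [hcast, mul_sub, mul_one_div, div_self hnpos.ne'] at hsum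
  have h4' : (4 : ℚ) * z ≤ n := by exact_mod_cast h4
  linarith

end Cfsg.Agent.Helper1.RelMaxCent
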