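import Mathlib
import Cfsg.Prelude.Def_Transfer
import Cfsg.Agent.Helper1.RelMaxCent2
import Cfsg.Agent.Helper1.RelMaxCent3
import Cfsg.Agent.Helper1.RelMaxCent4
import Cfsg.Agent.Helper1.RelMaxCent5

/-!
Relative maximal centralizers: the main theorem, and the derivation of the relative hypothesis
from a normal subgroup all of whose noncentral elements have maximal centralizers in the whole
group.
-/

set_option autoImplicit false
set_option linter.unusedSectionVars false

namespace Cfsg.Agent.Helper1.RelMaxCent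

open Subgroup

/-- the main structure theorem under the relative hypothesis -/
theorem RelHyp.main {N : Type*} [Group N] [Finite N] {Γ : Subgroup (MulAut N)} (h : RelHyp Γ) :
    (∃ p : ℕ, p.Prime ∧ Cfsg.IsElementaryAbelian p (⊤ : Subgroup (N ⧸ center N))) ∨
    (∃ (Q K : Subgroup (N ⧸ center N)) (p : ℕ), p.Prime ∧ Cfsg.IsFrobeniusComplement Q ∧
      (Nat.card ↥Q).Prime ∧ K.Normal ∧ (K : Set (N ⧸ center N)) = Cfsg.frobeniusKernel Q ∧
      Cfsg.IsElementaryAbelian p K) := by
  by_cases hall : ∀ u : N, u ∉ center N → (centralizer ({u} : Set N)).Normal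
  · left
    obtain ⟨p, hp, hcomm, hexp⟩ := h.elementary_of_all_normal hall
    refine ⟨p, hp, ⟨⟨fun a b => Subtype.ext (hcomm a b)⟩⟩, fun a _ => hexp a⟩
  · push Not at hall
    obtain ⟨y, hy, hyn⟩ := hall
    by_cases hα : ∃ y : N, y ∉ center N ∧ ¬ (centralizer ({y} : Set N)).Normal ∧ AbelianCent y
    · right
      obtain ⟨y, hy, hyn, hab⟩ := hα
      obtain ⟨Q, K, p, hp, hQ, hQc, hKn, hK, hKe⟩ :=
        h.frobenius_structure hy (h.normalizer_eq hy hyn) hab
      exact ⟨Q, K, p, hp, hQ, hQc, hKn, hK, hKe⟩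
    · exfalso
      have hβ : ∀ y : N, y ∉ center N → ¬ (centralizer ({y} : Set N)).Normal →
          ¬ AbelianCent y := fun y hy hyn hab => hα ⟨y, hy, hyn, hab⟩
      by_cases hN : ∃ u : N, u ∉ center N ∧ (centralizer ({u} : Set N)).Normal
      · obtain ⟨u, hu, hun⟩ := hN
        exact h.false_of_normal_of_nonabelian hβ hu hun hy hyn
      · have hnn : ∀ x : N, x ∉ center N → ¬ (centralizer ({x} : Set N)).Normal :=
          fun x hx hxn => hN ⟨x, hx, hxn⟩
        exact CaseC.false ⟨h, hnn, fun x hx => hβ x hx (hnn x hx), ⟨y, hy⟩⟩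

/-- the relative hypothesis holds for a normal subgroup all of whose noncentral elements have
maximal centralizers in the ambient group -/
theorem relHyp_of_coatom {G : Type*} [Group G] (N : Subgroup G) [hN : N.Normal]
    (h : ∀ x : G, x ∈ N → x ∉ centralizer (N : Set G) →
      IsCoatom (centralizer ({x} : Set G))) :
    RelHyp ((MulAut.conjNormal (H := N)).range) := by
  have hnc : ∀ u : N, u ∉ center N → (u : G) ∉ centralizer (N : Set G) := by
    intro u hu hc
    apply hu
    rw [mem_center_iff]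
    intro g
    rw [mem_centralizer_iff] at hc
    exact Subtype.ext (hc g g.2)
  have hfac : ∀ u : N, u ∉ center N → ∀ a : G,
      ∃ n : N, ∃ m ∈ centralizer ({(u : G)} : Set G), a = n * m := by
    intro u hu a
    have hco := h u u.2 (hnc u hu)
    have hsup : N ⊔ centralizer ({(u : G)} : Set G) = ⊤ := by
      apply hco.2
      apply lt_of_le_of_ne le_sup_right
      intro e
      apply hnc u hu
      rw [mem_centralizer_iff]
      intro g hg
      have hg' : g ∈ centralizer ({(u : G)} : Set G) := by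
        rw [e]
        exact le_sup_left (a := N) hg
      rw [mem_centralizer_singleton_iff] at hg'
      exact hg'
    have ha : a ∈ N ⊔ centralizer ({(u : G)} : Set G) := by rw [hsup]; exact mem_top a
    obtain ⟨n, hn, m, hm, rfl⟩ := mem_sup_of_normal_left.mp ha
    exact ⟨⟨n, hn⟩, m, hm, rfl⟩
  refine ⟨?_, ?_, ?_⟩
  · intro n
    exact ⟨(n : G), MulAut.conjNormal_val⟩
  · rintro u hu _ ⟨a, rfl⟩
    obtain ⟨n, m, hm, rfl⟩ := hfac u hu a
    refine ⟨n, ?_⟩
    apply Subtype.ext
    rw [MulAut.conjNormal_apply]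
    simp only [Subgroup.coe_mul, Subgroup.coe_inv]
    rw [mem_centralizer_singleton_iff] at hm
    calc (n : G) * m * u * ((n : G) * m)⁻¹ = n * (m * u * m⁻¹) * (n : G)⁻¹ := by group
      _ = n * u * (n : G)⁻¹ := by rw [hm, mul_inv_cancel_right]
  · intro u hu J hCJ hJinv hJt
    set M := centralizer ({(u : G)} : Set G) with hM
    have hco := h u u.2 (hnc u hu)
    -- `M` normalizes `J`
    have hnorm : ∀ m ∈ M, ∀ j : N, j ∈ J → ∃ j' : N, j' ∈ J ∧ (j' : G) = m * j * m⁻¹ := by
      intro m hm j hj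
      refine ⟨MulAut.conjNormal m j, ?_, MulAut.conjNormal_apply m j⟩
      refine hJinv _ ⟨m, rfl⟩ ?_ j hj
      apply Subtype.ext
      rw [MulAut.conjNormal_apply]
      rw [hM, mem_centralizer_singleton_iff] at hm
      rw [hm, mul_inv_cancel_right]
    let T : Subgroup G :=
      { carrier := {g | ∃ j : N, j ∈ J ∧ ∃ m ∈ M, g = j * m}
        one_mem' := ⟨1, J.one_mem, 1, M.one_mem, by simp⟩
        mul_mem' := by
          rintro _ _ ⟨j₁, hj₁, m₁, hm₁, rfl⟩ ⟨j₂, hj₂, m₂, hm₂, rfl⟩
          obtain ⟨j', hj', e⟩ := hnorm m₁ hm₁ j₂ hj₂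
          refine ⟨j₁ * j', J.mul_mem hj₁ hj', m₁ * m₂, M.mul_mem hm₁ hm₂, ?_⟩
          rw [Subgroup.coe_mul, e]
          group
        inv_mem' := by
          rintro _ ⟨j, hj, m, hm, rfl⟩
          obtain ⟨j', hj', e⟩ := hnorm m⁻¹ (M.inv_mem hm) j⁻¹ (J.inv_mem hj)
          refine ⟨j', hj', m⁻¹, M.inv_mem hm, ?_⟩
          rw [e, Subgroup.coe_inv]
          group }
    have hTmem : ∀ g : G, g ∈ T ↔ ∃ j : N, j ∈ J ∧ ∃ m ∈ M, g = j * m := fun g => Iff.rfl
    have hMT : M ≤ T := by
      intro m hm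
      rw [hTmem]
      exact ⟨1, J.one_mem, m, hm, by simp⟩
    have hJT : ∀ j : N, j ∈ J → (j : G) ∈ T := by
      intro j hj
      rw [hTmem]
      exact ⟨j, hj, 1, M.one_mem, by simp⟩
    have hCmem : ∀ j : N, j ∈ centralizer ({u} : Set N) ↔ (j : G) ∈ M := by
      intro j
      rw [hM, mem_centralizer_singleton_iff, mem_centralizer_singleton_iff]
      constructor
      · intro e
        have := congrArg Subtype.val e
        simpa using this
      · intro e
        exact Subtype.ext (by simpa using e)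
    rcases eq_or_lt_of_le hMT with e | e
    · apply le_antisymm _ hCJ
      intro j hj
      rw [hCmem, e]
      exact hJT j hj
    · exfalso
      apply hJt
      have hT := hco.2 T e
      rw [eq_top_iff]
      intro n _
      have hn : (n : G) ∈ T := by rw [hT]; exact mem_top _
      obtain ⟨j, hj, m, hm, e1⟩ := (hTmem _).mp hn
      have hmN : m ∈ N := by
        have : m = (j : G)⁻¹ * n := by rw [e1]; group
        rw [this]
        exact N.mul_mem (N.inv_mem j.2) n.2
      have hmJ : (⟨m, hmN⟩ : N) ∈ J := hCJ ((hCmem ⟨m, hmN⟩).mpr hm)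
      have : n = j * ⟨m, hmN⟩ := Subtype.ext (by rw [e1]; rfl)
      rw [this]
      exact J.mul_mem hj hmJ

end Cfsg.Agent.Helper1.RelMaxCent
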