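import Mathlib
import Cfsg.Prelude.Def_Sporadic_a

/-!
# S0429, piece SISO (helper1): `v ↦ β v` is a graph isomorphism onto the block graph of `Set.range β`.
Blueprint: `departures/helper27_S0429_blueprint.md`.
-/

set_option autoImplicit false

namespace Cfsg.Agent.S0429P

theorem SISO {V α : Type*} [Fintype V] [DecidableEq V] [Fintype α] [DecidableEq α] (G : SimpleGraph V)
    [DecidableRel G.Adj] (β : V → Finset α)
    (h6 : ∀ v, (β v).card = 6) (hadj : ∀ v w, G.Adj v w → Disjoint (β v) (β w))
    (hnadj : ∀ v w, v ≠ w → ¬ G.Adj v w → (β v ∩ β w).card = 2) :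
    Nonempty (G ≃g Cfsg.blockGraph (Set.range β)) := by
  have hinj : Function.Injective β := by
    intro v w hvw
    by_contra hne
    by_cases ha : G.Adj v w
    · have hd := hadj v w ha
      rw [hvw, disjoint_self] at hd
      have h6w := h6 w
      have hw : β w = ∅ := by simpa using hd
      rw [hw] at h6w
      simp at h6w
    · have := hnadj v w hne ha
      rw [hvw, Finset.inter_self, h6 w] at this
      omega
  refine ⟨⟨Equiv.ofInjective β hinj, ?_⟩⟩
  intro v w
  show (Cfsg.blockGraph (Set.range β)).Adj (Equiv.ofInjective β hinj v) (Equiv.ofInjective β hinj w) ↔ G.Adj v w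
  unfold Cfsg.blockGraph
  rw [SimpleGraph.fromRel_adj]
  constructor
  · rintro ⟨hne, hd⟩
    have hvw : v ≠ w := by
      rintro rfl
      exact hne rfl
    have hd' : Disjoint (β v) (β w) := by
      rcases hd with hd | hd
      · exact hd
      · exact hd.symm
    by_contra ha
    have h2 := hnadj v w hvw ha
    rw [Finset.disjoint_iff_inter_eq_empty.1 hd'] at h2
    simp at h2
  · intro ha
    refine ⟨?_, Or.inl (hadj v w ha)⟩
    intro heq
    have : v = w := (Equiv.ofInjective β hinj).injective heq
    exact G.ne_of_adj ha this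

end Cfsg.Agent.S0429P
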