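import Mathlib
import Cfsg.Agent.Helper27.S0429Defs
import Cfsg.Agent.Helper24.S0429SYNQh
import Cfsg.Agent.Helper21.S0429CLSCOC
import Cfsg.Agent.Helper21.S0429CLSPART
import Cfsg.Agent.Helper27.S0429CLS4h
import Cfsg.Agent.Helper10.S0429CLS
import Cfsg.Agent.Helper10.S0429KAP2core
import Cfsg.Agent.Helper18.S0429M3SUMcore

/-! # S0429 board, piece SYNQ: wrapper around `SYNQh.core` (helper24) with the real
`CLS4`, `CLSCOC`, `CLSPART`, and `KAP2` obtained from the landed cores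
(`KAP2_core`, `M3SUM_aux_core_h18`, `KAPCLS`). -/

set_option autoImplicit false
set_option linter.unusedVariables false

namespace Cfsg.Agent.S0429P

open Finset

variable {V : Type*} [Fintype V] [DecidableEq V] {G : SimpleGraph V} [DecidableRel G.Adj]

/-- SYNQ (L): `Q2 (8 e_a + (3/2) 1_{N(a)} + 1_U) = 224 - 576 + 352 = 0`, `U` the union of the three
classes. -/
theorem SYNQ (h : G.IsSRGWith 77 16 0 4) {a b1 b2 b3 : V} (h1 : Far G a b1) (h2 : Far G a b2) (h3 : Far G a b3)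
    (h12 : b2 ∉ cls G a b1) (h13 : b3 ∉ cls G a b1) (h23 : b3 ∉ cls G a b2)
    (k12 : kap G a b1 b2 = 2) (k13 : kap G a b1 b3 = 2) (k23 : kap G a b2 b3 = 2) :
    Q2 G (synVec G a (cls G a b1 ∪ cls G a b2 ∪ cls G a b3)) = 0 :=
  SYNQh.core h (fun hab => CLS4 h hab) (fun hab => CLSCOC h hab) (fun hab _ hx => CLSPART h hab hx)
    (fun {a b z} hab hz hzb hk =>
      KAP2_core (fun p hp => KAPCLS h hab hp hz hzb) (CLS4 h hab)
        (M3SUM_aux_core_h18 h (fun hx => CLSPART h hab hx) hz) hk)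
    h1 h2 h3 h12 h13 h23 k12 k13 k23

end Cfsg.Agent.S0429P
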