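import Cfsg.Agent.Helper5.S0518Defs

/-! # S0518, piece LT1 (board `s0518pieces`): an element of `N_S(T) ∖ T` exchanges the two sides -/

set_option autoImplicit false

universe u

namespace Cfsg.Agent.S0518P

open Cfsg Subgroup

variable {G : Type u} [Group G]

theorem LT1_aux_mem_cj (g : G) (X : Subgroup G) (x : G) : x ∈ cj g X ↔ g⁻¹ * x * g ∈ X := by
  constructor
  · rintro ⟨y, hy, rfl⟩
    have : g⁻¹ * ((MulAut.conj g).toMonoidHom y) * g = y := by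
      show g⁻¹ * (g * y * g⁻¹) * g = y
      group
    rw [this]
    exact hy
  · intro h
    refine ⟨g⁻¹ * x * g, h, ?_⟩
    show g * (g⁻¹ * x * g) * g⁻¹ = x
    group

theorem LT1_aux_conj_mem_cj (g : G) (X : Subgroup G) {x : G} (hx : x ∈ X) : g * x * g⁻¹ ∈ cj g X :=
  ⟨x, hx, rfl⟩

theorem LT1_aux_card_cj (g : G) (X : Subgroup G) : Nat.card ↥(cj g X) = Nat.card ↥X :=
  Subgroup.card_map_of_injective (MulAut.conj g).injective

theorem LT1_aux_cj_normalizer (g : G) (X : Subgroup G) :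
    cj g (normalizer (X : Set G)) = normalizer ((cj g X : Subgroup G) : Set G) :=
  Subgroup.map_equiv_normalizer_eq X (MulAut.conj g)

theorem LT1_aux_cj_inf (g : G) (X Y : Subgroup G) : cj g (X ⊓ Y) = cj g X ⊓ cj g Y :=
  Subgroup.map_inf X Y _ (MulAut.conj g).injective

theorem LT1_aux_orderOf_conj (g x : G) : orderOf (g * x * g⁻¹) = orderOf x := by
  have : g * x * g⁻¹ = (MulAut.conj g) x := rfl
  rw [this, MulEquiv.orderOf_eq]

theorem LT1_aux_oddGen_cj (g : G) (P : Subgroup G) : oddGen (cj g P) = cj g (oddGen P) := by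
  unfold oddGen
  show _ = Subgroup.map (MulAut.conj g).toMonoidHom _
  rw [MonoidHom.map_closure]
  congr 1
  ext x
  constructor
  · rintro ⟨hx, ho⟩
    rw [LT1_aux_mem_cj] at hx
    refine ⟨g⁻¹ * x * g, ⟨hx, ?_⟩, ?_⟩
    · have := LT1_aux_orderOf_conj g⁻¹ x
      rw [inv_inv] at this
      rw [this]
      exact ho
    · show g * (g⁻¹ * x * g) * g⁻¹ = x
      group
  · rintro ⟨y, ⟨hy, ho⟩, rfl⟩
    refine ⟨⟨y, hy, rfl⟩, ?_⟩
    show Odd (orderOf (g * y * g⁻¹))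
    rw [LT1_aux_orderOf_conj]
    exact ho

/-- a 2-subgroup containing `T` meets `P` in `T` when `|T| = 16`, `|P| = 48` -/
theorem LT1_aux_inf [Finite G] {P T : Subgroup G} (hP : Nat.card ↥P = 48) (hT : Nat.card ↥T = 16)
    (hTP : T ≤ P) (S : Subgroup G) (hS : IsPGroup 2 ↥S) (hTS : T ≤ S) : S ⊓ P = T := by
  have hle : T ≤ S ⊓ P := le_inf hTS hTP
  have h2 : IsPGroup 2 ↥(S ⊓ P : Subgroup G) := hS.to_le inf_le_left
  obtain ⟨k, hk⟩ := h2.exists_card_eq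
  have hdvd : Nat.card ↥(S ⊓ P : Subgroup G) ∣ 48 := by
    rw [← hP]
    exact Subgroup.card_dvd_of_le inf_le_right
  have hdvd2 : 16 ∣ Nat.card ↥(S ⊓ P : Subgroup G) := by
    rw [← hT]
    exact Subgroup.card_dvd_of_le hle
  have hcard : Nat.card ↥(S ⊓ P : Subgroup G) = 16 := by
    rw [hk] at hdvd hdvd2 ⊢
    have hk5 : k < 5 := by
      by_contra hcon
      push Not at hcon
      have : 2 ^ 5 ∣ 2 ^ k := pow_dvd_pow 2 hcon
      have := this.trans hdvd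
      omega
    interval_cases k <;> omega
  symm
  apply Subgroup.eq_of_le_of_card_ge hle
  rw [hcard, hT]

/-- `T < S`: an element of `N_S(T) ∖ T` exchanges the two sides -/
theorem LT1 [Finite G] {C : Cfg G} {z : G} (d : TData C z) (S : Sylow 2 G) (hTS : C.T ≤ (S : Subgroup G))
    (b : G) (hb : b ∈ (S : Subgroup G)) (hbT : b ∈ normalizer (C.T : Set G)) (hbn : b ∉ C.T) :
    cj b C.Q₁ = C.Q₂ ∧ cj b C.Q₂ = C.Q₁ ∧ cj b C.V₁ = C.V₂ ∧ cj b C.V₂ = C.V₁ ∧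
      b * C.c₁ * b⁻¹ = C.c₂ ∧ b * C.c₂ * b⁻¹ = C.c₁ ∧ b * z * b⁻¹ = z := by
  have b₁ := d.base.b₁
  have b₂ := d.base.b₂
  -- `b ∉ P₁`, `b ∉ P₂`
  have hbP₁ : b ∉ C.P₁ := by
    intro h
    have := LT1_aux_inf b₁.card_P b₁.card_T b₁.T_le (S : Subgroup G) S.isPGroup' hTS
    exact hbn (this ▸ Subgroup.mem_inf.mpr ⟨hb, h⟩)
  have hbP₂ : b ∉ C.P₂ := by
    intro h
    have := LT1_aux_inf b₂.card_P b₂.card_T b₂.T_le (S : Subgroup G) S.isPGroup' hTS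
    exact hbn (this ▸ Subgroup.mem_inf.mpr ⟨hb, h⟩)
  -- `cj b T = T`
  have hcjT : cj b C.T = C.T := by
    ext x
    rw [LT1_aux_mem_cj]
    have := (Subgroup.mem_normalizer_iff''.mp hbT x)
    exact this.symm
  -- a conjugate of an `E₈` of `T` is an `E₈` of `T`
  have hE : ∀ Q : Subgroup G, Q ≤ C.T → Nat.card ↥Q = 8 → (∀ q ∈ Q, q * q = 1) →
      cj b Q = C.Q₁ ∨ cj b Q = C.Q₂ := by
    intro Q hQT hQc hQs
    apply d.d1.e8
    · rw [← hcjT]
      exact Subgroup.map_mono hQT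
    · rw [LT1_aux_card_cj, hQc]
    · rintro _ ⟨y, hy, rfl⟩
      show b * y * b⁻¹ * (b * y * b⁻¹) = 1
      have : b * y * b⁻¹ * (b * y * b⁻¹) = b * (y * y) * b⁻¹ := by group
      rw [this, hQs y hy]
      group
  have hQ₁T : C.Q₁ ≤ C.T := b₁.Q_le
  have hQ₂T : C.Q₂ ≤ C.T := b₂.Q_le
  have hmemN : ∀ Q : Subgroup G, cj b Q = Q → b ∈ normalizer (Q : Set G) := by
    intro Q hQ
    rw [Subgroup.mem_normalizer_iff'']
    intro x
    rw [← LT1_aux_mem_cj, hQ]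
  have h1 : cj b C.Q₁ = C.Q₂ := by
    rcases hE C.Q₁ hQ₁T b₁.card_Q b₁.Q_sq with h | h
    · exfalso
      apply hbP₁
      rw [← d.d0.norm_Q₁]
      exact hmemN _ h
    · exact h
  have h2 : cj b C.Q₂ = C.Q₁ := by
    rcases hE C.Q₂ hQ₂T b₂.card_Q b₂.Q_sq with h | h
    · exact h
    · exfalso
      apply hbP₂
      rw [← d.d0.norm_Q₂]
      exact hmemN _ h
  -- `cj b P₁ = P₂`, `cj b P₂ = P₁`
  have hP12 : cj b C.P₁ = C.P₂ := by
    rw [← d.d0.norm_Q₁, LT1_aux_cj_normalizer, h1, d.d0.norm_Q₂]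
  have hP21 : cj b C.P₂ = C.P₁ := by
    rw [← d.d0.norm_Q₂, LT1_aux_cj_normalizer, h2, d.d0.norm_Q₁]
  -- centres
  have hc12 : b * C.c₁ * b⁻¹ = C.c₂ := by
    have hmem : b * C.c₁ * b⁻¹ ∈ C.P₂ := by
      rw [← hP12]
      exact LT1_aux_conj_mem_cj b _ (b₁.T_le (hQ₁T b₁.c_mem))
    have hcen : ∀ y ∈ C.P₂, y * (b * C.c₁ * b⁻¹) = (b * C.c₁ * b⁻¹) * y := by
      intro y hy
      have hy' : b⁻¹ * y * b ∈ C.P₁ := by
        rw [← hP12, LT1_aux_mem_cj] at hy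
        exact hy
      have := b₁.c_central _ hy'
      calc y * (b * C.c₁ * b⁻¹) = b * ((b⁻¹ * y * b) * C.c₁) * b⁻¹ := by group
        _ = b * (C.c₁ * (b⁻¹ * y * b)) * b⁻¹ := by rw [this]
        _ = (b * C.c₁ * b⁻¹) * y := by group
    rcases b₂.center _ hmem hcen with h | h
    · exfalso
      apply b₁.c_ne
      have : C.c₁ = b⁻¹ * (b * C.c₁ * b⁻¹) * b := by group
      rw [this, h]
      group
    · exact h
  have hc21 : b * C.c₂ * b⁻¹ = C.c₁ := by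
    have hmem : b * C.c₂ * b⁻¹ ∈ C.P₁ := by
      rw [← hP21]
      exact LT1_aux_conj_mem_cj b _ (b₂.T_le (hQ₂T b₂.c_mem))
    have hcen : ∀ y ∈ C.P₁, y * (b * C.c₂ * b⁻¹) = (b * C.c₂ * b⁻¹) * y := by
      intro y hy
      have hy' : b⁻¹ * y * b ∈ C.P₂ := by
        rw [← hP21, LT1_aux_mem_cj] at hy
        exact hy
      have := b₂.c_central _ hy'
      calc y * (b * C.c₂ * b⁻¹) = b * ((b⁻¹ * y * b) * C.c₂) * b⁻¹ := by group
        _ = b * (C.c₂ * (b⁻¹ * y * b)) * b⁻¹ := by rw [this]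
        _ = (b * C.c₂ * b⁻¹) * y := by group
    rcases b₁.center _ hmem hcen with h | h
    · exfalso
      apply b₂.c_ne
      have : C.c₂ = b⁻¹ * (b * C.c₂ * b⁻¹) * b := by group
      rw [this, h]
      group
    · exact h
  -- `K` and `V`
  have hK12 : cj b C.K₁ = C.K₂ := by
    rw [b₁.K_eq, b₂.K_eq, ← LT1_aux_oddGen_cj, hP12]
  have hK21 : cj b C.K₂ = C.K₁ := by
    rw [b₁.K_eq, b₂.K_eq, ← LT1_aux_oddGen_cj, hP21]
  have hV12 : cj b C.V₁ = C.V₂ := by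
    rw [b₁.V_eq, b₂.V_eq, LT1_aux_cj_inf, h1, hK12]
  have hV21 : cj b C.V₂ = C.V₁ := by
    rw [b₁.V_eq, b₂.V_eq, LT1_aux_cj_inf, h2, hK21]
  refine ⟨h1, h2, hV12, hV21, hc12, hc21, ?_⟩
  have hz1 : b * z * b⁻¹ ∈ C.V₂ := by
    rw [← hV12]
    exact LT1_aux_conj_mem_cj b _ d.d2.z_mem₁
  have hz2 : b * z * b⁻¹ ∈ C.V₁ := by
    rw [← hV21]
    exact LT1_aux_conj_mem_cj b _ d.d2.z_mem₂
  rcases d.d2.inf_V _ hz2 hz1 with h | h
  · exfalso
    apply d.d2.z_ne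
    have : z = b⁻¹ * (b * z * b⁻¹) * b := by group
    rw [this, h]
    group
  · exact h

end Cfsg.Agent.S0518P
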