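import Cfsg.Agent.Helper5.S0518Defs

/-! # S0518, piece LT4 (board `s0518pieces`): `T < S`, no conjugate of `c₁` in `S ∖ T` -/

set_option autoImplicit false

universe u

namespace Cfsg.Agent.S0518P

open Cfsg Subgroup

variable {G : Type u} [Group G]

/-- `T < S`: no conjugate of `c₁` in `S ∖ T` -/
theorem LT4 [Finite G] {C : Cfg G} {z : G} (d : TData C z) {S : Subgroup G} (s : SData C z S) (g : G)
    (hg : g * C.c₁ * g⁻¹ ∈ S) : g * C.c₁ * g⁻¹ ∈ C.T := by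
  by_cases hbT : g * C.c₁ * g⁻¹ ∈ C.T
  · exact hbT
  have b₁ := d.base.b₁
  set b := g * C.c₁ * g⁻¹ with hbdef
  obtain ⟨hV12, hV21, hc12, hc21, hbz⟩ := s.swap b hg hbT
  obtain ⟨r, hrT₀, hrz⟩ := d.d2.r_ex
  have hT₀T : C.T₀ ≤ C.T := d.d2.T₀_le
  have hTP : C.T ≤ C.P₁ := b₁.T_le
  -- `b` normalises `T₀`
  have hcjT₀ : cj b C.T₀ = C.T₀ := by
    show Subgroup.map _ (C.V₁ ⊔ C.V₂) = C.V₁ ⊔ C.V₂
    rw [Subgroup.map_sup]
    show cj b C.V₁ ⊔ cj b C.V₂ = _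
    rw [hV12, hV21, sup_comm]
  have hbr : b * r * b⁻¹ ∈ C.T₀ := by
    rw [← hcjT₀]
    exact ⟨r, hrT₀, rfl⟩
  have hbr2 : (b * r * b⁻¹) * (b * r * b⁻¹) = z := by
    have : (b * r * b⁻¹) * (b * r * b⁻¹) = b * (r * r) * b⁻¹ := by group
    rw [this, hrz, hbz]
  -- an element `x ∈ T` commuting with `b` with `x * x = z`
  have hx : ∃ x ∈ C.T, x * x = z ∧ b * x * b⁻¹ = x := by
    rcases d.d2.r_unique r hrT₀ _ hbr hrz hbr2 with h | h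
    · exact ⟨r, hT₀T hrT₀, hrz, h⟩
    · refine ⟨C.c₁ * r, C.T.mul_mem (b₁.Q_le b₁.c_mem) (hT₀T hrT₀), ?_, ?_⟩
      · have hcr : r * C.c₁ = C.c₁ * r := b₁.c_central r (hTP (hT₀T hrT₀))
        calc C.c₁ * r * (C.c₁ * r) = C.c₁ * (r * C.c₁) * r := by group
          _ = C.c₁ * (C.c₁ * r) * r := by rw [hcr]
          _ = (C.c₁ * C.c₁) * (r * r) := by group
          _ = z := by rw [b₁.c_sq, hrz, one_mul]
      · have : b * (C.c₁ * r) * b⁻¹ = (b * C.c₁ * b⁻¹) * (b * r * b⁻¹) := by group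
        rw [this, hc12, h, d.d2.c₂_eq, ← hrz]
        group
  obtain ⟨x, hxT, hxz, hbx⟩ := hx
  -- `y = g⁻¹ x g` centralises `c₁`
  have hy : (g⁻¹ * x * g) * C.c₁ = C.c₁ * (g⁻¹ * x * g) := by
    have h1 : b * x = x * b := by
      calc b * x = (b * x * b⁻¹) * b := by group
        _ = x * b := by rw [hbx]
    have h2 : g * C.c₁ * g⁻¹ * x = x * (g * C.c₁ * g⁻¹) := h1
    calc (g⁻¹ * x * g) * C.c₁ = g⁻¹ * (x * (g * C.c₁ * g⁻¹)) * g := by group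
      _ = g⁻¹ * (g * C.c₁ * g⁻¹ * x) * g := by rw [h2]
      _ = C.c₁ * (g⁻¹ * x * g) := by group
  have hyP : g⁻¹ * x * g ∈ C.P₁ := d.d0.cent_c₁ _ hy
  have hy2 : (g⁻¹ * x * g) ^ 2 = g⁻¹ * z * g := by
    rw [pow_two, ← hxz]
    group
  have hz2 : z * z = 1 := by
    have hzV : z ∈ C.V₁ := d.d2.z_mem₁
    have hzQ : z ∈ C.Q₁ := by
      have : z ∈ C.Q₁ ⊓ C.K₁ := b₁.V_eq ▸ hzV
      exact this.1
    exact b₁.Q_sq z hzQ
  have hy4 : (g⁻¹ * x * g) ^ 4 = 1 := by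
    have : (g⁻¹ * x * g) ^ 4 = ((g⁻¹ * x * g) ^ 2) ^ 2 := by rw [← pow_mul]
    rw [this, hy2, pow_two]
    have : g⁻¹ * z * g * (g⁻¹ * z * g) = g⁻¹ * (z * z) * g := by group
    rw [this, hz2]
    group
  have hyV : g⁻¹ * z * g ∈ C.V₁ := by
    rw [← hy2]
    exact b₁.sq_mem _ hyP hy4
  have hyne : g⁻¹ * z * g ≠ 1 := by
    intro h
    apply d.d2.z_ne
    have : z = g * (g⁻¹ * z * g) * g⁻¹ := by group
    rw [this, h]
    group
  obtain ⟨k, hkK, hk⟩ := b₁.K_trans z d.d2.z_mem₁ _ hyV d.d2.z_ne hyne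
  -- `g k` centralises `z`
  have hgk : (g * k) * z = z * (g * k) := by
    have : g * (k * z * k⁻¹) * g⁻¹ = z := by
      rw [hk]
      group
    calc (g * k) * z = (g * (k * z * k⁻¹) * g⁻¹) * (g * k) := by group
      _ = z * (g * k) := by rw [this]
  have hgkS : g * k ∈ S := s.cent_z _ hgk
  have hkc : k * C.c₁ = C.c₁ * k := b₁.c_central k (b₁.K_le hkK)
  have hb' : b = (g * k) * C.c₁ * (g * k)⁻¹ := by
    rw [hbdef]
    calc g * C.c₁ * g⁻¹ = g * (C.c₁ * k) * k⁻¹ * g⁻¹ := by group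
      _ = g * (k * C.c₁) * k⁻¹ * g⁻¹ := by rw [hkc]
      _ = (g * k) * C.c₁ * (g * k)⁻¹ := by group
  have hn := s.T_normal hgkS
  rw [hb']
  exact (Subgroup.mem_normalizer_iff.mp hn _).mp (b₁.Q_le b₁.c_mem)

end Cfsg.Agent.S0518P
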