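import Mathlib

set_option autoImplicit false

/-!
# A transfer lemma for involutions (used for S0518, case (B-i))

`TRANSFER_hom`: `G` finite, `S ≤ G` of odd index, `φ : S →* A` with `A` an abelian `2`-group,
`c ∈ G` with `c ^ 2 = 1`, and every `G`-conjugate of `c` lying in `S` is mapped by `φ` to one and the
same element `a₀ ≠ 1`. Then `c` does not lie in the subgroup generated by the elements of odd order.

`TRANSFER`: the same with `φ` the projection `S → S / S₀`.
-/

namespace Cfsg.Agent.S0518P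

open MonoidHom MulAction Subgroup

section
variable {G : Type*} [Group G] [Finite G]

omit [Finite G] in
/-- elements of odd order are killed by every homomorphism into a `2`-group -/
theorem TRANSFER_aux_odd_ker {A : Type*} [Group A] (hA : IsPGroup 2 A) (V : G →* A) :
    Subgroup.closure {g : G | Odd (orderOf g)} ≤ V.ker := by
  rw [Subgroup.closure_le]
  intro g hg
  have hg : Odd (orderOf g) := hg
  show g ∈ V.ker
  rw [MonoidHom.mem_ker]
  obtain ⟨k, hk⟩ := hA (V g)
  have h1 : orderOf (V g) ∣ orderOf g := orderOf_map_dvd V g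
  have h2 : orderOf (V g) ∣ 2 ^ k := orderOf_dvd_of_pow_eq_one hk
  have hcop : Nat.Coprime (orderOf g) (2 ^ k) :=
    Nat.Coprime.pow_right k (Nat.coprime_two_right.mpr hg)
  have : orderOf (V g) ∣ 1 := by
    have := Nat.dvd_gcd h1 h2
    rwa [hcop.gcd_eq_one] at this
  exact orderOf_eq_one_iff.mp (Nat.dvd_one.mp this)

/-- an element `≠ 1` of a `2`-group has no odd power equal to `1` -/
theorem TRANSFER_aux_odd_pow {A : Type*} [Group A] (hA : IsPGroup 2 A) {a : A} (ha : a ≠ 1)
    {f : ℕ} (hf : Odd f) : a ^ f ≠ 1 := by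
  intro h
  obtain ⟨k, hk⟩ := hA a
  have h1 : orderOf a ∣ f := orderOf_dvd_of_pow_eq_one h
  have h2 : orderOf a ∣ 2 ^ k := orderOf_dvd_of_pow_eq_one hk
  have hcop : Nat.Coprime f (2 ^ k) := Nat.Coprime.pow_right k (Nat.coprime_two_right.mpr hf)
  have : orderOf a ∣ 1 := by
    have := Nat.dvd_gcd h1 h2
    rwa [hcop.gcd_eq_one] at this
  exact ha (orderOf_eq_one_iff.mp (Nat.dvd_one.mp this))

/-- transfer lemma, homomorphism form -/
theorem TRANSFER_hom (S : Subgroup G) (hSodd : Odd S.index)
    {A : Type*} [CommGroup A] (hA : IsPGroup 2 A) (φ : S →* A)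
    (c : G) (hc2 : c ^ 2 = 1) (a₀ : A) (ha₀ : a₀ ≠ 1)
    (hconj : ∀ g : G, ∀ h : g * c * g⁻¹ ∈ S, φ ⟨g * c * g⁻¹, h⟩ = a₀) :
    c ∉ Subgroup.closure {g : G | Odd (orderOf g)} := by
  classical
  intro hc
  have hker := TRANSFER_aux_odd_ker hA (transfer φ : G →* A) hc
  rw [MonoidHom.mem_ker] at hker
  have := Fintype.ofFinite (Quotient (orbitRel (zpowers c) (G ⧸ S)))
  rw [transfer_eq_prod_quotient_orbitRel_zpowers_quot] at hker
  have hidx := Subgroup.index_eq_sum_minimalPeriod S c
  have hper : ∀ q : Quotient (orbitRel (zpowers c) (G ⧸ S)),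
      Function.minimalPeriod (c • ·) q.out = 1 ∨ Function.minimalPeriod (c • ·) q.out = 2 := by
    intro q
    have hdvd : Function.minimalPeriod (c • ·) q.out ∣ orderOf c :=
      MulAction.period_dvd_orderOf c q.out
    have h2 : orderOf c ∣ 2 := orderOf_dvd_of_pow_eq_one hc2
    have := (Nat.dvd_prime Nat.prime_two).mp (hdvd.trans h2)
    exact this
  have hfac : ∀ q : Quotient (orbitRel (zpowers c) (G ⧸ S)),
      φ ⟨q.out.out⁻¹ * c ^ Function.minimalPeriod (c • ·) q.out * q.out.out,
        QuotientGroup.out_conj_pow_minimalPeriod_mem S c q.out⟩ =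
      if Function.minimalPeriod (c • ·) q.out = 1 then a₀ else 1 := by
    intro q
    have hmem := QuotientGroup.out_conj_pow_minimalPeriod_mem S c q.out
    rcases hper q with h1 | h2
    · rw [if_pos h1]
      have hmem' : q.out.out⁻¹ * c * (q.out.out⁻¹)⁻¹ ∈ S := by
        rw [h1, pow_one] at hmem
        rwa [inv_inv]
      rw [← hconj q.out.out⁻¹ hmem']
      congr 1
      apply Subtype.ext
      show q.out.out⁻¹ * c ^ Function.minimalPeriod (c • ·) q.out * q.out.out
        = q.out.out⁻¹ * c * (q.out.out⁻¹)⁻¹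
      rw [h1, pow_one, inv_inv]
    · rw [if_neg (by omega)]
      have : (⟨q.out.out⁻¹ * c ^ Function.minimalPeriod (c • ·) q.out * q.out.out, hmem⟩ : S)
          = 1 := by
        apply Subtype.ext
        show q.out.out⁻¹ * c ^ Function.minimalPeriod (c • ·) q.out * q.out.out = 1
        rw [h2, hc2, mul_one, inv_mul_cancel]
      rw [this, map_one]
  rw [Finset.prod_congr rfl (fun q _ => hfac q), Finset.prod_ite, Finset.prod_const_one, mul_one,
    Finset.prod_const] at hker
  have hpar : Odd (Finset.univ.filter (fun q : Quotient (orbitRel (zpowers c) (G ⧸ S)) =>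
      Function.minimalPeriod (c • ·) q.out = 1)).card := by
    rw [hidx] at hSodd
    rw [Nat.odd_iff] at hSodd ⊢
    rw [Finset.sum_nat_mod] at hSodd
    have hmod : ∀ q : Quotient (orbitRel (zpowers c) (G ⧸ S)),
        Function.minimalPeriod (c • ·) q.out % 2 =
          if Function.minimalPeriod (c • ·) q.out = 1 then 1 else 0 := by
      intro q
      rcases hper q with h1 | h2
      · rw [if_pos h1, h1]
      · rw [if_neg (by omega), h2]
    rw [Finset.sum_congr rfl (fun q _ => hmod q), Finset.sum_boole] at hSodd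
    simpa using hSodd
  exact TRANSFER_aux_odd_pow hA ha₀ hpar hker

/-- transfer lemma, subgroup form: `S₀ ⊴ S`, `S / S₀` an abelian `2`-group, `c` an involution of
`S ∖ S₀` all of whose `G`-conjugates in `S` lie in the coset `c S₀`. -/
theorem TRANSFER (S : Subgroup G) (hSodd : Odd S.index) (S₀ : Subgroup G)
    (hnorm : S ≤ Subgroup.normalizer (S₀ : Set G))
    (hab : ∀ a ∈ S, ∀ b ∈ S, a * b * a⁻¹ * b⁻¹ ∈ S₀)
    (h2 : ∀ a ∈ S, ∃ k : ℕ, a ^ (2 ^ k) ∈ S₀)
    (c : G) (hcS : c ∈ S) (hc2 : c ^ 2 = 1) (hc0 : c ∉ S₀)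
    (hconj : ∀ g : G, g * c * g⁻¹ ∈ S → c⁻¹ * (g * c * g⁻¹) ∈ S₀) :
    c ∉ Subgroup.closure {g : G | Odd (orderOf g)} := by
  classical
  have hN : (S₀.subgroupOf S).Normal := by
    constructor
    intro n hn s
    rw [Subgroup.mem_subgroupOf] at hn ⊢
    have := hnorm s.2
    rw [Subgroup.mem_normalizer_iff] at this
    have h3 := (this (n : G)).mp hn
    simpa using h3
  let _ : CommGroup (S ⧸ S₀.subgroupOf S) :=
    { (QuotientGroup.Quotient.group (S₀.subgroupOf S)) with
      mul_comm := by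
        intro x y
        induction x using QuotientGroup.induction_on with
        | H a =>
        induction y using QuotientGroup.induction_on with
        | H b =>
        rw [← QuotientGroup.mk_mul, ← QuotientGroup.mk_mul, QuotientGroup.eq]
        rw [Subgroup.mem_subgroupOf]
        have h4 : (((a * b)⁻¹ * (b * a) : S) : G)
            = ((b⁻¹ : S) : G) * ((a⁻¹ : S) : G) * ((b⁻¹ : S) : G)⁻¹ * ((a⁻¹ : S) : G)⁻¹ := by
          push_cast
          group
        rw [h4]
        exact hab (b⁻¹ : S) (b⁻¹).2 (a⁻¹ : S) (a⁻¹).2 }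
  have hA : IsPGroup 2 (S ⧸ S₀.subgroupOf S) := by
    intro x
    induction x using QuotientGroup.induction_on with
    | H a =>
    obtain ⟨k, hk⟩ := h2 a a.2
    refine ⟨k, ?_⟩
    rw [← QuotientGroup.mk_pow, QuotientGroup.eq_one_iff, Subgroup.mem_subgroupOf]
    simpa using hk
  refine TRANSFER_hom S hSodd hA (QuotientGroup.mk' (S₀.subgroupOf S)) c hc2
    (QuotientGroup.mk' (S₀.subgroupOf S) ⟨c, hcS⟩) ?_ ?_
  · intro h
    rw [QuotientGroup.mk'_apply, QuotientGroup.eq_one_iff, Subgroup.mem_subgroupOf] at h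
    exact hc0 h
  · intro g h
    rw [QuotientGroup.mk'_apply, QuotientGroup.mk'_apply, eq_comm, QuotientGroup.eq,
      Subgroup.mem_subgroupOf]
    simpa using hconj g h

end

end Cfsg.Agent.S0518P
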