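import Cfsg.Agent.Helper5.S0518Defs
import Cfsg.Agent.Helper1.S0518TRANSFER
import Cfsg.Agent.Helper1.S0518LT4
import Cfsg.Agent.Helper23.S0518TCONJ
import Cfsg.Agent.Helper23.S0518TS

/-! # S0518, piece LT5 (board `s0518pieces`): `T < S`, `c₁ ∉ O^2(G)` by transfer into `S/T₀` -/

set_option autoImplicit false

universe u

namespace Cfsg.Agent.S0518P

open Cfsg Subgroup

variable {G : Type u} [Group G]

/-- `T₀ ⊴ S` -/
theorem LT5_aux_normal {C : Cfg G} {z : G} (d : TData C z) {S : Subgroup G} (s : SData C z S) :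
    S ≤ normalizer (C.T₀ : Set G) := by
  intro b hb
  by_cases hbT : b ∈ C.T
  · exact TS_aux_normal d hbT
  · obtain ⟨hV12, hV21, -, -, -⟩ := s.swap b hb hbT
    have hcjT₀ : cj b C.T₀ = C.T₀ := by
      show Subgroup.map _ (C.V₁ ⊔ C.V₂) = C.V₁ ⊔ C.V₂
      rw [Subgroup.map_sup]
      show cj b C.V₁ ⊔ cj b C.V₂ = _
      rw [hV12, hV21, sup_comm]
    rw [Subgroup.mem_normalizer_iff]
    intro x
    constructor
    · intro hx
      rw [← hcjT₀]
      exact ⟨x, hx, rfl⟩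
    · intro hx
      rw [← hcjT₀] at hx
      obtain ⟨y, hy, hyx⟩ := hx
      have : y = x := by
        have h1 : b * y * b⁻¹ = b * x * b⁻¹ := hyx
        have h2 : y = b⁻¹ * (b * y * b⁻¹) * b := by group
        rw [h2, h1]
        group
      rw [← this]
      exact hy

/-- `[S,S] ≤ T₀` since `|S : T₀| = 4` -/
theorem LT5_aux_comm [Finite G] {C : Cfg G} {z : G} (d : TData C z) {S : Subgroup G} (s : SData C z S)
    (a : G) (ha : a ∈ S) (b : G) (hb : b ∈ S) : a * b * a⁻¹ * b⁻¹ ∈ C.T₀ := by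
  have hT₀S : C.T₀ ≤ S := d.d2.T₀_le.trans s.T_le
  have hnorm := LT5_aux_normal d s
  have hN : (C.T₀.subgroupOf S).Normal := by
    constructor
    intro n hn x
    rw [Subgroup.mem_subgroupOf] at hn ⊢
    have h3 := (Subgroup.mem_normalizer_iff.mp (hnorm x.2) (n : G)).mp hn
    simpa using h3
  have hcard : Nat.card (↥S ⧸ C.T₀.subgroupOf S) = 2 ^ 2 := by
    have h1 := Subgroup.card_eq_card_quotient_mul_card_subgroup (C.T₀.subgroupOf S)
    have h2 : Nat.card ↥(C.T₀.subgroupOf S) = 8 := by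
      rw [← d.d2.card_T₀]
      exact Nat.card_congr (Subgroup.subgroupOfEquivOfLe hT₀S).toEquiv
    rw [s.card_S, h2] at h1
    omega
  have : Fact (Nat.Prime 2) := ⟨Nat.prime_two⟩
  have hcomm : ∀ x y : ↥S ⧸ C.T₀.subgroupOf S, x * y = y * x :=
    (IsPGroup.isMulCommutative_of_card_eq_prime_sq (p := 2) hcard).is_comm.comm
  have h1 : ((⟨a, ha⟩ * ⟨b, hb⟩ * ⟨a, ha⟩⁻¹ * ⟨b, hb⟩⁻¹ : S) : ↥S ⧸ C.T₀.subgroupOf S) = 1 := by
    rw [QuotientGroup.mk_mul, QuotientGroup.mk_mul, QuotientGroup.mk_mul, QuotientGroup.mk_inv,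
      QuotientGroup.mk_inv, hcomm (↑(⟨a, ha⟩ : S)) (↑(⟨b, hb⟩ : S))]
    group
  rw [QuotientGroup.eq_one_iff, Subgroup.mem_subgroupOf] at h1
  simpa using h1

/-- `T < S` -/
theorem LT5 [Finite G] {C : Cfg G} {z : G} (d : TData C z) (S : Sylow 2 G) (s : SData C z (S : Subgroup G)) :
    C.c₁ ∉ O2 G := by
  have hodd : Odd (S : Subgroup G).index := by
    have : Fact (Nat.Prime 2) := ⟨Nat.prime_two⟩
    have := S.not_dvd_index
    exact Nat.odd_iff.mpr (Nat.two_dvd_ne_zero.mp this)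
  have hsq : C.c₁ * C.c₁ = 1 := d.base.b₁.c_sq
  refine TRANSFER (S : Subgroup G) hodd C.T₀ (LT5_aux_normal d s) (LT5_aux_comm d s) ?_ C.c₁
    (s.T_le (d.base.b₁.Q_le d.d1.c₁_mem.1)) (by rw [pow_two]; exact hsq) d.d2.c₁_not_mem
    (fun g hg => TCONJ d g (LT4 d s g hg))
  intro a ha
  obtain ⟨k, hk⟩ := S.isPGroup' ⟨a, ha⟩
  refine ⟨k, ?_⟩
  have := congrArg Subtype.val hk
  simp only [SubgroupClass.coe_pow, OneMemClass.coe_one] at this
  rw [this]
  exact C.T₀.one_mem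

end Cfsg.Agent.S0518P
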