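import Mathlib
import Cfsg.Agent.Helper4.S0679J

set_option autoImplicit false
set_option linter.unusedSectionVars false
set_option linter.unusedVariables false

/-! # S0679 (insoluble transitive groups of degree 11), step (2) (helper1): the possible orders

`SYLJ`: a 2-transitive group `G` of degree 11 not containing `A_11` has order not divisible by the full `p`-part of `11!`
(`p = 2, 3, 5, 7`): a subgroup of `G` of that order is a Sylow `p`-subgroup of `Perm α`, these are all conjugate, one of them contains a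
`p`-cycle, so `G` contains a `p`-cycle: Jordan (`J`, helper4).  `ORDERS`: if `|G| = 55 n` with `n ≡ 1 (mod 11)` then
`n ∈ {1, 12, 144, 1728}`. -/

namespace Cfsg.Agent.S0679P

open Equiv MulAction

variable {α : Type*} [Fintype α] [DecidableEq α] {G : Subgroup (Equiv.Perm α)}

/-- a `p`-cycle exists -/
theorem SYLJ.aux_cycle {p : ℕ} (hp2 : 2 ≤ p) (hpα : p ≤ Fintype.card α) :
    ∃ c : Perm α, c.IsCycle ∧ c.support.card = p := by
  classical
  set l : List α := (Finset.univ : Finset α).toList.take p with hl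
  have hnd : l.Nodup := (Finset.nodup_toList _).sublist (List.take_sublist _ _)
  have hlen : l.length = p := by
    rw [hl, List.length_take, Finset.length_toList, Finset.card_univ]
    exact min_eq_left hpα
  refine ⟨l.formPerm, List.isCycle_formPerm hnd (by omega), ?_⟩
  rw [List.support_formPerm_of_nodup l hnd, List.toFinset_card_of_nodup hnd, hlen]
  intro x hx
  rw [hx] at hlen
  simp at hlen
  omega

/-- a subgroup of `Perm α` whose order is divisible by the full `p`-part of `|Perm α|` contains a `p`-cycle -/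
theorem SYLJ.aux_exists_cycle {p : ℕ} (hp : p.Prime) (hpα : p ≤ Fintype.card α)
    (hdiv : p ^ (Nat.card (Perm α)).factorization p ∣ Nat.card G) :
    ∃ c ∈ G, c.IsCycle ∧ c.support.card = p := by
  classical
  haveI : Fact p.Prime := ⟨hp⟩
  -- a subgroup of `G` of order `p ^ k`
  obtain ⟨H, hH⟩ := Sylow.exists_subgroup_card_pow_prime p hdiv
  set Q : Subgroup (Perm α) := H.map G.subtype with hQ
  have hQG : Q ≤ G := by
    rintro _ ⟨h, -, rfl⟩
    exact h.2
  have hQcard : Nat.card Q = p ^ (Nat.card (Perm α)).factorization p := by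
    rw [hQ, Subgroup.card_map_of_injective G.subtype_injective, hH]
  let QS : Sylow p (Perm α) := Sylow.ofCard Q hQcard
  have hQS : (QS : Subgroup (Perm α)) = Q := rfl
  -- a `p`-cycle and a Sylow subgroup containing it
  obtain ⟨c, hc, hcs⟩ := SYLJ.aux_cycle (α := α) hp.two_le hpα
  have hcp : IsPGroup p (Subgroup.zpowers c) := by
    apply IsPGroup.of_card (n := 1)
    rw [Nat.card_zpowers, hc.orderOf, hcs, pow_one]
  obtain ⟨R, hR⟩ := hcp.exists_le_sylow
  obtain ⟨g, hg⟩ := MulAction.exists_smul_eq (Perm α) R QS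
  have hcR : c ∈ (R : Subgroup (Perm α)) := hR (Subgroup.mem_zpowers c)
  have hmem : g * c * g⁻¹ ∈ (QS : Subgroup (Perm α)) := by
    rw [← hg, Sylow.coe_subgroup_smul]
    have := Subgroup.smul_mem_pointwise_smul c (MulAut.conj g) (R : Subgroup (Perm α)) hcR
    rwa [MulAut.smul_def, MulAut.conj_apply] at this
  refine ⟨g * c * g⁻¹, hQG (by rw [← hQS]; exact hmem), hc.conj, ?_⟩
  rw [Equiv.Perm.card_support_conj, hcs]

theorem SYLJ (h11 : Fintype.card α = 11) (h2 : IsMultiplyPretransitive G α 2)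
    (hA : ¬ alternatingGroup α ≤ G) {p k : ℕ} (hp : p.Prime) (hp8 : p ≤ 8)
    (hk : (Nat.factorial 11).factorization p = k) (hdiv : p ^ k ∣ Nat.card G) : False := by
  have hcard : Nat.card (Perm α) = Nat.factorial 11 := by
    rw [Nat.card_perm, Nat.card_eq_fintype_card, h11]
  obtain ⟨c, hcG, hc, hcs⟩ := SYLJ.aux_exists_cycle (G := G) hp (by rw [h11]; omega)
    (by rw [hcard, hk]; exact hdiv)
  exact J h11 h2 hA hcG hc (by rw [hcs]; exact hp) (by rw [hcs]; exact hp8)

theorem SYLJ.aux_fact {p k : ℕ} (hp : p.Prime) (h1 : p ^ k ∣ 39916800)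
    (h2 : ¬ p ^ (k + 1) ∣ 39916800) : (Nat.factorial 11).factorization p = k := by
  have h11 : Nat.factorial 11 = 39916800 := by decide
  rw [h11]
  have hn : (39916800 : ℕ) ≠ 0 := by norm_num
  have a := (hp.pow_dvd_iff_le_factorization hn).mp h1
  have b : ¬ (k + 1 ≤ (39916800 : ℕ).factorization p) := fun h =>
    h2 ((hp.pow_dvd_iff_le_factorization hn).mpr h)
  omega

theorem SYLJ.two (h11 : Fintype.card α = 11) (h2 : IsMultiplyPretransitive G α 2)
    (hA : ¬ alternatingGroup α ≤ G) : ¬ 2 ^ 8 ∣ Nat.card G := fun h =>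
  SYLJ h11 h2 hA Nat.prime_two (by norm_num)
    (SYLJ.aux_fact Nat.prime_two (by norm_num) (by norm_num)) h

theorem SYLJ.three (h11 : Fintype.card α = 11) (h2 : IsMultiplyPretransitive G α 2)
    (hA : ¬ alternatingGroup α ≤ G) : ¬ 3 ^ 4 ∣ Nat.card G := fun h =>
  SYLJ h11 h2 hA Nat.prime_three (by norm_num)
    (SYLJ.aux_fact Nat.prime_three (by norm_num) (by norm_num)) h

theorem SYLJ.five (h11 : Fintype.card α = 11) (h2 : IsMultiplyPretransitive G α 2)
    (hA : ¬ alternatingGroup α ≤ G) : ¬ 5 ^ 2 ∣ Nat.card G := fun h =>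
  SYLJ h11 h2 hA Nat.prime_five (by norm_num)
    (SYLJ.aux_fact Nat.prime_five (by norm_num) (by norm_num)) h

theorem SYLJ.seven (h11 : Fintype.card α = 11) (h2 : IsMultiplyPretransitive G α 2)
    (hA : ¬ alternatingGroup α ≤ G) : ¬ 7 ∣ Nat.card G := fun h =>
  SYLJ h11 h2 hA (p := 7) (k := 1) (by norm_num) (by norm_num)
    (SYLJ.aux_fact (by norm_num) (by norm_num) (by norm_num)) (by rw [pow_one]; exact h)

/-- the order of `G` divides `11!` -/
theorem ORDERS.aux_dvd (h11 : Fintype.card α = 11) : Nat.card G ∣ 39916800 := by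
  have h1 : Nat.card G ∣ Nat.card (Perm α) := Subgroup.card_subgroup_dvd_card G
  have h2 : Nat.card (Perm α) = 39916800 := by
    rw [Nat.card_perm, Nat.card_eq_fintype_card, h11]; decide
  rwa [h2] at h1

/-- step (2): the possible orders -/
theorem ORDERS (h11 : Fintype.card α = 11) (h2 : IsMultiplyPretransitive G α 2)
    (hA : ¬ alternatingGroup α ≤ G) {n : ℕ} (hn : Nat.card G = 55 * n) (hmod : n % 11 = 1) :
    n = 1 ∨ n = 12 ∨ n = 144 ∨ n = 1728 := by
  have hdvd : Nat.card G ∣ 39916800 := ORDERS.aux_dvd h11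
  have h256 := SYLJ.two h11 h2 hA
  have h81 := SYLJ.three h11 h2 hA
  have h25 := SYLJ.five h11 h2 hA
  have h7 := SYLJ.seven h11 h2 hA
  rw [hn] at hdvd h256 h81 h25 h7
  -- `n ∣ 2^8 3^4 · 35`
  have hn1 : n ∣ 20736 * 35 := by
    have : (39916800 : ℕ) = 55 * (20736 * 35) := by norm_num
    rw [this] at hdvd
    exact Nat.dvd_of_mul_dvd_mul_left (by norm_num) hdvd
  have hn5 : ¬ 5 ∣ n := by
    intro h
    apply h25
    obtain ⟨m, rfl⟩ := h
    exact ⟨11 * m, by ring⟩
  have hn7 : ¬ 7 ∣ n := fun h => h7 (Dvd.dvd.mul_left h 55)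
  have hc5 : Nat.Coprime n 5 := ((Nat.Prime.coprime_iff_not_dvd Nat.prime_five).mpr hn5).symm
  have hc7 : Nat.Coprime n 7 :=
    ((Nat.Prime.coprime_iff_not_dvd (by norm_num : Nat.Prime 7)).mpr hn7).symm
  have hc35 : Nat.Coprime n 35 := by
    have := Nat.Coprime.mul_right hc5 hc7
    norm_num at this
    exact this
  have hn2 : n ∣ 20736 := Nat.Coprime.dvd_of_dvd_mul_right hc35 hn1
  have h20736 : (20736 : ℕ) = 2 ^ 8 * 3 ^ 4 := by norm_num
  rw [h20736] at hn2
  obtain ⟨a, b, ha, hb, hab⟩ := (Nat.dvd_mul).mp hn2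
  obtain ⟨i, hi, rfl⟩ := (Nat.dvd_prime_pow Nat.prime_two).mp ha
  obtain ⟨j, hj, rfl⟩ := (Nat.dvd_prime_pow Nat.prime_three).mp hb
  have hi8 : i ≠ 8 := by
    rintro rfl
    apply h256
    rw [← hab]
    exact Dvd.dvd.mul_left (Dvd.intro _ rfl) 55
  have hj4 : j ≠ 4 := by
    rintro rfl
    apply h81
    rw [← hab]
    exact Dvd.dvd.mul_left (Dvd.intro_left _ rfl) 55
  have hi7 : i ≤ 7 := by omega
  have hj3 : j ≤ 3 := by omega
  subst hab
  interval_cases i <;> interval_cases j <;> omega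

end Cfsg.Agent.S0679P
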