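import Mathlib
import Cfsg.Agent.Helper1.S0679ORDERS

set_option autoImplicit false
set_option linter.unusedSectionVars false
set_option linter.unusedVariables false

/-! # S0679, piece 1-ORDERS in helper4's shape (helper1): from `ORDERS` (Helper1.S0679ORDERS) + `110 ∣ |G|`. -/

namespace Cfsg.Agent.S0679P

open Equiv MulAction

variable {α : Type*} [Fintype α] [DecidableEq α] {G : Subgroup (Equiv.Perm α)}

/-- a 2-transitive group of degree 11 has order divisible by 110 -/
theorem ONE.ORDERS.aux_110 (h11 : Fintype.card α = 11) (h2 : IsMultiplyPretransitive G α 2) :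
    110 ∣ Nat.card G := by
  have hex : ∀ x y : Fin 2 ↪ α, ∃ g : G, g • x = y := fun x y =>
    (isMultiplyPretransitive_iff.mp h2) x y
  obtain ⟨x⟩ : Nonempty (Fin 2 ↪ α) :=
    Function.Embedding.nonempty_of_card_le (by rw [Fintype.card_fin, h11]; norm_num)
  have h1 : Nat.card (orbit G x) * Nat.card (stabilizer G x) = Nat.card G := by
    rw [← Nat.card_prod]; exact Nat.card_congr (orbitProdStabilizerEquivGroup G x)
  have h2' : orbit G x = Set.univ := by
    ext z
    simp only [Set.mem_univ, iff_true]
    obtain ⟨g, hg⟩ := hex x z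
    exact ⟨g, hg⟩
  have h3 : Nat.card (orbit G x) = 110 := by
    rw [h2', Nat.card_congr (Equiv.Set.univ _), Nat.card_eq_fintype_card, Fintype.card_embedding_eq,
      Fintype.card_fin, h11]
    rfl
  rw [h3] at h1
  exact Dvd.intro _ h1

theorem ONE.ORDERS (h11 : Fintype.card α = 11) (h2 : IsMultiplyPretransitive G α 2)
    (hA : ¬ alternatingGroup α ≤ G) {n : ℕ} (hn : n % 11 = 1) (hord : Nat.card G = 11 * 5 * n) :
    Nat.card G = 660 ∨ Nat.card G = 7920 ∨ Nat.card G = 95040 := by
  have h55 : Nat.card G = 55 * n := by rw [hord]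
  have h110 := ONE.ORDERS.aux_110 h11 h2
  rcases _root_.Cfsg.Agent.S0679P.ORDERS h11 h2 hA h55 hn with rfl | rfl | rfl | rfl
  · exfalso
    rw [hord] at h110
    omega
  · left; rw [hord]
  · right; left; rw [hord]
  · right; right; rw [hord]

end Cfsg.Agent.S0679P
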