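import Mathlib
import Cfsg.Agent.Helper5.GCr

/-!
# S4504, modular half: shared definitions

Everything here lives in `Cfsg.Agent.S4504P`.  The modular half proves `mod_index`
(`|G : N_G(P)| = p + 1`) from a faithful complex representation of degree `≤ (p-1)/2`.
We reuse `Cfsg.Agent.Helper5.GC` (`uop`, `trX`, `relTr`, `IsHomOn`, `TIData`, `subR`, ...).
-/

set_option autoImplicit false

namespace Cfsg.Agent.S4504P

open Cfsg.Agent.Helper5.GC Module

/-- A `kG`-module `M` of dimension `d` on which `x` acts as a single Jordan block, generated by an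
`H`-eigenvector `v`: the vectors `(σ x - 1)^j v`, `j < d`, form a basis and `(σ x - 1)^d v = 0`. -/
structure JData {k : Type*} [Field k] {G : Type*} [Group G] (H : Subgroup G) (x : G)
    {M : Type*} [AddCommGroup M] [Module k M] (σ : Representation k G M) (d : ℕ) where
  v : M
  μ : G → k
  hμ : ∀ h ∈ H, σ h v = μ h • v
  hli : LinearIndependent k (fun j : Fin d => (uop σ x ^ (j : ℕ)) v)
  hspan : Submodule.span k (Set.range fun j : Fin d => (uop σ x ^ (j : ℕ)) v) = ⊤
  hzero : (uop σ x ^ d) v = 0

/-- The trace form `(φ, ψ) ↦ tr (φ ψ)` on `End_k(M)`. -/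
noncomputable def trF (k : Type*) [Field k] (M : Type*) [AddCommGroup M] [Module k M] :
    LinearMap.BilinForm k (Module.End k M) :=
  (LinearMap.mul k (Module.End k M)).compr₂ (LinearMap.trace k M)

theorem trF_apply {k : Type*} [Field k] {M : Type*} [AddCommGroup M] [Module k M]
    (φ ψ : Module.End k M) : trF k M φ ψ = LinearMap.trace k M (φ * ψ) := rfl

/-- The conjugation representation of `G` on `End_k(M)`: `g · φ = σ g ∘ φ ∘ σ g⁻¹`. -/
noncomputable abbrev Ad {k : Type*} [Field k] {G : Type*} [Group G]
    {M : Type*} [AddCommGroup M] [Module k M] (σ : Representation k G M) :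
    Representation k G (Module.End k M) :=
  σ.linHom σ

theorem Ad_apply {k : Type*} [Field k] {G : Type*} [Group G]
    {M : Type*} [AddCommGroup M] [Module k M] (σ : Representation k G M) (g : G)
    (φ : Module.End k M) : Ad σ g φ = σ g * φ * σ g⁻¹ := rfl

/-- The subgroup of elements acting on `U` by scalars. -/
def scalarKer {k : Type*} [Field k] {G : Type*} [Group G]
    {U : Type*} [AddCommGroup U] [Module k U] (θ : Representation k G U) : Subgroup G where
  carrier := {g | ∃ c : k, θ g = c • (1 : Module.End k U)}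
  one_mem' := ⟨1, by rw [map_one, one_smul]⟩
  mul_mem' := by
    rintro a b ⟨c, hc⟩ ⟨c', hc'⟩
    refine ⟨c * c', ?_⟩
    rw [map_mul, hc, hc', smul_mul_smul_comm, mul_one]
  inv_mem' := by
    rintro a ⟨c, hc⟩
    rcases subsingleton_or_nontrivial (Module.End k U) with h | h
    · exact ⟨0, Subsingleton.elim _ _⟩
    have h1 : θ a * θ a⁻¹ = 1 := by rw [← map_mul, mul_inv_cancel, map_one]
    have hc0 : c ≠ 0 := by
      rintro rfl
      rw [hc, zero_smul, zero_mul] at h1
      exact zero_ne_one h1
    refine ⟨c⁻¹, ?_⟩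
    have h2 : c • θ a⁻¹ = 1 := by rw [← h1, hc, smul_mul_assoc, one_mul]
    rw [← h2, smul_smul, inv_mul_cancel₀ hc0, one_smul]

theorem mem_scalarKer {k : Type*} [Field k] {G : Type*} [Group G]
    {U : Type*} [AddCommGroup U] [Module k U] (θ : Representation k G U) (g : G) :
    g ∈ scalarKer θ ↔ ∃ c : k, θ g = c • (1 : Module.End k U) := Iff.rfl

/-- Isotropic lines of a bilinear form. -/
@[ext] structure IsoLine {k : Type*} [Field k] {U : Type*} [AddCommGroup U] [Module k U]
    (B : LinearMap.BilinForm k U) where
  /-- the underlying subspace -/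
  line : Submodule k U
  rank_one : finrank k line = 1
  iso : ∀ v ∈ line, B v v = 0

section IsoAction

variable {k : Type*} [Field k] {G : Type*} [Group G]
  {U : Type*} [AddCommGroup U] [Module k U]

theorem rep_injective (θ : Representation k G U) (g : G) : Function.Injective (θ g) := by
  intro a b hab
  have h : ∀ v, θ g⁻¹ (θ g v) = v := fun v => rep_inv_apply θ g v
  rw [← h a, ← h b, hab]

/-- The action of `G` on the isotropic lines of an invariant form. -/
@[reducible] noncomputable def isoAction (θ : Representation k G U) (B : LinearMap.BilinForm k U)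
    (hinv : ∀ g v w, B (θ g v) (θ g w) = B v w) : MulAction G (IsoLine B) where
  smul g ℓ := ⟨ℓ.line.map (θ g),
    (LinearEquiv.finrank_eq
        (Submodule.equivMapOfInjective (θ g) (rep_injective θ g) ℓ.line).symm).trans ℓ.rank_one,
    by
      rintro _ ⟨v, hv, rfl⟩
      rw [hinv]
      exact ℓ.iso v hv⟩
  one_smul ℓ := by
    apply IsoLine.ext
    show ℓ.line.map (θ 1) = ℓ.line
    rw [map_one]
    exact Submodule.map_id _
  mul_smul g h ℓ := by
    apply IsoLine.ext
    show ℓ.line.map (θ (g * h)) = (ℓ.line.map (θ h)).map (θ g)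
    rw [map_mul]
    exact Submodule.map_comp (θ h) (θ g) ℓ.line

theorem isoAction_smul_line (θ : Representation k G U) (B : LinearMap.BilinForm k U)
    (hinv : ∀ g v w, B (θ g v) (θ g w) = B v w) (g : G) (ℓ : IsoLine B) :
    (letI := isoAction θ B hinv; (g • ℓ : IsoLine B)).line = ℓ.line.map (θ g) := rfl

end IsoAction

end Cfsg.Agent.S4504P
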