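import Mathlib
import Cfsg.Agent.Helper1.S4504MDefs

/-!
# S0997 (Brauer–Tuan), the "TUAN" half: shared definitions

Namespace `Cfsg.Agent.S0997P`.  The TUAN half proves `tuan_index`: a finite group with a Sylow
`p`-subgroup `P` of order `p ≡ 1 (mod 4)`, `C(P) = P × Z(G)`, `|N(P) : C(P)| ≥ (p-1)/2`, and a
faithful real irreducible character of degree `(p+1)/2` has `|G : N(P)| = p + 1`.
It reuses the modular machinery of S4504 (`Cfsg.Agent.S4504P`, `Cfsg.Agent.Helper5.GC`).
-/

set_option autoImplicit false

namespace Cfsg.Agent.S0997P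

open Cfsg.Agent.Helper5.GC Module Cfsg.Agent.S4504P

/-- The endomorphisms of `M` that are skew-adjoint for the bilinear form `β`. -/
def skewSub {k : Type*} [Field k] {M : Type*} [AddCommGroup M] [Module k M]
    (β : LinearMap.BilinForm k M) : Submodule k (Module.End k M) where
  carrier := {φ | ∀ v w, β (φ v) w + β v (φ w) = 0}
  zero_mem' := by
    intro v w
    simp
  add_mem' := by
    intro φ ψ hφ hψ v w
    have h1 := hφ v w
    have h2 := hψ v w
    simp only [LinearMap.add_apply, map_add] at h1 h2 ⊢
    linear_combination h1 + h2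
  smul_mem' := by
    intro c φ hφ v w
    have h1 := hφ v w
    simp only [LinearMap.smul_apply, map_smul, smul_eq_mul] at h1 ⊢
    linear_combination c * h1

theorem mem_skewSub {k : Type*} [Field k] {M : Type*} [AddCommGroup M] [Module k M]
    (β : LinearMap.BilinForm k M) (φ : Module.End k M) :
    φ ∈ skewSub β ↔ ∀ v w, β (φ v) w + β v (φ w) = 0 := Iff.rfl

/-- The skew-adjoint part `(φ - φ†)/2` of an endomorphism, for a nondegenerate form `β`
(`φ†` is Mathlib's `LinearMap.BilinForm.leftAdjointOfNondegenerate`). -/
noncomputable def skewPart {k : Type*} [Field k] {M : Type*} [AddCommGroup M] [Module k M]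
    [FiniteDimensional k M] (β : LinearMap.BilinForm k M) (hβn : β.Nondegenerate)
    (φ : Module.End k M) : Module.End k M :=
  (2 : k)⁻¹ • (φ - β.leftAdjointOfNondegenerate hβn φ)

end Cfsg.Agent.S0997P
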