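import Mathlib
import Cfsg.Agent.Helper1.S4504MDefs
import Cfsg.Agent.Helper13.S4504IDEAL
import Cfsg.Agent.Helper13.S4504IDEM
import Cfsg.Agent.Helper13.S4504CONJ

/-!
# S4504 MOD, piece LIFT: Green lifting of `N`-equivariant idempotents (TI case)
-/

set_option autoImplicit false

namespace Cfsg.Agent.S4504P

open Cfsg.Agent.Helper5.GC Module

section
variable {k : Type*} [Field k] {G : Type*} [Group G] {A : Type*} [AddCommGroup A] [Module k A]

private theorem commute_of_isHomOn {ρ : Representation k G A} {L : Subgroup G} {φ : Module.End k A}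
    (h : IsHomOn ρ ρ L φ) {g : G} (hg : g ∈ L) : Commute φ (ρ g) := by
  apply LinearMap.ext
  intro v
  exact h g hg v

private theorem isHomOn_of_commute {ρ : Representation k G A} {L : Subgroup G} {φ : Module.End k A}
    (h : ∀ g ∈ L, Commute φ (ρ g)) : IsHomOn ρ ρ L φ := by
  intro g hg v
  have := congrArg (fun F : Module.End k A => F v) (h g hg).eq
  exact this

private theorem mem_centralizer_of_mem_adjoin {ρ : Representation k G A} {e φ : Module.End k A}
    (he : ∀ g : G, Commute e (ρ g)) (hφ : φ ∈ Algebra.adjoin k {e}) : ∀ g : G, Commute φ (ρ g) := by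
  intro g
  have hle : Algebra.adjoin k {e} ≤ Subalgebra.centralizer k {ρ g} := by
    apply Algebra.adjoin_le
    intro y hy
    rw [Set.mem_singleton_iff] at hy
    subst hy
    rw [SetLike.mem_coe, Subalgebra.mem_centralizer_iff]
    intro z hz
    rw [Set.mem_singleton_iff] at hz
    subst hz
    exact (he g).eq.symm
  have := hle hφ
  rw [Subalgebra.mem_centralizer_iff] at this
  exact (this (ρ g) rfl).symm

end

theorem lift_idempotent {k : Type*} [Field k] {G : Type*} [Group G] [Finite G]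
    {N H : Subgroup G} {x : G} {p : ℕ} [Fact p.Prime] [CharP k p] (hd : TIData G N H x p)
    {A : Type*} [AddCommGroup A] [Module k A] (ρ : Representation k G A)
    (hu : uop ρ x ^ (p - 1) = 0) (π : Module.End k A) (hπ : π * π = π) (hπN : IsHomOn ρ ρ N π) :
    ∃ ε w : Module.End k A, ε * ε = ε ∧ IsHomOn ρ ρ ⊤ ε ∧ IsUnit w ∧ IsHomOn ρ ρ N w ∧
      ε * w = w * π ∧ ε ∈ Algebra.adjoin k {relTr ρ ρ N π} := by
  have hp : p.Prime := Fact.out
  obtain ⟨μ, hμ⟩ := relTr_sub_self hπN x hd.hxN p hp.pos hd.hxp hd.ti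
  set e₀ : Module.End k A := relTr ρ ρ N π with he₀def
  set τ : Module.End k A := e₀ - π with hτdef
  have hτ : InI ρ x τ := by rw [hμ]; exact trX_inI ρ x p hd.hxp hu μ
  have hπx : Commute π (ρ x) := commute_of_isHomOn hπN hd.hxN
  have he₀G : ∀ g : G, Commute e₀ (ρ g) := fun g =>
    commute_of_isHomOn (isHomOn_relTr hπN) (Subgroup.mem_top g)
  have he₀ : e₀ = π + τ := by rw [hτdef]; abel
  -- ν = e₀² - e₀ lies in the ideal
  have hν : InI ρ x (e₀ * e₀ - e₀) := by
    have h1 : e₀ * e₀ - e₀ = π * τ + τ * π + τ * τ - τ := by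
      rw [he₀]
      have : (π + τ) * (π + τ) = π * π + π * τ + τ * π + τ * τ := by noncomm_ring
      rw [this, hπ]
      abel
    rw [h1]
    exact (((hτ.mul_left ρ x hπx).add ρ x (hτ.mul_right ρ x hπx)).add ρ x
      (hτ.mul_right ρ x hτ.1)).sub ρ x hτ
  have hνnil : (e₀ * e₀ - e₀) ^ (p - 1) = 0 := hν.pow_eq_zero ρ x (p - 1) hu
  obtain ⟨ε, hεmem, hεid, r, hrmem, hεr⟩ := exists_idempotent_lift (k := k) e₀ (p - 1) hνnil
  have hεG : ∀ g : G, Commute ε (ρ g) := mem_centralizer_of_mem_adjoin he₀G hεmem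
  have hrG : ∀ g : G, Commute r (ρ g) := mem_centralizer_of_mem_adjoin he₀G hrmem
  -- ι = ε - π lies in the ideal
  have hι : InI ρ x (ε - π) := by
    have h1 : ε - π = (e₀ * e₀ - e₀) * r + τ := by rw [← hεr, hτdef]; abel
    rw [h1]
    exact (hν.mul_right ρ x (hrG x)).add ρ x hτ
  have h2π : Commute (2 * π - 1) (ρ x) :=
    ((Commute.ofNat_left 2 (ρ x)).mul_left hπx).sub_left (Commute.one_left _)
  have hιπ : InI ρ x ((ε - π) * (2 * π - 1)) := hι.mul_right ρ x h2π
  have hnil : ((ε - π) * (2 * π - 1)) ^ (p - 1) = 0 := hιπ.pow_eq_zero ρ x (p - 1) hu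
  obtain ⟨hwu, hwc⟩ := conj_idempotents ε π hεid hπ (p - 1) hnil
  refine ⟨ε, 1 + (ε - π) * (2 * π - 1), hεid, isHomOn_of_commute fun g _ => hεG g, hwu, ?_, hwc,
    hεmem⟩
  apply isHomOn_of_commute
  intro g hg
  have hπg : Commute π (ρ g) := commute_of_isHomOn hπN hg
  have h2πg : Commute (2 * π - 1) (ρ g) :=
    ((Commute.ofNat_left 2 (ρ g)).mul_left hπg).sub_left (Commute.one_left _)
  exact (Commute.one_left _).add_left (((hεG g).sub_left hπg).mul_left h2πg)

end Cfsg.Agent.S4504P
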