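import Mathlib
import Cfsg.Agent.Helper1.S4504MDefs

/-!
# S4504 MOD: glue lemmas for the final assembly
-/

set_option autoImplicit false

namespace Cfsg.Agent.S4504P

open Cfsg.Agent.Helper5.GC Module

section General

variable {k : Type*} [Field k] {A : Type*} [AddCommGroup A] [Module k A]

theorem range_eq_map_of_conj {ε w π : Module.End k A} (hw : IsUnit w) (h : ε * w = w * π) :
    LinearMap.range ε = (LinearMap.range π).map w := by
  obtain ⟨w', hww', hw'w⟩ := isUnit_iff_exists.mp hw
  ext a
  constructor
  · rintro ⟨b, rfl⟩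
    have hb : b = w (w' b) := by
      have := congrArg (fun F : Module.End k A => F b) hww'
      simpa only [Module.End.mul_apply, Module.End.one_apply] using this.symm
    refine ⟨π (w' b), ⟨_, rfl⟩, ?_⟩
    have := congrArg (fun F : Module.End k A => F (w' b)) h
    simp only [Module.End.mul_apply] at this
    rw [← this, ← hb]
  · rintro ⟨_, ⟨b, rfl⟩, rfl⟩
    refine ⟨w b, ?_⟩
    have := congrArg (fun F : Module.End k A => F b) h
    simpa only [Module.End.mul_apply] using this

theorem unit_injective {w : Module.End k A} (hw : IsUnit w) : Function.Injective w := by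
  obtain ⟨w', hww', hw'w⟩ := isUnit_iff_exists.mp hw
  intro a b hab
  have h : ∀ c, w' (w c) = c := by
    intro c
    have := congrArg (fun F : Module.End k A => F c) hw'w
    simpa only [Module.End.mul_apply, Module.End.one_apply] using this
  rw [← h a, ← h b, hab]

theorem finrank_range_eq_of_conj {ε w π : Module.End k A} (hw : IsUnit w) (h : ε * w = w * π) :
    finrank k (LinearMap.range ε) = finrank k (LinearMap.range π) := by
  rw [range_eq_map_of_conj hw h]
  exact (LinearEquiv.finrank_eq
    (Submodule.equivMapOfInjective w (unit_injective hw) (LinearMap.range π))).symm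

end General

section Rep

variable {k : Type*} [Field k] {G : Type*} [Group G] {A : Type*} [AddCommGroup A] [Module k A]

theorem range_stable {ρ : Representation k G A} {ε : Module.End k A} (hε : IsHomOn ρ ρ ⊤ ε) :
    ∀ g : G, ∀ v ∈ LinearMap.range ε, ρ g v ∈ LinearMap.range ε := by
  rintro g _ ⟨b, rfl⟩
  exact ⟨ρ g b, hε g (Subgroup.mem_top g) b⟩

theorem uop_subR_pow_coe (ρ : Representation k G A) (Z : Submodule k A)
    (hZ : ∀ g : G, ∀ v ∈ Z, ρ g v ∈ Z) (x : G) (j : ℕ) (z : Z) :
    (((uop (subR ρ Z hZ) x ^ j) z : Z) : A) = (uop ρ x ^ j) (z : A) := by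
  induction j generalizing z with
  | zero => simp
  | succ j ih =>
    rw [pow_succ, Module.End.mul_apply, pow_succ, Module.End.mul_apply, ih]
    congr 1

theorem uop_pow_eq_zero_of_JData {H : Subgroup G} {x : G} {σ : Representation k G A} {d : ℕ}
    (J : JData H x σ d) : uop σ x ^ d = 0 := by
  apply LinearMap.ext_on_range J.hspan
  intro j
  rw [LinearMap.zero_apply, ← Module.End.mul_apply, ← pow_add, add_comm, pow_add,
    Module.End.mul_apply, J.hzero, map_zero]

end Rep

end Cfsg.Agent.S4504P
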