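import Mathlib

/-!
# S4504 MOD, piece MODEL (part a): `sl₂` acting on polynomials, identities in `k[X]`
-/

set_option autoImplicit false

namespace Cfsg.Agent.Helper1.S4504Model

open Polynomial

variable {k : Type*} [Field k]

/-- multiplication by `X` -/
noncomputable def mX : k[X] →ₗ[k] k[X] := LinearMap.mulLeft k (X : k[X])

@[simp] theorem mX_apply (f : k[X]) : mX f = X * f := rfl

/-- scaling `f(X) ↦ f(cX)` -/
noncomputable def Rc (c : k) : k[X] →ₗ[k] k[X] := (aeval (C c * X : k[X])).toLinearMap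

theorem Rc_apply (c : k) (f : k[X]) : Rc c f = f.comp (C c * X) := by
  rw [comp_eq_aeval]; rfl

/-- `E = d/dX` -/
noncomputable def E0 : k[X] →ₗ[k] k[X] := derivative

@[simp] theorem E0_apply (f : k[X]) : (E0 : k[X] →ₗ[k] k[X]) f = derivative f := rfl

/-- `H = n - 2 X d/dX` -/
noncomputable def H0 (n : ℕ) : k[X] →ₗ[k] k[X] :=
  (n : k) • LinearMap.id - (2 : k) • (mX ∘ₗ derivative)

theorem H0_apply (n : ℕ) (f : k[X]) :
    H0 n f = C (n : k) * f - C 2 * (X * derivative f) := by
  simp [H0, smul_eq_C_mul]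

/-- `F = n X - X² d/dX` -/
noncomputable def F0 (n : ℕ) : k[X] →ₗ[k] k[X] :=
  (n : k) • mX - mX ∘ₗ mX ∘ₗ derivative

theorem F0_apply (n : ℕ) (f : k[X]) :
    F0 n f = C (n : k) * (X * f) - X * (X * derivative f) := by
  simp [F0, smul_eq_C_mul]

theorem C_two : (C (2 : k) : k[X]) = 2 := map_ofNat C 2

theorem derivative_taylor' (c : k) (f : k[X]) :
    derivative (taylor c f) = taylor c (derivative f) := by
  rw [taylor_apply, derivative_comp, taylor_apply]
  simp

theorem taylor_X_mul (c : k) (f : k[X]) : taylor c (X * f) = (X + C c) * taylor c f := by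
  rw [taylor_mul, taylor_X]

theorem derivative_Rc (c : k) (f : k[X]) : derivative (Rc c f) = C c * Rc c (derivative f) := by
  rw [Rc_apply, Rc_apply, derivative_comp]
  simp

theorem Rc_X_mul (c : k) (f : k[X]) : Rc c (X * f) = C c * X * Rc c f := by
  rw [Rc_apply, Rc_apply, mul_comp, X_comp]

theorem Rc_C_mul (c a : k) (f : k[X]) : Rc c (C a * f) = C a * Rc c f := by
  rw [Rc_apply, Rc_apply, mul_comp, C_comp]

theorem taylor_one_Rc (c : k) (f : k[X]) : taylor 1 (Rc c f) = Rc c (taylor c f) := by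
  rw [Rc_apply, Rc_apply, taylor_apply, taylor_apply, comp_assoc, comp_assoc]
  congr 1
  simp [mul_add]

theorem Rc_X_pow (c : k) (n : ℕ) : Rc c (X ^ n) = C (c ^ n) * X ^ n := by
  rw [Rc_apply, X_pow_comp, mul_pow, C_pow]

/-! ### relations -/

theorem rel_TE (c : k) (f : k[X]) : taylor c (E0 f) = E0 (taylor c f) := by
  simp [derivative_taylor']

theorem rel_TH (n : ℕ) (c : k) (f : k[X]) :
    taylor c (H0 n f) = H0 n (taylor c f) - C (2 * c) * E0 (taylor c f) := by
  simp only [H0_apply, E0_apply, map_sub, taylor_mul, taylor_C, taylor_X, derivative_taylor']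
  rw [C_mul]
  simp only [C_two]
  ring

theorem rel_TF (n : ℕ) (c : k) (f : k[X]) :
    taylor c (F0 n f) =
      F0 n (taylor c f) + C c * H0 n (taylor c f) - C (c * c) * E0 (taylor c f) := by
  simp only [H0_apply, F0_apply, E0_apply, map_sub, taylor_mul, taylor_C, taylor_X,
    derivative_taylor']
  rw [C_mul]
  simp only [C_two]
  ring

theorem rel_RE (c : k) (f : k[X]) : C c * Rc c (E0 f) = E0 (Rc c f) := by
  simp [derivative_Rc]

theorem rel_RH (n : ℕ) (c : k) (f : k[X]) : Rc c (H0 n f) = H0 n (Rc c f) := by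
  simp only [H0_apply, map_sub, Rc_C_mul, Rc_X_mul, derivative_Rc]
  ring

theorem rel_RF (n : ℕ) (c : k) (f : k[X]) : Rc c (F0 n f) = C c * F0 n (Rc c f) := by
  simp only [F0_apply, map_sub, Rc_C_mul, Rc_X_mul, derivative_Rc]
  ring

theorem rel_HE (n : ℕ) (f : k[X]) : H0 n (E0 f) - E0 (H0 n f) = C 2 * E0 f := by
  simp only [H0_apply, E0_apply, map_sub, derivative_mul, derivative_C, derivative_X]
  ring

theorem rel_EF (n : ℕ) (f : k[X]) : E0 (F0 n f) - F0 n (E0 f) = H0 n f := by
  simp only [H0_apply, F0_apply, E0_apply, map_sub, derivative_mul, derivative_C, derivative_X]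
  simp only [C_two]
  ring

theorem rel_HF (n : ℕ) (f : k[X]) : H0 n (F0 n f) - F0 n (H0 n f) = -(C 2 * F0 n f) := by
  simp only [H0_apply, F0_apply, map_sub, derivative_mul, derivative_C, derivative_X]
  simp only [C_two]
  ring

end Cfsg.Agent.Helper1.S4504Model
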