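import Mathlib
import Cfsg.Agent.Helper1.S4504MODELa

/-!
# S4504 MOD, piece MODEL (part b): finite differences and nilpotent chains
-/

set_option autoImplicit false

namespace Cfsg.Agent.Helper1.S4504Model

open Polynomial

variable {k : Type*} [Field k]

/-- the forward difference `f(X+1) - f(X)` -/
noncomputable def D1 : k[X] →ₗ[k] k[X] := taylor 1 - LinearMap.id

theorem D1_apply (f : k[X]) : D1 f = taylor 1 f - f := rfl

theorem D1_mem (m : ℕ) (f : k[X]) (hf : f ∈ degreeLT k (m + 1)) : D1 f ∈ degreeLT k m := by
  rw [mem_degreeLT] at hf ⊢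
  by_cases h0 : f = 0
  · subst h0
    simp only [map_zero, degree_zero]
    exact WithBot.bot_lt_coe _
  have h1 : (taylor 1 f - f).degree < (taylor (1 : k) f).degree := by
    apply degree_sub_lt_left (degree_taylor f 1)
    · rwa [Ne, taylor_eq_zero]
    · exact leadingCoeff_taylor (r := (1 : k)) (f := f)
  rw [degree_taylor] at h1
  rw [D1_apply]
  have h2 : f.degree ≤ (m : ℕ) := by
    rw [degree_le_iff_coeff_zero]
    intro j hj
    exact (degree_lt_iff_coeff_zero f (m + 1)).mp hf j (by exact_mod_cast Nat.succ_le_of_lt (by exact_mod_cast hj))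
  exact lt_of_lt_of_le h1 h2

theorem coeff_D1 (m : ℕ) (f : k[X]) (hf : f ∈ degreeLT k (m + 2)) :
    (D1 f).coeff m = ((m : k) + 1) * f.coeff (m + 1) := by
  rw [D1_apply, coeff_sub, taylor_coeff]
  have hf' : ∀ j, m + 2 ≤ j → f.coeff j = 0 := by
    rw [mem_degreeLT] at hf
    exact (degree_lt_iff_coeff_zero f (m + 2)).mp hf
  have h1 : hasseDeriv m f = C (f.coeff m) + C (((m : k) + 1) * f.coeff (m + 1)) * X := by
    ext j
    rw [hasseDeriv_coeff, coeff_add, coeff_C, coeff_C_mul, coeff_X]
    rcases j with _ | _ | j
    · simp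
    · simp [add_comm]
    · have : f.coeff (j + 1 + 1 + m) = 0 := hf' _ (by omega)
      simp [this]
  rw [h1]
  simp

theorem D1_pow (m : ℕ) : ∀ f : k[X], f ∈ degreeLT k (m + 1) →
    (D1 ^ m) f = C ((m.factorial : k) * f.coeff m) ∧ (D1 ^ (m + 1)) f = 0 := by
  induction m with
  | zero =>
    intro f hf
    have hf1 : f.degree ≤ 0 := by
      rw [mem_degreeLT] at hf
      have h0 : f.degree ≤ ((0 : ℕ) : WithBot ℕ) := by
        rw [degree_le_iff_coeff_zero]
        intro j hj
        exact (degree_lt_iff_coeff_zero f (0 + 1)).mp hf j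
          (by exact_mod_cast Nat.succ_le_of_lt (by exact_mod_cast hj))
      simpa using h0
    have hC := eq_C_of_degree_le_zero hf1
    constructor
    · simp only [pow_zero, Module.End.one_apply, Nat.factorial_zero, Nat.cast_one, one_mul]
      exact hC
    · rw [zero_add, pow_one, D1_apply, hC, taylor_C, sub_self]
  | succ m ih =>
    intro f hf
    have hg := D1_mem (m + 1) f hf
    obtain ⟨h1, h2⟩ := ih (D1 f) hg
    constructor
    · rw [pow_succ, Module.End.mul_apply, h1, coeff_D1 m f hf]
      congr 1
      rw [Nat.factorial_succ]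
      push_cast
      ring
    · rw [pow_succ, Module.End.mul_apply, h2]

/-- a nilpotent chain is linearly independent -/
theorem linearIndependent_chain {V : Type*} [AddCommGroup V] [Module k V] (N : Module.End k V)
    (v : V) (n : ℕ) (h1 : (N ^ n) v ≠ 0) (h2 : (N ^ (n + 1)) v = 0) :
    LinearIndependent k (fun j : Fin (n + 1) => (N ^ (j : ℕ)) v) := by
  rw [Fintype.linearIndependent_iff]
  intro g hg
  have hhigh : ∀ m, n + 1 ≤ m → (N ^ m) v = 0 := by
    intro m hm
    obtain ⟨r, rfl⟩ := Nat.exists_eq_add_of_le hm
    rw [add_comm, pow_add, Module.End.mul_apply, h2, map_zero]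
  -- strong induction on the index
  have key : ∀ m : ℕ, ∀ i : Fin (n + 1), (i : ℕ) < m → g i = 0 := by
    intro m
    induction m with
    | zero => intro i hi; omega
    | succ m ih =>
      intro i hi
      by_cases him : (i : ℕ) < m
      · exact ih i him
      have him' : (i : ℕ) = m := by omega
      -- apply N^(n - m)
      have h3 := congrArg (fun w => (N ^ (n - m)) w) hg
      simp only [map_sum, map_smul, map_zero] at h3
      have h4 : ∀ j : Fin (n + 1), j ≠ i → g j • (N ^ (n - m)) ((N ^ (j : ℕ)) v) = 0 := by
        intro j hj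
        by_cases hjm : (j : ℕ) < m
        · rw [ih j hjm, zero_smul]
        · have hjgt : m < (j : ℕ) := by
            rcases Nat.lt_or_ge m j with h | h
            · exact h
            · exfalso
              apply hj
              apply Fin.ext
              omega
          rw [← Module.End.mul_apply, ← pow_add, hhigh _ (by omega), smul_zero]
      rw [Finset.sum_eq_single i (fun j _ hj => h4 j hj) (fun h => absurd (Finset.mem_univ i) h)]
        at h3
      rw [← Module.End.mul_apply, ← pow_add, him', Nat.sub_add_cancel (by omega)] at h3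
      rcases smul_eq_zero.mp h3 with h | h
      · exact h
      · exact absurd h h1
  intro i
  exact key (n + 1) i i.2

end Cfsg.Agent.Helper1.S4504Model
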