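import Mathlib
import Cfsg.Agent.Helper1.S4504MODELb

/-!
# S4504 MOD, piece MODEL (part c): the operators preserve `k[X]_(n+1)`; the trace of `E F`
-/

set_option autoImplicit false

namespace Cfsg.Agent.Helper1.S4504Model

open Polynomial

variable {k : Type*} [Field k]

theorem mem_iff_coeff (N : ℕ) (f : k[X]) : f ∈ degreeLT k N ↔ ∀ j, N ≤ j → f.coeff j = 0 := by
  rw [mem_degreeLT]
  exact degree_lt_iff_coeff_zero f N

theorem E0_mem (N : ℕ) (f : k[X]) (hf : f ∈ degreeLT k N) : E0 f ∈ degreeLT k N := by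
  rw [mem_iff_coeff] at hf ⊢
  intro j hj
  rw [E0_apply, coeff_derivative, hf (j + 1) (by omega), zero_mul]

theorem coeff_H0 (n : ℕ) (f : k[X]) (j : ℕ) :
    (H0 n f).coeff j = ((n : k) - 2 * j) * f.coeff j := by
  rw [H0_apply, coeff_sub, coeff_C_mul, coeff_C_mul]
  rcases j with _ | j
  · simp
  · rw [coeff_X_mul, coeff_derivative]
    push_cast
    ring

theorem H0_mem (n N : ℕ) (f : k[X]) (hf : f ∈ degreeLT k N) : H0 n f ∈ degreeLT k N := by
  rw [mem_iff_coeff] at hf ⊢
  intro j hj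
  rw [coeff_H0, hf j hj, mul_zero]

theorem coeff_F0 (n : ℕ) (f : k[X]) (j : ℕ) :
    (F0 n f).coeff (j + 1) = ((n : k) - j) * f.coeff j := by
  rw [F0_apply, coeff_sub, coeff_C_mul, coeff_X_mul, coeff_X_mul]
  rcases j with _ | j
  · simp
  · rw [coeff_X_mul, coeff_derivative]
    push_cast
    ring

theorem coeff_F0_zero (n : ℕ) (f : k[X]) : (F0 n f).coeff 0 = 0 := by
  rw [F0_apply, coeff_sub, coeff_C_mul]
  simp

theorem F0_mem (n : ℕ) (f : k[X]) (hf : f ∈ degreeLT k (n + 1)) : F0 n f ∈ degreeLT k (n + 1) := by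
  rw [mem_iff_coeff] at hf ⊢
  intro j hj
  obtain ⟨i, rfl⟩ : ∃ i, j = i + 1 := ⟨j - 1, by omega⟩
  rw [coeff_F0]
  rcases Nat.lt_or_ge n i with h | h
  · rw [hf i (by omega), mul_zero]
  · have : i = n := by omega
    subst this
    rw [sub_self, zero_mul]

theorem taylor_mem (c : k) (N : ℕ) (f : k[X]) (hf : f ∈ degreeLT k N) :
    taylor c f ∈ degreeLT k N := taylor_mem_degreeLT.mpr hf

theorem Rc_mem (c : k) (N : ℕ) (f : k[X]) (hf : f ∈ degreeLT k N) : Rc c f ∈ degreeLT k N := by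
  rw [mem_iff_coeff] at hf ⊢
  intro j hj
  rw [Rc_apply, comp_C_mul_X_coeff, hf j hj, zero_mul]

/-- `E F X^i = (n - i)(i + 1) X^i` -/
theorem E0_F0_X_pow (n i : ℕ) :
    E0 (F0 n ((X : k[X]) ^ i)) = C (((n : k) - i) * ((i : k) + 1)) * X ^ i := by
  ext j
  rw [E0_apply, coeff_derivative, coeff_F0, coeff_C_mul, coeff_X_pow]
  by_cases h : j = i
  · subst h
    simp
  · simp [h]

theorem six_mul_sum (n : ℕ) :
    6 * ∑ i ∈ Finset.range (n + 1), (n - i) * (i + 1) = n * (n + 1) * (n + 2) := by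
  induction n with
  | zero => simp
  | succ n ih =>
    have h1 : ∑ i ∈ Finset.range (n + 1 + 1), (n + 1 - i) * (i + 1) =
        ∑ i ∈ Finset.range (n + 1), (n - i) * (i + 1) + ∑ i ∈ Finset.range (n + 1), (i + 1) := by
      rw [Finset.sum_range_succ, Nat.sub_self, zero_mul, add_zero, ← Finset.sum_add_distrib]
      apply Finset.sum_congr rfl
      intro i hi
      rw [Finset.mem_range] at hi
      have : n + 1 - i = (n - i) + 1 := by omega
      rw [this]
      ring
    have h2 : 2 * ∑ i ∈ Finset.range (n + 1), (i + 1) = (n + 1) * (n + 2) := by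
      have := Finset.sum_range_id_mul_two (n + 2)
      rw [Finset.sum_range_succ'] at this
      simp only [add_zero] at this
      have h3 : n + 2 - 1 = n + 1 := by omega
      rw [h3] at this
      linarith
    rw [h1, mul_add, ih]
    nlinarith [h2]

end Cfsg.Agent.Helper1.S4504Model
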