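import Mathlib
import Cfsg.Agent.Helper1.S4504MODELc

/-!
# S4504 MOD, piece MODEL: the `sl₂`-model on polynomials of degree `≤ n`
-/

set_option autoImplicit false

universe u

namespace Cfsg.Agent.Helper1.S4504Model

open Polynomial Module

variable {k : Type u} [Field k]

/-- the model space -/
noncomputable abbrev Vn (k : Type u) [Field k] (n : ℕ) : Submodule k k[X] := degreeLT k (n + 1)

noncomputable def Tv (n : ℕ) (c : k) : Module.End k (Vn k n) :=
  (taylor c).restrict (taylor_mem c (n + 1))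

noncomputable def Rv (n : ℕ) (c : k) : Module.End k (Vn k n) :=
  (Rc c).restrict (Rc_mem c (n + 1))

noncomputable def Ev (n : ℕ) : Module.End k (Vn k n) :=
  (E0 : k[X] →ₗ[k] k[X]).restrict (E0_mem (n + 1))

noncomputable def Hv (n : ℕ) : Module.End k (Vn k n) :=
  (H0 n : k[X] →ₗ[k] k[X]).restrict (H0_mem n (n + 1))

noncomputable def Fv (n : ℕ) : Module.End k (Vn k n) :=
  (F0 n : k[X] →ₗ[k] k[X]).restrict (F0_mem n)

theorem X_pow_mem (n : ℕ) : (X : k[X]) ^ n ∈ Vn k n := by
  rw [mem_degreeLT]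
  exact lt_of_le_of_lt (degree_X_pow_le n) (by exact_mod_cast Nat.lt_succ_self n)

noncomputable def v0 (n : ℕ) : Vn k n := ⟨X ^ n, X_pow_mem n⟩

@[simp] theorem Tv_coe (n : ℕ) (c : k) (v : Vn k n) : ((Tv n c v : Vn k n) : k[X]) = taylor c v := rfl
@[simp] theorem Rv_coe (n : ℕ) (c : k) (v : Vn k n) : ((Rv n c v : Vn k n) : k[X]) = Rc c v := rfl
@[simp] theorem Ev_coe (n : ℕ) (v : Vn k n) : ((Ev n v : Vn k n) : k[X]) = E0 (v : k[X]) := rfl
@[simp] theorem Hv_coe (n : ℕ) (v : Vn k n) : ((Hv n v : Vn k n) : k[X]) = H0 n (v : k[X]) := rfl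
@[simp] theorem Fv_coe (n : ℕ) (v : Vn k n) : ((Fv n v : Vn k n) : k[X]) = F0 n (v : k[X]) := rfl

theorem D1v_pow_coe (n j : ℕ) (v : Vn k n) :
    ((((Tv n 1 - 1) ^ j) v : Vn k n) : k[X]) = (D1 ^ j) (v : k[X]) := by
  induction j generalizing v with
  | zero => simp
  | succ j ih =>
    rw [pow_succ, Module.End.mul_apply, pow_succ, Module.End.mul_apply, ih]
    congr 1

theorem trace_EF (n : ℕ) :
    LinearMap.trace k (Vn k n) (Ev n * Fv n) =
      ((∑ i ∈ Finset.range (n + 1), (n - i) * (i + 1) : ℕ) : k) := by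
  rw [LinearMap.trace_eq_matrix_trace k (degreeLT.basis k (n + 1)), Matrix.trace]
  simp only [Matrix.diag_apply, LinearMap.toMatrix_apply, degreeLT.basis_repr]
  have h1 : ∀ i : Fin (n + 1),
      ((((Ev n * Fv n : Module.End k (Vn k n)) (degreeLT.basis k (n + 1) i) : Vn k n) :
        k[X])).coeff i = (((n - (i : ℕ)) * ((i : ℕ) + 1) : ℕ) : k) := by
    intro i
    rw [Module.End.mul_apply, Ev_coe, Fv_coe, degreeLT.basis_val, E0_F0_X_pow, coeff_C_mul,
      coeff_X_pow, if_pos rfl, mul_one]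
    have hi : (i : ℕ) ≤ n := Nat.lt_succ_iff.mp i.2
    push_cast [Nat.cast_sub hi]
    ring
  rw [Finset.sum_congr rfl fun i _ => h1 i]
  rw [Fin.sum_univ_eq_sum_range (fun i => (((n - i) * (i + 1) : ℕ) : k)) (n + 1)]
  push_cast
  rfl

theorem trace_EF_ne_zero (n : ℕ) (hn1 : 1 ≤ n) (hn : ((n + 2).factorial : k) ≠ 0) :
    LinearMap.trace k (Vn k n) (Ev n * Fv n) ≠ 0 := by
  rw [trace_EF]
  intro h0
  apply hn
  have h1 := six_mul_sum n
  have h2 : ((n * (n + 1) * (n + 2) : ℕ) : k) = 0 := by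
    rw [← h1, Nat.cast_mul, h0, mul_zero]
  have h3 : n * (n + 1) * (n + 2) ∣ (n + 2).factorial := by
    obtain ⟨m, rfl⟩ : ∃ m, n = m + 1 := ⟨n - 1, by omega⟩
    refine ⟨m.factorial, ?_⟩
    rw [Nat.factorial_succ (m + 1 + 1), Nat.factorial_succ (m + 1), Nat.factorial_succ m]
    ring
  obtain ⟨r, hr⟩ := h3
  rw [hr, Nat.cast_mul, h2, zero_mul]

end Cfsg.Agent.Helper1.S4504Model

namespace Cfsg.Agent.S4504P

open Cfsg.Agent.Helper1.S4504Model Polynomial Module

theorem exists_sl2_model (k : Type u) [Field k] (n : ℕ) (hn1 : 1 ≤ n)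
    (hn : ((n + 2).factorial : k) ≠ 0) :
    ∃ (V : Type u) (_ : AddCommGroup V) (_ : Module k V) (_ : FiniteDimensional k V)
      (T R : k → Module.End k V) (E H F : Module.End k V) (v₀ : V),
      finrank k V = n + 1 ∧ T 0 = 1 ∧ (∀ a b, T a * T b = T (a + b)) ∧
      (∀ c, T c * E = E * T c) ∧ (∀ c, T c * H = (H - (2 * c) • E) * T c) ∧
      (∀ c, T c * F = (F + c • H - (c * c) • E) * T c) ∧
      (∀ c, c • (R c * E) = E * R c) ∧ (∀ c, R c * H = H * R c) ∧
      (∀ c, R c * F = c • (F * R c)) ∧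
      (∀ c, T 1 * R c = R c * T c) ∧ (∀ c, R c v₀ = c ^ n • v₀) ∧
      H * E - E * H = (2 : k) • E ∧ E * F - F * E = H ∧ H * F - F * H = -((2 : k) • F) ∧
      LinearMap.trace k V (E * F) ≠ 0 ∧
      LinearIndependent k (fun j : Fin (n + 1) => ((T 1 - 1) ^ (j : ℕ)) v₀) ∧
      ((T 1 - 1) ^ (n + 1)) v₀ = 0 := by
  refine ⟨Vn k n, inferInstance, inferInstance, inferInstance, Tv n, Rv n, Ev n, Hv n, Fv n, v0 n,
    ?_, ?_, ?_, ?_, ?_, ?_, ?_, ?_, ?_, ?_, ?_, ?_, ?_, ?_, ?_, ?_, ?_⟩
  · rw [finrank_eq_card_basis (degreeLT.basis k (n + 1)), Fintype.card_fin]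
  · apply LinearMap.ext; intro v; apply Subtype.ext
    simp
  · intro a b; apply LinearMap.ext; intro v; apply Subtype.ext
    simp [taylor_taylor]
  · intro c; apply LinearMap.ext; intro v; apply Subtype.ext
    simp only [Module.End.mul_apply, Tv_coe, Ev_coe]
    exact rel_TE c _
  · intro c; apply LinearMap.ext; intro v; apply Subtype.ext
    simp only [Module.End.mul_apply, Tv_coe, Hv_coe, LinearMap.sub_apply, LinearMap.smul_apply,
      Submodule.coe_sub, Submodule.coe_smul, Ev_coe]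
    rw [rel_TH, smul_eq_C_mul]
  · intro c; apply LinearMap.ext; intro v; apply Subtype.ext
    simp only [Module.End.mul_apply, Tv_coe, Hv_coe, Fv_coe, LinearMap.sub_apply,
      LinearMap.add_apply, LinearMap.smul_apply, Submodule.coe_sub, Submodule.coe_add,
      Submodule.coe_smul, Ev_coe]
    rw [rel_TF, smul_eq_C_mul, smul_eq_C_mul]
  · intro c; apply LinearMap.ext; intro v; apply Subtype.ext
    simp only [Module.End.mul_apply, Rv_coe, Ev_coe, LinearMap.smul_apply, Submodule.coe_smul]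
    rw [smul_eq_C_mul]
    exact rel_RE c _
  · intro c; apply LinearMap.ext; intro v; apply Subtype.ext
    simp only [Module.End.mul_apply, Rv_coe, Hv_coe]
    exact rel_RH n c _
  · intro c; apply LinearMap.ext; intro v; apply Subtype.ext
    simp only [Module.End.mul_apply, Rv_coe, Fv_coe, LinearMap.smul_apply, Submodule.coe_smul]
    rw [smul_eq_C_mul]
    exact rel_RF n c _
  · intro c; apply LinearMap.ext; intro v; apply Subtype.ext
    simp only [Module.End.mul_apply, Rv_coe, Tv_coe]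
    exact taylor_one_Rc c _
  · intro c; apply Subtype.ext
    rw [Rv_coe, Submodule.coe_smul, smul_eq_C_mul]
    exact Rc_X_pow c n
  · apply LinearMap.ext; intro v; apply Subtype.ext
    simp only [LinearMap.sub_apply, Module.End.mul_apply, LinearMap.smul_apply, Submodule.coe_sub,
      Submodule.coe_smul, Hv_coe, Ev_coe]
    rw [smul_eq_C_mul]
    exact rel_HE n _
  · apply LinearMap.ext; intro v; apply Subtype.ext
    simp only [LinearMap.sub_apply, Module.End.mul_apply, Submodule.coe_sub, Hv_coe, Ev_coe, Fv_coe]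
    exact rel_EF n _
  · apply LinearMap.ext; intro v; apply Subtype.ext
    simp only [LinearMap.sub_apply, Module.End.mul_apply, LinearMap.neg_apply,
      LinearMap.smul_apply, Submodule.coe_sub, Submodule.coe_neg, Submodule.coe_smul, Hv_coe, Fv_coe]
    rw [smul_eq_C_mul]
    exact rel_HF n _
  · exact trace_EF_ne_zero n hn1 hn
  · have hP := D1_pow (k := k) n (X ^ n) (X_pow_mem n)
    apply linearIndependent_chain
    · intro h
      have h1 := congrArg (fun w : Vn k n => (w : k[X])) h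
      simp only [D1v_pow_coe, ZeroMemClass.coe_zero] at h1
      have h2 : (D1 ^ n) ((X : k[X]) ^ n) = 0 := h1
      rw [hP.1, coeff_X_pow, if_pos rfl, mul_one] at h2
      have h3 : (n.factorial : k) = 0 := by
        rw [C_eq_zero] at h2
        exact h2
      apply hn
      have : n.factorial ∣ (n + 2).factorial := Nat.factorial_dvd_factorial (by omega)
      obtain ⟨r, hr⟩ := this
      rw [hr, Nat.cast_mul, h3, zero_mul]
    · apply Subtype.ext
      rw [D1v_pow_coe]
      exact hP.2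
  · have hP := D1_pow (k := k) n (X ^ n) (X_pow_mem n)
    apply Subtype.ext
    rw [D1v_pow_coe]
    exact hP.2

end Cfsg.Agent.S4504P
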