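import Mathlib
import Cfsg.Agent.Helper1.S4504MainA
import Cfsg.Agent.Helper1.S4504LIFT
import Cfsg.Agent.Helper1.S4504MODEL
import Cfsg.Agent.Lead.S4504TRANSgen
import Cfsg.Agent.Helper20.S4504PROJ
import Cfsg.Agent.Helper13.S4504ADNIL
import Cfsg.Agent.Helper13.S4504ADJ
import Cfsg.Agent.Helper13.S4504TRND

/-!
# S4504 MOD: from Jordan data to a 3-dimensional orthogonal `kG`-module
-/

set_option autoImplicit false

universe u

namespace Cfsg.Agent.S4504P

open Cfsg.Agent.Helper5.GC Module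

/-- M-TRANS, exact-signature wrapper: lead's generic transport `exists_sl2_triple_of` fed with the
polynomial model `exists_sl2_model` (piece M-MODEL). -/
theorem exists_sl2_triple {k : Type u} [Field k] {G : Type*} [Group G] {p : ℕ} [Fact p.Prime]
    [CharP k p] {H : Subgroup G} {x : G} (hxp : x ^ p = 1)
    {M : Type*} [AddCommGroup M] [Module k M] [FiniteDimensional k M]
    (σ : Representation k G M) (d : ℕ) (hd2 : 2 ≤ d) (hdp : d + 1 < p) (J : JData H x σ d) :
    ∃ E H₀ F : Module.End k M,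
      σ x * E = E * σ x ∧ σ x * H₀ = (H₀ - (2 : k) • E) * σ x ∧ σ x * F = (F + H₀ - E) * σ x ∧
      (∀ h ∈ H, ∀ m : ℕ, h⁻¹ * x * h = x ^ m →
        (m : k) • (σ h * E) = E * σ h ∧ σ h * H₀ = H₀ * σ h ∧ σ h * F = (m : k) • (F * σ h)) ∧
      H₀ * E - E * H₀ = (2 : k) • E ∧ E * F - F * E = H₀ ∧ H₀ * F - F * H₀ = -((2 : k) • F) ∧
      LinearMap.trace k M (E * F) ≠ 0 :=
  Cfsg.Agent.Lead.S4504TRANS.exists_sl2_triple_of (exists_sl2_model k) hxp σ d hd2 hdp J

theorem restrict_apply' {k : Type*} [Field k] {A : Type*} [AddCommGroup A] [Module k A]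
    (B : LinearMap.BilinForm k A) (W : Submodule k A) (a b : W) :
    B.restrict W a b = B (a : A) (b : A) := rfl

theorem trF_symm {k : Type*} [Field k] {M : Type*} [AddCommGroup M] [Module k M]
    (φ ψ : Module.End k M) : trF k M φ ψ = trF k M ψ φ := by
  rw [trF_apply, trF_apply, LinearMap.trace_mul_comm]

theorem trF_Ad {k : Type*} [Field k] {G : Type*} [Group G] {M : Type*} [AddCommGroup M]
    [Module k M] (σ : Representation k G M) (g : G) (φ ψ : Module.End k M) :
    trF k M (Ad σ g φ) (Ad σ g ψ) = trF k M φ ψ := by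
  rw [trF_apply, trF_apply, Ad_apply, Ad_apply]
  have h1 : σ g⁻¹ * σ g = 1 := by rw [← map_mul, inv_mul_cancel, map_one]
  have : σ g * φ * σ g⁻¹ * (σ g * ψ * σ g⁻¹) = σ g * (φ * ψ * σ g⁻¹) := by
    calc σ g * φ * σ g⁻¹ * (σ g * ψ * σ g⁻¹) = σ g * φ * (σ g⁻¹ * σ g) * ψ * σ g⁻¹ := by
          noncomm_ring
      _ = σ g * (φ * ψ * σ g⁻¹) := by rw [h1]; noncomm_ring
  rw [this, LinearMap.trace_mul_comm, mul_assoc, h1, mul_one]

theorem exists_orth_module {k : Type u} [Field k] {G : Type*} [Group G] [Finite G]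
    {N H : Subgroup G} {x : G} {p : ℕ} [Fact p.Prime] [CharP k p] (hp5 : 5 ≤ p)
    (hd : TIData G N H x p)
    {M : Type u} [AddCommGroup M] [Module k M] [FiniteDimensional k M]
    (σ : Representation k G M) (d : ℕ) (hd2 : 2 ≤ d) (hdp : 2 * d + 1 ≤ p) (J : JData H x σ d) :
    ∃ (U : Type u) (_ : AddCommGroup U) (_ : Module k U) (θ : Representation k G U)
      (B : LinearMap.BilinForm k U), finrank k U = 3 ∧ B.IsSymm ∧ B.Nondegenerate ∧
      (∀ g v w, B (θ g v) (θ g w) = B v w) ∧ (θ x - 1) ^ 2 ≠ 0 := by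
  have hp : p.Prime := Fact.out
  have h2 : (2 : k) ≠ 0 := by
    intro h
    have h' : ((2 : ℕ) : k) = 0 := by exact_mod_cast h
    have := (CharP.cast_eq_zero_iff k p 2).mp h'
    have := Nat.le_of_dvd (by norm_num) this
    omega
  obtain ⟨E, H₀, F, hxE, hxH, hxF, hH, hHE, hEF, hHF, htr⟩ :=
    exists_sl2_triple hd.hxp σ d hd2 (by omega) J
  obtain ⟨π, hπ, hπN, hrank, hsa, φ₀, hφ₀, hφ₀2⟩ :=
    exists_sl2_projection hd h2 σ E H₀ F hxE hxH hxF hH hHE hEF hHF htr
  have hu : uop (Ad σ) x ^ (p - 1) = 0 := by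
    have h1 := uop_Ad_pow_eq_zero σ x d (by omega) (uop_pow_eq_zero_of_JData J)
    exact pow_eq_zero_of_le (by omega) h1
  obtain ⟨ε, w, hε, hεG, hw, hwN, hεw, hεmem⟩ := lift_idempotent hd (Ad σ) hu π hπ hπN
  -- ε is self-adjoint
  have hεsa : ∀ a b, trF k M (ε a) b = trF k M a (ε b) :=
    selfAdjoint_of_mem_adjoin (trF k M) _
      (selfAdjoint_relTr (Ad σ) (trF k M) (trF_Ad σ) N π hsa) ε hεmem
  have hstab := range_stable hεG
  have hεid : ∀ a ∈ LinearMap.range ε, ε a = a := by
    rintro _ ⟨b, rfl⟩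
    have := congrArg (fun F : Module.End k (Module.End k M) => F b) hε
    exact this
  refine ⟨LinearMap.range ε, inferInstance, inferInstance, subR (Ad σ) (LinearMap.range ε) hstab,
    (trF k M).restrict (LinearMap.range ε), ?_, ?_, ?_, ?_, ?_⟩
  · rw [finrank_range_eq_of_conj hw hεw, hrank]
  · exact ⟨fun a b => trF_symm _ _⟩
  · have hleft : ∀ a : LinearMap.range ε,
        (∀ b : LinearMap.range ε, (trF k M).restrict (LinearMap.range ε) a b = 0) → a = 0 := by
      intro a ha
      apply Subtype.ext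
      apply trF_nondegenerate
      intro ψ
      have h1 := ha ⟨ε ψ, ⟨ψ, rfl⟩⟩
      rw [restrict_apply'] at h1
      rw [← hεsa, hεid _ a.2] at h1
      exact h1
    constructor
    · intro a ha
      exact hleft a ha
    · intro a ha
      apply hleft a
      intro b
      have := ha b
      rw [restrict_apply'] at this ⊢
      rw [trF_symm]
      exact this
  · intro g a b
    rw [restrict_apply', restrict_apply']
    rw [subR_coe, subR_coe]
    exact trF_Ad σ g _ _
  · -- the vector w φ₀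
    intro hzero
    have hwx : Commute w (Ad σ x) := by
      apply LinearMap.ext
      intro a
      exact hwN x hd.hxN a
    have hwφ : w φ₀ ∈ LinearMap.range ε := by
      rw [range_eq_map_of_conj hw hεw]
      exact ⟨φ₀, ⟨φ₀, hφ₀⟩, rfl⟩
    have h1 := congrArg (fun F : Module.End k (LinearMap.range ε) =>
      ((F ⟨w φ₀, hwφ⟩ : LinearMap.range ε) : Module.End k M)) hzero
    simp only [LinearMap.zero_apply, ZeroMemClass.coe_zero] at h1
    have h2' : ((((subR (Ad σ) (LinearMap.range ε) hstab x - 1) ^ 2 :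
        Module.End k (LinearMap.range ε))
        (⟨w φ₀, hwφ⟩ : LinearMap.range ε) : LinearMap.range ε) : Module.End k M) =
        (uop (Ad σ) x ^ 2) (w φ₀) :=
      uop_subR_pow_coe (Ad σ) (LinearMap.range ε) hstab x 2 ⟨w φ₀, hwφ⟩
    rw [h2'] at h1
    have hc : Commute w (uop (Ad σ) x ^ 2) := by
      unfold uop
      exact (hwx.sub_right (Commute.one_right _)).pow_right 2
    have h3 := congrArg (fun F : Module.End k (Module.End k M) => F φ₀) hc.eq
    simp only [Module.End.mul_apply] at h3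
    rw [← h3] at h1
    have := unit_injective hw (h1.trans (map_zero w).symm)
    exact hφ₀2 this

end Cfsg.Agent.S4504P
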