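import Mathlib
import Cfsg.Agent.Helper1.S0997TDefs
import Cfsg.Agent.Helper1.S4504MainA
import Cfsg.Agent.Helper1.S4504LIFT
import Cfsg.Agent.Helper13.S4504ADJ
import Cfsg.Agent.Helper1.S4504MainC

/-!
# S0997 TUAN half, T-GENC: from a self-adjoint rank-3 `N`-idempotent on a `kG`-module with an
invariant nondegenerate symmetric form (and `u^(p-1) = 0`) to a 3-dimensional orthogonal module.

This is the second half of `Cfsg.Agent.S4504P.exists_orth_module`, for a general module.
-/

set_option autoImplicit false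

universe u

namespace Cfsg.Agent.S0997P

open Cfsg.Agent.Helper5.GC Module Cfsg.Agent.S4504P

theorem orth_of_projection {k : Type u} [Field k] {G : Type*} [Group G] [Finite G]
    {N H : Subgroup G} {x : G} {p : ℕ} [Fact p.Prime] [CharP k p] (hd : TIData G N H x p)
    {A : Type u} [AddCommGroup A] [Module k A] (ρ : Representation k G A)
    (hu : uop ρ x ^ (p - 1) = 0) (B : LinearMap.BilinForm k A) (hBs : ∀ a b, B a b = B b a)
    (hBn : ∀ a, (∀ b, B a b = 0) → a = 0) (hBinv : ∀ g a b, B (ρ g a) (ρ g b) = B a b)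
    (π : Module.End k A) (hπ : π * π = π) (hπN : IsHomOn ρ ρ N π)
    (hrank : finrank k (LinearMap.range π) = 3) (hsa : ∀ a b, B (π a) b = B a (π b))
    (φ₀ : A) (hφ₀ : π φ₀ = φ₀) (hφ₀2 : (uop ρ x ^ 2) φ₀ ≠ 0) :
    ∃ (U : Type u) (_ : AddCommGroup U) (_ : Module k U) (θ : Representation k G U)
      (B' : LinearMap.BilinForm k U), finrank k U = 3 ∧ B'.IsSymm ∧ B'.Nondegenerate ∧
      (∀ g v w, B' (θ g v) (θ g w) = B' v w) ∧ (θ x - 1) ^ 2 ≠ 0 := by
  obtain ⟨ε, w, hε, hεG, hw, hwN, hεw, hεmem⟩ := lift_idempotent hd ρ hu π hπ hπN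
  -- ε is self-adjoint
  have hεsa : ∀ a b, B (ε a) b = B a (ε b) :=
    selfAdjoint_of_mem_adjoin B _ (selfAdjoint_relTr ρ B hBinv N π hsa) ε hεmem
  have hstab := range_stable hεG
  have hεid : ∀ a ∈ LinearMap.range ε, ε a = a := by
    rintro _ ⟨b, rfl⟩
    have := congrArg (fun F : Module.End k A => F b) hε
    exact this
  refine ⟨LinearMap.range ε, inferInstance, inferInstance, subR ρ (LinearMap.range ε) hstab,
    B.restrict (LinearMap.range ε), ?_, ?_, ?_, ?_, ?_⟩
  · rw [finrank_range_eq_of_conj hw hεw, hrank]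
  · exact ⟨fun a b => hBs _ _⟩
  · have hleft : ∀ a : LinearMap.range ε,
        (∀ b : LinearMap.range ε, B.restrict (LinearMap.range ε) a b = 0) → a = 0 := by
      intro a ha
      apply Subtype.ext
      apply hBn
      intro ψ
      have h1 := ha ⟨ε ψ, ⟨ψ, rfl⟩⟩
      rw [restrict_apply'] at h1
      rw [← hεsa, hεid _ a.2] at h1
      exact h1
    constructor
    · intro a ha
      exact hleft a ha
    · intro a ha
      apply hleft a
      intro b
      have := ha b
      rw [restrict_apply'] at this ⊢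
      rw [hBs]
      exact this
  · intro g a b
    rw [restrict_apply', restrict_apply']
    rw [subR_coe, subR_coe]
    exact hBinv g _ _
  · intro hzero
    have hwx : Commute w (ρ x) := by
      apply LinearMap.ext
      intro a
      exact hwN x hd.hxN a
    have hwφ : w φ₀ ∈ LinearMap.range ε := by
      rw [range_eq_map_of_conj hw hεw]
      exact ⟨φ₀, ⟨φ₀, hφ₀⟩, rfl⟩
    have h1 := congrArg (fun F : Module.End k (LinearMap.range ε) =>
      ((F ⟨w φ₀, hwφ⟩ : LinearMap.range ε) : A)) hzero
    simp only [LinearMap.zero_apply, ZeroMemClass.coe_zero] at h1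
    have h2' : ((((subR ρ (LinearMap.range ε) hstab x - 1) ^ 2 :
        Module.End k (LinearMap.range ε))
        (⟨w φ₀, hwφ⟩ : LinearMap.range ε) : LinearMap.range ε) : A) =
        (uop ρ x ^ 2) (w φ₀) :=
      uop_subR_pow_coe ρ (LinearMap.range ε) hstab x 2 ⟨w φ₀, hwφ⟩
    rw [h2'] at h1
    have hc : Commute w (uop ρ x ^ 2) := by
      unfold uop
      exact (hwx.sub_right (Commute.one_right _)).pow_right 2
    have h3 := congrArg (fun F : Module.End k A => F φ₀) hc.eq
    simp only [Module.End.mul_apply] at h3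
    rw [← h3] at h1
    have := unit_injective hw (h1.trans (map_zero w).symm)
    exact hφ₀2 this

end Cfsg.Agent.S0997P
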