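import Mathlib
import Cfsg.Agent.Helper1.S0997TDefs
import Cfsg.Agent.Helper1.S4504MainB

/-!
# S0997 TUAN half, T-MAINB2: a `kG`-module of dimension `(p+1)/2` with nontrivial `x`-action either
has a summand with Jordan data of length `≤ (p-1)/2`, or is itself uniserial for `N`.
-/

set_option autoImplicit false

universe u

namespace Cfsg.Agent.S0997P

open Cfsg.Agent.Helper5.GC Module Cfsg.Agent.S4504P

/-- The part of `exists_jdata_module` after M-SPLIT: an `N`-equivariant idempotent onto a uniserial
submodule `k[u]v` of length `d` lifts to a `kG`-module with Jordan data of length `d`. -/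
theorem jdata_of_summand {k : Type u} [Field k] {G : Type*} [Group G] [Finite G]
    {N H : Subgroup G} {x : G} {p : ℕ} [Fact p.Prime] [CharP k p] (hd : TIData G N H x p)
    {W : Type u} [AddCommGroup W] [Module k W] [FiniteDimensional k W]
    (ρ : Representation k G W) (hdim : finrank k W + 1 ≤ p)
    (π : Module.End k W) (v : W) (μ : G → k) (d : ℕ) (hπ : π * π = π) (hπN : IsHomOn ρ ρ N π)
    (hπv : π v = v) (hμ : ∀ h ∈ H, ρ h v = μ h • v) (hzero : (uop ρ x ^ d) v = 0)
    (hli : LinearIndependent k (fun j : Fin d => (uop ρ x ^ (j : ℕ)) v))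
    (hrange : LinearMap.range π =
      Submodule.span k (Set.range fun j : Fin d => (uop ρ x ^ (j : ℕ)) v)) :
    ∃ (M : Type u) (_ : AddCommGroup M) (_ : Module k M) (_ : FiniteDimensional k M)
      (σ : Representation k G M), Nonempty (JData H x σ d) := by
  have hu : uop ρ x ^ (p - 1) = 0 := by
    have h1 := uop_pow_finrank ρ x hd.hxp
    exact pow_eq_zero_of_le (by omega) h1
  obtain ⟨ε, w, hε, hεG, hw, hwN, hεw, -⟩ := lift_idempotent hd ρ hu π hπ hπN
  have hstab := range_stable hεG
  have hwx : Commute w (ρ x) := by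
    apply LinearMap.ext
    intro a
    exact hwN x hd.hxN a
  have hwu : ∀ j : ℕ, ∀ a, (uop ρ x ^ j) (w a) = w ((uop ρ x ^ j) a) := by
    intro j a
    have hc : Commute w (uop ρ x ^ j) := by
      unfold uop
      exact (hwx.sub_right (Commute.one_right _)).pow_right j
    have := congrArg (fun F : Module.End k W => F a) hc.eq
    exact this.symm
  have hrε : LinearMap.range ε = (LinearMap.range π).map w := range_eq_map_of_conj hw hεw
  have hwv : w v ∈ LinearMap.range ε := by
    rw [hrε]
    exact ⟨v, ⟨v, hπv⟩, rfl⟩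
  refine ⟨LinearMap.range ε, inferInstance, inferInstance, inferInstance,
    subR ρ (LinearMap.range ε) hstab, ⟨?_⟩⟩
  have hcoe : ∀ j : ℕ, (((uop (subR ρ (LinearMap.range ε) hstab) x ^ j)
      (⟨w v, hwv⟩ : LinearMap.range ε) : LinearMap.range ε) : W) = w ((uop ρ x ^ j) v) := by
    intro j
    rw [uop_subR_pow_coe, hwu]
  refine
    { v := ⟨w v, hwv⟩
      μ := μ
      hμ := ?_
      hli := ?_
      hspan := ?_
      hzero := ?_ }
  · intro h hh
    apply Subtype.ext
    rw [subR_coe]
    show ρ h (w v) = (μ h • (⟨w v, hwv⟩ : LinearMap.range ε) : LinearMap.range ε)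
    rw [Submodule.coe_smul, Subtype.coe_mk, ← hwN h (hd.hHN hh) v, hμ h hh, map_smul]
  · have h1 : LinearIndependent k (fun j : Fin d => w ((uop ρ x ^ (j : ℕ)) v)) :=
      hli.map' w (LinearMap.ker_eq_bot.mpr (unit_injective hw))
    apply LinearIndependent.of_comp (LinearMap.range ε).subtype
    convert h1 using 1
    funext j
    exact hcoe j
  · rw [eq_top_iff]
    rintro ⟨a, ha⟩ -
    rw [hrε, hrange] at ha
    obtain ⟨b, hb, rfl⟩ := ha
    have hb' : b ∈ Submodule.span k (Set.range fun j : Fin d => (uop ρ x ^ (j : ℕ)) v) := hb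
    -- induction on the span
    have key : ∀ b ∈ Submodule.span k (Set.range fun j : Fin d => (uop ρ x ^ (j : ℕ)) v),
        ∀ hb2 : w b ∈ LinearMap.range ε, (⟨w b, hb2⟩ : LinearMap.range ε) ∈
          Submodule.span k (Set.range fun j : Fin d =>
            (uop (subR ρ (LinearMap.range ε) hstab) x ^ (j : ℕ)) (⟨w v, hwv⟩ : LinearMap.range ε)) := by
      intro b hb
      induction hb using Submodule.span_induction with
      | mem y hy =>
        obtain ⟨j, rfl⟩ := hy
        intro hb2
        apply Submodule.subset_span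
        refine ⟨j, ?_⟩
        apply Subtype.ext
        exact hcoe j
      | zero =>
        intro hb2
        have : (⟨w 0, hb2⟩ : LinearMap.range ε) = 0 := by
          apply Subtype.ext
          simp
        rw [this]
        exact Submodule.zero_mem _
      | add y z hy hz ihy ihz =>
        intro hb2
        have hy2 : w y ∈ LinearMap.range ε := by
          rw [hrε]; exact ⟨y, by rw [hrange]; exact hy, rfl⟩
        have hz2 : w z ∈ LinearMap.range ε := by
          rw [hrε]; exact ⟨z, by rw [hrange]; exact hz, rfl⟩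
        have : (⟨w (y + z), hb2⟩ : LinearMap.range ε) = ⟨w y, hy2⟩ + ⟨w z, hz2⟩ := by
          apply Subtype.ext
          simp
        rw [this]
        exact Submodule.add_mem _ (ihy hy2) (ihz hz2)
      | smul c y hy ihy =>
        intro hb2
        have hy2 : w y ∈ LinearMap.range ε := by
          rw [hrε]; exact ⟨y, by rw [hrange]; exact hy, rfl⟩
        have : (⟨w (c • y), hb2⟩ : LinearMap.range ε) = c • ⟨w y, hy2⟩ := by
          apply Subtype.ext
          simp
        rw [this]
        exact Submodule.smul_mem _ c (ihy hy2)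
    exact key b hb' _
  · apply Subtype.ext
    rw [hcoe, hzero, map_zero]
    rfl


/-- Step 4. -/
theorem exists_jdata_or_full {k : Type u} [Field k] [IsAlgClosed k] {G : Type*} [Group G]
    [Finite G] {N H : Subgroup G} {x : G} {p : ℕ} [Fact p.Prime] [CharP k p]
    (hd : TIData G N H x p) (hcard : (Nat.card H : k) ≠ 0)
    (hab : ∀ a ∈ H, ∀ b ∈ H, a * b = b * a)
    {W : Type u} [AddCommGroup W] [Module k W] [FiniteDimensional k W]
    (ρ : Representation k G W) (hx : ρ x ≠ 1) (hp3 : 3 ≤ p) (hdim : 2 * finrank k W ≤ p + 1) :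
    (∃ (M : Type u) (_ : AddCommGroup M) (_ : Module k M) (_ : FiniteDimensional k M)
      (σ : Representation k G M) (d : ℕ), 2 ≤ d ∧ 2 * d + 1 ≤ p ∧ Nonempty (JData H x σ d)) ∨
    (2 * finrank k W = p + 1 ∧ Nonempty (JData H x ρ (finrank k W))) := by
  obtain ⟨π, v, μ, d, hπ, hπN, hd2, hπv, hμ, hzero, hli, hrange⟩ :=
    exists_uniserial_summand hd hcard hab ρ hx
  have hdle : d ≤ finrank k W := by
    have := hli.fintype_card_le_finrank
    simpa using this
  by_cases hsmall : 2 * d + 1 ≤ p
  · left
    obtain ⟨M, i1, i2, i3, σ, hJ⟩ :=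
      jdata_of_summand hd ρ (by omega) π v μ d hπ hπN hπv hμ hzero hli hrange
    exact ⟨M, i1, i2, i3, σ, d, hd2, hsmall, hJ⟩
  · right
    have hpodd : p % 2 = 1 := by
      have hp : p.Prime := Fact.out
      rcases hp.eq_two_or_odd with h | h
      · omega
      · exact h
    have hdW : d = finrank k W := by omega
    refine ⟨by omega, ?_⟩
    subst hdW
    refine ⟨{ v := v, μ := μ, hμ := hμ, hli := hli, hspan := ?_, hzero := hzero }⟩
    have hcard' : Fintype.card (Fin (finrank k W)) = finrank k W := Fintype.card_fin _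
    exact hli.span_eq_top_of_card_eq_finrank' hcard'

end Cfsg.Agent.S0997P
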