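import Mathlib
import Cfsg.Agent.Helper1.S0997TGenC
import Cfsg.Agent.Helper20.S0997TSKEWE
import Cfsg.Agent.Lead.S0997THU
import Cfsg.Agent.Helper21.S0997TSKP
import Cfsg.Agent.Helper4.S0997TCYC3
import Cfsg.Agent.Helper6.S0997TNSTAB
import Cfsg.Agent.Helper4.S0997TORTHPROJ

/-!
# S0997 TUAN half, T-MAINC2: the main case — `M` uniserial of length `d = (p+1)/2` for `N`, with a
nondegenerate invariant symmetric form: a 3-dimensional orthogonal `kG`-module inside `so(M,β)`.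
-/

set_option autoImplicit false

universe u

namespace Cfsg.Agent.S0997P

open Cfsg.Agent.Helper5.GC Module Cfsg.Agent.S4504P

theorem exists_orth_module_full {k : Type u} [Field k] {G : Type*} [Group G] [Finite G]
    {N H : Subgroup G} {x : G} {p : ℕ} [Fact p.Prime] [CharP k p] (hp5 : 5 ≤ p)
    (hp4 : p % 4 = 1) (hd : TIData G N H x p)
    {M : Type u} [AddCommGroup M] [Module k M] [FiniteDimensional k M]
    (σ : Representation k G M) (d : ℕ) (hdp : 2 * d = p + 1) (J : JData H x σ d)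
    (β : LinearMap.BilinForm k M) (hβs : ∀ v w, β v w = β w v) (hβn : β.Nondegenerate)
    (hβinv : ∀ g v w, β (σ g v) (σ g w) = β v w)
    (h : G) (hh : h ∈ H) (m : ℕ) (hm : h⁻¹ * x * h = x ^ m)
    (hord : ∀ j : ℕ, 1 ≤ j → 2 * j < p - 1 → (m : k) ^ j ≠ 1) :
    ∃ (U : Type u) (_ : AddCommGroup U) (_ : Module k U) (θ : Representation k G U)
      (B : LinearMap.BilinForm k U), finrank k U = 3 ∧ B.IsSymm ∧ B.Nondegenerate ∧
      (∀ g v w, B (θ g v) (θ g w) = B v w) ∧ (θ x - 1) ^ 2 ≠ 0 := by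
  have hp : p.Prime := Fact.out
  have h2 : (2 : k) ≠ 0 := by
    intro h
    have h' : ((2 : ℕ) : k) = 0 := by exact_mod_cast h
    have := (CharP.cast_eq_zero_iff k p 2).mp h'
    have := Nat.le_of_dvd (by norm_num) this
    omega
  obtain ⟨E, H₀, F, hxE, hxH, hxF, hH, hHE, hEF, hHF, htr⟩ :=
    exists_sl2_triple hd.hxp σ d (by omega) (by omega) J
  -- `E` is skew
  have hEsk : E ∈ skewSub β :=
    skew_of_weight σ d hdp hp5 J β hβs hβn hβinv h hh m hm hord E hxE (hH h hh m hm).1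
  have hE0 : E ≠ 0 := by
    intro h0
    apply htr
    rw [h0, zero_mul, map_zero]
  -- conjugation by `x`
  have hxx : σ x * σ x⁻¹ = 1 := by rw [← map_mul, mul_inv_cancel, map_one]
  have hcE : σ x * E * σ x⁻¹ = E := by rw [hxE, mul_assoc, hxx, mul_one]
  have hcH : σ x * H₀ * σ x⁻¹ = H₀ - (2 : k) • E := by rw [hxH, mul_assoc, hxx, mul_one]
  have hcF : σ x * F * σ x⁻¹ = F + H₀ - E := by rw [hxF, mul_assoc, hxx, mul_one]
  have huop : ∀ φ : Module.End k M, uop (Ad σ) x φ = σ x * φ * σ x⁻¹ - φ := by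
    intro φ
    rw [uop_apply, Ad_apply]
  have hu1F : uop (Ad σ) x F = H₀ - E := by
    rw [huop, hcF]; abel
  have hu2F : (uop (Ad σ) x ^ 2) F = -((2 : k) • E) := by
    rw [pow_two, Module.End.mul_apply, hu1F, huop, mul_sub, sub_mul, hcH, hcE]
    abel
  have hu3F : (uop (Ad σ) x ^ 3) F = 0 := by
    rw [pow_succ', Module.End.mul_apply, hu2F, huop, mul_neg, neg_mul, mul_smul_comm,
      smul_mul_assoc, hcE]
    abel
  -- the module `so(M, β)`
  have stab : ∀ g : G, ∀ φ ∈ skewSub β, Ad σ g φ ∈ skewSub β :=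
    fun g φ hφ => skewSub_Ad σ β hβinv g φ hφ
  set ρ₁ : Representation k G (skewSub β) := subR (Ad σ) (skewSub β) stab with hρ₁
  set B₁ : LinearMap.BilinForm k (skewSub β) := (trF k M).restrict (skewSub β) with hB₁
  have hu₁ : uop ρ₁ x ^ (p - 1) = 0 := by
    apply LinearMap.ext
    intro z
    apply Subtype.ext
    rw [uop_subR_pow_coe]
    exact uop_pow_skew_eq_zero hd.hxp σ d hdp hp4 J β hβs hβn (hβinv x) z z.2
  have hBs₁ : ∀ a b, B₁ a b = B₁ b a := by
    intro a b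
    rw [hB₁, restrict_apply', restrict_apply']
    exact trF_symm _ _
  have hBn₁ : ∀ a, (∀ b, B₁ a b = 0) → a = 0 := by
    intro a ha
    apply Subtype.ext
    apply trF_skew_nondegenerate β hβn hβs h2 a a.2
    intro ψ hψ
    have := ha ⟨ψ, hψ⟩
    rwa [hB₁, restrict_apply'] at this
  have hBinv₁ : ∀ g a b, B₁ (ρ₁ g a) (ρ₁ g b) = B₁ a b := by
    intro g a b
    rw [hB₁, restrict_apply', restrict_apply', hρ₁, subR_coe, subR_coe]
    exact trF_Ad σ g _ _
  -- the vector `a₁ = skewPart F`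
  set a₁ : skewSub β := ⟨skewPart β hβn F, skewPart_mem β hβn hβs h2 F⟩ with ha₁
  have hcoe : ∀ j : ℕ, (((uop ρ₁ x ^ j) a₁ : skewSub β) : Module.End k M) =
      skewPart β hβn ((uop (Ad σ) x ^ j) F) := by
    intro j
    rw [hρ₁, uop_subR_pow_coe, skewPart_uop_pow σ β hβn hβinv]
  have ha3 : (uop ρ₁ x ^ 3) a₁ = 0 := by
    apply Subtype.ext
    rw [hcoe, hu3F]
    have := skewPart_smul β hβn (0 : k) (0 : Module.End k M)
    rw [zero_smul, zero_smul] at this
    exact this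
  have ha2 : (((uop ρ₁ x ^ 2) a₁ : skewSub β) : Module.End k M) = -((2 : k) • E) := by
    rw [hcoe, hu2F]
    have h1 : -((2 : k) • E) = (-(2 : k)) • E := by rw [neg_smul]
    rw [h1, skewPart_smul, skewPart_of_mem β hβn h2 E hEsk]
  have ha2ne : (uop ρ₁ x ^ 2) a₁ ≠ 0 := by
    intro h0
    have := congrArg (fun z : skewSub β => (z : Module.End k M)) h0
    simp only [ZeroMemClass.coe_zero] at this
    rw [ha2, neg_eq_zero] at this
    exact (smul_ne_zero h2 hE0) this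
  have hpair : B₁ a₁ ((uop ρ₁ x ^ 2) a₁) ≠ 0 := by
    rw [hB₁, restrict_apply', ha2]
    have h1 : ((a₁ : skewSub β) : Module.End k M) = skewPart β hβn F := rfl
    rw [h1]
    have hmem : -((2 : k) • E) ∈ skewSub β :=
      (skewSub β).neg_mem ((skewSub β).smul_mem _ hEsk)
    rw [trF_skewPart_left β hβn hβs h2 F _ hmem, trF_apply, mul_neg, mul_smul_comm, map_neg,
      map_smul, neg_ne_zero, smul_eq_mul, LinearMap.trace_mul_comm]
    exact mul_ne_zero h2 htr
  -- the 3-dimensional subspace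
  set C : Submodule k (skewSub β) :=
    Submodule.span k ({a₁, uop ρ₁ x a₁, (uop ρ₁ x ^ 2) a₁} : Set (skewSub β)) with hC
  obtain ⟨hC3, hCnd⟩ := cyc3_nondegenerate B₁ hBs₁ (ρ₁ x) (uop ρ₁ x) rfl (hBinv₁ x) a₁ ha3 hpair
  -- `a₁` is an `H`-eigenvector
  classical
  let χ : G → k := fun g => if hg : g ∈ H then (((hd.norm g hg).choose : ℕ) : k) else 0
  have hχ : ∀ g ∈ H, ρ₁ g a₁ = χ g • a₁ := by
    intro g hg
    apply Subtype.ext
    have hgg : σ g * σ g⁻¹ = 1 := by rw [← map_mul, mul_inv_cancel, map_one]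
    have key : ∀ mg : ℕ, g⁻¹ * x * g = x ^ mg → Ad σ g F = (mg : k) • F := by
      intro mg hspec
      obtain ⟨-, -, h3⟩ := hH g hg mg hspec
      rw [Ad_apply, h3, smul_mul_assoc, mul_assoc, hgg, mul_one]
    have hcF' : Ad σ g F = (((hd.norm g hg).choose : ℕ) : k) • F :=
      key _ (hd.norm g hg).choose_spec
    rw [hρ₁, subR_coe]
    show Ad σ g (skewPart β hβn F) = ((χ g • a₁ : skewSub β) : Module.End k M)
    rw [← skewPart_Ad σ β hβn hβinv, hcF', skewPart_smul]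
    simp only [χ, dif_pos hg]
    rfl
  have hCst := cyc3_stable hd ρ₁ a₁ χ hχ ha3
  obtain ⟨π, hπ, hπN, hπr, hπsa⟩ :=
    exists_orth_projection ρ₁ B₁ hBs₁ hBinv₁ N C hCst hCnd
  have ha₁C : a₁ ∈ C := Submodule.subset_span (by simp)
  have hπa : π a₁ = a₁ := by
    have : a₁ ∈ LinearMap.range π := by rw [hπr]; exact ha₁C
    obtain ⟨b, hb⟩ := this
    rw [← hb]
    have := congrArg (fun F : Module.End k (skewSub β) => F b) hπ
    exact this
  exact orth_of_projection hd ρ₁ hu₁ B₁ hBs₁ hBn₁ hBinv₁ π hπ hπN (by rw [hπr]; exact hC3) hπsa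
    a₁ hπa ha2ne

end Cfsg.Agent.S0997P
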