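import Mathlib
import Cfsg.Agent.Helper1.S4504MainB
import Cfsg.Agent.Helper1.S4504MainC
import Cfsg.Agent.Helper23.S4504RED
import Cfsg.Agent.Helper13.S4504HAB
import Cfsg.Agent.Helper28.S4504DICK

/-!
# S4504 MOD: `mod_index`
-/

set_option autoImplicit false

universe u

namespace Cfsg.Agent.S4504P

open Cfsg.Agent.Helper5.GC Module

/-- a normal subgroup all of whose `p`-regular elements are trivial and which contains `x ≠ 1`,
in a group with Sylow `p`-subgroup `⟨x⟩` of order `p`, equals `⟨x⟩`. -/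
private theorem normal_of_pker {G : Type*} [Group G] [Finite G] (p : ℕ) [hp : Fact p.Prime]
    (P : Sylow p G) {x : G} (hPx : (P : Subgroup G) = Subgroup.zpowers x)
    (K : Subgroup G) [hKn : K.Normal] (hK : ∀ g ∈ K, ¬ p ∣ orderOf g → g = 1) (hxK : x ∈ K) :
    (P : Subgroup G).Normal := by
  have hKp : IsPGroup p K := by
    intro g
    obtain ⟨a, m, hm, hgm⟩ := Nat.exists_eq_pow_mul_and_not_dvd
      (orderOf_pos (g : G)).ne' p hp.out.ne_one
    refine ⟨a, ?_⟩
    have h1 : orderOf ((g : G) ^ p ^ a) = m := by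
      rw [orderOf_pow' _ (pow_ne_zero a hp.out.ne_zero), hgm, Nat.gcd_eq_right (Dvd.intro _ rfl),
        Nat.mul_div_cancel_left _ (pow_pos hp.out.pos a)]
    have h2 : (g : G) ^ p ^ a = 1 := hK _ (K.pow_mem g.2 _) (by rw [h1]; exact hm)
    apply Subtype.ext
    simpa using h2
  obtain ⟨Q, hQ⟩ := hKp.exists_le_sylow
  obtain ⟨g, hg⟩ := MulAction.exists_smul_eq G Q P
  have hKP : K ≤ (P : Subgroup G) := by
    intro y hy
    have hy' : g⁻¹ * y * g ∈ K := by
      have := hKn.conj_mem y hy g⁻¹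
      simpa using this
    have h1 : g * (g⁻¹ * y * g) * g⁻¹ ∈ (P : Subgroup G) := by
      rw [← hg]
      exact ⟨g⁻¹ * y * g, hQ hy', rfl⟩
    have h2 : g * (g⁻¹ * y * g) * g⁻¹ = y := by group
    rwa [h2] at h1
  have hPK : (P : Subgroup G) ≤ K := by
    rw [hPx, Subgroup.zpowers_le]
    exact hxK
  have : K = (P : Subgroup G) := le_antisymm hKP hPK
  rw [← this]
  exact hKn

theorem mod_index {G : Type u} [Group G] [Finite G] (p : ℕ) [Fact p.Prime] (hp5 : 5 ≤ p)
    (P : Sylow p G) (hP : Nat.card P = p) (hnn : ¬ (P : Subgroup G).Normal)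
    (hC : Subgroup.centralizer ((P : Subgroup G) : Set G) = (P : Subgroup G) ⊔ Subgroup.center G)
    (hK : ∀ K : Subgroup G, K.Normal → ¬ p ∣ Nat.card K → K ≤ Subgroup.center G)
    (n : ℕ) (ρ : Representation ℂ G (Fin n → ℂ)) (hn : 2 * n + 1 ≤ p)
    (hfaith : ∀ g : G, ρ.character g = ρ.character 1 → g = 1) :
    (Subgroup.normalizer ((P : Subgroup G) : Set G)).index = p + 1 := by
  have hp : p.Prime := Fact.out
  have hinj : ∀ g : G, ρ g = 1 → g = 1 := by
    intro g hg
    apply hfaith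
    show LinearMap.trace ℂ _ (ρ g) = LinearMap.trace ℂ _ (ρ 1)
    rw [hg, map_one ρ]
  obtain ⟨k, _, _, _, σ₀, hker⟩ := exists_modular_rep p n ρ hinj
  obtain ⟨x, hx1, hxp, hPx⟩ := exists_generator P hP
  -- σ₀ x ≠ 1
  have hσx : σ₀ x ≠ 1 := by
    intro h
    apply hnn
    have hKn : (MonoidHom.ker σ₀).Normal := inferInstance
    exact normal_of_pker p P hPx (MonoidHom.ker σ₀)
      (fun g hg hgp => hker g (MonoidHom.mem_ker.mp hg) hgp) (MonoidHom.mem_ker.mpr h)
  obtain ⟨H, hd, hcard⟩ := exists_tiData P hP k hx1 hxp hPx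
  have hHp : ¬ p ∣ Nat.card H := by
    intro h
    exact hcard ((CharP.cast_eq_zero_iff k p _).mpr h)
  have hab := comm_of_centralizer p P hC hPx hd hHp
  have hfr : finrank k (Fin n → k) = n := by simp
  obtain ⟨M, _, _, _, σ, d, hd2, hdle, ⟨J⟩⟩ :=
    exists_jdata_module hd hcard hab σ₀ hσx (by rw [hfr]; omega)
  rw [hfr] at hdle
  obtain ⟨U, _, _, θ, B, hU, hBs, hBn, hBinv, hx2⟩ :=
    exists_orth_module hp5 hd σ d hd2 (by omega) J
  rcases dickson_index hp5 P hP hPx hK hU θ B hBs hBn hBinv hx2 with h | h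
  · exfalso
    apply hnn
    rw [Subgroup.index_eq_one] at h
    exact Subgroup.normalizer_eq_top_iff.mp h
  · exact h

end Cfsg.Agent.S4504P
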