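import Mathlib
import Cfsg.Agent.Helper1.S0997TMainB2
import Cfsg.Agent.Helper1.S0997TMainC2
import Cfsg.Agent.Helper1.S4504Main
import Cfsg.Agent.Helper6.S0997TFORM
import Cfsg.Agent.Helper23.S0997TRED2
import Cfsg.Agent.Helper28.S0997TGEN
import Cfsg.Agent.Helper5.S0997TREDUC

/-!
# S0997 TUAN half: `tuan_index`

A finite group with a Sylow `p`-subgroup `P` of order `p ≡ 1 (mod 4)`, not normal,
`C(P) = P × Z(G)`, `|N(P) : C(P)| ≥ (p-1)/2`, all normal `p'`-subgroups central, and a faithful real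
irreducible character of degree `(p+1)/2`, has exactly `p + 1` Sylow `p`-subgroups.
-/

set_option autoImplicit false

universe u

namespace Cfsg.Agent.S0997P

open Cfsg.Agent.Helper5.GC Module Cfsg.Agent.S4504P

/-- a normal subgroup all of whose `p`-regular elements are trivial and which contains `x ≠ 1`,
in a group with Sylow `p`-subgroup `⟨x⟩`, equals `⟨x⟩`. (Copy of a private lemma of
`Cfsg.Agent.Helper1.S4504Main`.) -/
theorem normal_of_pker' {G : Type*} [Group G] [Finite G] (p : ℕ) [hp : Fact p.Prime]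
    (P : Sylow p G) {x : G} (hPx : (P : Subgroup G) = Subgroup.zpowers x)
    (K : Subgroup G) [hKn : K.Normal] (hK : ∀ g ∈ K, ¬ p ∣ orderOf g → g = 1) (hxK : x ∈ K) :
    (P : Subgroup G).Normal := by
  have hKp : IsPGroup p K := by
    intro g
    obtain ⟨a, m, hm, hgm⟩ := Nat.exists_eq_pow_mul_and_not_dvd
      (orderOf_pos (g : G)).ne' p hp.out.ne_one
    refine ⟨a, ?_⟩
    have h1 : orderOf ((g : G) ^ p ^ a) = m := by
      rw [orderOf_pow' _ (pow_ne_zero a hp.out.ne_zero), hgm, Nat.gcd_eq_right (Dvd.intro _ rfl),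
        Nat.mul_div_cancel_left _ (pow_pos hp.out.pos a)]
    have h2 : (g : G) ^ p ^ a = 1 := hK _ (K.pow_mem g.2 _) (by rw [h1]; exact hm)
    apply Subtype.ext
    simpa using h2
  obtain ⟨Q, hQ⟩ := hKp.exists_le_sylow
  obtain ⟨g, hg⟩ := MulAction.exists_smul_eq G Q P
  have hKP : K ≤ (P : Subgroup G) := by
    intro y hy
    have hy' : g⁻¹ * y * g ∈ K := by
      have := hKn.conj_mem y hy g⁻¹
      simpa using this
    have h1 : g * (g⁻¹ * y * g) * g⁻¹ ∈ (P : Subgroup G) := by
      rw [← hg]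
      exact ⟨g⁻¹ * y * g, hQ hy', rfl⟩
    have h2 : g * (g⁻¹ * y * g) * g⁻¹ = y := by group
    rwa [h2] at h1
  have hPK : (P : Subgroup G) ≤ K := by
    rw [hPx, Subgroup.zpowers_le]
    exact hxK
  have : K = (P : Subgroup G) := le_antisymm hKP hPK
  rw [← this]
  exact hKn

/-- the existing S4504 pipeline: a `kG`-module of dimension `≤ (p-1)/2` on which `x` acts
nontrivially gives `|G : N(P)| ∈ {1, p+1}`. -/
theorem index_of_small_module {k : Type u} [Field k] [IsAlgClosed k] {G : Type*} [Group G]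
    [Finite G] {p : ℕ} [Fact p.Prime] [CharP k p] (hp5 : 5 ≤ p) (P : Sylow p G)
    (hP : Nat.card P = p) {x : G} (hPx : (P : Subgroup G) = Subgroup.zpowers x)
    (hK : ∀ K : Subgroup G, K.Normal → ¬ p ∣ Nat.card K → K ≤ Subgroup.center G)
    {H : Subgroup G} (hd : TIData G (Subgroup.normalizer ((P : Subgroup G) : Set G)) H x p)
    (hcard : (Nat.card H : k) ≠ 0) (hab : ∀ a ∈ H, ∀ b ∈ H, a * b = b * a)
    {W : Type u} [AddCommGroup W] [Module k W] [FiniteDimensional k W]
    (ρ : Representation k G W) (hx : ρ x ≠ 1) (hdim : 2 * finrank k W + 1 ≤ p) :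
    (Subgroup.normalizer ((P : Subgroup G) : Set G)).index = 1 ∨
      (Subgroup.normalizer ((P : Subgroup G) : Set G)).index = p + 1 := by
  obtain ⟨M, _, _, _, σ, d, hd2, hdle, ⟨J⟩⟩ :=
    exists_jdata_module hd hcard hab ρ hx (by omega)
  obtain ⟨U, _, _, θ, B, hU, hBs, hBn, hBinv, hx2⟩ :=
    exists_orth_module hp5 hd σ d hd2 (by omega) J
  exact dickson_index hp5 P hP hPx hK hU θ B hBs hBn hBinv hx2

theorem tuan_index {G : Type u} [Group G] [Finite G] (p : ℕ) [Fact p.Prime] (hp5 : 5 ≤ p)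
    (hp4 : p % 4 = 1) (P : Sylow p G) (hP : Nat.card P = p) (hnn : ¬ (P : Subgroup G).Normal)
    (hC : Subgroup.centralizer ((P : Subgroup G) : Set G) = (P : Subgroup G) ⊔ Subgroup.center G)
    (hK : ∀ K : Subgroup G, K.Normal → ¬ p ∣ Nat.card K → K ≤ Subgroup.center G)
    (hNC : p - 1 ≤ 2 * (Subgroup.centralizer ((P : Subgroup G) : Set G)).relIndex
      (Subgroup.normalizer ((P : Subgroup G) : Set G)))
    (n : ℕ) (ρ : Representation ℂ G (Fin n → ℂ)) (hirr : ρ.IsIrreducible) (hn : 2 * n = p + 1)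
    (hfaith : ∀ g : G, ρ.character g = ρ.character 1 → g = 1)
    (hreal : ∀ g : G, (ρ.character g).im = 0) :
    (Subgroup.normalizer ((P : Subgroup G) : Set G)).index = p + 1 := by
  have hp : p.Prime := Fact.out
  have hinj : ∀ g : G, ρ g = 1 → g = 1 := by
    intro g hg
    apply hfaith
    show LinearMap.trace ℂ _ (ρ g) = LinearMap.trace ℂ _ (ρ 1)
    rw [hg, map_one ρ]
  have hodd : Odd n := by
    rw [Nat.odd_iff]
    omega
  obtain ⟨S, hS0, hSs, hSinv⟩ := exists_symm_invariant n ρ hirr hodd hreal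
  obtain ⟨k, _, _, _, σ₀, β, hker, hβ0, hβs, hβinv⟩ :=
    exists_modular_rep_form p n ρ hinj S hS0 hSs hSinv
  obtain ⟨x, hx1, hxp, hPx⟩ := exists_generator P hP
  -- σ₀ x ≠ 1
  have hσx : σ₀ x ≠ 1 := by
    intro h
    apply hnn
    have hKn : (MonoidHom.ker σ₀).Normal := inferInstance
    exact normal_of_pker' p P hPx (MonoidHom.ker σ₀)
      (fun g hg hgp => hker g (MonoidHom.mem_ker.mp hg) hgp) (MonoidHom.mem_ker.mpr h)
  obtain ⟨H, hd, hcard⟩ := exists_tiData P hP k hx1 hxp hPx
  have hHp : ¬ p ∣ Nat.card H := by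
    intro h
    exact hcard ((CharP.cast_eq_zero_iff k p _).mpr h)
  have hab := comm_of_centralizer p P hC hPx hd hHp
  have hfr : finrank k (Fin n → k) = n := by simp
  -- it suffices to show index ∈ {1, p+1}
  suffices hor : (Subgroup.normalizer ((P : Subgroup G) : Set G)).index = 1 ∨
      (Subgroup.normalizer ((P : Subgroup G) : Set G)).index = p + 1 by
    rcases hor with h | h
    · exfalso
      apply hnn
      rw [Subgroup.index_eq_one] at h
      exact Subgroup.normalizer_eq_top_iff.mp h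
    · exact h
  -- the radical of β
  set R : Submodule k (Fin n → k) := LinearMap.ker β with hRdef
  have hRmem : ∀ v, v ∈ R ↔ ∀ w, β v w = 0 := by
    intro v
    rw [hRdef, LinearMap.mem_ker]
    constructor
    · intro h w; rw [h]; rfl
    · intro h; exact LinearMap.ext h
  have hRst : ∀ g : G, ∀ v ∈ R, σ₀ g v ∈ R := by
    intro g v hv
    rw [hRmem] at hv ⊢
    intro w
    have h1 := hβinv g v (σ₀ g⁻¹ w)
    rw [rep_apply_inv] at h1
    rw [h1]
    exact hv _
  have hRtop : R ≠ ⊤ := by
    intro h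
    apply hβ0
    apply LinearMap.ext
    intro v
    have : v ∈ R := by rw [h]; trivial
    exact LinearMap.mem_ker.mp this
  by_cases hRbot : R = ⊥
  · -- β nondegenerate
    have hβn : β.Nondegenerate := by
      have hleft : ∀ v, (∀ w, β v w = 0) → v = 0 := by
        intro v hv
        have : v ∈ R := (hRmem v).mpr hv
        rw [hRbot] at this
        exact (Submodule.mem_bot k).mp this
      constructor
      · exact hleft
      · intro v hv
        apply hleft
        intro w
        rw [hβs]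
        exact hv w
    rcases exists_jdata_or_full hd hcard hab σ₀ hσx (by omega) (by rw [hfr]; omega) with
      ⟨M, _, _, _, σ, d, hd2, hdp, ⟨J⟩⟩ | ⟨-, ⟨J⟩⟩
    · obtain ⟨U, _, _, θ, B, hU, hBs, hBn, hBinv, hx2⟩ :=
        exists_orth_module hp5 hd σ d hd2 hdp J
      exact dickson_index hp5 P hP hPx hK hU θ B hBs hBn hBinv hx2
    · rw [hfr] at J
      obtain ⟨h, hh, m, hm, hord⟩ := exists_big_weight p P hP hPx hd hNC
      have hord' : ∀ j : ℕ, 1 ≤ j → 2 * j < p - 1 → (m : k) ^ j ≠ 1 := by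
        intro j hj1 hj2 h1
        apply hord j hj1 hj2
        have h2 : ((m ^ j : ℕ) : k) = ((1 : ℕ) : k) := by
          rw [Nat.cast_pow, Nat.cast_one]
          exact h1
        exact (CharP.natCast_eq_natCast k p).mp h2
      obtain ⟨U, _, _, θ, B, hU, hBs, hBn, hBinv, hx2⟩ :=
        exists_orth_module_full hp5 hp4 hd σ₀ n hn J β hβs hβn hβinv h hh m hm hord'
      exact dickson_index hp5 P hP hPx hK hU θ B hBs hBn hBinv hx2
  · -- reducible case
    have hR' : ∀ g : G, R ≤ R.comap (σ₀ g) := fun g v hv => hRst g v hv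
    have hRpos : 0 < finrank k R := by
      rw [Module.finrank_pos_iff]
      exact Submodule.nontrivial_iff_ne_bot.mpr hRbot
    have hRlt : finrank k R < n := by
      have := Submodule.finrank_lt hRtop
      rwa [hfr] at this
    have hquot : finrank k ((Fin n → k) ⧸ R) + finrank k R = n := by
      have := Submodule.finrank_quotient_add_finrank R
      rw [hfr] at this
      exact this
    rcases nontrivial_sub_or_quot p P hPx hnn σ₀ hker R hRst hR' with hsub | hq
    · exact index_of_small_module hp5 P hP hPx hK hd hcard hab (subR σ₀ R hRst) hsub (by omega)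
    · exact index_of_small_module hp5 P hP hPx hK hd hcard hab (σ₀.quotient R hR') hq (by omega)

end Cfsg.Agent.S0997P
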