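import Mathlib
import Cfsg.Prelude.Def_Transfer
import Cfsg.Agent.Helper8.S1904Defs

/-!
# Board `s1904pieces`, row B2 (core, rows B1 and T5 as hypotheses) : the layers `U/W` and `B/B²` of a maximal invariant normal abelian subgroup `B`
-/

set_option autoImplicit false
set_option linter.unusedSectionVars false
set_option linter.style.haveILetI false

namespace Cfsg.Agent.S1904P

variable {X : Type*} [Group X] [Finite X] {A : Subgroup (MulAut X)} {B : Subgroup X}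

/-- the commutative group structure on an abelian subgroup. -/
@[reducible] def B2_aux_comm (B : Subgroup X) (hc : ∀ a ∈ B, ∀ b ∈ B, a * b = b * a) : CommGroup ↥B :=
  { (inferInstance : Group ↥B) with mul_comm := fun a b => Subtype.ext (hc a a.2 b b.2) }

/-- the action of `φ` on an invariant subgroup, as a homomorphism. -/
def B2_aux_act (B : Subgroup X) (φ : MulAut X) (h : ∀ b ∈ B, φ b ∈ B) : ↥B →* ↥B where
  toFun b := ⟨φ (b : X), h b b.2⟩
  map_one' := Subtype.ext (map_one φ)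
  map_mul' a b := Subtype.ext (map_mul φ (a : X) (b : X))

theorem B2_aux_act_coe (B : Subgroup X) (φ : MulAut X) (h : ∀ b ∈ B, φ b ∈ B) (b : ↥B) :
    ((B2_aux_act B φ h b : ↥B) : X) = φ (b : X) := rfl

/-- **norm map**: if `C_B(A) = 1` for an abelian invariant `B` and `|A|` is odd, then a coset of an invariant subgroup
`N ⊇ B²` of `B` fixed by `A` is trivial. -/
theorem B2_aux_norm (hodd : Odd (Nat.card A)) (hI : Inv A B) (hc : ∀ a ∈ B, ∀ b ∈ B, a * b = b * a)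
    (hfix : ∀ b ∈ B, (∀ φ ∈ A, φ b = b) → b = 1) (N : Subgroup X) (hsq : ∀ b ∈ B, b * b ∈ N)
    (b : X) (hbB : b ∈ B) (hb : ∀ φ ∈ A, b⁻¹ * φ b ∈ N) : b ∈ N := by
  classical
  letI := B2_aux_comm B hc
  letI : Fintype ↥A := Fintype.ofFinite _
  let act : ↥A → (↥B →* ↥B) := fun φ => B2_aux_act B φ.1 (hI φ.1 φ.2)
  let b' : ↥B := ⟨b, hbB⟩
  let n : ↥B := ∏ φ : ↥A, act φ b'
  -- `n` is fixed by `A`
  have hnfix : ∀ ψ ∈ A, ψ (n : X) = n := by
    intro ψ hψ
    have h1 : act ⟨ψ, hψ⟩ n = n := by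
      change act ⟨ψ, hψ⟩ (∏ φ : ↥A, act φ b') = ∏ φ : ↥A, act φ b'
      rw [map_prod]
      refine Fintype.prod_equiv (Equiv.mulLeft (⟨ψ, hψ⟩ : ↥A)) _ _ ?_
      intro φ
      apply Subtype.ext
      rfl
    exact congrArg Subtype.val h1
  have hn1 : n = 1 := Subtype.ext (hfix n n.2 hnfix)
  -- modulo `N`
  let N' : Subgroup ↥B := N.subgroupOf B
  have hmem : ∀ s : Finset ↥A, ∃ c : ↥B, c ∈ N' ∧ ∏ φ ∈ s, act φ b' = b' ^ s.card * c := by
    intro s
    induction s using Finset.induction_on with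
    | empty => exact ⟨1, one_mem _, by simp⟩
    | insert φ s hφ ih =>
      obtain ⟨c, hc', hprod⟩ := ih
      refine ⟨(b'⁻¹ * act φ b') * c, mul_mem ?_ hc', ?_⟩
      · change ((b'⁻¹ * act φ b' : ↥B) : X) ∈ N
        exact hb φ.1 φ.2
      · rw [Finset.prod_insert hφ, hprod, Finset.card_insert_of_notMem hφ, pow_succ]
        have e : b' ^ s.card * b' * (b'⁻¹ * act φ b' * c) = b' ^ s.card * (b' * b'⁻¹) * act φ b' * c := by
          simp only [mul_assoc]
        rw [e, mul_inv_cancel, mul_one, mul_left_comm, mul_assoc]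
  obtain ⟨c, hcN, hprod⟩ := hmem Finset.univ
  have hk : b' ^ (Fintype.card ↥A) ∈ N' := by
    have : b' ^ (Fintype.card ↥A) = c⁻¹ := by
      have h2 : b' ^ (Finset.univ : Finset ↥A).card * c = 1 := by rw [← hprod]; exact hn1
      rw [Finset.card_univ] at h2
      exact eq_inv_of_mul_eq_one_left h2
    rw [this]
    exact inv_mem hcN
  have hk' : b ^ (Nat.card ↥A) ∈ N := by
    rw [Nat.card_eq_fintype_card]
    exact hk
  obtain ⟨m, hm⟩ := hodd
  have hb2 : (b * b) ^ m ∈ N := pow_mem (hsq b hbB) m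
  have : b = b ^ (Nat.card ↥A) * ((b * b) ^ m)⁻¹ := by
    rw [hm, ← pow_two, ← pow_mul, pow_succ]
    group
  rw [this]
  exact mul_mem hk' (inv_mem hb2)

/-- the set of squares of an abelian subgroup, as a subgroup. -/
def B2_aux_sq (B : Subgroup X) (hc : ∀ a ∈ B, ∀ b ∈ B, a * b = b * a) : Subgroup X where
  carrier := {c | ∃ b ∈ B, c = b * b}
  one_mem' := ⟨1, one_mem _, by simp⟩
  mul_mem' := by
    rintro _ _ ⟨a, ha, rfl⟩ ⟨b, hb, rfl⟩
    refine ⟨a * b, mul_mem ha hb, ?_⟩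
    have h := hc a ha b hb
    calc a * a * (b * b) = a * (a * b) * b := by group
      _ = a * (b * a) * b := by rw [h]
      _ = a * b * (a * b) := by group
  inv_mem' := by
    rintro _ ⟨a, ha, rfl⟩
    exact ⟨a⁻¹, inv_mem ha, by group⟩

theorem B2_aux_Sq_eq (B : Subgroup X) (hc : ∀ a ∈ B, ∀ b ∈ B, a * b = b * a) : Sq B = B2_aux_sq B hc := by
  apply le_antisymm
  · unfold Sq
    rw [Subgroup.closure_le]
    rintro _ ⟨b, hb, rfl⟩
    exact ⟨b, hb, rfl⟩
  · rintro _ ⟨b, hb, rfl⟩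
    exact Subgroup.subset_closure ⟨b, hb, rfl⟩

/-- core of B2, with the rows B1 and T5 as hypotheses. -/
theorem B2_aux_core (H : Hyp A) (hB : MaxAb A B)
    (hW4 : Nat.card (WW X) = 4) (hWB : WW X ≤ B) (hOm : ∀ b ∈ B, b * b = 1 → b ∈ WW X)
    (hfix : ∀ b ∈ B, (∀ φ ∈ A, φ b = b) → b = 1)
    (hWmin : ∀ K : Subgroup X, K ≤ WW X → Inv A K → K = ⊥ ∨ K = WW X) :
    (∀ w ∈ WW X, ∃ u ∈ B, u * u = w) ∧
    (∀ u ∈ B, u ^ 4 = 1 → ∀ x : X, u * x * u⁻¹ * x⁻¹ ∈ WW X) ∧
    (∀ u ∈ B, u ^ 4 = 1 → (∀ φ ∈ A, u⁻¹ * φ u ∈ WW X) → u ∈ WW X) ∧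
    (∀ c ∈ Sq B, ∃ b ∈ B, c = b * b) ∧
    (∀ b ∈ B, (∀ φ ∈ A, b⁻¹ * φ b ∈ Sq B) → b ∈ Sq B) ∧
    Nat.card (Sq B) * 4 = Nat.card B := by
  have hcomm := hB.comm
  have hpow4 : ∀ u : X, u ^ 4 = u * u * (u * u) := fun u => by
    rw [show (4 : ℕ) = 2 + 2 from rfl, pow_add, pow_two]
  -- squares of elements of order dividing 4 lie in `W`
  have hsqW : ∀ u ∈ B, u ^ 4 = 1 → u * u ∈ WW X := by
    intro u hu h4
    apply hOm _ (mul_mem hu hu)
    rw [← hpow4, h4]
  -- (1)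
  have h1 : ∀ w ∈ WW X, ∃ u ∈ B, u * u = w := by
    let K : Subgroup X :=
      { carrier := {w | ∃ u ∈ B, u ^ 4 = 1 ∧ u * u = w}
        one_mem' := ⟨1, one_mem _, by simp, by simp⟩
        mul_mem' := by
          rintro _ _ ⟨a, ha, ha4, rfl⟩ ⟨b, hb, hb4, rfl⟩
          have h := hcomm a ha b hb
          refine ⟨a * b, mul_mem ha hb, ?_, ?_⟩
          · rw [(Commute.mul_pow h 4), ha4, hb4, one_mul]
          · calc a * b * (a * b) = a * (b * a) * b := by group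
              _ = a * (a * b) * b := by rw [h]
              _ = a * a * (b * b) := by group
        inv_mem' := by
          rintro _ ⟨a, ha, ha4, rfl⟩
          exact ⟨a⁻¹, inv_mem ha, by rw [inv_pow, ha4, inv_one], by group⟩ }
    have hKW : K ≤ WW X := by
      rintro _ ⟨u, hu, h4, rfl⟩
      exact hsqW u hu h4
    have hKI : Inv A K := by
      rintro φ hφ _ ⟨u, hu, h4, rfl⟩
      exact ⟨φ u, hB.inv φ hφ u hu, by rw [← map_pow, h4, map_one], by rw [map_mul]⟩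
    have hKne : K ≠ ⊥ := by
      -- an element of `B` outside the centre
      obtain ⟨b, hbB, hbZ⟩ := SetLike.not_le_iff_exists.1 hB.nc
      have hex : ∃ k : ℕ, b ^ (2 ^ k) = 1 := by
        obtain ⟨k, hk⟩ := H.pX b
        exact ⟨k, hk⟩
      classical
      let k := Nat.find hex
      have hk : b ^ (2 ^ k) = 1 := Nat.find_spec hex
      have hkmin : ∀ m < k, b ^ (2 ^ m) ≠ 1 := fun m hm => Nat.find_min hex hm
      have hk2 : 2 ≤ k := by
        by_contra hlt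
        push Not at hlt
        have hk' : k = 0 ∨ k = 1 := by omega
        rcases hk' with h0 | h1'
        · rw [h0] at hk
          simp at hk
          rw [hk] at hbZ
          exact hbZ (one_mem _)
        · rw [h1'] at hk
          have : b * b = 1 := by simpa [pow_two] using hk
          exact hbZ (WW_le_center (hOm b hbB this))
      intro hbot
      have hmem : b ^ (2 ^ (k - 2)) * b ^ (2 ^ (k - 2)) ∈ K := by
        refine ⟨b ^ (2 ^ (k - 2)), pow_mem hbB _, ?_, rfl⟩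
        rw [← pow_mul, show 2 ^ (k - 2) * 4 = 2 ^ k from by
          rw [show (4 : ℕ) = 2 ^ 2 from rfl, ← pow_add, Nat.sub_add_cancel hk2]]
        exact hk
      rw [hbot, Subgroup.mem_bot] at hmem
      apply hkmin (k - 1) (by omega)
      rw [← hmem, ← pow_add, ← two_mul, ← pow_succ', show k - 2 + 1 = k - 1 from by omega]
    rcases hWmin K hKW hKI with h | h
    · exact absurd h hKne
    · intro w hw
      rw [← h] at hw
      obtain ⟨u, hu, _, huw⟩ := hw
      exact ⟨u, hu, huw⟩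
  -- (2)
  have h2 : ∀ u ∈ B, u ^ 4 = 1 → ∀ x : X, u * x * u⁻¹ * x⁻¹ ∈ WW X := by
    intro u hu h4 x
    have hv : x * u⁻¹ * x⁻¹ ∈ B := hB.normal.conj_mem _ (inv_mem hu) x
    have hcB : u * x * u⁻¹ * x⁻¹ ∈ B := by
      have : u * x * u⁻¹ * x⁻¹ = u * (x * u⁻¹ * x⁻¹) := by group
      rw [this]
      exact mul_mem hu hv
    apply hOm _ hcB
    have hz : u * u ∈ Subgroup.center X := WW_le_center (hsqW u hu h4)
    have hzi : x * (u * u)⁻¹ = (u * u)⁻¹ * x := (Subgroup.mem_center_iff.1 (inv_mem hz) x)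
    have hc' := hcomm u hu _ hv
    calc u * x * u⁻¹ * x⁻¹ * (u * x * u⁻¹ * x⁻¹)
        = u * ((x * u⁻¹ * x⁻¹) * u) * (x * u⁻¹ * x⁻¹) := by group
      _ = u * (u * (x * u⁻¹ * x⁻¹)) * (x * u⁻¹ * x⁻¹) := by rw [hc']
      _ = (u * u) * ((x * (u * u)⁻¹) * x⁻¹) := by group
      _ = (u * u) * (((u * u)⁻¹ * x) * x⁻¹) := by rw [hzi]
      _ = 1 := by group
  -- (3)
  have h3 : ∀ u ∈ B, u ^ 4 = 1 → (∀ φ ∈ A, u⁻¹ * φ u ∈ WW X) → u ∈ WW X := by
    intro u hu h4 hφu
    apply hOm u hu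
    apply hfix _ (mul_mem hu hu)
    intro φ hφ
    obtain ⟨hwZ, hw2⟩ := hφu φ hφ
    have hφ' : φ u = u * (u⁻¹ * φ u) := by group
    have hwc : (u⁻¹ * φ u) * u = u * (u⁻¹ * φ u) := (Subgroup.mem_center_iff.1 hwZ u).symm
    rw [map_mul, hφ']
    calc u * (u⁻¹ * φ u) * (u * (u⁻¹ * φ u)) = u * ((u⁻¹ * φ u) * u) * (u⁻¹ * φ u) := by group
      _ = u * (u * (u⁻¹ * φ u)) * (u⁻¹ * φ u) := by rw [hwc]
      _ = u * u * ((u⁻¹ * φ u) * (u⁻¹ * φ u)) := by group
      _ = u * u := by rw [hw2, mul_one]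
  -- (4)
  have hSq := B2_aux_Sq_eq B hcomm
  have h4' : ∀ c ∈ Sq B, ∃ b ∈ B, c = b * b := by
    intro c hc
    rw [hSq] at hc
    exact hc
  have hSqB : Sq B ≤ B := by
    intro c hc
    obtain ⟨b, hb, rfl⟩ := h4' c hc
    exact mul_mem hb hb
  have hSqI : Inv A (Sq B) := by
    intro φ hφ c hc
    obtain ⟨b, hb, rfl⟩ := h4' c hc
    rw [hSq]
    exact ⟨φ b, hB.inv φ hφ b hb, map_mul φ b b⟩
  -- (5)
  have h5 : ∀ b ∈ B, (∀ φ ∈ A, b⁻¹ * φ b ∈ Sq B) → b ∈ Sq B := by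
    intro b hb hφb
    exact B2_aux_norm H.oddA hB.inv hcomm hfix (Sq B)
      (fun b hb => Subgroup.subset_closure ⟨b, hb, rfl⟩) b hb hφb
  refine ⟨h1, h2, h3, h4', h5, ?_⟩
  -- (6)
  letI := B2_aux_comm B hcomm
  let sq : ↥B →* ↥B :=
    { toFun := fun b => b * b
      map_one' := by simp
      map_mul' := fun a b => by
        simp only [mul_assoc, mul_left_comm] }
  have e1 : Nat.card ↥sq.ker = Nat.card ↥(WW X) := by
    apply Nat.card_congr
    refine
      { toFun := fun k => ⟨k.1.1, hOm _ k.1.2 ?_⟩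
        invFun := fun w => ⟨⟨w.1, hWB w.2⟩, ?_⟩
        left_inv := fun k => rfl
        right_inv := fun w => rfl }
    · have := k.2
      rw [MonoidHom.mem_ker] at this
      exact congrArg Subtype.val this
    · rw [MonoidHom.mem_ker]
      apply Subtype.ext
      exact w.2.2
  have e2 : Nat.card ↥sq.range = Nat.card ↥(Sq B) := by
    apply Nat.card_congr
    refine
      { toFun := fun r => ⟨r.1.1, ?_⟩
        invFun := fun c => ⟨⟨c.1, hSqB c.2⟩, ?_⟩
        left_inv := fun r => rfl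
        right_inv := fun c => rfl }
    · obtain ⟨b, hb⟩ := r.2
      rw [hSq]
      refine ⟨b.1, b.2, ?_⟩
      rw [← hb]
      rfl
    · obtain ⟨b, hb, h⟩ := h4' c.1 c.2
      exact ⟨⟨b, hb⟩, Subtype.ext h.symm⟩
  have e3 := Subgroup.card_eq_card_quotient_mul_card_subgroup sq.ker
  rw [Nat.card_congr (QuotientGroup.quotientKerEquivRange sq).toEquiv, e1, e2, hW4] at e3
  exact e3.symm

end Cfsg.Agent.S1904P
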