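import Mathlib
import Cfsg.Prelude.Def_Transfer
import Cfsg.Agent.Helper8.S1904Defs
import Cfsg.Agent.Helper1.S1904B2core
import Cfsg.Agent.Helper24.S1904B1
import Cfsg.Agent.Helper19.S1904T5

/-!
# Board `s1904pieces`, row B2
-/

set_option autoImplicit false

namespace Cfsg.Agent.S1904P

variable {X : Type*} [Group X] [Finite X] {A : Subgroup (MulAut X)} {B : Subgroup X}

/-- **B2**: the layers `U/W` and `B/B²`. -/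
theorem B2 (H : Hyp A) (hB : MaxAb A B) :
    (∀ w ∈ WW X, ∃ u ∈ B, u * u = w) ∧
    (∀ u ∈ B, u ^ 4 = 1 → ∀ x : X, u * x * u⁻¹ * x⁻¹ ∈ WW X) ∧
    (∀ u ∈ B, u ^ 4 = 1 → (∀ φ ∈ A, u⁻¹ * φ u ∈ WW X) → u ∈ WW X) ∧
    (∀ c ∈ Sq B, ∃ b ∈ B, c = b * b) ∧
    (∀ b ∈ B, (∀ φ ∈ A, b⁻¹ * φ b ∈ Sq B) → b ∈ Sq B) ∧
    Nat.card (Sq B) * 4 = Nat.card B := by
  obtain ⟨hW4, hWB, hOm, hfix, hnofix⟩ := B1 H hB
  obtain ⟨_, _, hWmin⟩ := T5 H hnofix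
  exact B2_aux_core H hB hW4 hWB hOm hfix hWmin

end Cfsg.Agent.S1904P
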