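import Mathlib
import Cfsg.Agent.Helper24.S2074ORBINV

/-! S2074 piece GLUE (driver helper17): an automorphism fixing `u` maps `z` to a conjugate under a
power of `u`. -/

set_option autoImplicit false

namespace Cfsg.Agent.Helper17.SuzOut

namespace GLUE

variable {J : Type*} [Group J]

/-- an automorphism fixing `u` and `n` fixes `closure {u, n}` pointwise -/
theorem fix_closure (ψ : MulAut J) (u n : J) (hu : ψ u = u) (hn : ψ n = n) (f : J)
    (hf : f ∈ Subgroup.closure ({u, n} : Set J)) : ψ f = f := by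
  have h : Set.EqOn (ψ.toMonoidHom : J →* J) (MonoidHom.id J) ({u, n} : Set J) := by
    intro x hx
    rcases hx with rfl | rfl
    · exact hu
    · exact hn
  exact MonoidHom.eqOn_closure h hf

/-- conjugation by `n⁻¹` raises `u` to the power `10` -/
theorem conj_inv (u n : J) (hu : u ^ 13 = 1) (hn : n * u * n⁻¹ = u ^ 4) :
    n⁻¹ * u * n = u ^ 10 := by
  have h1 : n * u ^ 10 * n⁻¹ = u := by
    have : n * u ^ 10 * n⁻¹ = (n * u * n⁻¹) ^ 10 := by
      rw [conj_pow]
    rw [this, hn, ← pow_mul, show 4 * 10 = 13 * 3 + 1 by norm_num, pow_add, pow_mul, hu, one_pow,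
      one_mul, pow_one]
  calc n⁻¹ * u * n = n⁻¹ * (n * u ^ 10 * n⁻¹) * n := by rw [h1]
    _ = u ^ 10 := by group

theorem conj_inv_pow (u n : J) (hu : u ^ 13 = 1) (hn : n * u * n⁻¹ = u ^ 4) (m : ℕ) :
    n⁻¹ * u ^ m * n = u ^ (10 * m) := by
  have : n⁻¹ * u ^ m * n = (n⁻¹ * u * n) ^ m := by
    have := conj_pow (a := n⁻¹) (b := u) (i := m)
    rw [inv_inv] at this
    exact this.symm
  rw [this, conj_inv u n hu hn, ← pow_mul]

end GLUE

/-- GLUE: an automorphism fixing `u` maps `z` to a conjugate under a power of `u`. -/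
theorem stab_of_pattern {J : Type*} [Group J] (N : ℕ) (hN : 0 < N)
    (phi : J →* Equiv.Perm ℕ) (H : Subgroup J) (oid : ℕ → ℕ)
    (hstab : ∀ g : J, phi g 0 = 0 ↔ g ∈ H)
    (hlt : ∀ (g : J) (p : ℕ), p < N → phi g p < N)
    (htr : ∀ p, p < N → ∃ g : J, phi g 0 = p)
    (hcls : ∀ h ∈ H, ∀ p, p < N → oid (phi h p) = oid p)
    (hreach : ∀ p q, p < N → q < N → oid p = oid q → ∃ h ∈ H, phi h p = q)
    (hcnt : ∀ p q, p < N → q < N →
      ((Finset.range N).filter fun i => oid i = oid p).card =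
        ((Finset.range N).filter fun i => oid i = oid q).card → oid p = oid q)
    (z u n : J) (hu : orderOf u = 13) (hn : n * u * n⁻¹ = u ^ 4)
    (hCu : ∀ c : J, c * u = u * c → c ∈ Subgroup.zpowers u)
    (hinvz : ∀ φ : MulAut J, ∃ c : J, φ z = c * z * c⁻¹ ∨ φ z = c * z⁻¹ * c⁻¹)
    (hNz : ∀ g : J, g ∈ H ↔ (g * z * g⁻¹ = z ∨ g * z * g⁻¹ = z⁻¹))
    (Fl : List J) (hFl : ∀ f ∈ Fl, f ∈ Subgroup.closure ({u, n} : Set J))
    (hcand : ∀ c : J, phi c 0 ≠ 0 → ∃ f ∈ Fl, oid (phi (c⁻¹ * f * c) 0) ≠ oid (phi f 0))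
    (hsign : ∀ ψ : MulAut J, ψ u = u → ψ z ≠ z⁻¹) :
    ∀ φ : MulAut J, φ u = u → ∃ i : ℕ, φ z = u ^ i * z * (u ^ i)⁻¹ := by
  intro φ hφu
  have hu13 : u ^ 13 = 1 := by rw [← hu]; exact pow_orderOf_eq_one u
  -- Step 1: `φ n = n * u ^ j`
  have h1 : φ n * u * (φ n)⁻¹ = u ^ 4 := by
    have := congrArg φ hn
    rw [map_mul, map_mul, map_inv, map_pow, hφu] at this
    exact this
  have h2 : φ n * u = u ^ 4 * φ n := by
    rw [← h1]; group
  have h3 : n * u = u ^ 4 * n := by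
    rw [← hn]; group
  have h4 : n⁻¹ * u ^ 4 = u * n⁻¹ := by
    have : u ^ 4 = n * u * n⁻¹ := hn.symm
    rw [this]; group
  have hcomm : (n⁻¹ * φ n) * u = u * (n⁻¹ * φ n) := by
    rw [mul_assoc, h2, ← mul_assoc, h4, mul_assoc]
  obtain ⟨k, hk⟩ := Subgroup.mem_zpowers_iff.mp (hCu _ hcomm)
  -- natural exponent
  obtain ⟨j, hj⟩ : ∃ j : ℕ, u ^ j = n⁻¹ * φ n := by
    refine ⟨(k % 13).toNat, ?_⟩
    rw [← hk, ← zpow_natCast, Int.toNat_of_nonneg (Int.emod_nonneg k (by norm_num))]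
    have := zpow_mod_orderOf u k
    rw [hu] at this
    exact this
  have hφn : φ n = n * u ^ j := by rw [hj]; group
  -- Step 2: the corrected automorphism
  set m := 10 * j with hm
  set ψ : MulAut J := MulAut.conj (u ^ m) * φ with hψ
  have hψapp : ∀ g : J, ψ g = u ^ m * φ g * (u ^ m)⁻¹ := by
    intro g
    rw [hψ, MulAut.mul_apply, MulAut.conj_apply]
  have hψu : ψ u = u := by
    rw [hψapp, hφu, ← pow_succ, pow_succ', mul_assoc, mul_inv_cancel, mul_one]
  have hψn : ψ n = n := by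
    rw [hψapp, hφn]
    have e1 : u ^ m * n = n * u ^ (10 * m) := by
      rw [← GLUE.conj_inv_pow u n hu13 hn m]; group
    rw [← mul_assoc, e1, mul_assoc n, ← pow_add]
    have e2 : 10 * m + j = 13 * (7 * j) + m := by rw [hm]; ring
    rw [e2, pow_add, pow_mul, hu13, one_pow, one_mul, mul_assoc, mul_inv_cancel, mul_one]
  have hψfix : ∀ f ∈ Fl, ψ f = f := fun f hf => GLUE.fix_closure ψ u n hψu hψn f (hFl f hf)
  -- Step 3
  obtain ⟨c, hc⟩ := hinvz ψ
  set φ' : MulAut J := MulAut.conj c⁻¹ * ψ with hφ'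
  have hφ'app : ∀ g : J, φ' g = c⁻¹ * ψ g * c := by
    intro g
    rw [hφ', MulAut.mul_apply, MulAut.conj_apply, inv_inv]
  have hφ'z : φ' z = z ∨ φ' z = z⁻¹ := by
    rcases hc with hc | hc
    · left; rw [hφ'app, hc]; group
    · right; rw [hφ'app, hc]; group
  -- the predicate `x ∈ {z, z⁻¹}`
  have hPinv : ∀ x : J, (x = z ∨ x = z⁻¹) ↔ (x⁻¹ = z ∨ x⁻¹ = z⁻¹) := by
    intro x
    constructor
    · rintro (h | h)
      · right; rw [h]
      · left; rw [h, inv_inv]
    · rintro (h | h)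
      · right; rw [← h, inv_inv]
      · left; exact inv_injective h
  have hPφ' : ∀ x : J, (φ' x = z ∨ φ' x = z⁻¹) ↔ (x = z ∨ x = z⁻¹) := by
    intro x
    rcases hφ'z with h | h
    · have h' : φ' z⁻¹ = z⁻¹ := by rw [map_inv, h]
      constructor
      · rintro (hx | hx)
        · left; exact φ'.injective (hx.trans h.symm)
        · right; exact φ'.injective (hx.trans h'.symm)
      · rintro (hx | hx)
        · left; rw [hx, h]
        · right; rw [hx, h']
    · have h' : φ' z⁻¹ = z := by rw [map_inv, h, inv_inv]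
      constructor
      · rintro (hx | hx)
        · right; exact φ'.injective (hx.trans h'.symm)
        · left; exact φ'.injective (hx.trans h.symm)
      · rintro (hx | hx)
        · right; rw [hx, h]
        · left; rw [hx, h']
  have hHφ' : ∀ g : J, g ∈ H ↔ φ' g ∈ H := by
    intro g
    rw [hNz g, hNz (φ' g)]
    rcases hφ'z with h | h
    · have : φ' g * z * (φ' g)⁻¹ = φ' (g * z * g⁻¹) := by
        rw [map_mul, map_mul, map_inv φ' g, h]
      rw [this, hPφ']
    · have h' : φ' z⁻¹ = z := by rw [map_inv, h, inv_inv]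
      have : φ' g * z * (φ' g)⁻¹ = φ' (g * z⁻¹ * g⁻¹) := by
        rw [map_mul, map_mul, map_inv φ' g, h']
      rw [this, hPφ', hPinv (g * z⁻¹ * g⁻¹)]
      have : (g * z⁻¹ * g⁻¹)⁻¹ = g * z * g⁻¹ := by group
      rw [this]
  have hoid := oid_aut_invariant N hN phi H oid hstab hlt htr hcls hreach hcnt φ' hHφ'
  have hc0 : phi c 0 = 0 := by
    by_contra hne
    obtain ⟨f, hf, hfne⟩ := hcand c hne
    apply hfne
    have := hoid f
    rwa [hφ'app, hψfix f hf] at this
  have hcH : c ∈ H := (hstab c).mp hc0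
  have hcz := (hNz c).mp hcH
  have hψz : ψ z = z := by
    have hmem : ψ z = z ∨ ψ z = z⁻¹ := by
      rcases hc with hc | hc
      · rw [hc]; exact hcz
      · rw [hc]
        have := (hPinv (c * z * c⁻¹)).mp hcz
        have e : (c * z * c⁻¹)⁻¹ = c * z⁻¹ * c⁻¹ := by group
        rw [e] at this
        exact this
    rcases hmem with h | h
    · exact h
    · exact absurd h (hsign ψ hψu)
  -- Step 4
  refine ⟨12 * m, ?_⟩
  have hinv : (u ^ m)⁻¹ = u ^ (12 * m) := by
    apply inv_eq_of_mul_eq_one_right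
    rw [← pow_add, show m + 12 * m = 13 * m by ring, pow_mul, hu13, one_pow]
  have h5 : u ^ m * φ z * (u ^ m)⁻¹ = z := by rw [← hψapp]; exact hψz
  have h6 : φ z = (u ^ m)⁻¹ * z * u ^ m := by
    calc φ z = (u ^ m)⁻¹ * (u ^ m * φ z * (u ^ m)⁻¹) * u ^ m := by group
      _ = (u ^ m)⁻¹ * z * u ^ m := by rw [h5]
  rw [h6, ← hinv, inv_inv]

end Cfsg.Agent.Helper17.SuzOut
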