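import Mathlib
import Cfsg.Agent.Helper2.S2099.DefsA
import Cfsg.Agent.Helper16.S2096YMAP
import Cfsg.Agent.Helper4.S2094YTADD
import Cfsg.Agent.Helper7.S2094CLYY
import Cfsg.Agent.Lead.S2099YSMAP
import Cfsg.Agent.Lead.S2099YSEQUIV
import Cfsg.Agent.Helper18.S2099CLH0X
import Cfsg.Agent.Helper18.S2099CLYXQ
import Cfsg.Agent.Helper29.S2099YSADD
import Cfsg.Agent.Helper8.S2099YSYY

set_option autoImplicit false
set_option linter.unusedSectionVars false
set_option linter.unusedVariables false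

/-! S2099 chapter A, piece YSXY (helper1, for driver helper2): the relation `xy` for the canonical
lifts: `cm (Y a b s) (YS b w) = YS a (s • w) * Y a (ng b) (s * Q0 w)`; the defect is a central
character of `P` which is invariant under the rotation `R`, hence trivial. -/

namespace Cfsg.Agent.S2099P

open Matrix Cfsg.Agent.S3352P Cfsg.Agent.S3351P Cfsg.Agent.S2096P Cfsg.Agent.S2086P
open Cfsg.Agent.S2094P (LongOK isRoot_ng_right' isRoot_ng_left')
open scoped commutatorElement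

namespace YSXY

section abstract

variable {G : Type*} [Group G] {E : Type*} [Group E] {P : Type*} [AddCommGroup P]

/-- the uniqueness principle for a rotation: two additive lifts of the same family, both
equivariant under an element acting by `R` with `R (D w) - D w = w`, coincide -/
theorem uniq_lift_rot (ψ : E →* G) (hc : ψ.ker ≤ Subgroup.center E) {V W : P → E} {R D : P → P}
    (hVW : ∀ w, ψ (V w) = ψ (W w))
    (hV : ∀ w v, V (w + v) = V w * V v) (hW : ∀ w v, W (w + v) = W w * W v)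
    {e₀ : E} (hVe : ∀ w, e₀ * V w * e₀⁻¹ = V (R w)) (hWe : ∀ w, e₀ * W w * e₀⁻¹ = W (R w))
    (hinv : ∀ w, R (D w) - D w = w) : V = W := by
  have hz : ∀ s, V s * (W s)⁻¹ ∈ Subgroup.center E := fun s =>
    hc (by rw [MonoidHom.mem_ker, map_mul, map_inv, hVW s, mul_inv_cancel])
  have hzc : ∀ s (y : E), y * (V s * (W s)⁻¹) = V s * (W s)⁻¹ * y := fun s y =>
    Subgroup.mem_center_iff.mp (hz s) y
  have hadd : ∀ s t, V (s + t) * (W (s + t))⁻¹ = V s * (W s)⁻¹ * (V t * (W t)⁻¹) := by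
    intro s t
    rw [hV, hW, _root_.mul_inv_rev]
    calc V s * V t * ((W t)⁻¹ * (W s)⁻¹) = V s * (V t * (W t)⁻¹) * (W s)⁻¹ := by group
      _ = V s * ((W s)⁻¹ * (V t * (W t)⁻¹)) := by rw [mul_assoc, ← hzc t (W s)⁻¹]
      _ = V s * (W s)⁻¹ * (V t * (W t)⁻¹) := by group
  have hV0 : V 0 = 1 := by
    have h := hV 0 0
    rw [add_zero] at h
    exact (mul_eq_left (a := V 0)).1 h.symm
  have hW0 : W 0 = 1 := by
    have h := hW 0 0
    rw [add_zero] at h
    exact (mul_eq_left (a := W 0)).1 h.symm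
  have hinvR : ∀ s, V (R s) * (W (R s))⁻¹ = V s * (W s)⁻¹ := by
    intro s
    rw [← hVe, ← hWe]
    calc e₀ * V s * e₀⁻¹ * (e₀ * W s * e₀⁻¹)⁻¹ = e₀ * (V s * (W s)⁻¹) * e₀⁻¹ := by group
      _ = V s * (W s)⁻¹ * e₀ * e₀⁻¹ := by rw [hzc s e₀]
      _ = V s * (W s)⁻¹ := by group
  funext w
  have e : w = R (D w) + (-(D w)) := by rw [← sub_eq_add_neg, hinv]
  have h1 := hadd (R (D w)) (-(D w))
  rw [← e, hinvR] at h1
  have h0 := hadd (D w) (-(D w))
  rw [add_neg_cancel, hV0, hW0, inv_one, mul_one] at h0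
  rw [← h0] at h1
  exact mul_inv_eq_one.1 h1

/-- lifts of `1` are central -/
theorem CL_one_right (ψ : E →* G) (hc : ψ.ker ≤ Subgroup.center E) (g : G) : CL ψ g 1 := by
  intro e e' _ he'
  exact Subgroup.mem_center_iff.mp (hc (MonoidHom.mem_ker.2 he')) e

theorem rearr4 {p A B c : E} (hPA : Commute p A) (hPB : Commute p B) (hPc : Commute p c)
    (hAc : Commute A c) (hAB : Commute A B) :
    p * c * (A * p * B)⁻¹ = A⁻¹ * c * B⁻¹ := by
  have h1 : Commute p (c * B⁻¹) := hPc.mul_right hPB.inv_right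
  have h2 : Commute A⁻¹ (c * B⁻¹) := (hAc.mul_right hAB.inv_right).inv_left
  calc p * c * (A * p * B)⁻¹ = (p * (c * B⁻¹)) * p⁻¹ * A⁻¹ := by group
    _ = ((c * B⁻¹) * p) * p⁻¹ * A⁻¹ := by rw [h1.eq]
    _ = (c * B⁻¹) * A⁻¹ := by group
    _ = A⁻¹ * (c * B⁻¹) := h2.eq.symm
    _ = A⁻¹ * c * B⁻¹ := by group

end abstract

end YSXY

section general

variable {n : ℕ} {F : Type*} [Field F] [Fintype F] {P : Type*} [AddCommGroup P] [Module F P]
  {G : Type*} [Group G] {E : Type*} [Group E] {Q0 : QuadraticForm F P}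
  {X : J n → J n → F → G} {Ys : J n → P → G} {h₀ : G} {R D : P →ₗ[F] P}

open YSXY in
/-- YSXY -/
theorem YS_xy (hn : 3 ≤ n) (hB : QRel Q0 X Ys) (hR : Rot Q0 X Ys h₀ R D) (ψ : E →* G)
    (hψ : Function.Surjective ψ) (hc : ψ.ker ≤ Subgroup.center E) (hL : LongOK X ψ hψ hn)
    {a b : J n} (hab : IsRoot a b) (s : F) (w : P) :
    cm (Y X ψ hψ hn a b s) (YS Ys ψ hψ h₀ D b w) =
      YS Ys ψ hψ h₀ D a (s • w) * Y X ψ hψ hn a (ng b) (s * Q0 w) := by
  have hrn : IsRoot a (ng b) := isRoot_ng_right' hab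
  have hba : IsRoot b a := hab.symm
  have hmapY : ψ (Y X ψ hψ hn a b s) = X a b s := map_Y hB.dX ψ hψ hn hab s
  have hmapYn : ∀ u : F, ψ (Y X ψ hψ hn a (ng b) u) = X a (ng b) u := fun u =>
    map_Y hB.dX ψ hψ hn hrn u
  have hmapS : ∀ (c : J n) (v : P), ψ (YS Ys ψ hψ h₀ D c v) = Ys c v := fun c v =>
    map_YS hB hR ψ hψ c v
  -- the canonical commutator
  have hC : ∀ v : P, cm (Y X ψ hψ hn a b s) (YS Ys ψ hψ h₀ D b v) =
      cl ψ hψ (X a b s) (Ys b v) := by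
    intro v
    rw [cm_def, ← commutatorElement_def]
    exact cl_eq ψ hψ hc hmapY (hmapS b v)
  have hψC : ∀ v : P, ψ (cl ψ hψ (X a b s) (Ys b v)) =
      Ys a (s • v) * X a (ng b) (s * Q0 v) := by
    intro v
    rw [map_cl, commutatorElement_def, ← cm_def, hB.xy a b hab]
  -- commutation facts
  have hnba : ng b ≠ a := fun e => hab.2 e.symm
  have cYX : ∀ (v : P) (u : F), CL ψ (Ys a v) (X a (ng b) u) := fun v u =>
    cl_Ys_X hn hB hR ψ hψ hc hrn hnba (ng_ne a).symm v u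
  have cYbX : ∀ (v : P) (u : F), CL ψ (Ys b v) (X a (ng b) u) := fun v u =>
    cl_Ys_X hn hB hR ψ hψ hc hrn (ng_ne b) hab.2 v u
  have cNN : ∀ u u' : F, Commute (Y X ψ hψ hn a (ng b) u) (Y X ψ hψ hn a (ng b) u') := by
    intro u u'
    have h1 := hL.rel.add a (ng b) hrn u u'
    have h2 := hL.rel.add a (ng b) hrn u' u
    rw [add_comm] at h2
    exact h1.symm.trans h2
  have cXX : ∀ u u' : F, CL ψ (X a (ng b) u) (X a (ng b) u') := fun u u' =>
    Cfsg.Agent.S2094P.CL_of_commute ψ hc (hmapYn u) (hmapYn u') (cNN u u')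
  -- `Y a (ng b) u` commutes with the canonical commutators
  have cNC : ∀ (u : F) (v : P),
      Commute (Y X ψ hψ hn a (ng b) u) (cl ψ hψ (X a b s) (Ys b v)) := fun u v =>
    Cfsg.Agent.S2094P.CLYY.commute_of_mul hψ hc (hmapYn u) (cYX (s • v) u).symm (cXX u _)
      (hψC v)
  -- conjugating a canonical commutator by a canonical lift of `Ys b w`
  have hconj : ∀ w v : P, YS Ys ψ hψ h₀ D b w * cl ψ hψ (X a b s) (Ys b v) *
      (YS Ys ψ hψ h₀ D b w)⁻¹ =
      Y X ψ hψ hn a (ng b) (s * QuadraticMap.polar Q0 w v) * cl ψ hψ (X a b s) (Ys b v) := by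
    intro w v
    have e1 : YS Ys ψ hψ h₀ D b w * cl ψ hψ (X a b s) (Ys b v) * (YS Ys ψ hψ h₀ D b w)⁻¹ =
        ⁅YS Ys ψ hψ h₀ D b w, cl ψ hψ (X a b s) (Ys b v)⁆ * cl ψ hψ (X a b s) (Ys b v) := by
      rw [commutatorElement_def]; group
    rw [e1, cl_eq ψ hψ hc (hmapS b w) (hψC v)]
    congr 1
    have hcomm1 : ⁅Ys b w, X a (ng b) (s * Q0 v)⁆ = 1 :=
      commutatorElement_eq_one_iff_commute.2
        (hB.ycomm b a (ng b) hrn (ng_ne b) hab.2 w (s * Q0 v))
    have hCL : CL ψ (Ys a (s • v)) ⁅Ys b w, X a (ng b) (s * Q0 v)⁆ := by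
      rw [hcomm1]; exact CL_one_right ψ hc _
    rw [Cfsg.Agent.S2094P.YTADD.cl_mul_right ψ hψ hc hCL]
    have h2 : cl ψ hψ (Ys b w) (X a (ng b) (s * Q0 v)) = 1 := by
      rw [← cl_eq ψ hψ hc (hmapS b w) (hmapYn (s * Q0 v))]
      exact commutatorElement_eq_one_iff_commute.2 (cYbX w _ _ _ (hmapS b w) (hmapYn _))
    rw [h2, mul_one, ← cl_eq ψ hψ hc (hmapS b w) (hmapS a (s • v)), commutatorElement_def,
      ← cm_def, YS_yy hn hB hR ψ hψ hc hL hba w (s • v)]
    have hfl := hL.rel.flip a (ng b) hrn (-(QuadraticMap.polar Q0 w (s • v)))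
    rw [ng_ng, neg_neg] at hfl
    rw [hfl, QuadraticMap.polar_smul_right, smul_eq_mul]
  -- the two families
  have key : (fun v : P => cl ψ hψ (X a b s) (Ys b v) * (Y X ψ hψ hn a (ng b) (s * Q0 v))⁻¹) =
      fun v : P => YS Ys ψ hψ h₀ D a (s • v) := by
    obtain ⟨e₀, he₀⟩ := hψ h₀
    apply uniq_lift_rot ψ hc (R := R) (D := D) (e₀ := e₀) _ _ _ _ _ hR.inv₁
    · -- same images
      intro v
      show ψ (cl ψ hψ (X a b s) (Ys b v) * (Y X ψ hψ hn a (ng b) (s * Q0 v))⁻¹) =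
        ψ (YS Ys ψ hψ h₀ D a (s • v))
      rw [map_mul, map_inv, hψC, hmapYn, mul_inv_cancel_right, hmapS]
    · -- additivity of `V`
      intro w v
      show cl ψ hψ (X a b s) (Ys b (w + v)) * (Y X ψ hψ hn a (ng b) (s * Q0 (w + v)))⁻¹ =
        cl ψ hψ (X a b s) (Ys b w) * (Y X ψ hψ hn a (ng b) (s * Q0 w))⁻¹ *
          (cl ψ hψ (X a b s) (Ys b v) * (Y X ψ hψ hn a (ng b) (s * Q0 v))⁻¹)
      have hsplit : cl ψ hψ (X a b s) (Ys b (w + v)) =
          cl ψ hψ (X a b s) (Ys b w) *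
            (Y X ψ hψ hn a (ng b) (s * QuadraticMap.polar Q0 w v) *
              cl ψ hψ (X a b s) (Ys b v)) := by
        rw [← hconj w v,
          ← cl_eq ψ hψ hc (e := Y X ψ hψ hn a b s)
            (e' := YS Ys ψ hψ h₀ D b w * YS Ys ψ hψ h₀ D b v) hmapY
            (by rw [map_mul, hmapS, hmapS, hB.yadd]),
          ← cl_eq ψ hψ hc hmapY (hmapS b w), ← cl_eq ψ hψ hc hmapY (hmapS b v)]
        simp only [commutatorElement_def]
        group
      have hQ : s * Q0 (w + v) = s * Q0 w + s * QuadraticMap.polar Q0 w v + s * Q0 v := by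
        have := QuadraticMap.polar Q0 w v
        unfold QuadraticMap.polar
        ring
      rw [hsplit, hQ, hL.rel.add a (ng b) hrn, hL.rel.add a (ng b) hrn]
      have := rearr4 (cNN (s * QuadraticMap.polar Q0 w v) (s * Q0 w))
        (cNN (s * QuadraticMap.polar Q0 w v) (s * Q0 v))
        (cNC (s * QuadraticMap.polar Q0 w v) v) (cNC (s * Q0 w) v) (cNN (s * Q0 w) (s * Q0 v))
      calc cl ψ hψ (X a b s) (Ys b w) *
            (Y X ψ hψ hn a (ng b) (s * QuadraticMap.polar Q0 w v) * cl ψ hψ (X a b s) (Ys b v)) *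
            (Y X ψ hψ hn a (ng b) (s * Q0 w) *
              Y X ψ hψ hn a (ng b) (s * QuadraticMap.polar Q0 w v) *
              Y X ψ hψ hn a (ng b) (s * Q0 v))⁻¹
          = cl ψ hψ (X a b s) (Ys b w) *
            (Y X ψ hψ hn a (ng b) (s * QuadraticMap.polar Q0 w v) * cl ψ hψ (X a b s) (Ys b v) *
            (Y X ψ hψ hn a (ng b) (s * Q0 w) *
              Y X ψ hψ hn a (ng b) (s * QuadraticMap.polar Q0 w v) *
              Y X ψ hψ hn a (ng b) (s * Q0 v))⁻¹) := by group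
        _ = _ := by rw [this]; group
    · -- additivity of `W`
      intro w v
      show YS Ys ψ hψ h₀ D a (s • (w + v)) =
        YS Ys ψ hψ h₀ D a (s • w) * YS Ys ψ hψ h₀ D a (s • v)
      rw [smul_add, YS_add hn hB hR ψ hψ hc hL]
    · -- equivariance of `V`
      intro v
      show e₀ * (cl ψ hψ (X a b s) (Ys b v) * (Y X ψ hψ hn a (ng b) (s * Q0 v))⁻¹) * e₀⁻¹ =
        cl ψ hψ (X a b s) (Ys b (R v)) * (Y X ψ hψ hn a (ng b) (s * Q0 (R v)))⁻¹
      have e1 : e₀ * (cl ψ hψ (X a b s) (Ys b v) * (Y X ψ hψ hn a (ng b) (s * Q0 v))⁻¹) * e₀⁻¹ =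
          (e₀ * cl ψ hψ (X a b s) (Ys b v) * e₀⁻¹) *
            (e₀ * Y X ψ hψ hn a (ng b) (s * Q0 v) * e₀⁻¹)⁻¹ := by group
      have hcX : h₀ * X a b s * h₀⁻¹ = X a b s := by
        rw [hR.commX a b hab s, mul_inv_cancel_right]
      have hcN : e₀ * Y X ψ hψ hn a (ng b) (s * Q0 v) * e₀⁻¹ =
          Y X ψ hψ hn a (ng b) (s * Q0 v) := by
        have := cl_h0_X hn hB hR ψ hψ hc hrn (s * Q0 v) e₀ _ he₀ (hmapYn (s * Q0 v))
        rw [this.eq, mul_inv_cancel_right]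
      rw [e1, Cfsg.Agent.S2094P.conj_cl ψ hψ hc, he₀, hcX, hR.conjY, hcN, hR.isom]
    · -- equivariance of `W`
      intro v
      show e₀ * YS Ys ψ hψ h₀ D a (s • v) * e₀⁻¹ = YS Ys ψ hψ h₀ D a (s • R v)
      rw [conj_YS hB hR ψ hψ hc he₀, map_smul]
  rw [hC]
  have := congrFun key w
  exact mul_inv_eq_iff_eq_mul.1 this

end general

end Cfsg.Agent.S2099P
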