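import Cfsg.Agent.Helper1.S2258STRUCTC
import Cfsg.Agent.Helper20.S2258DICT
import Cfsg.Agent.Helper20.S2258DIH
import Cfsg.Agent.Helper19.S2258A4L
import Cfsg.Agent.Helper20.S2258TYPES

/-! S2258 (driver helper28), piece STRUCT2: if `⟨π (uM s), π Y⟩` is a proper subgroup of
`PSL₂(3^p)` (`x` of order 3) then `Y` satisfies `P2 s`. -/

set_option autoImplicit false
set_option linter.unusedSectionVars false

namespace Cfsg.Agent.S2258P

open Cfsg.Agent.Helper18.Dickson

variable {F : Type*} [Field F] [Fintype F] {p : ℕ}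

local notation "SF" => Matrix.SpecialLinearGroup (Fin 2) F
local notation "MF" => Matrix (Fin 2) (Fin 2) F
local notation "PF" => Matrix.ProjectiveSpecialLinearGroup (Fin 2) F
local notation "π" => QuotientGroup.mk' (Subgroup.center SF)
local notation "q" => Fintype.card F

namespace STRUCT2

theorem uM_entries (s : F) :
    ((uM s : SF) : MF) 0 0 = 1 ∧ ((uM s : SF) : MF) 0 1 = s ∧
      ((uM s : SF) : MF) 1 0 = 0 ∧ ((uM s : SF) : MF) 1 1 = 1 := by
  rw [uM_coe]
  simp

theorem one_10 : (((1 : SF) : MF)) 1 0 = 0 := by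
  rw [Matrix.SpecialLinearGroup.coe_one]
  simp

theorem mk_uM_ne_one (h2 : (2 : F) ≠ 0) (s : F) (hs : s ≠ 0) : (π (uM s) : PF) ≠ 1 := by
  intro h1
  rw [mk_eq_one_iff] at h1
  rcases h1 with h1 | h1
  · exact hs ((uM_eq_one_iff s).mp h1)
  · have h3 := congrArg (fun g : SF => (g : MF) 0 0) h1
    beta_reduce at h3
    rw [(uM_entries s).1, STRUCTC.neg_entry, Matrix.SpecialLinearGroup.coe_one] at h3
    apply h2
    have h4 : (1 : F) = -1 := by simpa using h3
    linear_combination h4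

theorem mk_uM_cube (h : Hyp F p) (s : F) : (π (uM s) : PF) ^ 3 = 1 := by
  have := h.charP
  rw [← map_pow, uM_pow_char 3 s, map_one]

theorem three_not_dvd (h : Hyp F p) : ¬ 3 ∣ (q + 1) / 2 ∧ ¬ 3 ∣ (q - 1) / 2 := by
  have h1 : 3 ∣ q := by
    rw [h.card]
    exact dvd_pow_self 3 h.prime.pos.ne'
  have h2 : q % 2 = 1 := by
    rw [h.card]
    exact Nat.odd_iff.mp (Odd.pow (by decide))
  have h3 := h.card_ge
  constructor
  · intro h4
    omega
  · intro h4
    omega

theorem tr_uM_mul (s : F) (Y : SF) :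
    tr (uM s * Y) = (Y : MF) 0 0 + (Y : MF) 1 1 + s * (Y : MF) 1 0 := by
  obtain ⟨e00, e01, e10, e11⟩ := uM_entries s
  unfold tr
  simp only [STRUCTC.mul_entry, e00, e01, e10, e11]
  ring

theorem lower_of_mul_uM (s r : F) (Y : SF) (h1 : uM s * Y = uM r ∨ uM s * Y = -uM r) :
    (Y : MF) 1 0 = 0 := by
  obtain ⟨e00, e01, e10, e11⟩ := uM_entries s
  obtain ⟨r00, r01, r10, r11⟩ := uM_entries r
  rcases h1 with h1 | h1
  · have h3 := congrArg (fun g : SF => (g : MF) 1 0) h1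
    beta_reduce at h3
    simp only [STRUCTC.mul_entry, e10, e11, r10] at h3
    linear_combination h3
  · have h3 := congrArg (fun g : SF => (g : MF) 1 0) h1
    beta_reduce at h3
    simp only [STRUCTC.mul_entry, STRUCTC.neg_entry, e10, e11, r10] at h3
    linear_combination h3

end STRUCT2

/-- STRUCT2 (L; TYPES, A4L, DICT). -/
theorem struct2 (h : Hyp F p) (s : F) (hs : s ≠ 0) (Y : SF)
    (hne : Subgroup.closure ({π (uM s), π Y} : Set PF) ≠ ⊤) : P2 s Y := by
  have h2 := h.two_ne_zero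
  have h3z := h.three_eq_zero
  have hx : (π (uM s) : PF) ∈ Subgroup.closure ({π (uM s), π Y} : Set PF) := STRUCTC.x_mem _ _
  have hy : (π Y : PF) ∈ Subgroup.closure ({π (uM s), π Y} : Set PF) := STRUCTC.y_mem _ _
  have hx1 := STRUCT2.mk_uM_ne_one h2 s hs
  have hx3 := STRUCT2.mk_uM_cube h s
  obtain ⟨hnd1, hnd2⟩ := STRUCT2.three_not_dvd h
  have hord : orderOf (⟨_, hx⟩ : Subgroup.closure ({π (uM s), π Y} : Set PF)) = 3 := by
    have : Fact (Nat.Prime 3) := ⟨Nat.prime_three⟩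
    apply orderOf_eq_prime
    · apply Subtype.ext
      exact hx3
    · intro h1
      exact hx1 (congrArg Subtype.val h1)
  have hdvd : 3 ∣ Nat.card (Subgroup.closure ({π (uM s), π Y} : Set PF)) := by
    rw [← hord]
    exact orderOf_dvd_natCard _
  rcases types h _ hne with ⟨-, hc | hc⟩ | ⟨k, hk, ⟨f⟩⟩ | ⟨⟨f⟩⟩ | ⟨g0, hg0⟩
  · exact (hnd1 (hdvd.trans hc)).elim
  · exact (hnd2 (hdvd.trans hc)).elim
  · exfalso
    rw [Nat.card_congr f.toEquiv, DihedralGroup.nat_card] at hdvd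
    have h3k : 3 ∣ k := (Nat.Coprime.dvd_mul_left (by decide : Nat.Coprime 3 2)).mp hdvd
    rcases hk with hk | hk
    · exact hnd1 (h3k.trans hk)
    · exact hnd2 (h3k.trans hk)
  · have ha3 : (f ⟨_, hx⟩) ^ 3 = 1 := by
      rw [← map_pow, ← hord, pow_orderOf_eq_one, map_one]
    have ha1 : (f ⟨_, hx⟩) ≠ 1 := by
      intro h1
      apply hx1
      exact STRUCTC.transport _ f ⟨_, hx⟩ 1 (by rw [map_one]; exact h1)
    have hsq : ∀ Z : SF, (π Z : PF) ^ 2 = 1 → Z = 1 ∨ Z = -1 ∨ tr Z = 0 :=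
      fun Z hZ => (mk_sq_eq_one_iff h2 Z).mp hZ
    rcases a4_three (f ⟨_, hx⟩) (f ⟨_, hy⟩) ha3 ha1 with h1 | ⟨h1, h4⟩ | ⟨h1, h4⟩ | ⟨h1, h4⟩
    · left
      obtain ⟨j, hj⟩ := Subgroup.mem_zpowers_iff.mp h1
      have h5 : (π (uM s) : PF) ^ j = π Y :=
        STRUCTC.transport _ f (⟨_, hx⟩ ^ j) ⟨_, hy⟩ (by rw [map_zpow]; exact hj)
      rw [← map_zpow, STRUCTC.uM_zpow] at h5
      rcases (mk_eq_mk_iff _ _).mp h5 with h6 | h6
      · rw [← h6]
        exact (STRUCT2.uM_entries _).2.2.1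
      · have h7 : Y = -uM (j * s) := by rw [h6, neg_neg]
        rw [h7, STRUCTC.neg_entry, (STRUCT2.uM_entries _).2.2.1, neg_zero]
    · have hy2 : (π Y : PF) ^ 2 = 1 :=
        STRUCTC.transport _ f (⟨_, hy⟩ ^ 2) 1 (by rw [map_pow, map_one]; exact h1)
      have hxy3 : (π (uM s * Y) : PF) ^ 3 = 1 := by
        rw [map_mul]
        exact STRUCTC.transport _ f ((⟨_, hx⟩ * ⟨_, hy⟩) ^ 3) 1
          (by rw [map_pow, map_mul, map_one]; exact h4)
      rw [mk_cube_eq_one_iff h3z, STRUCT2.tr_uM_mul] at hxy3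
      rcases hsq Y hy2 with h5 | h5 | h5
      · left
        rw [h5]
        exact STRUCT2.one_10
      · left
        rw [h5, STRUCTC.neg_entry, STRUCT2.one_10, neg_zero]
      · right
        left
        unfold tr at h5
        refine ⟨h5, ?_⟩
        rw [h5, zero_add] at hxy3
        exact hxy3
    · have hy3 : (π Y : PF) ^ 3 = 1 :=
        STRUCTC.transport _ f (⟨_, hy⟩ ^ 3) 1 (by rw [map_pow, map_one]; exact h1)
      have hxy2 : (π (uM (-s) * Y) : PF) ^ 2 = 1 := by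
        rw [map_mul, ← uM_inv, map_inv]
        exact STRUCTC.transport _ f ((⟨_, hx⟩⁻¹ * ⟨_, hy⟩) ^ 2) 1
          (by rw [map_pow, map_mul, map_inv, map_one]; exact h4)
      rw [mk_cube_eq_one_iff h3z] at hy3
      unfold tr at hy3
      rcases hsq _ hxy2 with h5 | h5 | h5
      · left
        refine STRUCT2.lower_of_mul_uM (-s) 0 Y (Or.inl ?_)
        rw [h5, uM_zero]
      · left
        refine STRUCT2.lower_of_mul_uM (-s) 0 Y (Or.inr ?_)
        rw [h5, uM_zero]
      · right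
        right
        refine ⟨hy3, Or.inl ?_⟩
        rw [STRUCT2.tr_uM_mul] at h5
        linear_combination -h5
    · have hy3 : (π Y : PF) ^ 3 = 1 :=
        STRUCTC.transport _ f (⟨_, hy⟩ ^ 3) 1 (by rw [map_pow, map_one]; exact h1)
      have hxy2 : (π (uM s * Y) : PF) ^ 2 = 1 := by
        rw [map_mul]
        exact STRUCTC.transport _ f ((⟨_, hx⟩ * ⟨_, hy⟩) ^ 2) 1
          (by rw [map_pow, map_mul, map_one]; exact h4)
      rw [mk_cube_eq_one_iff h3z] at hy3
      unfold tr at hy3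
      rcases hsq _ hxy2 with h5 | h5 | h5
      · left
        refine STRUCT2.lower_of_mul_uM s 0 Y (Or.inl ?_)
        rw [h5, uM_zero]
      · left
        refine STRUCT2.lower_of_mul_uM s 0 Y (Or.inr ?_)
        rw [h5, uM_zero]
      · right
        right
        refine ⟨hy3, Or.inr ?_⟩
        rw [STRUCT2.tr_uM_mul] at h5
        linear_combination h5
  · left
    have h1 := hg0 (uM s) hx
    have h4 := hg0 Y hy
    have h5 := borel_entries (g0 * uM s * g0⁻¹) h1
    have h6 : tr (g0 * uM s * g0⁻¹) = 2 := by rw [tr_conj, tr_uM]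
    unfold tr at h6
    have h7 : (((g0 * uM s * g0⁻¹ : SF) : MF) 0 0 - 1) ^ 2 = 0 := by
      linear_combination ((g0 * uM s * g0⁻¹ : SF) : MF) 0 0 * h6 - h5
    have h8 : ((g0 * uM s * g0⁻¹ : SF) : MF) 0 0 = 1 := by
      have := pow_eq_zero_iff (two_ne_zero) |>.mp h7
      linear_combination this
    have h9 := eq_uM (g0 * uM s * g0⁻¹) h1 h8
    have h10 : g0 * uM s = uM (((g0 * uM s * g0⁻¹ : SF) : MF) 0 1) * g0 :=
      mul_inv_eq_iff_eq_mul.mp h9
    have h11 := borel_of_conj_uM s _ hs g0 h10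
    exact STRUCTC.lower_zero_of_conj g0 Y h11 h4

end Cfsg.Agent.S2258P
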