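import Cfsg.Agent.Helper1.S2258STRUCTC
import Cfsg.Agent.Helper20.S2258DICT
import Cfsg.Agent.Helper20.S2258DIH
import Cfsg.Agent.Helper19.S2258A4L
import Cfsg.Agent.Helper20.S2258TYPES

/-! (UNUSED alternative proof; the landed STRUCT3 is Helper28.S2258STRUCT3; names changed to avoid clashes.) S2258 (driver helper28), piece STRUCT3: if `⟨π (dM t), π Y⟩` is a proper subgroup of
`PSL₂(3^p)` (split torus case, `t⁴ ≠ 1`) then `Y` is upper triangular, lower triangular or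
antidiagonal. -/

set_option autoImplicit false
set_option linter.unusedSectionVars false

namespace Cfsg.Agent.S2258P

open Cfsg.Agent.Helper18.Dickson

variable {F : Type*} [Field F] [Fintype F] {p : ℕ}

local notation "SF" => Matrix.SpecialLinearGroup (Fin 2) F
local notation "MF" => Matrix (Fin 2) (Fin 2) F
local notation "PF" => Matrix.ProjectiveSpecialLinearGroup (Fin 2) F
local notation "π" => QuotientGroup.mk' (Subgroup.center SF)
local notation "q" => Fintype.card F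

namespace STRUCT3H1

theorem dM_entries (t : F) (ht : t ≠ 0) :
    ((dM t ht : SF) : MF) 0 0 = t ∧ ((dM t ht : SF) : MF) 0 1 = 0 ∧
      ((dM t ht : SF) : MF) 1 0 = 0 ∧ ((dM t ht : SF) : MF) 1 1 = t⁻¹ := by
  rw [dM_coe]
  simp

theorem sq_ne (t : F) (ht4 : t ^ 4 ≠ 1) : t ^ 2 ≠ 1 ∧ t ^ 2 ≠ -1 := by
  constructor
  · intro h1
    apply ht4
    have : t ^ 4 = (t ^ 2) ^ 2 := by ring
    rw [this, h1]
    ring
  · intro h1
    apply ht4
    have : t ^ 4 = (t ^ 2) ^ 2 := by ring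
    rw [this, h1]
    ring

theorem comm3 (t : F) (ht : t ≠ 0) (ht4 : t ^ 4 ≠ 1) (Y : SF) (h : Y * dM t ht = dM t ht * Y) :
    (Y : MF) 0 1 = 0 := by
  obtain ⟨e00, e01, e10, e11⟩ := dM_entries t ht
  obtain ⟨hs1, -⟩ := sq_ne t ht4
  have h1 := congrArg (fun g : SF => (g : MF) 0 1) h
  beta_reduce at h1
  simp only [STRUCTC.mul_entry, e01, e11, e00] at h1
  have h3 : (Y : MF) 0 1 * (1 - t ^ 2) = 0 := by
    have : (Y : MF) 0 1 * (1 - t ^ 2) = t * ((Y : MF) 0 1 * t⁻¹) - t ^ 2 * (Y : MF) 0 1 := by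
      field_simp
    rw [this]
    linear_combination t * h1
  rcases mul_eq_zero.mp h3 with h4 | h4
  · exact h4
  · exfalso
    apply hs1
    linear_combination -h4

theorem anti3 (h2 : (2 : F) ≠ 0) (t : F) (ht : t ≠ 0) (Y : SF)
    (h : Y * dM t ht = -(dM t ht * Y)) : (Y : MF) 0 0 = 0 ∧ (Y : MF) 1 1 = 0 := by
  obtain ⟨e00, e01, e10, e11⟩ := dM_entries t ht
  have h1 := congrArg (fun g : SF => (g : MF) 0 0) h
  have h1' := congrArg (fun g : SF => (g : MF) 1 1) h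
  beta_reduce at h1 h1'
  simp only [STRUCTC.neg_entry, STRUCTC.mul_entry, e00, e10, e01] at h1
  simp only [STRUCTC.neg_entry, STRUCTC.mul_entry, e01, e11, e10] at h1'
  have hti : t⁻¹ ≠ 0 := inv_ne_zero ht
  constructor
  · have h3 : (2 * t) * (Y : MF) 0 0 = 0 := by linear_combination h1
    rcases mul_eq_zero.mp h3 with h4 | h4
    · exact absurd h4 (mul_ne_zero h2 ht)
    · exact h4
  · have h3 : (2 * t⁻¹) * (Y : MF) 1 1 = 0 := by linear_combination h1'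
    rcases mul_eq_zero.mp h3 with h4 | h4
    · exact absurd h4 (mul_ne_zero h2 hti)
    · exact h4

theorem inv3 (t : F) (ht : t ≠ 0) (ht4 : t ^ 4 ≠ 1) (Y : SF)
    (h : Y * dM t ht = (dM t ht)⁻¹ * Y) : (Y : MF) 0 0 = 0 ∧ (Y : MF) 1 1 = 0 := by
  obtain ⟨e00, e01, e10, e11⟩ := dM_entries t ht
  obtain ⟨i00, i01, i10, i11⟩ := STRUCTC.inv_entries (dM t ht)
  obtain ⟨hs1, -⟩ := sq_ne t ht4
  have h1 := congrArg (fun g : SF => (g : MF) 0 0) h
  have h1' := congrArg (fun g : SF => (g : MF) 1 1) h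
  beta_reduce at h1 h1'
  simp only [STRUCTC.mul_entry, i00, i01, e00, e10, e11, e01] at h1
  simp only [STRUCTC.mul_entry, i10, i11, e01, e11, e10, e00] at h1'
  have hne : (t ^ 2 - 1) ≠ 0 := fun h0 => hs1 (by linear_combination h0)
  constructor
  · have h3 : (t ^ 2 - 1) * (Y : MF) 0 0 = 0 := by
      have : (t ^ 2 - 1) * (Y : MF) 0 0 = t * ((Y : MF) 0 0 * t) - t * (t⁻¹ * (Y : MF) 0 0) := by
        field_simp
      rw [this]
      linear_combination t * h1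
    rcases mul_eq_zero.mp h3 with h4 | h4
    · exact absurd h4 hne
    · exact h4
  · have h3 : (t ^ 2 - 1) * (Y : MF) 1 1 = 0 := by
      have : (t ^ 2 - 1) * (Y : MF) 1 1 = t * (t * (Y : MF) 1 1) - t * ((Y : MF) 1 1 * t⁻¹) := by
        field_simp
      rw [this]
      linear_combination -t * h1'
    rcases mul_eq_zero.mp h3 with h4 | h4
    · exact absurd h4 hne
    · exact h4

theorem antiinv3 (t : F) (ht : t ≠ 0) (ht4 : t ^ 4 ≠ 1) (Y : SF)
    (h : Y * dM t ht = -((dM t ht)⁻¹ * Y)) : (Y : MF) 0 0 = 0 ∧ (Y : MF) 1 1 = 0 := by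
  obtain ⟨e00, e01, e10, e11⟩ := dM_entries t ht
  obtain ⟨i00, i01, i10, i11⟩ := STRUCTC.inv_entries (dM t ht)
  obtain ⟨-, hs1⟩ := sq_ne t ht4
  have h1 := congrArg (fun g : SF => (g : MF) 0 0) h
  have h1' := congrArg (fun g : SF => (g : MF) 1 1) h
  beta_reduce at h1 h1'
  simp only [STRUCTC.neg_entry, STRUCTC.mul_entry, i00, i01, e00, e10, e11, e01] at h1
  simp only [STRUCTC.neg_entry, STRUCTC.mul_entry, i10, i11, e01, e11, e10, e00] at h1'
  have hne : (t ^ 2 + 1) ≠ 0 := fun h0 => hs1 (by linear_combination h0)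
  constructor
  · have h3 : (t ^ 2 + 1) * (Y : MF) 0 0 = 0 := by
      have : (t ^ 2 + 1) * (Y : MF) 0 0 = t * ((Y : MF) 0 0 * t) + t * (t⁻¹ * (Y : MF) 0 0) := by
        field_simp
      rw [this]
      linear_combination t * h1
    rcases mul_eq_zero.mp h3 with h4 | h4
    · exact absurd h4 hne
    · exact h4
  · have h3 : (t ^ 2 + 1) * (Y : MF) 1 1 = 0 := by
      have : (t ^ 2 + 1) * (Y : MF) 1 1 = t * (t * (Y : MF) 1 1) + t * ((Y : MF) 1 1 * t⁻¹) := by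
        field_simp
      rw [this]
      linear_combination t * h1'
    rcases mul_eq_zero.mp h3 with h4 | h4
    · exact absurd h4 hne
    · exact h4

theorem tr_dM (t : F) (ht : t ≠ 0) : tr (dM t ht : SF) = t + t⁻¹ := by
  unfold tr
  obtain ⟨e00, -, -, e11⟩ := dM_entries t ht
  rw [e00, e11]

theorem sq_ne_one (h2 : (2 : F) ≠ 0) (t : F) (ht : t ≠ 0) (ht4 : t ^ 4 ≠ 1) :
    (π (dM t ht) : PF) ^ 2 ≠ 1 := by
  obtain ⟨hs1, hs2⟩ := sq_ne t ht4
  obtain ⟨e00, -, -, e11⟩ := dM_entries t ht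
  intro h1
  rw [mk_sq_eq_one_iff h2] at h1
  rcases h1 with h1 | h1 | h1
  · have h3 := congrArg (fun g : SF => (g : MF) 0 0) h1
    beta_reduce at h3
    rw [e00] at h3
    have h4 : t = 1 := by simpa using h3
    apply hs1
    rw [h4]
    ring
  · have h3 := congrArg (fun g : SF => (g : MF) 0 0) h1
    beta_reduce at h3
    rw [e00, STRUCTC.neg_entry] at h3
    have h4 : t = -1 := by simpa using h3
    apply hs1
    rw [h4]
    ring
  · rw [tr_dM] at h1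
    apply hs2
    have : t ^ 2 + 1 = t * (t + t⁻¹) := by field_simp
    linear_combination this + t * h1

theorem cube_ne_one (h3 : (3 : F) = 0) (t : F) (ht : t ≠ 0) (ht4 : t ^ 4 ≠ 1) :
    (π (dM t ht) : PF) ^ 3 ≠ 1 := by
  obtain ⟨hs1, -⟩ := sq_ne t ht4
  intro h1
  rw [mk_cube_eq_one_iff h3, tr_dM] at h1
  have h4 : t ^ 2 * (t + t⁻¹) ^ 2 = (t ^ 2 + 1) ^ 2 := by field_simp
  have h5 : (t ^ 2 - 1) ^ 2 = 0 := by
    linear_combination -h4 + t ^ 2 * h1 - t ^ 2 * h3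
  have h6 := pow_eq_zero_iff (two_ne_zero) |>.mp h5
  apply hs1
  linear_combination h6

end STRUCT3H1

/-- STRUCT3 (L; TYPES, DIH, DICT). -/
theorem struct3_alt (h : Hyp F p) (t : F) (ht : t ≠ 0) (ht4 : t ^ 4 ≠ 1) (Y : SF)
    (hne : Subgroup.closure ({π (dM t ht), π Y} : Set PF) ≠ ⊤) : P3 Y := by
  have h2 := h.two_ne_zero
  have hx : (π (dM t ht) : PF) ∈ Subgroup.closure ({π (dM t ht), π Y} : Set PF) :=
    STRUCTC.x_mem _ _
  have hy : (π Y : PF) ∈ Subgroup.closure ({π (dM t ht), π Y} : Set PF) := STRUCTC.y_mem _ _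
  have hxsq := STRUCT3H1.sq_ne_one h2 t ht ht4
  have hxcu := STRUCT3H1.cube_ne_one h.three_eq_zero t ht ht4
  have hcomm : (π Y : PF) * π (dM t ht) = π (dM t ht) * π Y → P3 Y := by
    intro hc
    rcases (mk_comm_iff Y (dM t ht)).mp hc with h1 | h1
    · exact Or.inr (Or.inl (STRUCT3H1.comm3 t ht ht4 Y h1))
    · exact Or.inr (Or.inr (STRUCT3H1.anti3 h2 t ht Y h1))
  have hinv : (π Y : PF) * π (dM t ht) * (π Y)⁻¹ = (π (dM t ht))⁻¹ → P3 Y := by
    intro hc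
    rw [← map_inv] at hc
    rcases (mk_conj_eq_iff Y (dM t ht) (dM t ht)⁻¹).mp hc with h1 | h1
    · exact Or.inr (Or.inr (STRUCT3H1.inv3 t ht ht4 Y h1))
    · exact Or.inr (Or.inr (STRUCT3H1.antiinv3 t ht ht4 Y h1))
  rcases types h _ hne with ⟨hcyc, -⟩ | ⟨k, -, ⟨f⟩⟩ | ⟨⟨f⟩⟩ | ⟨g0, hg0⟩
  · exact hcomm (STRUCTC.comm_of_isCyclic _ hcyc _ _ hy hx)
  · have ha : (f ⟨_, hx⟩) ^ 2 ≠ 1 := by
      intro h1
      apply hxsq
      have := STRUCTC.transport _ f (⟨_, hx⟩ ^ 2) 1 (by rw [map_pow, map_one]; exact h1)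
      exact this
    rcases dih_rot k (f ⟨_, hx⟩) (f ⟨_, hy⟩) ha with h1 | h1
    · have := STRUCTC.transport _ f (⟨_, hy⟩ * ⟨_, hx⟩ * ⟨_, hy⟩⁻¹) ⟨_, hx⟩
        (by rw [map_mul, map_mul, map_inv]; exact h1)
      apply hcomm
      have h3 : (π Y : PF) * π (dM t ht) * (π Y)⁻¹ = π (dM t ht) := this
      exact mul_inv_eq_iff_eq_mul.mp h3
    · have := STRUCTC.transport _ f (⟨_, hy⟩ * ⟨_, hx⟩ * ⟨_, hy⟩⁻¹) (⟨_, hx⟩⁻¹)
        (by rw [map_mul, map_mul, map_inv, map_inv]; exact h1)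
      exact hinv this
  · rcases pow_A4 (f ⟨_, hx⟩) with h1 | h1
    · exfalso
      apply hxsq
      have := STRUCTC.transport _ f (⟨_, hx⟩ ^ 2) 1 (by rw [map_pow, map_one]; exact h1)
      exact this
    · exfalso
      apply hxcu
      exact STRUCTC.transport _ f (⟨_, hx⟩ ^ 3) 1 (by rw [map_pow, map_one]; exact h1)
  · have h1 := hg0 (dM t ht) hx
    have h3 := hg0 Y hy
    obtain ⟨e00, e01, e10, e11⟩ := STRUCT3H1.dM_entries t ht
    obtain ⟨hs1, -⟩ := STRUCT3H1.sq_ne t ht4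
    rw [STRUCTC.conj10, e00, e10, e01, e11] at h1
    have h4 : ((g0 : MF) 1 0 * (g0 : MF) 1 1) * (t ^ 2 - 1) = 0 := by
      have : ((g0 : MF) 1 0 * (g0 : MF) 1 1) * (t ^ 2 - 1) =
          t * ((g0 : MF) 1 0 * (g0 : MF) 1 1 * t) - t * ((g0 : MF) 1 0 * (g0 : MF) 1 1 * t⁻¹) := by
        field_simp
      rw [this]
      linear_combination t * h1
    have hne1 : (t ^ 2 - 1) ≠ 0 := fun h0 => hs1 (by linear_combination h0)
    rcases mul_eq_zero.mp h4 with h5 | h5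
    · rcases mul_eq_zero.mp h5 with h6 | h6
      · exact Or.inl (STRUCTC.lower_zero_of_conj g0 Y h6 h3)
      · exact Or.inr (Or.inl (STRUCTC.upper_zero_of_conj g0 Y h6 h3))
    · exact absurd h5 hne1

end Cfsg.Agent.S2258P
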