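import Cfsg.Agent.Helper28.S2258Defs
import Cfsg.Agent.Helper18.Dickson45

/-! S2258 (driver helper28): common lemmas for the pieces STRUCT2, STRUCT3, STRUCT4
(entry formulas for products and conjugates in `SL₂`, transport along isomorphisms). -/

set_option autoImplicit false

namespace Cfsg.Agent.S2258P.STRUCTC

open Cfsg.Agent.Helper18.Dickson

variable {F : Type*} [Field F]

local notation "SF" => Matrix.SpecialLinearGroup (Fin 2) F
local notation "MF" => Matrix (Fin 2) (Fin 2) F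
local notation "PF" => Matrix.ProjectiveSpecialLinearGroup (Fin 2) F
local notation "π" => QuotientGroup.mk' (Subgroup.center SF)

theorem mul_entry (A B : SF) (i j : Fin 2) :
    ((A * B : SF) : MF) i j = (A : MF) i 0 * (B : MF) 0 j + (A : MF) i 1 * (B : MF) 1 j := by
  rw [Matrix.SpecialLinearGroup.coe_mul, Matrix.mul_apply, Fin.sum_univ_two]

theorem neg_entry (A : SF) (i j : Fin 2) : ((-A : SF) : MF) i j = -((A : MF) i j) := by
  rw [Matrix.SpecialLinearGroup.coe_neg, Matrix.neg_apply]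

theorem inv_entries (g : SF) :
    ((g⁻¹ : SF) : MF) 0 0 = (g : MF) 1 1 ∧ ((g⁻¹ : SF) : MF) 0 1 = -(g : MF) 0 1 ∧
      ((g⁻¹ : SF) : MF) 1 0 = -(g : MF) 1 0 ∧ ((g⁻¹ : SF) : MF) 1 1 = (g : MF) 0 0 := by
  rw [Matrix.SpecialLinearGroup.coe_inv, Matrix.adjugate_fin_two]
  simp

/-- the lower left entry of a conjugate -/
theorem conj10 (g Y : SF) :
    ((g * Y * g⁻¹ : SF) : MF) 1 0 =
      (g : MF) 1 0 * (g : MF) 1 1 * (Y : MF) 0 0 + (g : MF) 1 1 ^ 2 * (Y : MF) 1 0 -
        (g : MF) 1 0 ^ 2 * (Y : MF) 0 1 - (g : MF) 1 0 * (g : MF) 1 1 * (Y : MF) 1 1 := by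
  obtain ⟨h00, h01, h10, h11⟩ := inv_entries g
  rw [mul_entry, mul_entry, mul_entry, h00, h10]
  ring

theorem uM_zpow (s : F) (j : ℤ) : (uM s) ^ j = uM (j * s) := by
  cases j with
  | ofNat n =>
    rw [Int.ofNat_eq_natCast, zpow_natCast, uM_pow]
    congr 1
    push_cast
    ring
  | negSucc n =>
    rw [zpow_negSucc, uM_pow, uM_inv]
    congr 1
    push_cast
    ring

theorem x_mem {G : Type*} [Group G] (x y : G) : x ∈ Subgroup.closure ({x, y} : Set G) :=
  Subgroup.subset_closure (Set.mem_insert _ _)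

theorem y_mem {G : Type*} [Group G] (x y : G) : y ∈ Subgroup.closure ({x, y} : Set G) :=
  Subgroup.subset_closure (Set.mem_insert_of_mem _ rfl)

theorem transport {G K : Type*} [Group G] [Group K] (H : Subgroup G) (f : H ≃* K) (u v : H)
    (h : f u = f v) : (u : G) = v := congrArg Subtype.val (f.injective h)

/-- an upper triangular conjugate has an eigenvalue: the discriminant is a square -/
theorem isSquare_disc_of_borel (g X : SF) (h : ((g * X * g⁻¹ : SF) : MF) 1 0 = 0) :
    IsSquare (tr X ^ 2 - 4) := by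
  have h1 := borel_entries (g * X * g⁻¹) h
  have h2 : tr (g * X * g⁻¹) = tr X := tr_conj g X
  refine ⟨((g * X * g⁻¹ : SF) : MF) 0 0 - ((g * X * g⁻¹ : SF) : MF) 1 1, ?_⟩
  rw [← h2]
  unfold tr
  linear_combination (4 : F) * h1

/-- an upper triangular conjugate with a non-upper-triangular `g`: what it says about `Y` -/
theorem lower_zero_of_conj (g Y : SF) (hg : (g : MF) 1 0 = 0)
    (h : ((g * Y * g⁻¹ : SF) : MF) 1 0 = 0) : (Y : MF) 1 0 = 0 := by
  rw [conj10, hg] at h
  have h1 := borel_entries g hg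
  have h2 : (g : MF) 1 1 ≠ 0 := by
    intro h0
    rw [h0] at h1
    simp at h1
  have h3 : (g : MF) 1 1 ^ 2 * (Y : MF) 1 0 = 0 := by linear_combination h
  rcases mul_eq_zero.mp h3 with h4 | h4
  · exact absurd (pow_eq_zero_iff (two_ne_zero) |>.mp h4) h2
  · exact h4

theorem upper_zero_of_conj (g Y : SF) (hg : (g : MF) 1 1 = 0)
    (h : ((g * Y * g⁻¹ : SF) : MF) 1 0 = 0) : (Y : MF) 0 1 = 0 := by
  rw [conj10, hg] at h
  have h1 := det_eq g
  rw [hg] at h1
  have h2 : (g : MF) 1 0 ≠ 0 := by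
    intro h0
    rw [h0] at h1
    simp at h1
  have h3 : (g : MF) 1 0 ^ 2 * (Y : MF) 0 1 = 0 := by linear_combination -h
  rcases mul_eq_zero.mp h3 with h4 | h4
  · exact absurd (pow_eq_zero_iff (two_ne_zero) |>.mp h4) h2
  · exact h4

/-- a cyclic group is commutative, on the level of the ambient group -/
theorem comm_of_isCyclic {G : Type*} [Group G] (H : Subgroup G) (hc : IsCyclic H) (x y : G)
    (hx : x ∈ H) (hy : y ∈ H) : x * y = y * x := by
  have hm := IsCyclic.isMulCommutative (α := H)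
  have := mul_comm' (⟨x, hx⟩ : H) ⟨y, hy⟩
  exact congrArg Subtype.val this

end Cfsg.Agent.S2258P.STRUCTC
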