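import Mathlib
import Cfsg.Prelude.Def_LieClassical
import Cfsg.Agent.Helper29.S2263Defs
import Cfsg.Agent.Helper23.S2263UPFACTS

/-! S2263 piece ARITH3CORE (driver helper29): `Up p m * N(S) ≤ Mx p f d`. -/

set_option autoImplicit false

namespace Cfsg.Agent.S2263P

namespace ARITH3CORE

theorem two_le_pow {q a : ℕ} (hq : 2 ≤ q) (ha : 1 ≤ a) : 2 ≤ q ^ a :=
  calc 2 ≤ q := hq
    _ = q ^ 1 := (pow_one q).symm
    _ ≤ q ^ a := Nat.pow_le_pow_right (by omega) ha

/-- `q^(d-2) + q^(d-3) ≤ q^(d-1) - 1` -/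
theorem top_bound {q d : ℕ} (hq : 2 ≤ q) (hd : 3 ≤ d) :
    q ^ (d - 2) + q ^ (d - 3) + 1 ≤ q ^ (d - 1) := by
  obtain ⟨n, rfl⟩ : ∃ n, d = n + 3 := ⟨d - 3, by omega⟩
  have e1 : n + 3 - 2 = n + 1 := by omega
  have e2 : n + 3 - 3 = n := by omega
  have e3 : n + 3 - 1 = n + 2 := by omega
  rw [e1, e2, e3]
  have p1 : q ^ (n + 1) = q ^ n * q := pow_succ q n
  have p2 : q ^ (n + 2) = q ^ n * q * q := by rw [pow_succ, pow_succ]
  rw [p1, p2]
  have hx : 1 ≤ q ^ n := Nat.one_le_pow _ _ (by omega)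
  have a1 : q ^ n * q * 2 ≤ q ^ n * q * q := Nat.mul_le_mul_left _ hq
  have a2 : q ^ n * 2 ≤ q ^ n * q := Nat.mul_le_mul_left _ hq
  omega

/-- the crude bound -/
theorem crude {q U a b d S : ℕ} (hq : 2 ≤ q) (hU : U ≤ q ^ a) (hSb : S - 1 ≤ b)
    (hab : a + b + 2 ≤ d) (ha : a + 3 ≤ d) :
    U * (if Even S then q ^ (S - 1) + 1 else q ^ (S - 1) - 1) ≤ q ^ (d - 1) - 1 := by
  have hN : (if Even S then q ^ (S - 1) + 1 else q ^ (S - 1) - 1) ≤ q ^ b + 1 := by
    have := Nat.pow_le_pow_right (show 0 < q by omega) hSb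
    split_ifs <;> omega
  have h1 : U * (if Even S then q ^ (S - 1) + 1 else q ^ (S - 1) - 1) ≤ q ^ a * (q ^ b + 1) :=
    Nat.mul_le_mul hU hN
  have h2 : q ^ a * (q ^ b + 1) = q ^ (a + b) + q ^ a := by rw [mul_add, mul_one, pow_add]
  have h3 : q ^ (a + b) ≤ q ^ (d - 2) := Nat.pow_le_pow_right (by omega) (by omega)
  have h4 : q ^ a ≤ q ^ (d - 3) := Nat.pow_le_pow_right (by omega) (by omega)
  have h5 := top_bound hq (show 3 ≤ d by omega)
  omega

theorem Mx_ge {p f d : ℕ} (hp : p.Prime) (hf : 1 ≤ f) (hd : 3 ≤ d) :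
    (p ^ f) ^ (d - 1) - 1 ≤ Mx p f d := by
  have hp2 := hp.two_le
  unfold Mx
  split_ifs with h1 h2 h3
  · exact le_rfl
  · have hf1 : f = 1 := by omega
    subst hf1
    rw [pow_one]
    have e : d - 1 = (d - 2) + 1 := by omega
    rw [e, pow_succ, add_mul]
    omega
  · omega
  · have hq2 : p ^ f = 2 := by
      have : 2 ≤ p ^ f := two_le_pow hp2 hf
      omega
    rw [hq2]
    have e : d - 1 = (d - 3) + 2 := by omega
    rw [e, pow_add]
    omega

theorem Mx_even_ge {p f d : ℕ} (hp : p.Prime) (hf : 1 ≤ f) (hd : 3 ≤ d) (he : ¬ Odd d) :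
    (p ^ f) ^ (d - 1) + 1 ≤ Mx p f d := by
  have hp2 := hp.two_le
  unfold Mx
  rw [if_neg he]
  split_ifs with h3
  · exact le_rfl
  · have hq2 : p ^ f = 2 := by
      have : 2 ≤ p ^ f := two_le_pow hp2 hf
      omega
    rw [hq2]
    have e : d - 1 = (d - 3) + 2 := by omega
    rw [e, pow_add]
    omega

theorem Mx_m2 {p f d : ℕ} (hp : p.Prime) (hf : 1 ≤ f) (hd : 3 ≤ d) (ho : Odd d) :
    p * ((p ^ f) ^ (d - 2) + 1) ≤ Mx p f d := by
  have hp2 := hp.two_le
  unfold Mx
  rw [if_pos ho]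
  split_ifs with h2
  · -- `f ≥ 2`, `q ≥ p²`
    have hpp : p * p ≤ p ^ f := by
      calc p * p = p ^ 2 := (sq p).symm
        _ ≤ p ^ f := Nat.pow_le_pow_right (by omega) h2
    have e : d - 1 = (d - 2) + 1 := by omega
    rw [e, pow_succ]
    have hx : 4 ≤ (p ^ f) ^ (d - 2) := by
      have h4 : 4 ≤ p ^ f := by nlinarith
      calc 4 ≤ p ^ f := h4
        _ = (p ^ f) ^ 1 := (pow_one _).symm
        _ ≤ (p ^ f) ^ (d - 2) := Nat.pow_le_pow_right (by omega) (by omega)
    have h5 : (p ^ f) ^ (d - 2) * (p * p) ≤ (p ^ f) ^ (d - 2) * p ^ f := Nat.mul_le_mul_left _ hpp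
    have h6 : p * (p ^ f) ^ (d - 2) + p + 1 ≤ (p ^ f) ^ (d - 2) * (p * p) := by
      have a1 : (p ^ f) ^ (d - 2) * p * 2 ≤ (p ^ f) ^ (d - 2) * p * p := Nat.mul_le_mul_left _ hp2
      have a2 : 4 * p ≤ (p ^ f) ^ (d - 2) * p := Nat.mul_le_mul_right _ hx
      have a3 : (p ^ f) ^ (d - 2) * (p * p) = (p ^ f) ^ (d - 2) * p * p := by ring
      have a4 : p * (p ^ f) ^ (d - 2) = (p ^ f) ^ (d - 2) * p := by ring
      omega
    have : p * ((p ^ f) ^ (d - 2) + 1) = p * (p ^ f) ^ (d - 2) + p := by ring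
    omega
  · have hf1 : f = 1 := by omega
    subst hf1
    rw [pow_one, mul_comm]

theorem Mx_m3 {f d : ℕ} (hf : 1 ≤ f) (hd : 4 ≤ d) (he : ¬ Odd d) :
    4 * ((2 ^ f) ^ (d - 3) + 1) ≤ Mx 2 f d := by
  unfold Mx
  rw [if_neg he]
  split_ifs with h3
  · -- `q ≥ 4`
    have h4 : 4 ≤ 2 ^ f := by
      rcases Nat.lt_or_ge f 2 with h | h
      · have : f = 1 := by omega
        subst this
        norm_num at h3
      · calc 4 = 2 ^ 2 := by norm_num
          _ ≤ 2 ^ f := Nat.pow_le_pow_right (by omega) h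
    have e : d - 1 = (d - 3) + 2 := by omega
    rw [e, pow_add]
    have hx : 1 ≤ (2 ^ f) ^ (d - 3) := Nat.one_le_pow _ _ (by omega)
    have : 16 ≤ (2 ^ f) ^ 2 := by nlinarith
    nlinarith
  · have hq2 : 2 ^ f = 2 := by
      have : 2 ≤ 2 ^ f := two_le_pow le_rfl hf
      omega
    rw [hq2]

end ARITH3CORE

open ARITH3CORE in
/-- ARITH3CORE: `Up p m * N(S) ≤ Mx`, where `N(S) = q^(S-1) - (-1)^(S-1)` -/
theorem arith_core {p f d : ℕ} (hp : p.Prime) (hf : 1 ≤ f) (hd : 3 ≤ d)
    (h32 : ¬ (d = 3 ∧ p ^ f = 2)) {S m : ℕ} (hS : 2 ≤ S) (hm : 1 ≤ m) (h : S + (m - 1) ≤ d) :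
    Up p m * (if Even S then (p ^ f) ^ (S - 1) + 1 else (p ^ f) ^ (S - 1) - 1) ≤ Mx p f d := by
  have hp2 := hp.two_le
  have hq : 2 ≤ p ^ f := two_le_pow hp2 hf
  have hpq : p ≤ p ^ f := by
    calc p = p ^ 1 := (pow_one p).symm
      _ ≤ p ^ f := Nat.pow_le_pow_right (by omega) hf
  have hge := Mx_ge hp hf hd
  -- the crude case
  have hcr : ∀ a b : ℕ, Up p m ≤ (p ^ f) ^ a → S - 1 ≤ b → a + b + 2 ≤ d → a + 3 ≤ d →
      Up p m * (if Even S then (p ^ f) ^ (S - 1) + 1 else (p ^ f) ^ (S - 1) - 1) ≤ Mx p f d :=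
    fun a b h1 h2 h3 h4 => le_trans (crude hq h1 h2 h3 h4) hge
  rcases Nat.lt_or_ge m 4 with hm4 | hm4
  · have hm123 : m = 1 ∨ m = 2 ∨ m = 3 := by omega
    rcases hm123 with rfl | rfl | rfl
    · -- `m = 1`
      rw [Up_one, one_mul]
      rcases Nat.lt_or_ge S d with hSd | hSd
      · have := hcr 0 (d - 2) (by rw [Up_one, pow_zero]) (by omega) (by omega) (by omega)
        rwa [Up_one, one_mul] at this
      · have hSd' : S = d := by omega
        subst hSd'
        by_cases he : Even S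
        · rw [if_pos he]
          exact Mx_even_ge hp hf hd (by rwa [Nat.not_odd_iff_even])
        · rw [if_neg he]
          exact hge
    · -- `m = 2`
      rcases Nat.lt_or_ge (S + 1) d with hSd | hSd
      · exact hcr 1 (d - 3) (by rw [Up_two hp, pow_one]; exact hpq) (by omega) (by omega)
          (by omega)
      · have hSd' : S = d - 1 := by omega
        rw [Up_two hp]
        by_cases he : Even S
        · rw [if_pos he]
          have ho : Odd d := by
            have : d = S + 1 := by omega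
            rw [this]
            exact he.add_one
          have e : S - 1 = d - 2 := by omega
          rw [e]
          exact Mx_m2 hp hf hd ho
        · rw [if_neg he]
          refine le_trans ?_ hge
          have e : d - 1 = (S - 1) + 1 := by omega
          rw [e, pow_succ]
          have hx : 1 ≤ (p ^ f) ^ (S - 1) := Nat.one_le_pow _ _ (by omega)
          have h1 : p * ((p ^ f) ^ (S - 1) - 1) ≤ p ^ f * ((p ^ f) ^ (S - 1) - 1) :=
            Nat.mul_le_mul_right _ hpq
          have h2 : p ^ f * ((p ^ f) ^ (S - 1) - 1) = (p ^ f) ^ (S - 1) * p ^ f - p ^ f := by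
            rw [Nat.mul_sub, mul_one, mul_comm]
          omega
    · -- `m = 3`
      rw [Up_three hp]
      by_cases hp2' : p = 2
      · subst hp2'
        rw [if_pos rfl]
        have h4 : (4 : ℕ) ≤ (2 ^ f) ^ 2 := by nlinarith
        rcases Nat.lt_or_ge (S + 2) d with hSd | hSd
        · have := hcr 2 (d - 4) (by rw [Up_three hp, if_pos rfl]; exact h4) (by omega) (by omega)
            (by omega)
          rwa [Up_three hp, if_pos rfl] at this
        · have hSd' : S = d - 2 := by omega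
          by_cases he : Even S
          · rw [if_pos he]
            have hno : ¬ Odd d := by
              rw [Nat.not_odd_iff_even]
              have : d = S + 2 := by omega
              rw [this]
              exact he.add (by decide)
            have e : S - 1 = d - 3 := by omega
            rw [e]
            exact Mx_m3 hf (by omega) hno
          · rw [if_neg he]
            refine le_trans ?_ hge
            have e : d - 1 = (S - 1) + 2 := by omega
            rw [e, pow_add]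
            have hx : 1 ≤ (2 ^ f) ^ (S - 1) := Nat.one_le_pow _ _ (by omega)
            have h1 : (2 ^ f) ^ (S - 1) * 4 ≤ (2 ^ f) ^ (S - 1) * (2 ^ f) ^ 2 :=
              Nat.mul_le_mul_left _ h4
            omega
      · rw [if_neg hp2']
        have := hcr 1 (d - 3) (by rw [Up_three hp, if_neg hp2', pow_one]; exact hpq) (by omega)
          (by omega) (by omega)
        rwa [Up_three hp, if_neg hp2'] at this
  · -- `m ≥ 4`
    refine hcr (m - 2) (d - m) ?_ (by omega) (by omega) (by omega)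
    calc Up p m ≤ p ^ (m - 2) := Up_le' hp hm4
      _ ≤ (p ^ f) ^ (m - 2) := Nat.pow_le_pow_left hpq _

end Cfsg.Agent.S2263P
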