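import Mathlib
import Cfsg.Agent.Helper13.S2276Defs
import Cfsg.Agent.Helper25.S2276GLUEALG
import Cfsg.Agent.Helper25.S2276GLUECT
import Cfsg.Agent.Helper19.S2276GLUEGOOD

set_option autoImplicit false

/-! # S2276, piece FRAME: extend a good pair on `Fin r` to `Fin n`. -/

namespace Cfsg.Agent.S2276P

open Equiv Equiv.Perm

/-- FRAME [M-L]: extend a good pair on `Fin r` to `Fin n` by arbitrary permutations of the given cycle
types on the other `n - r` points. -/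
theorem FRAME.main {n r : ℕ} (hrn : r ≤ n) {p : ℕ} (hp : p.Prime) (c v : Perm (Fin r))
    (lam' mu' : Multiset ℕ) (hl : ∀ y ∈ lam', 2 ≤ y) (hm : ∀ y ∈ mu', 2 ≤ y)
    (hls : lam'.sum + r ≤ n) (hms : mu'.sum + r ≤ n) (hG : Good p c v) :
    ∃ U W : Perm (Fin n), U.cycleType = c.cycleType + lam' ∧ W.cycleType = v.cycleType + mu' ∧
      Good p U W ∧
      ∀ σ : Perm (Fin r), Good p c (σ * v * σ⁻¹) →
        ∃ σ' : Perm (Fin n), Perm.sign σ' = Perm.sign σ ∧ Good p U (σ' * W * σ'⁻¹) := by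
  obtain ⟨s, rfl⟩ := Nat.exists_eq_add_of_le hrn
  obtain ⟨x', hx'⟩ : ∃ x' : Perm (Fin s), x'.cycleType = lam' := by
    rw [Equiv.Perm.exists_with_cycleType_iff]
    refine ⟨?_, hl⟩
    rw [Fintype.card_fin]
    omega
  obtain ⟨y', hy'⟩ : ∃ y' : Perm (Fin s), y'.cycleType = mu' := by
    rw [Equiv.Perm.exists_with_cycleType_iff]
    refine ⟨?_, hm⟩
    rw [Fintype.card_fin]
    omega
  refine ⟨glue c x', glue v y', ?_, ?_, GLUEGOOD.main hp x' y' hG, ?_⟩
  · rw [GLUECT.main, hx']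
  · rw [GLUECT.main, hy']
  · intro σ hσ
    refine ⟨glue σ 1, ?_, ?_⟩
    · rw [GLUEALG.sign, map_one, mul_one]
    · have h1 : glue σ (1 : Perm (Fin s)) * glue v y' * (glue σ (1 : Perm (Fin s)))⁻¹ =
          glue (σ * v * σ⁻¹) y' := by
        rw [GLUEALG.inv, ← GLUEALG.mul, ← GLUEALG.mul, inv_one, one_mul, mul_one]
      rw [h1]
      exact GLUEGOOD.main hp x' y' hσ

end Cfsg.Agent.S2276P
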