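import Mathlib
import Cfsg.Prelude.Def_Classical
import Cfsg.Agent.Helper21.S2286DEFS
import Cfsg.Agent.Helper21.S2289DEFS
import Cfsg.Agent.Helper21.S2289GOOD
import Cfsg.Agent.Lead.S2289MODELMAT

set_option autoImplicit false

/-! # S2289 piece BN2: the BN counting (`X = B ∪ B n U` is everything, the normal forms are distinct in the
model) (helper1, for driver helper21). -/

namespace Cfsg.Agent.Helper21.S2289

open Cfsg.Agent.Helper21.S2286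

namespace BN2

section grp
variable {Γ : Type*} [Group Γ]

/-- conjugation by powers of `h` preserves `Us` -/
theorem conj_zpow_mem {h : Γ} {Us : Subgroup Γ} (hUh : ∀ x ∈ Us, h * x * h⁻¹ ∈ Us)
    (hUh' : ∀ x ∈ Us, h⁻¹ * x * h ∈ Us) (k : ℤ) : ∀ x ∈ Us, h ^ k * x * (h ^ k)⁻¹ ∈ Us := by
  induction k using Int.induction_on with
  | zero => intro x hx; simp [hx]
  | succ i ih =>
    intro x hx
    have := hUh _ (ih x hx)
    have e : h ^ ((i : ℤ) + 1) * x * (h ^ ((i : ℤ) + 1))⁻¹ = h * (h ^ (i : ℤ) * x * (h ^ (i : ℤ))⁻¹) * h⁻¹ := by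
      group
    rw [e]; exact this
  | pred i ih =>
    intro x hx
    have := hUh' _ (ih x hx)
    have e : h ^ (-(i : ℤ) - 1) * x * (h ^ (-(i : ℤ) - 1))⁻¹ =
        h⁻¹ * (h ^ (-(i : ℤ)) * x * (h ^ (-(i : ℤ)))⁻¹) * h := by
      group
    rw [e]; exact this

/-- `n h^k = h^(-q k) n` -/
theorem n_zpow {h n : Γ} {q : ℕ} (rN2 : n * h * n⁻¹ = (h ^ q)⁻¹) (k : ℤ) :
    n * h ^ k = h ^ (-(q : ℤ) * k) * n := by
  have h1 : n * h ^ k * n⁻¹ = (n * h * n⁻¹) ^ k := by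
    have := map_zpow (MulAut.conj n) h k
    simp
  have h2 : (n * h * n⁻¹) ^ k = h ^ (-(q : ℤ) * k) := by
    rw [rN2, zpow_mul, zpow_neg, zpow_natCast]
  calc n * h ^ k = (n * h ^ k * n⁻¹) * n := by group
    _ = h ^ (-(q : ℤ) * k) * n := by rw [h1, h2]

/-- the small cell `B = Us ⟨h⟩` -/
def inB (h : Γ) (Us : Subgroup Γ) (x : Γ) : Prop := ∃ y ∈ Us, ∃ m : ℤ, x = y * h ^ m

/-- the big cell `B n Us` -/
def inN (h n : Γ) (Us : Subgroup Γ) (x : Γ) : Prop :=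
  ∃ y ∈ Us, ∃ m : ℤ, ∃ g ∈ Us, x = y * h ^ m * n * g

/-- `X = B ∪ B n Us` -/
def inX (h n : Γ) (Us : Subgroup Γ) (x : Γ) : Prop := inB h Us x ∨ inN h n Us x

theorem us_mul {h n : Γ} {Us : Subgroup Γ} {y₀ x : Γ} (hy₀ : y₀ ∈ Us) (hx : inX h n Us x) :
    inX h n Us (y₀ * x) := by
  rcases hx with ⟨y, hy, m, rfl⟩ | ⟨y, hy, m, g, hg, rfl⟩
  · exact Or.inl ⟨y₀ * y, Us.mul_mem hy₀ hy, m, by group⟩
  · exact Or.inr ⟨y₀ * y, Us.mul_mem hy₀ hy, m, g, hg, by group⟩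

theorem h_mul {h n : Γ} {Us : Subgroup Γ} (hUh : ∀ x ∈ Us, h * x * h⁻¹ ∈ Us)
    (hUh' : ∀ x ∈ Us, h⁻¹ * x * h ∈ Us) (k : ℤ) {x : Γ} (hx : inX h n Us x) :
    inX h n Us (h ^ k * x) := by
  rcases hx with ⟨y, hy, m, rfl⟩ | ⟨y, hy, m, g, hg, rfl⟩
  · exact Or.inl ⟨h ^ k * y * (h ^ k)⁻¹, conj_zpow_mem hUh hUh' k y hy, k + m, by
      rw [zpow_add]; group⟩
  · exact Or.inr ⟨h ^ k * y * (h ^ k)⁻¹, conj_zpow_mem hUh hUh' k y hy, k + m, g, hg, by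
      rw [zpow_add]; group⟩

theorem n_mul {h n : Γ} {Us : Subgroup Γ} {q : ℕ} (hUh : ∀ x ∈ Us, h * x * h⁻¹ ∈ Us)
    (hUh' : ∀ x ∈ Us, h⁻¹ * x * h ∈ Us) (rN1 : n * n = 1) (rN2 : n * h * n⁻¹ = (h ^ q)⁻¹)
    (hgood : ∀ x ∈ Us, Good h n Us x) {x : Γ} (hx : inX h n Us x) :
    inX h n Us (n * x) := by
  have hninv : n⁻¹ = n := inv_eq_of_mul_eq_one_right rN1
  rcases hx with ⟨y, hy, m, rfl⟩ | ⟨y, hy, m, g, hg, rfl⟩
  · -- n y h^m = h^(-qm) n (h^-m y h^m)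
    refine Or.inr ⟨1, Us.one_mem, -(q : ℤ) * m, (h ^ (-m)) * y * (h ^ (-m))⁻¹,
      conj_zpow_mem hUh hUh' (-m) y hy, ?_⟩
    rw [one_mul, ← n_zpow rN2 m]
    group
  · -- n y h^m n g = h^(-qm) (n y' n) g,  y' = h^-m y h^m
    obtain ⟨y', hy'⟩ : ∃ y' : Γ, y' = (h ^ (-m)) * y * (h ^ (-m))⁻¹ := ⟨_, rfl⟩
    have hy'U : y' ∈ Us := by rw [hy']; exact conj_zpow_mem hUh hUh' (-m) y hy
    have e1 : n * (y * h ^ m * n * g) = h ^ (-(q : ℤ) * m) * (n * y' * n⁻¹) * g := by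
      have : n * (y * h ^ m * n * g) = (n * h ^ m) * y' * n * g := by
        rw [hy']; group
      rw [this, n_zpow rN2 m, hninv]
      group
    rcases hgood y' hy'U with h1 | ⟨f₁, hf₁, k, g₁, hg₁, h1⟩
    · rw [e1, h1, mul_one, hninv, rN1, mul_one]
      exact Or.inl ⟨h ^ (-(q : ℤ) * m) * g * (h ^ (-(q : ℤ) * m))⁻¹,
        conj_zpow_mem hUh hUh' _ g hg, -(q : ℤ) * m, by group⟩
    · rw [e1, h1]
      refine Or.inr ⟨h ^ (-(q : ℤ) * m) * f₁ * (h ^ (-(q : ℤ) * m))⁻¹,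
        conj_zpow_mem hUh hUh' _ f₁ hf₁, -(q : ℤ) * m + k, g₁ * g, Us.mul_mem hg₁ hg, ?_⟩
      rw [zpow_add]; group

/-- `X` is everything -/
theorem all_inX {u h n : Γ} (hgenΓ : Subgroup.closure ({u, h, n} : Set Γ) = ⊤)
    {Us : Subgroup Γ} {q : ℕ} (hu : u ∈ Us) (hUh : ∀ x ∈ Us, h * x * h⁻¹ ∈ Us)
    (hUh' : ∀ x ∈ Us, h⁻¹ * x * h ∈ Us) (rN1 : n * n = 1) (rN2 : n * h * n⁻¹ = (h ^ q)⁻¹)
    (hgood : ∀ x ∈ Us, Good h n Us x) (x : Γ) : inX h n Us x := by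
  let S : Subgroup Γ :=
    { carrier := {g | ∀ x, inX h n Us x → inX h n Us (g * x) ∧ inX h n Us (g⁻¹ * x)}
      mul_mem' := by
        intro a b ha hb x hx
        refine ⟨?_, ?_⟩
        · rw [mul_assoc]; exact (ha _ (hb x hx).1).1
        · rw [mul_inv_rev, mul_assoc]; exact (hb _ (ha x hx).2).2
      one_mem' := by
        intro x hx
        simpa using hx
      inv_mem' := by
        intro a ha x hx
        rw [inv_inv]
        exact ⟨(ha x hx).2, (ha x hx).1⟩ }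
  have hle : Subgroup.closure ({u, h, n} : Set Γ) ≤ S := by
    rw [Subgroup.closure_le]
    intro g hg
    rcases hg with rfl | rfl | rfl
    · intro x hx
      exact ⟨us_mul hu hx, us_mul (Us.inv_mem hu) hx⟩
    · intro x hx
      refine ⟨?_, ?_⟩
      · have := h_mul (n := n) hUh hUh' 1 hx
        simpa using this
      · have := h_mul (n := n) hUh hUh' (-1) hx
        simpa using this
    · intro x hx
      have hninv : g⁻¹ = g := inv_eq_of_mul_eq_one_right rN1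
      rw [hninv]
      exact ⟨n_mul hUh hUh' rN1 rN2 hgood hx, n_mul hUh hUh' rN1 rN2 hgood hx⟩
  have hx : x ∈ S := hle (by rw [hgenΓ]; exact Subgroup.mem_top x)
  have h1 : inX h n Us (1 : Γ) := Or.inl ⟨1, Us.one_mem, 0, by simp⟩
  have := (hx 1 h1).1
  simpa using this


/-- the upper bound for `|Γ|` -/
theorem card_le {u h n : Γ} (hgenΓ : Subgroup.closure ({u, h, n} : Set Γ) = ⊤)
    {Us : Subgroup Γ} [Finite Us] {q : ℕ} (hq : 2 ≤ q) (hUcard : Nat.card Us ≤ q ^ 3)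
    (hu : u ∈ Us) (hUh : ∀ x ∈ Us, h * x * h⁻¹ ∈ Us)
    (hUh' : ∀ x ∈ Us, h⁻¹ * x * h ∈ Us) (rH : h ^ (q ^ 2 - 1) = 1) (rN1 : n * n = 1)
    (rN2 : n * h * n⁻¹ = (h ^ q)⁻¹) (hgood : ∀ x ∈ Us, Good h n Us x) :
    Finite Γ ∧ Nat.card Γ ≤ q ^ 3 * (q ^ 2 - 1) * (q ^ 3 + 1) := by
  have hpos : 0 < q ^ 2 - 1 := by
    have : 2 ^ 2 ≤ q ^ 2 := Nat.pow_le_pow_left hq 2
    omega
  have hfo : IsOfFinOrder h := isOfFinOrder_iff_pow_eq_one.2 ⟨_, hpos, rH⟩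
  have hHcard : Nat.card (Subgroup.zpowers h) ≤ q ^ 2 - 1 := by
    rw [Nat.card_zpowers]
    exact Nat.le_of_dvd hpos (orderOf_dvd_of_pow_eq_one rH)
  have : Finite (Subgroup.zpowers h) := by
    apply Nat.finite_of_card_ne_zero
    rw [Nat.card_zpowers]
    exact (orderOf_pos_iff.2 hfo).ne'
  let f : (Us × Subgroup.zpowers h) ⊕ (Us × Subgroup.zpowers h × Us) → Γ :=
    Sum.elim (fun p => (p.1 : Γ) * (p.2 : Γ)) (fun p => (p.1 : Γ) * (p.2.1 : Γ) * n * (p.2.2 : Γ))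
  have hf : Function.Surjective f := by
    intro x
    rcases all_inX hgenΓ hu hUh hUh' rN1 rN2 hgood x with ⟨y, hy, m, rfl⟩ | ⟨y, hy, m, g, hg, rfl⟩
    · exact ⟨Sum.inl (⟨y, hy⟩, ⟨h ^ m, Subgroup.zpow_mem_zpowers h m⟩), rfl⟩
    · exact ⟨Sum.inr (⟨y, hy⟩, ⟨h ^ m, Subgroup.zpow_mem_zpowers h m⟩, ⟨g, hg⟩), rfl⟩
  refine ⟨Finite.of_surjective f hf, ?_⟩
  have h1 := Nat.card_le_card_of_surjective f hf
  rw [Nat.card_sum, Nat.card_prod, Nat.card_prod, Nat.card_prod] at h1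
  refine h1.trans ?_
  have e : q ^ 3 * (q ^ 2 - 1) * (q ^ 3 + 1) =
      q ^ 3 * (q ^ 2 - 1) + q ^ 3 * ((q ^ 2 - 1) * q ^ 3) := by ring
  rw [e]
  exact Nat.add_le_add (Nat.mul_le_mul hUcard hHcard)
    (Nat.mul_le_mul hUcard (Nat.mul_le_mul hHcard hUcard))

end grp

section model
variable {F : Type*} [Field F] [Fintype F] {q : ℕ} {G : Type*} [Group G] (D : U3Data F q G)

omit [Fintype F] in
/-- `h(ζ)^i = h(ζ^i)` (own copy, so that BN2 does not wait for MODELEV) -/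
theorem hG_zpow' (ζ : Fˣ) (i : ℤ) : D.hG (ζ : F) ^ i = D.hG ((ζ ^ i : Fˣ) : F) := by
  let φ : Fˣ →* G :=
    { toFun := fun t => D.hG (t : F)
      map_one' := by simpa using D.h_one
      map_mul' := fun s t => by simpa using D.h_mul s t s.ne_zero t.ne_zero }
  exact (map_zpow φ ζ i).symm

/-- the normal forms in the model -/
noncomputable def nf :
    ({x : F × F // Val q x.1 x.2} × Fˣ) ⊕
      ({x : F × F // Val q x.1 x.2} × Fˣ × {x : F × F // Val q x.1 x.2}) → G :=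
  Sum.elim (fun p => D.uG p.1.1.1 p.1.1.2 * D.hG (p.2 : F))
    (fun p => D.uG p.1.1.1 p.1.1.2 * D.hG (p.2.1 : F) * D.nG * D.uG p.2.2.1.1 p.2.2.1.2)

omit [Fintype F] in
theorem nf_injective : Function.Injective (nf D) := by
  rintro (⟨⟨⟨a, b⟩, hab⟩, t⟩ | ⟨⟨⟨a, b⟩, hab⟩, t, ⟨⟨c, d⟩, hcd⟩⟩)
    (⟨⟨⟨a', b'⟩, hab'⟩, t'⟩ | ⟨⟨⟨a', b'⟩, hab'⟩, t', ⟨⟨c', d'⟩, hcd'⟩⟩) he
  · obtain ⟨h1, h2, h3⟩ := D.inj_B a b t a' b' t' hab hab' t.ne_zero t'.ne_zero he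
    simp only [Sum.inl.injEq, Prod.mk.injEq, Subtype.mk.injEq]
    exact ⟨⟨h1, h2⟩, Units.ext h3⟩
  · exact absurd he (D.disj a b t a' b' t' c' d' hab hab' hcd' t.ne_zero t'.ne_zero)
  · exact absurd he.symm (D.disj a' b' t' a b t c d hab' hab hcd t'.ne_zero t.ne_zero)
  · obtain ⟨h1, h2, h3, h4, h5⟩ := D.inj_N a b t c d a' b' t' c' d' hab hab' hcd hcd'
      t.ne_zero t'.ne_zero he
    simp only [Sum.inr.injEq, Prod.mk.injEq, Subtype.mk.injEq]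
    exact ⟨⟨h1, h2⟩, Units.ext h3, h4, h5⟩

theorem card_nf_dom (hF : Fintype.card F = q ^ 2) :
    Nat.card (({x : F × F // Val q x.1 x.2} × Fˣ) ⊕
      ({x : F × F // Val q x.1 x.2} × Fˣ × {x : F × F // Val q x.1 x.2})) =
      q ^ 3 * (q ^ 2 - 1) * (q ^ 3 + 1) := by
  classical
  have hu : Nat.card Fˣ = q ^ 2 - 1 := by
    rw [Nat.card_eq_fintype_card, Fintype.card_units, hF]
  rw [Nat.card_sum, Nat.card_prod, Nat.card_prod, Nat.card_prod, card_val hF, hu]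
  ring

end model

end BN2

section bn
variable {F : Type*} [Field F] [Fintype F] {q : ℕ} {G : Type*} [Group G] (D : U3Data F q G)

/-- BN2 (with `[Finite G]`: without it `D.card_le` is vacuous for an infinite `G`). -/
theorem bn_bijective [Finite G] (hF : Fintype.card F = q ^ 2) (ζ : Fˣ)
    (hζ : ∀ y : Fˣ, y ∈ Subgroup.zpowers ζ)
    {Γ : Type*} [Group Γ] (u h n : Γ) (hgenΓ : Subgroup.closure ({u, h, n} : Set Γ) = ⊤)
    (Φ : Γ →* G) (hΦh : Φ h = D.hG (ζ : F)) (hΦn : Φ n = D.nG)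
    (Us : Subgroup Γ) [Finite Us] (hUcard : Nat.card Us ≤ q ^ 3) (hu : u ∈ Us)
    (hUh : ∀ x ∈ Us, h * x * h⁻¹ ∈ Us) (hUh' : ∀ x ∈ Us, h⁻¹ * x * h ∈ Us)
    (hUΦ : ∀ a b : F, Val q a b → ∃ x ∈ Us, Φ x = D.uG a b)
    (rH : h ^ (q ^ 2 - 1) = 1) (rN1 : n * n = 1) (rN2 : n * h * n⁻¹ = (h ^ q)⁻¹)
    (hgood : ∀ x ∈ Us, Good h n Us x) :
    Function.Bijective Φ := by
  have hq : 2 ≤ q := by
    have h1 : 1 < Fintype.card F := Fintype.one_lt_card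
    rw [hF] at h1
    by_contra hcon
    have : q ≤ 1 := by omega
    have : q ^ 2 ≤ 1 ^ 2 := Nat.pow_le_pow_left this 2
    omega
  obtain ⟨hΓfin, hΓcard⟩ := BN2.card_le hgenΓ hq hUcard hu hUh hUh' rH rN1 rN2 hgood
  -- the normal forms lie in the range of `Φ`
  have hh : ∀ t : Fˣ, D.hG (t : F) ∈ Φ.range := by
    intro t
    obtain ⟨i, hi⟩ := Subgroup.mem_zpowers_iff.1 (hζ t)
    refine ⟨h ^ i, ?_⟩
    rw [map_zpow, hΦh, BN2.hG_zpow', hi]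
  have hU : ∀ a b : F, Val q a b → D.uG a b ∈ Φ.range := by
    intro a b hab
    obtain ⟨x, -, hx⟩ := hUΦ a b hab
    exact ⟨x, hx⟩
  have hn : D.nG ∈ Φ.range := ⟨n, hΦn⟩
  have hrange : ∀ p, BN2.nf D p ∈ Φ.range := by
    rintro (⟨⟨⟨a, b⟩, hab⟩, t⟩ | ⟨⟨⟨a, b⟩, hab⟩, t, ⟨⟨c, d⟩, hcd⟩⟩)
    · exact Φ.range.mul_mem (hU a b hab) (hh t)
    · exact Φ.range.mul_mem (Φ.range.mul_mem (Φ.range.mul_mem (hU a b hab) (hh t)) hn)
        (hU c d hcd)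
  let j : _ → Φ.range := fun p => ⟨BN2.nf D p, hrange p⟩
  have hj : Function.Injective j := by
    intro p p' hpp
    exact BN2.nf_injective D (congrArg Subtype.val hpp)
  have h1 : q ^ 3 * (q ^ 2 - 1) * (q ^ 3 + 1) ≤ Nat.card Φ.range := by
    rw [← BN2.card_nf_dom hF]
    exact Nat.card_le_card_of_injective j hj
  have h2 : Nat.card Φ.range ≤ Nat.card G := Subgroup.card_le_card_group _
  have h3 : Nat.card Φ.range = Nat.card G := le_antisymm h2 (D.card_le.trans h1)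
  have htop : Φ.range = ⊤ := Subgroup.eq_top_of_card_eq _ h3
  have hsurj : Function.Surjective Φ := MonoidHom.range_eq_top.1 htop
  refine hsurj.bijective_of_nat_card_le ?_
  rw [← h3]
  exact hΓcard.trans h1

end bn

end Cfsg.Agent.Helper21.S2289
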