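import Mathlib

/-! S2480 piece BURNSIDE (driver helper14): Burnside counting for the action of the centre on the
conjugacy classes: `|Z(G)| * k(G / Z(G)) = ∑_{z ∈ Z(G)} #{[g] : z g ~ g}`. -/

set_option autoImplicit false

namespace Cfsg.Agent.S2480P

namespace BURNSIDE

variable {G : Type*} [Group G]

theorem isConj_mul_left (z : Subgroup.center G) {a b : G} (hab : IsConj a b) :
    IsConj ((z : G) * a) ((z : G) * b) := by
  obtain ⟨x, hx⟩ := isConj_iff.mp hab
  refine isConj_iff.mpr ⟨x, ?_⟩
  have hz : x * (z : G) = (z : G) * x := (Subgroup.mem_center_iff.mp z.2 x)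
  rw [← hx, ← mul_assoc, hz]
  group

/-- multiplication of a class by a central element -/
def smulCC (z : Subgroup.center G) : ConjClasses G → ConjClasses G :=
  Quotient.map (fun g => (z : G) * g) (fun _ _ hab => isConj_mul_left z hab)

theorem smulCC_mk (z : Subgroup.center G) (g : G) :
    smulCC z (ConjClasses.mk g) = ConjClasses.mk ((z : G) * g) := rfl

/-- the action of the centre on the set of conjugacy classes -/
@[reducible] def act : MulAction (Subgroup.center G) (ConjClasses G) where
  smul := smulCC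
  one_smul := by
    intro c
    obtain ⟨g, rfl⟩ := ConjClasses.exists_rep c
    show smulCC 1 (ConjClasses.mk g) = ConjClasses.mk g
    rw [smulCC_mk, Subgroup.coe_one, one_mul]
  mul_smul := by
    intro z w c
    obtain ⟨g, rfl⟩ := ConjClasses.exists_rep c
    show smulCC (z * w) (ConjClasses.mk g) = smulCC z (smulCC w (ConjClasses.mk g))
    rw [smulCC_mk, smulCC_mk, smulCC_mk, Subgroup.coe_mul, mul_assoc]

theorem smul_mk (z : Subgroup.center G) (g : G) :
    (act.toSMul.smul z (ConjClasses.mk g) : ConjClasses G) = ConjClasses.mk ((z : G) * g) := rfl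

/-- the map to the classes of the central quotient -/
def toQ : ConjClasses G → ConjClasses (G ⧸ Subgroup.center G) :=
  ConjClasses.map (QuotientGroup.mk' (Subgroup.center G))

theorem toQ_mk (g : G) : toQ (ConjClasses.mk g) = ConjClasses.mk (g : G ⧸ Subgroup.center G) := rfl

theorem toQ_surjective : Function.Surjective (toQ (G := G)) := by
  intro c
  obtain ⟨q, rfl⟩ := ConjClasses.exists_rep c
  obtain ⟨g, rfl⟩ := QuotientGroup.mk_surjective q
  exact ⟨ConjClasses.mk g, rfl⟩

theorem toQ_eq_iff (c c' : ConjClasses G) :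
    toQ c = toQ c' ↔ ∃ z : Subgroup.center G, smulCC z c = c' := by
  obtain ⟨g, rfl⟩ := ConjClasses.exists_rep c
  obtain ⟨g', rfl⟩ := ConjClasses.exists_rep c'
  rw [toQ_mk, toQ_mk, ConjClasses.mk_eq_mk_iff_isConj, isConj_iff]
  constructor
  · rintro ⟨x, hx⟩
    obtain ⟨x, rfl⟩ := QuotientGroup.mk_surjective x
    have h1 : ((x * g * x⁻¹ : G) : G ⧸ Subgroup.center G) = (g' : G ⧸ Subgroup.center G) := by
      rw [← hx]; rfl
    rw [QuotientGroup.eq] at h1
    obtain ⟨w, hw⟩ : ∃ w, w = (x * g * x⁻¹)⁻¹ * g' := ⟨_, rfl⟩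
    rw [← hw] at h1
    have hg' : g' = (x * g * x⁻¹) * w := by rw [hw]; group
    refine ⟨⟨w, h1⟩, ?_⟩
    rw [smulCC_mk, ConjClasses.mk_eq_mk_iff_isConj, isConj_iff]
    refine ⟨x, ?_⟩
    show x * (w * g) * x⁻¹ = g'
    have hz := Subgroup.mem_center_iff.mp h1
    have e1 : x * w = w * x := hz x
    have e2 : (x * g * x⁻¹) * w = w * (x * g * x⁻¹) := hz _
    rw [hg', e2, ← mul_assoc, e1]
    group
  · rintro ⟨z, hz⟩
    rw [smulCC_mk, ConjClasses.mk_eq_mk_iff_isConj, isConj_iff] at hz
    obtain ⟨x, hx⟩ := hz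
    refine ⟨(x : G ⧸ Subgroup.center G), ?_⟩
    have h1 : ((z : G) : G ⧸ Subgroup.center G) = 1 := (QuotientGroup.eq_one_iff _).mpr z.2
    rw [← hx]
    show (x : G ⧸ Subgroup.center G) * (g : G ⧸ Subgroup.center G) * (x : G ⧸ Subgroup.center G)⁻¹
      = ((x * ((z : G) * g) * x⁻¹ : G) : G ⧸ Subgroup.center G)
    rw [QuotientGroup.mk_mul, QuotientGroup.mk_mul, QuotientGroup.mk_mul, h1, one_mul,
      QuotientGroup.mk_inv]

end BURNSIDE

open BURNSIDE in
-- piece BURNSIDE
theorem card_center_mul_card_conjClasses_quotient {G : Type*} [Group G] [Finite G] :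
    Nat.card (Subgroup.center G) * Nat.card (ConjClasses (G ⧸ Subgroup.center G)) =
      ∑ᶠ z : Subgroup.center G, Nat.card {c : ConjClasses G //
        ∃ g : G, ConjClasses.mk g = c ∧ IsConj ((z : G) * g) g} := by
  classical
  let _ : MulAction (Subgroup.center G) (ConjClasses G) := act
  have : Fintype G := Fintype.ofFinite G
  have : Fintype (Subgroup.center G) := Fintype.ofFinite _
  have : Fintype (ConjClasses G) := Fintype.ofFinite _
  have : Fintype (Quotient (MulAction.orbitRel (Subgroup.center G) (ConjClasses G))) :=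
    Fintype.ofFinite _
  have hB := MulAction.sum_card_fixedBy_eq_card_orbits_mul_card_group (Subgroup.center G)
    (ConjClasses G)
  rw [finsum_eq_sum_of_fintype]
  have h1 : ∀ z : Subgroup.center G, Nat.card {c : ConjClasses G //
        ∃ g : G, ConjClasses.mk g = c ∧ IsConj ((z : G) * g) g} =
      Fintype.card (MulAction.fixedBy (ConjClasses G) z) := by
    intro z
    rw [← Nat.card_eq_fintype_card]
    apply Nat.card_congr
    apply Equiv.subtypeEquivRight
    intro c
    rw [MulAction.mem_fixedBy]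
    constructor
    · rintro ⟨g, rfl, hg⟩
      show smulCC z (ConjClasses.mk g) = ConjClasses.mk g
      rw [smulCC_mk, ConjClasses.mk_eq_mk_iff_isConj]
      exact hg
    · intro hc
      obtain ⟨g, rfl⟩ := ConjClasses.exists_rep c
      refine ⟨g, rfl, ?_⟩
      have : smulCC z (ConjClasses.mk g) = ConjClasses.mk g := hc
      rwa [smulCC_mk, ConjClasses.mk_eq_mk_iff_isConj] at this
  rw [Finset.sum_congr rfl (fun z _ => h1 z), hB, mul_comm, ← Nat.card_eq_fintype_card,
    ← Nat.card_eq_fintype_card]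
  congr 1
  -- orbits ≃ classes of the quotient
  symm
  apply Nat.card_congr
  refine Equiv.ofBijective (Quotient.lift (toQ (G := G)) ?_) ⟨?_, ?_⟩
  · intro c c' hcc'
    -- hcc' : c ∈ orbit c'
    obtain ⟨z, hz⟩ := hcc'
    exact ((toQ_eq_iff c' c).mpr ⟨z, hz⟩).symm
  · intro a b hab
    induction a using Quotient.inductionOn with
    | _ c =>
    induction b using Quotient.inductionOn with
    | _ c' =>
    apply Quotient.sound
    obtain ⟨z, hz⟩ := (toQ_eq_iff c' c).mp hab.symm
    exact ⟨z, hz⟩
  · intro q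
    obtain ⟨c, rfl⟩ := toQ_surjective q
    exact ⟨Quotient.mk _ c, rfl⟩

end Cfsg.Agent.S2480P
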