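import Mathlib
import Cfsg.Agent.Helper14.S2481.Defs
import Cfsg.Agent.Helper14.S2481.DefsM
import Cfsg.Agent.Helper18.S2481TILDE
import Cfsg.Agent.Helper18.S2481SIGEX
import Cfsg.Agent.Helper20.S2481CENT
import Cfsg.Agent.Helper24.S2481ROOTMOD
import Cfsg.Agent.Helper10.S2481FORMSD

/-! S2481 piece BLOCKSD (driver helper14): the self dual block `F[X]/(ρ^m)`, `tilde σ ρ = ρ`. -/

set_option autoImplicit false

namespace Cfsg.Agent.S2481P

open Polynomial DirectSum Matrix Cfsg.Agent.S2478P Cfsg.Agent.S2479P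

universe u

variable {F : Type u} [Field F] {σ : F →+* F}

namespace BLOCKSD

theorem coeff_zero_ne {ρ : F[X]} (hρm : ρ.Monic) (hρ : Irreducible ρ) (hρX : ρ ≠ X) :
    ρ.coeff 0 ≠ 0 := by
  intro h0
  have hX : (X : F[X]) ∣ ρ := Polynomial.X_dvd_iff.mpr h0
  have hass : Associated (X : F[X]) ρ :=
    (Polynomial.irreducible_X).associated_of_dvd hρ hX
  have := Polynomial.eq_of_monic_of_associated Polynomial.monic_X hρm hass
  exact hρX this.symm

theorem coeff_zero_pow_ne {ρ : F[X]} (h0 : ρ.coeff 0 ≠ 0) (m : ℕ) : (ρ ^ m).coeff 0 ≠ 0 := by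
  rw [Polynomial.coeff_zero_eq_eval_zero, Polynomial.eval_pow, ← Polynomial.coeff_zero_eq_eval_zero]
  exact pow_ne_zero _ h0

theorem tilde_pow (σ : F →+* F) {ρ : F[X]} (h0 : ρ.coeff 0 ≠ 0) (m : ℕ) :
    tilde σ (ρ ^ m) = tilde σ ρ ^ m := by
  induction m with
  | zero => rw [pow_zero, pow_zero, tilde_one]
  | succ k ih => rw [pow_succ, tilde_mul σ (coeff_zero_pow_ne h0 k) h0, ih, pow_succ]

theorem type_eq (m : ℕ) (ρ : F[X]) :
    (fun k : ℕ => ∏ i : PUnit.{u + 1} with (fun _ : PUnit.{u + 1} => m) i = k,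
      (fun _ : PUnit.{u + 1} => ρ) i) = tsingle m ρ := by
  funext k
  unfold tsingle
  by_cases hk : k = m
  · subst hk
    simp
  · rw [if_neg hk]
    have : ¬ m = k := fun h => hk h.symm
    simp [this]

theorem prod_tsingle {ρ : F[X]} {m n : ℕ} (hmn : m ≤ n) :
    ∏ k ∈ Finset.range (n + 1), tsingle m ρ k ^ k = ρ ^ m := by
  rw [Finset.prod_eq_single m]
  · unfold tsingle
    rw [if_pos rfl]
  · intro k _ hk
    unfold tsingle
    rw [if_neg hk, one_pow]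
  · intro h
    exact absurd (Finset.mem_range.mpr (by omega)) h

theorem parts_tsingle {ρ : F[X]} {m k : ℕ} (hk : k ∈ parts (tsingle m ρ)) : k = m := by
  by_contra h
  unfold parts tsingle at hk
  simp only [Set.mem_ofPred_eq] at hk
  rw [if_neg h] at hk
  simp at hk

end BLOCKSD

open BLOCKSD in
theorem realA_sd [Fintype F] (hσ : IsInvol σ) {ρ : F[X]} (hρm : ρ.Monic) (hρ : Irreducible ρ)
    (hρX : ρ ≠ X) (hρt : tilde σ ρ = ρ) {m : ℕ} (hm : 1 ≤ m) :
    RealA σ (m * ρ.natDegree) (tsingle m ρ) := by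
  have h0 : ρ.coeff 0 ≠ 0 := coeff_zero_ne hρm hρ hρX
  have hfm : (ρ ^ m).Monic := hρm.pow m
  have hf0 : (ρ ^ m).coeff 0 ≠ 0 := coeff_zero_pow_ne h0 m
  have hft : tilde σ (ρ ^ m) = ρ ^ m := by rw [tilde_pow σ h0, hρt]
  have hdeg : (ρ ^ m).natDegree = m * ρ.natDegree := Polynomial.natDegree_pow ρ m
  have hdpos : 1 ≤ ρ.natDegree := hρ.natDegree_pos
  obtain ⟨S, hS1, hS2, -⟩ := exists_sig hσ hfm hf0 hft
  obtain ⟨B, hBs, hBn, hBy⟩ := exists_form_sd hσ hρ hm S hS1 hS2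
  have hfin : Module.Finite F (AdjoinRoot (ρ ^ m)) := hfm.finite_adjoinRoot
  obtain ⟨⟨e⟩, hchar, hrank⟩ := aeval_lmul_root hfm
  refine ⟨AdjoinRoot (ρ ^ m), inferInstance, inferInstance, hfin, B,
    Algebra.lmul F (AdjoinRoot (ρ ^ m)) (AdjoinRoot.root (ρ ^ m)), hBs, hBn, ?_, ?_, ?_, ?_, ?_⟩
  · rw [hrank, hdeg]
  · intro v w
    exact hBy _ hS2 v w
  · refine ⟨PUnit.{u + 1}, inferInstance, fun _ => ρ, fun _ => m, ?_, ?_, ?_, type_eq m ρ⟩
    · intro _
      exact ⟨hρm, hρ, hρX, hm⟩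
    · simp
    · exact ⟨e.trans (DirectSum.lid F[X] (F[X] ⧸ Submodule.span F[X] {ρ ^ m}) PUnit.{u + 1}).symm⟩
  · rw [hchar, prod_tsingle]
    exact Nat.le_mul_of_pos_right m hdpos
  · intro k hk z hz
    have hkm : k = m := parts_tsingle hk
    subst hkm
    obtain ⟨y, hy1, hy2⟩ := exists_cent_sd hσ hρm hρ hm S hS1 hS2 hz
    refine ⟨Algebra.lmul F (AdjoinRoot (ρ ^ k)) y, ?_, ?_, ?_⟩
    · intro v w
      exact hBy y hy1 v w
    · apply LinearMap.ext
      intro v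
      simp only [LinearMap.comp_apply, Algebra.coe_lmul_eq_mul,
        LinearMap.mul_apply']
      ring
    · rw [← hy2, Algebra.norm_apply]

end Cfsg.Agent.S2481P
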