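import Mathlib
import Cfsg.Prelude.Def_Classical
import Cfsg.Agent.Helper13.S2511Defs
import Cfsg.Agent.S2495

/-! S2511 piece CT2 (driver helper13): `dag σ h = h ⇒ h^σ(A⁻¹) = σ(h(0)) • h(A) A^(-deg h)`. -/

set_option autoImplicit false

namespace Cfsg.Agent.S2511P

open Polynomial Matrix
open Cfsg.Agent.S2263P Cfsg.Agent.S2264P Cfsg.Agent.S2496P

namespace CT2

/-- noncommutative version of `Polynomial.eval₂_reverse_mul_pow` -/
theorem aeval_inv_mul_pow {R : Type*} [CommRing R] {M : Type*} [Ring M] [Algebra R M] (a b : M)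
    (hab : a * b = 1) (hba : b * a = 1) (g : R[X]) :
    aeval b g * a ^ g.natDegree = aeval a g.reverse := by
  have hcomm : Commute b a := by
    show b * a = a * b
    rw [hab, hba]
  have hpow : ∀ i : ℕ, b ^ i * a ^ i = 1 := by
    intro i
    rw [← hcomm.mul_pow, hba, one_pow]
  rw [aeval_eq_sum_range, aeval_eq_sum_range' (Nat.lt_succ_of_le (reverse_natDegree_le g)),
    Finset.sum_mul, ← Finset.sum_range_reflect]
  apply Finset.sum_congr rfl
  intro i hi
  have hi' : i ≤ g.natDegree := Nat.lt_succ_iff.mp (Finset.mem_range.mp hi)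
  have e1 : g.natDegree + 1 - 1 - i = g.natDegree - i := by omega
  rw [e1, coeff_reverse, revAt_le hi', smul_mul_assoc]
  congr 1
  have e2 : a ^ g.natDegree = a ^ (g.natDegree - i) * a ^ i := by
    rw [← pow_add]
    congr 1
    omega
  rw [e2, ← mul_assoc, hpow, one_mul]

end CT2

variable {F : Type*} [Field F] {n : ℕ}

/-- CT2 -/
theorem aeval_inv_map (σ : F ≃+* F) (A : Matrix (Fin n) (Fin n) F) (hA : IsUnit A.det) (h : F[X])
    (hdh : dag σ h = h) :
    aeval A⁻¹ (h.map (σ : F →+* F)) = σ (h.coeff 0) • (aeval A h * A⁻¹ ^ h.natDegree) := by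
  have hab : A * A⁻¹ = 1 := Matrix.mul_nonsing_inv A hA
  have hba : A⁻¹ * A = 1 := Matrix.nonsing_inv_mul A hA
  have hdeg : (h.map (σ : F →+* F)).natDegree = h.natDegree :=
    Polynomial.natDegree_map_eq_of_injective (σ : F →+* F).injective h
  have hc0 : (h.map (σ : F →+* F)).coeff 0 = σ (h.coeff 0) := by
    rw [Polynomial.coeff_map]
    rfl
  by_cases h0 : h.coeff 0 = 0
  · -- then `h = 0`
    have hh : h = 0 := by
      rw [← hdh]
      unfold dag recip
      rw [hc0, h0, map_zero, _root_.inv_zero, map_zero, zero_mul]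
    rw [hh]
    simp
  · have hσ0 : σ (h.coeff 0) ≠ 0 := by
      intro hz
      apply h0
      have := congrArg σ.symm hz
      simpa using this
    have hrev : (h.map (σ : F →+* F)).reverse = C (σ (h.coeff 0)) * h := by
      have h1 : C (σ (h.coeff 0))⁻¹ * (h.map (σ : F →+* F)).reverse = h := by
        have := hdh
        unfold dag recip at this
        rw [hc0] at this
        exact this
      calc (h.map (σ : F →+* F)).reverse
          = C (σ (h.coeff 0)) * (C (σ (h.coeff 0))⁻¹ * (h.map (σ : F →+* F)).reverse) := by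
            rw [← mul_assoc, ← C_mul, mul_inv_cancel₀ hσ0, C_1, one_mul]
        _ = C (σ (h.coeff 0)) * h := by rw [h1]
    have key := CT2.aeval_inv_mul_pow A A⁻¹ hab hba (h.map (σ : F →+* F))
    rw [hdeg, hrev, map_mul, aeval_C, Algebra.algebraMap_eq_smul_one, smul_mul_assoc,
      one_mul] at key
    have hpow : A ^ h.natDegree * A⁻¹ ^ h.natDegree = 1 := by
      have hcomm : Commute A A⁻¹ := by
        show A * A⁻¹ = A⁻¹ * A
        rw [hab, hba]
      rw [← hcomm.mul_pow, hab, one_pow]
    calc aeval A⁻¹ (h.map (σ : F →+* F))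
        = aeval A⁻¹ (h.map (σ : F →+* F)) * (A ^ h.natDegree * A⁻¹ ^ h.natDegree) := by
          rw [hpow, mul_one]
      _ = (aeval A⁻¹ (h.map (σ : F →+* F)) * A ^ h.natDegree) * A⁻¹ ^ h.natDegree := by
          rw [mul_assoc]
      _ = σ (h.coeff 0) • (aeval A h * A⁻¹ ^ h.natDegree) := by
          rw [key, smul_mul_assoc]

end Cfsg.Agent.S2511P
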