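import Mathlib
import Cfsg.Prelude.Def_Classical
import Cfsg.Agent.Helper13.S2511Defs
import Cfsg.Agent.S2495
import Cfsg.Agent.Helper7.S2264FACS
import Cfsg.Agent.Helper6.S2263MULTSYM

/-! S2511 piece SHAPE (driver helper13): `Single σ μ ⇒ μ = φ^e` or `μ = (φ · dag σ φ)^e`. -/

set_option autoImplicit false

namespace Cfsg.Agent.S2511P

open Polynomial Matrix
open Cfsg.Agent.S2263P Cfsg.Agent.S2264P Cfsg.Agent.S2496P

/-- SHAPE -/
theorem single_shape {F : Type*} [Field F] (σ : F ≃+* F) (hσ2 : ∀ x, σ (σ x) = x) {μ : F[X]}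
    (hμ : UGood σ μ) (hd : 1 ≤ μ.natDegree) (hs : Single σ μ) :
    ∃ (φ : F[X]) (e : ℕ), φ.Monic ∧ Irreducible φ ∧ φ.coeff 0 ≠ 0 ∧ 1 ≤ e ∧
      ((dag σ φ = φ ∧ μ = φ ^ e) ∨
       (dag σ φ ≠ φ ∧ (dag σ φ).Monic ∧ Irreducible (dag σ φ) ∧ μ = (φ * dag σ φ) ^ e)) := by
  classical
  obtain ⟨φ, hφ⟩ : (facs μ).Nonempty := by
    by_contra hne
    rw [Finset.not_nonempty_iff_eq_empty] at hne
    have h := natDegree_eq_sum hμ.monic
    rw [hne, Finset.sum_empty] at h
    omega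
  obtain ⟨hirr, hm, hdvd⟩ := (mem_facs hμ.monic.ne_zero).1 hφ
  have h0 := coeff_zero_ne_zero_of_mem_facs hμ.coeff0 hφ
  obtain ⟨hφ', hmult, hdd, hdeg⟩ := mult_dag σ hσ2 hμ hφ
  have hmpos := mult_pos hφ
  refine ⟨φ, mult μ φ, hm, hirr, h0, hmpos, ?_⟩
  by_cases hr : dag σ φ = φ
  · left
    refine ⟨hr, ?_⟩
    have hfacs : facs μ = {φ} := by
      rw [Finset.eq_singleton_iff_unique_mem]
      refine ⟨hφ, fun g hg => ?_⟩
      rcases hs φ hφ g hg with h | h
      · exact h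
      · rw [h, hr]
    have hprod := prod_facs hμ.monic
    rw [hfacs, Finset.prod_singleton] at hprod
    exact hprod.symm
  · right
    obtain ⟨hirr', hm', -⟩ := (mem_facs hμ.monic.ne_zero).1 hφ'
    refine ⟨hr, hm', hirr', ?_⟩
    have hfacs : facs μ = {φ, dag σ φ} := by
      ext g
      rw [Finset.mem_insert, Finset.mem_singleton]
      constructor
      · intro hg
        exact hs φ hφ g hg
      · rintro (h | h)
        · rw [h]; exact hφ
        · rw [h]; exact hφ'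
    have hne : φ ≠ dag σ φ := fun h => hr h.symm
    have hprod := prod_facs hμ.monic
    rw [hfacs, Finset.prod_pair hne, hmult] at hprod
    rw [mul_pow]
    exact hprod.symm

end Cfsg.Agent.S2511P
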