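import Mathlib
import Cfsg.Prelude.Def_Classical
import Cfsg.Agent.Helper13.S2511Defs
import Cfsg.Agent.S2495
import Cfsg.Agent.Helper16.S2496GENERATOR
import Cfsg.Agent.Helper23.S2263UPFACTS
import Cfsg.Agent.Helper18.S2511ARITHGS
import Cfsg.Agent.Helper18.S2511SUNUM

/-! S2511 piece TORODDA (driver helper13): (UNUSED DUPLICATE of Helper20.S2511TORODDA, renamed) an element `s` of order `wq q n` in `K = F_{q^{2n}}`, `n` odd,
of norm one, with `s^j ∈ F ↔ suNum q n ∣ j`. -/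

set_option autoImplicit false

namespace Cfsg.Agent.S2511P

open Polynomial Matrix
open Cfsg.Agent.S2263P Cfsg.Agent.S2264P Cfsg.Agent.S2496P

namespace TORODDAH1

/-- `wq q n = 1 + (q - 1) * (q * G)` for odd `n` -/
theorem wq_odd_eq {q : ℕ} (hq : 2 ≤ q) (k : ℕ) :
    wq q (2 * k + 1) = 1 + (q - 1) * (q * Cfsg.Agent.S2495.gs (q ^ 2) k) := by
  have h1 := wq_mul hq (2 * k + 1)
  have hodd : ¬ Even (2 * k + 1) := by
    rw [Nat.not_even_iff_odd]
    exact ⟨k, rfl⟩
  rw [if_neg hodd] at h1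
  have h2 := Cfsg.Agent.S2495.gs_mul (q ^ 2) k (Nat.one_le_pow _ _ (by omega))
  have hq2 : q ^ 2 - 1 = (q - 1) * (q + 1) := by
    obtain ⟨r, rfl⟩ : ∃ r, q = r + 1 := ⟨q - 1, by omega⟩
    simp only [Nat.add_sub_cancel]
    have : (r + 1) ^ 2 = r * (r + 1 + 1) + 1 := by ring
    omega
  have h3 : q ^ (2 * k) = 1 + (q - 1) * (q + 1) * Cfsg.Agent.S2495.gs (q ^ 2) k := by
    rw [← hq2, h2, pow_mul]
    have : 1 ≤ (q ^ 2) ^ k := Nat.one_le_pow _ _ (Nat.pow_pos (by omega))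
    omega
  have h4 : q ^ (2 * k + 1) + 1 =
      (q + 1) * (1 + (q - 1) * (q * Cfsg.Agent.S2495.gs (q ^ 2) k)) := by
    rw [pow_succ, h3]
    ring
  rw [h4] at h1
  exact Nat.eq_of_mul_eq_mul_left (by omega) h1

theorem coprime_wq {q : ℕ} (hq : 2 ≤ q) {n : ℕ} (hn : Odd n) : Nat.Coprime (wq q n) (q - 1) := by
  obtain ⟨k, rfl⟩ := hn
  rw [wq_odd_eq hq k]
  rw [Nat.coprime_add_mul_left_left]
  exact Nat.coprime_one_left _

end TORODDAH1

variable {F : Type*} [Field F] [Fintype F] {p : ℕ} [Fact p.Prime] [CharP F p] {f q : ℕ}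

open TORODDAH1 in
/-- TORODDA -/
theorem exists_norm_one_alt {K : Type*} [Field K] [Algebra F K] [Finite K] [CharP K p]
    (hq : q = p ^ f) (hF : Fintype.card F = q ^ 2) {n : ℕ} (hK : Module.finrank F K = n)
    (hn : Odd n) :
    ∃ s : K, s ^ (q ^ n + 1) = 1 ∧ Algebra.norm F s = 1 ∧
      ∀ j : ℕ, (∃ c : F, s ^ j = algebraMap F K c) ↔ suNum q n ∣ j := by
  classical
  have hq2 : 2 ≤ q := by
    have h1 : 2 ≤ Fintype.card F := Fintype.one_lt_card
    rw [hF] at h1
    by_contra hlt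
    have : q ≤ 1 := by omega
    have : q ^ 2 ≤ 1 ^ 2 := Nat.pow_le_pow_left this 2
    omega
  have hn1 : 1 ≤ n := hn.pos
  have hoddn : ¬ Even n := by rwa [Nat.not_even_iff_odd]
  -- `(q + 1) * Q = q ^ n + 1`
  have hQ := wq_mul hq2 n
  rw [if_neg hoddn] at hQ
  have hQdvd : wq q n ∣ q ^ (2 * n) - 1 := by
    have : q ^ (2 * n) - 1 = (q ^ n - 1) * ((q + 1) * wq q n) := by
      rw [hQ, mul_comm 2 n, pow_mul]
      have h1 : 1 ≤ q ^ n := Nat.one_le_pow _ _ (by omega)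
      obtain ⟨r, hr⟩ : ∃ r, q ^ n = r + 1 := ⟨q ^ n - 1, by omega⟩
      rw [hr]
      simp only [Nat.add_sub_cancel]
      have : (r + 1) ^ 2 = r * (r + 1 + 1) + 1 := by ring
      omega
    rw [this]
    exact (dvd_mul_left (wq q n) (q + 1)).mul_left _
  obtain ⟨s, hs⟩ := exists_orderOf_eq (K := K) hq hF hK hn1 (wq q n) hQdvd
  have hsQ : s ^ wq q n = 1 := by rw [← hs]; exact pow_orderOf_eq_one s
  have hpow_iff : ∀ k : ℕ, s ^ k = 1 ↔ wq q n ∣ k := by
    intro k
    rw [← hs]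
    exact (orderOf_dvd_iff_pow_eq_one).symm
  have hcop : Nat.Coprime (wq q n) (q - 1) := coprime_wq hq2 hn
  have hcardF1 : Fintype.card F - 1 = (q - 1) * (q + 1) := by
    rw [hF]
    obtain ⟨r, rfl⟩ : ∃ r, q = r + 1 := ⟨q - 1, by omega⟩
    simp only [Nat.add_sub_cancel]
    have : (r + 1) ^ 2 = r * (r + 1 + 1) + 1 := by ring
    omega
  have hsu := suNum_mul q n
  have hsupos : 0 < suNum q n := suNum_pos hq2 hn1
  have hgpos : 0 < Nat.gcd (wq q n) (q + 1) := Nat.gcd_pos_of_pos_right _ (by omega)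
  obtain ⟨t, ht⟩ := Nat.gcd_dvd_right (wq q n) (q + 1)
  have hcop2 : Nat.Coprime (suNum q n) t := by
    have := Nat.coprime_div_gcd_div_gcd (m := wq q n) (n := q + 1) hgpos
    have e1 : wq q n / Nat.gcd (wq q n) (q + 1) = suNum q n := rfl
    have e2 : (q + 1) / Nat.gcd (wq q n) (q + 1) = t := Nat.div_eq_of_eq_mul_right hgpos ht
    rwa [e1, e2] at this
  generalize Nat.gcd (wq q n) (q + 1) = g at hsu hgpos ht
  refine ⟨s, ?_, ?_, ?_⟩
  · rw [← hQ, mul_comm, pow_mul, hsQ, one_pow]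
  · have h := FiniteField.algebraMap_norm_eq_pow (K := F) (K' := K) (x := s)
    rw [Cfsg.Agent.S2495.norm_exp hK, hF, gs_sq_eq hq2 n hn, pow_mul, hsQ, one_pow] at h
    have : algebraMap F K (Algebra.norm F s) = algebraMap F K 1 := by rw [h, map_one]
    exact (algebraMap F K).injective this
  · intro j
    constructor
    · rintro ⟨c, hc⟩
      have hs0 : s ≠ 0 := by
        intro h0
        rw [h0, zero_pow (by rw [← hsu]; exact (Nat.mul_pos hsupos hgpos).ne')] at hsQ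
        exact zero_ne_one hsQ
      have hc0 : c ≠ 0 := by
        intro h0
        rw [h0, map_zero] at hc
        exact pow_ne_zero j hs0 hc
      have hc1 : c ^ (Fintype.card F - 1) = 1 := FiniteField.pow_card_sub_one_eq_one c hc0
      have h1 : s ^ (j * (Fintype.card F - 1)) = 1 := by
        rw [pow_mul, hc, ← map_pow, hc1, map_one]
      rw [hpow_iff, hcardF1] at h1
      -- `Q ∣ j * ((q - 1) * (q + 1))`
      have h2 : wq q n ∣ (j * (q + 1)) * (q - 1) := by
        have : j * ((q - 1) * (q + 1)) = (j * (q + 1)) * (q - 1) := by ring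
        rwa [this] at h1
      have h3 : wq q n ∣ j * (q + 1) := hcop.dvd_of_dvd_mul_right h2
      have h4 : suNum q n * g ∣ (j * t) * g := by
        rw [hsu]
        have : j * t * g = j * (g * t) := by ring
        rw [this, ← ht]
        exact h3
      have h5 : suNum q n ∣ j * t := Nat.dvd_of_mul_dvd_mul_right hgpos h4
      exact hcop2.dvd_of_dvd_mul_right h5
    · rintro ⟨k, rfl⟩
      have h1 : (s ^ (suNum q n * k)) ^ (Fintype.card F - 1) = 1 := by
        rw [← pow_mul, hpow_iff, hcardF1]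
        refine ⟨k * (q - 1) * t, ?_⟩
        rw [← hsu, ht]
        ring
      obtain ⟨c, hc⟩ := Cfsg.Agent.S2495.mem_range_of_pow (F := F) _ h1
      exact ⟨c, hc.symm⟩

end Cfsg.Agent.S2511P
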