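import Mathlib
import Cfsg.Agent.Helper5.S2536DefsA
import Cfsg.Agent.Helper5.S2536Basic

set_option autoImplicit false

/-! S2535/S2538/S2534 stage 2 (driver helper5), piece STRUCT1: in prime degree a Hall subgroup (for
the primes below the degree) with a fixed point is the stabilizer of that point. -/

namespace Cfsg.Agent.S2536P

open Equiv Nat

universe u v

section Sym

variable {α : Type u} [Finite α]

namespace STRUCT1

theorem card_stabilizer (x : α) :
    Nat.card (MulAction.stabilizer (Perm α) x) = (Nat.card α - 1)! := by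
  classical
  have hne : Nonempty α := ⟨x⟩
  have hpos : 0 < Nat.card α := Nat.card_pos
  have hidx : (MulAction.stabilizer (Perm α) x).index = Nat.card α := by
    rw [MulAction.index_stabilizer_of_transitive (Perm α) x]
  have h1 := Subgroup.card_mul_index (MulAction.stabilizer (Perm α) x)
  rw [hidx, card_perm_nat] at h1
  have h3 : (Nat.card α)! = Nat.card α * (Nat.card α - 1)! := by
    obtain ⟨m, hm⟩ : ∃ m, Nat.card α = m + 1 := ⟨Nat.card α - 1, by omega⟩
    rw [hm, Nat.factorial_succ]
    simp
  rw [h3, Nat.mul_comm] at h1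
  exact Nat.eq_of_mul_eq_mul_left hpos h1

end STRUCT1

/-- STRUCT1 -/
theorem eq_stabilizer_of_fixed {π : Set ℕ} {H : Subgroup (Perm α)} (hH : Cfsg.IsPiHall π H)
    (hn : (Nat.card α).Prime)
    (hπ : ∀ r : ℕ, r.Prime → r ≤ Nat.card α → (r ∈ π ↔ r < Nat.card α))
    (x : α) (hx : Nat.card (MulAction.orbit H x) = 1) : H = MulAction.stabilizer (Perm α) x := by
  classical
  have hle : H ≤ MulAction.stabilizer (Perm α) x := by
    intro g hg
    rw [MulAction.mem_stabilizer_iff]
    have h1 : Subsingleton (MulAction.orbit H x) := (Nat.card_eq_one_iff_unique.mp hx).1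
    have h2 : (⟨g, hg⟩ : H) • x ∈ MulAction.orbit H x := MulAction.mem_orbit _ _
    have h3 : x ∈ MulAction.orbit H x := MulAction.mem_orbit_self _
    have h4 := h1.elim ⟨_, h2⟩ ⟨_, h3⟩
    have h5 := congrArg Subtype.val h4
    exact h5
  have hpos : 0 < Nat.card α := hn.pos
  have h3 : (Nat.card α)! = (Nat.card α - 1)! * Nat.card α := by
    obtain ⟨m, hm⟩ : ∃ m, Nat.card α = m + 1 := ⟨Nat.card α - 1, by omega⟩
    rw [hm, Nat.factorial_succ]
    simp [Nat.mul_comm]
  have hcard : Nat.card H = (Nat.card α - 1)! := by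
    refine card_eq_of_isPiHall hH (by rw [card_perm_nat]; exact h3) ?_ ?_
    · intro r hr hrd
      have h1 : r ≤ Nat.card α - 1 := (Nat.Prime.dvd_factorial hr).mp hrd
      exact (hπ r hr (by omega)).mpr (by omega)
    · intro r hr hrπ hrd
      have h1 : r = Nat.card α := (Nat.prime_dvd_prime_iff_eq hr hn).mp hrd
      have h2 := (hπ r hr (by omega)).mp hrπ
      omega
  have hfin : Finite (MulAction.stabilizer (Perm α) x) := inferInstance
  refine Subgroup.eq_of_le_of_card_ge hle ?_
  rw [hcard, STRUCT1.card_stabilizer]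

end Sym

end Cfsg.Agent.S2536P
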