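import Mathlib
import Cfsg.Agent.Helper5.S2536DefsA
import Cfsg.Agent.Helper5.S2536Basic
import Cfsg.Agent.Helper20.S2536ORBRES
import Cfsg.Agent.Helper22.S2536SETSTABCARD

set_option autoImplicit false

/-! S2535/S2538/S2534 stage 2 (driver helper5), piece STRUCT2: in degree 7 a Hall `{2,3}`-subgroup
with an orbit of size 4 is the setwise stabilizer of that orbit. -/

namespace Cfsg.Agent.S2536P

open Equiv Nat

universe u v

section Sym

variable {α : Type u} [Finite α]

namespace STRUCT2

theorem card_compl (p : α → Prop) :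
    Nat.card {x // p x} + Nat.card {x // ¬ p x} = Nat.card α := by
  classical
  have := Fintype.ofFinite α
  rw [Nat.card_eq_fintype_card, Nat.card_eq_fintype_card, Nat.card_eq_fintype_card]
  exact Fintype.card_subtype_compl p ▸ by
    have := Fintype.card_subtype_le p
    omega

end STRUCT2

/-- STRUCT2 -/
theorem eq_setStab_of_orbit {π : Set ℕ} {H : Subgroup (Perm α)} (hH : Cfsg.IsPiHall π H)
    (h7 : Nat.card α = 7) (hπ : Is23 π 7) (x : α) (hx : Nat.card (MulAction.orbit H x) = 4) :
    H = setStab (fun y => y ∈ MulAction.orbit H x) := by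
  classical
  have hle : H ≤ setStab (fun y => y ∈ MulAction.orbit H x) := by
    intro g hg
    exact inv_orbit H x g hg
  have hp4 : Nat.card {y // (fun y => y ∈ MulAction.orbit H x) y} = 4 := hx
  have hp3 : Nat.card {y // ¬ (fun y => y ∈ MulAction.orbit H x) y} = 3 := by
    have h1 : Nat.card {y // (fun y => y ∈ MulAction.orbit H x) y} +
        Nat.card {y // ¬ (fun y => y ∈ MulAction.orbit H x) y} = Nat.card α :=
      STRUCT2.card_compl (α := α) (fun y => y ∈ MulAction.orbit H x)
    rw [hp4, h7] at h1
    omega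
  have hcs : Nat.card (setStab (fun y => y ∈ MulAction.orbit H x)) = 144 := by
    rw [card_setStab, hp4, hp3]
    decide
  have hcard : Nat.card H = 144 := by
    refine card_eq_of_isPiHall (i := 35) hH (by rw [card_perm_nat, h7]; decide) ?_ ?_
    · intro r hr hrd
      have h1 : r ∣ 2 ^ 4 * 3 ^ 2 := by
        have : (144 : ℕ) = 2 ^ 4 * 3 ^ 2 := by norm_num
        rwa [this] at hrd
      rcases (Nat.Prime.dvd_mul hr).mp h1 with h2 | h2
      · have := (Nat.prime_dvd_prime_iff_eq hr Nat.prime_two).mp (hr.dvd_of_dvd_pow h2)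
        exact (hπ r hr (by omega)).mpr (Or.inl this)
      · have := (Nat.prime_dvd_prime_iff_eq hr Nat.prime_three).mp (hr.dvd_of_dvd_pow h2)
        exact (hπ r hr (by omega)).mpr (Or.inr this)
    · intro r hr hrπ hrd
      have h1 : r ∣ 5 * 7 := by
        have : (35 : ℕ) = 5 * 7 := by norm_num
        rwa [this] at hrd
      rcases (Nat.Prime.dvd_mul hr).mp h1 with h2 | h2
      · have h3 := (Nat.prime_dvd_prime_iff_eq hr Nat.prime_five).mp h2
        have := (hπ r hr (by omega)).mp hrπ
        omega
      · have h3 := (Nat.prime_dvd_prime_iff_eq hr (by norm_num : Nat.Prime 7)).mp h2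
        have := (hπ r hr (by omega)).mp hrπ
        omega
  have hfin : Finite (setStab (fun y => y ∈ MulAction.orbit H x)) := inferInstance
  refine Subgroup.eq_of_le_of_card_ge hle ?_
  rw [hcard, hcs]

end Sym

end Cfsg.Agent.S2536P
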