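import Mathlib
import Cfsg.Agent.Helper5.S2536DefsA
import Cfsg.Agent.Helper20.S2536CYCLE

set_option autoImplicit false

/-! S2535/S2538/S2534 stage 2 (driver helper5), piece SUBCONJ: a `p`-subgroup (`p ∈ π`) of a finite
group is conjugate into any Hall `π`-subgroup. -/

namespace Cfsg.Agent.S2536P

open Equiv Nat

universe u v

section General

variable {G : Type u} [Group G] [Finite G]

/-- SUBCONJ -/
theorem exists_conj_le_of_isPiHall {π : Set ℕ} {H : Subgroup G} (hH : Cfsg.IsPiHall π H) {p : ℕ}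
    (hp : p.Prime) (hpπ : p ∈ π) {Q : Subgroup G} (hQ : IsPGroup p Q) :
    ∃ g : G, Q.map (MulAut.conj g).toMonoidHom ≤ H := by
  have : Fact p.Prime := ⟨hp⟩
  have h1 : ¬ p ∣ H.index := hH.2 p hp hpπ
  obtain ⟨P, hP⟩ := CYCLE.exists_sylow_le (p := p) H h1
  obtain ⟨P', hP'⟩ := hQ.exists_le_sylow
  obtain ⟨g, hg⟩ := MulAction.exists_smul_eq G P' P
  refine ⟨g, ?_⟩
  intro y hy
  obtain ⟨x, hx, rfl⟩ := hy
  apply hP
  rw [← hg]
  rw [Sylow.coe_subgroup_smul]
  rw [Subgroup.mem_pointwise_smul_iff_inv_smul_mem]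
  have h2 : x ∈ (P' : Subgroup G) := hP' hx
  convert h2 using 1
  simp [MulAut.smul_def, mul_assoc]
end General

end Cfsg.Agent.S2536P
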