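import Mathlib
import Cfsg.Prelude.Def_Classical
import Cfsg.Agent.Helper8.MatBNDefs
import Cfsg.Agent.Helper8.S2546Defs
import Cfsg.Agent.Helper17.S2546PRES
import Cfsg.Agent.Helper17.S2546XMEM
import Cfsg.Agent.Helper17.S2546SMEM

set_option autoImplicit false
set_option linter.unusedSectionVars false
set_option linter.unusedVariables false
open scoped Matrix

/-! S2546 piece COLRED (driver helper8): every nonzero isotropic vector is moved onto the first coordinate
axis by the subgroup generated by the upper triangular elements and the lifts of the simple reflections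
(induction on the pivot = the last nonzero coordinate). -/

namespace Cfsg.Agent.S2546P

open Cfsg.Agent.MatBN

namespace COLRED

variable {K : Type*} [Field K]

theorem E_mulVec (n i j : ℕ) (hj : j < n) (v : Fin n → K) (a : Fin n) :
    ((E n i j : Matrix (Fin n) (Fin n) K) *ᵥ v) a = if a.val = i then v ⟨j, hj⟩ else 0 := by
  unfold E
  simp only [Matrix.mulVec, dotProduct, Matrix.of_apply]
  by_cases h : a.val = i
  · rw [if_pos h, Finset.sum_eq_single (⟨j, hj⟩ : Fin n)]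
    · rw [if_pos ⟨h, rfl⟩, one_mul]
    · intro c _ hc
      rw [if_neg, zero_mul]
      rintro ⟨_, h2⟩
      exact hc (Fin.ext h2)
    · intro hh
      exact absurd (Finset.mem_univ _) hh
  · rw [if_neg h]
    apply Finset.sum_eq_zero
    intro c _
    rw [if_neg, zero_mul]
    rintro ⟨h1, _⟩
    exact h h1

theorem xL_mulVec (σ : K →+* K) (n j : ℕ) (hj : j + 1 < n / 2) (t : K) (v : Fin n → K)
    (a : Fin n) :
    (xL σ n j t *ᵥ v) a = v a + t * (if a.val = j then v ⟨j + 1, by omega⟩ else 0) -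
      σ t * (if a.val = n - 2 - j then v ⟨n - 1 - j, by omega⟩ else 0) := by
  unfold xL
  rw [Matrix.sub_mulVec, Matrix.add_mulVec, Matrix.one_mulVec, Matrix.smul_mulVec,
    Matrix.smul_mulVec, Pi.sub_apply, Pi.add_apply, Pi.smul_apply, Pi.smul_apply,
    E_mulVec n j (j + 1) (by omega), E_mulVec n (n - 2 - j) (n - 1 - j) (by omega), smul_eq_mul,
    smul_eq_mul]

theorem xE_mulVec (n : ℕ) (hn2 : 2 ≤ n) (t : K) (v : Fin n → K) (a : Fin n) :
    (xE n t *ᵥ v) a = v a + t * (if a.val = n / 2 - 1 then v ⟨n / 2, by omega⟩ else 0) := by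
  unfold xE
  rw [Matrix.add_mulVec, Matrix.one_mulVec, Matrix.smul_mulVec, Pi.add_apply, Pi.smul_apply,
    E_mulVec n (n / 2 - 1) (n / 2) (by omega), smul_eq_mul]

theorem xO_mulVec (σ : K →+* K) (n : ℕ) (hn : n % 2 = 1) (hn3 : 3 ≤ n) (a b : K) (v : Fin n → K)
    (i : Fin n) :
    (xO σ n a b *ᵥ v) i = v i + a * (if i.val = n / 2 - 1 then v ⟨n / 2, by omega⟩ else 0) +
      b * (if i.val = n / 2 - 1 then v ⟨n / 2 + 1, by omega⟩ else 0) -
      σ a * (if i.val = n / 2 then v ⟨n / 2 + 1, by omega⟩ else 0) := by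
  unfold xO
  rw [Matrix.sub_mulVec, Matrix.add_mulVec, Matrix.add_mulVec, Matrix.one_mulVec,
    Matrix.smul_mulVec, Matrix.smul_mulVec, Matrix.smul_mulVec, Pi.sub_apply, Pi.add_apply,
    Pi.add_apply, Pi.smul_apply, Pi.smul_apply, Pi.smul_apply,
    E_mulVec n (n / 2 - 1) (n / 2) (by omega), E_mulVec n (n / 2 - 1) (n / 2 + 1) (by omega),
    E_mulVec n (n / 2) (n / 2 + 1) (by omega), smul_eq_mul, smul_eq_mul, smul_eq_mul]

theorem sE_mulVec (n : ℕ) (hn2 : 2 ≤ n) (ζ : K) (v : Fin n → K) (a : Fin n) :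
    (sE n ζ *ᵥ v) a = v a - (if a.val = n / 2 - 1 then v ⟨n / 2 - 1, by omega⟩ else 0) -
      (if a.val = n / 2 then v ⟨n / 2, by omega⟩ else 0) +
      ζ * (if a.val = n / 2 - 1 then v ⟨n / 2, by omega⟩ else 0) -
      ζ⁻¹ * (if a.val = n / 2 then v ⟨n / 2 - 1, by omega⟩ else 0) := by
  unfold sE
  rw [Matrix.sub_mulVec, Matrix.add_mulVec, Matrix.sub_mulVec, Matrix.sub_mulVec,
    Matrix.one_mulVec, Matrix.smul_mulVec, Matrix.smul_mulVec, Pi.sub_apply, Pi.add_apply,
    Pi.sub_apply, Pi.sub_apply, Pi.smul_apply, Pi.smul_apply,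
    E_mulVec n (n / 2 - 1) (n / 2 - 1) (by omega), E_mulVec n (n / 2) (n / 2) (by omega),
    E_mulVec n (n / 2 - 1) (n / 2) (by omega), E_mulVec n (n / 2) (n / 2 - 1) (by omega),
    smul_eq_mul, smul_eq_mul]

theorem sO_mulVec (n : ℕ) (hn : n % 2 = 1) (hn3 : 3 ≤ n) (v : Fin n → K) (a : Fin n) :
    ((sO n : Matrix (Fin n) (Fin n) K) *ᵥ v) a =
      v a - (if a.val = n / 2 - 1 then v ⟨n / 2 - 1, by omega⟩ else 0) -
      (if a.val = n / 2 + 1 then v ⟨n / 2 + 1, by omega⟩ else 0) -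
      2 * (if a.val = n / 2 then v ⟨n / 2, by omega⟩ else 0) +
      (if a.val = n / 2 - 1 then v ⟨n / 2 + 1, by omega⟩ else 0) +
      (if a.val = n / 2 + 1 then v ⟨n / 2 - 1, by omega⟩ else 0) := by
  unfold sO
  rw [Matrix.add_mulVec, Matrix.add_mulVec, Matrix.sub_mulVec, Matrix.sub_mulVec,
    Matrix.sub_mulVec, Matrix.one_mulVec, Matrix.smul_mulVec, Pi.add_apply, Pi.add_apply,
    Pi.sub_apply, Pi.sub_apply, Pi.sub_apply, Pi.smul_apply,
    E_mulVec n (n / 2 - 1) (n / 2 - 1) (by omega), E_mulVec n (n / 2 + 1) (n / 2 + 1) (by omega),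
    E_mulVec n (n / 2) (n / 2) (by omega), E_mulVec n (n / 2 - 1) (n / 2 + 1) (by omega),
    E_mulVec n (n / 2 + 1) (n / 2 - 1) (by omega), smul_eq_mul]

theorem pMat_mulVec (n : ℕ) (π : Equiv.Perm (Fin n)) (v : Fin n → K) (c : Fin n) :
    ((pMat n π : Matrix (Fin n) (Fin n) K) *ᵥ v) (π c) = v c := by
  unfold pMat
  simp only [Matrix.mulVec, dotProduct, Matrix.of_apply]
  rw [Finset.sum_eq_single c]
  · rw [if_pos rfl, one_mul]
  · intro b _ hb
    rw [if_neg, zero_mul]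
    intro h
    exact hb (π.injective h).symm
  · intro hh
    exact absurd (Finset.mem_univ _) hh

theorem swap_val (n : ℕ) (a b c : Fin n) :
    (Equiv.swap a b c).val = if c.val = a.val then b.val else if c.val = b.val then a.val
      else c.val := by
  rw [Equiv.swap_apply_def]
  by_cases h1 : c = a
  · rw [if_pos h1, if_pos (congrArg Fin.val h1)]
  · have h1' : c.val ≠ a.val := fun h => h1 (Fin.ext h)
    rw [if_neg h1, if_neg h1']
    by_cases h2 : c = b
    · rw [if_pos h2, if_pos (congrArg Fin.val h2)]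
    · have h2' : c.val ≠ b.val := fun h => h2 (Fin.ext h)
      rw [if_neg h2, if_neg h2']

theorem tau_apply (n j : ℕ) (hj : j + 1 < n / 2) (c : Fin n) :
    (tau n j c).val = if c.val = j then j + 1 else if c.val = j + 1 then j
      else if c.val = n - 2 - j then n - 1 - j else if c.val = n - 1 - j then n - 2 - j
      else c.val := by
  unfold tau
  rw [dif_pos hj, Equiv.Perm.mul_apply, swap_val, swap_val]
  dsimp only
  split_ifs <;> omega


theorem tau_tau (n j : ℕ) (hj : j + 1 < n / 2) (c : Fin n) : tau n j (tau n j c) = c := by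
  apply Fin.ext
  rw [tau_apply n j hj, tau_apply n j hj]
  split_ifs <;> omega

theorem pMat_tau_mulVec {K : Type*} [Field K] (n j : ℕ) (hj : j + 1 < n / 2) (u : Fin n → K)
    (a : Fin n) : ((pMat n (tau n j) : Matrix (Fin n) (Fin n) K) *ᵥ u) a = u (tau n j a) := by
  have h := pMat_mulVec n (tau n j) u (tau n j a)
  rw [tau_tau n j hj] at h
  exact h


theorem stepL_low (σ : K →+* K) (n j : ℕ) (hj : j + 1 < n / 2) (v : Fin n → K)
    (hpiv : v ⟨j + 1, by omega⟩ ≠ 0) (hz : ∀ a : Fin n, j + 1 < a.val → v a = 0) :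
    ∃ t : K, ((pMat n (tau n j) : Matrix (Fin n) (Fin n) K) *ᵥ (xL σ n j t *ᵥ v)) ⟨j, by omega⟩ ≠ 0 ∧
      ∀ a : Fin n, j < a.val →
        ((pMat n (tau n j) : Matrix (Fin n) (Fin n) K) *ᵥ (xL σ n j t *ᵥ v)) a = 0 := by
  refine ⟨-(v ⟨j, by omega⟩ / v ⟨j + 1, by omega⟩), ?_, ?_⟩
  · rw [pMat_tau_mulVec n j hj, xL_mulVec σ n j hj]
    have e : tau n j ⟨j, by omega⟩ = ⟨j + 1, by omega⟩ :=
      Fin.ext (by rw [tau_apply n j hj]; simp)
    rw [e]
    dsimp only
    rw [if_neg (by omega), if_neg (by omega), mul_zero, mul_zero, add_zero, sub_zero]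
    exact hpiv
  · intro a ha
    rw [pMat_tau_mulVec n j hj, xL_mulVec σ n j hj]
    have hb := tau_apply n j hj a
    generalize tau n j a = b at hb ⊢
    by_cases h1 : a.val = j + 1
    · rw [if_neg (by omega), if_pos h1] at hb
      have e : b = ⟨j, by omega⟩ := Fin.ext hb
      rw [e]
      dsimp only
      rw [if_pos rfl, if_neg (by omega), mul_zero, sub_zero]
      field_simp
      ring
    · by_cases h2 : a.val = n - 2 - j
      · rw [if_neg (by omega), if_neg h1, if_pos h2] at hb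
        rw [if_neg (by omega), if_neg (by omega), mul_zero, mul_zero, add_zero, sub_zero]
        exact hz b (by omega)
      · by_cases h3 : a.val = n - 1 - j
        · rw [if_neg (by omega), if_neg h1, if_neg h2, if_pos h3] at hb
          rw [if_neg (by omega), if_pos hb, hz b (by omega), hz ⟨n - 1 - j, by omega⟩ (by simp; omega)]
          ring
        · rw [if_neg (by omega), if_neg h1, if_neg h2, if_neg h3] at hb
          rw [if_neg (by omega), if_neg (by omega), mul_zero, mul_zero, add_zero, sub_zero]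
          exact hz b (by omega)


theorem stepL_high (σ : K →+* K) (hσ : ∀ x, σ (σ x) = x) (n j : ℕ) (hj : j + 1 < n / 2)
    (v : Fin n → K) (hpiv : v ⟨n - 1 - j, by omega⟩ ≠ 0)
    (hz : ∀ a : Fin n, n - 1 - j < a.val → v a = 0) :
    ∃ t : K, ((pMat n (tau n j) : Matrix (Fin n) (Fin n) K) *ᵥ (xL σ n j t *ᵥ v))
        ⟨n - 2 - j, by omega⟩ ≠ 0 ∧
      ∀ a : Fin n, n - 2 - j < a.val →
        ((pMat n (tau n j) : Matrix (Fin n) (Fin n) K) *ᵥ (xL σ n j t *ᵥ v)) a = 0 := by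
  refine ⟨σ (v ⟨n - 2 - j, by omega⟩ / v ⟨n - 1 - j, by omega⟩), ?_, ?_⟩
  · rw [pMat_tau_mulVec n j hj, xL_mulVec σ n j hj]
    have e : tau n j ⟨n - 2 - j, by omega⟩ = ⟨n - 1 - j, by omega⟩ :=
      Fin.ext (by rw [tau_apply n j hj]; dsimp only; rw [if_neg (by omega), if_neg (by omega), if_pos rfl])
    rw [e]
    dsimp only
    rw [if_neg (by omega), if_neg (by omega), mul_zero, mul_zero, add_zero, sub_zero]
    exact hpiv
  · intro a ha
    rw [pMat_tau_mulVec n j hj, xL_mulVec σ n j hj, hσ]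
    have hb := tau_apply n j hj a
    generalize tau n j a = b at hb ⊢
    by_cases h1 : a.val = n - 1 - j
    · rw [if_neg (by omega), if_neg (by omega), if_neg (by omega), if_pos h1] at hb
      have e : b = ⟨n - 2 - j, by omega⟩ := Fin.ext hb
      rw [e]
      dsimp only
      rw [if_neg (by omega), if_pos rfl, mul_zero, add_zero]
      field_simp
      ring
    · rw [if_neg (by omega), if_neg (by omega), if_neg (by omega), if_neg h1] at hb
      rw [if_neg (by omega), if_neg (by omega), mul_zero, mul_zero, add_zero, sub_zero]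
      exact hz b (by omega)


theorem sigma_ne_zero (σ : K →+* K) (hσ : ∀ x, σ (σ x) = x) {x : K} (hx : x ≠ 0) : σ x ≠ 0 := by
  intro h
  apply hx
  rw [← hσ x, h, map_zero]

theorem iso_even (σ : K →+* K) (n : ℕ) (hn : n % 2 = 0) (hn2 : 2 ≤ n) (v : Fin n → K)
    (hiso : hJ σ n v v = 0) (hz : ∀ a : Fin n, n / 2 < a.val → v a = 0) :
    v ⟨n / 2 - 1, by omega⟩ * σ (v ⟨n / 2, by omega⟩) +
      v ⟨n / 2, by omega⟩ * σ (v ⟨n / 2 - 1, by omega⟩) = 0 := by
  unfold hJ at hiso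
  rw [Finset.sum_eq_add (⟨n / 2 - 1, by omega⟩ : Fin n) (⟨n / 2, by omega⟩ : Fin n)] at hiso
  · have e1 : (⟨n / 2 - 1, by omega⟩ : Fin n).rev = ⟨n / 2, by omega⟩ := by
      apply Fin.ext
      rw [Fin.val_rev]
      dsimp only
      omega
    have e2 : (⟨n / 2, by omega⟩ : Fin n).rev = ⟨n / 2 - 1, by omega⟩ := by
      apply Fin.ext
      rw [Fin.val_rev]
      dsimp only
      omega
    rw [e1, e2] at hiso
    exact hiso
  · intro h
    have := congrArg Fin.val h
    dsimp only at this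
    omega
  · intro c _ hc
    have hc1 : c.val ≠ n / 2 - 1 := fun h => hc.1 (Fin.ext h)
    have hc2 : c.val ≠ n / 2 := fun h => hc.2 (Fin.ext h)
    by_cases h : n / 2 < c.val
    · rw [hz c h, zero_mul]
    · rw [hz c.rev (by rw [Fin.val_rev]; omega), map_zero, mul_zero]
  · intro h
    exact absurd (Finset.mem_univ _) h
  · intro h
    exact absurd (Finset.mem_univ _) h

theorem stepE (σ : K →+* K) (hσ : ∀ x, σ (σ x) = x) (n : ℕ) (hn : n % 2 = 0) (hn2 : 2 ≤ n) (ζ : K)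
    (hζ : ζ ≠ 0) (v : Fin n → K) (hiso : hJ σ n v v = 0) (hpiv : v ⟨n / 2, by omega⟩ ≠ 0)
    (hz : ∀ a : Fin n, n / 2 < a.val → v a = 0) :
    ∃ t : K, t + σ t = 0 ∧ (sE n ζ *ᵥ (xE n t *ᵥ v)) ⟨n / 2 - 1, by omega⟩ ≠ 0 ∧
      ∀ a : Fin n, n / 2 - 1 < a.val → (sE n ζ *ᵥ (xE n t *ᵥ v)) a = 0 := by
  have hi := iso_even σ n hn hn2 v hiso hz
  have hs := sigma_ne_zero σ hσ hpiv
  refine ⟨-(v ⟨n / 2 - 1, by omega⟩ / v ⟨n / 2, by omega⟩), ?_, ?_, ?_⟩
  · rw [map_neg, map_div₀]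
    field_simp
    linear_combination -hi
  · rw [sE_mulVec n hn2, xE_mulVec n hn2, xE_mulVec n hn2]
    have hne : ¬ (n / 2 = n / 2 - 1) := by omega
    have hne' : ¬ (n / 2 - 1 = n / 2) := by omega
    simp only [hne, hne', ↓reduceIte]
    intro h
    apply hpiv
    have : ζ * v ⟨n / 2, by omega⟩ = 0 := by linear_combination h
    exact (mul_eq_zero.1 this).resolve_left hζ
  · intro a ha
    rw [sE_mulVec n hn2, xE_mulVec n hn2, xE_mulVec n hn2, xE_mulVec n hn2]
    have hne : ¬ (n / 2 = n / 2 - 1) := by omega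
    have hne' : ¬ (n / 2 - 1 = n / 2) := by omega
    by_cases h1 : a.val = n / 2
    · have e : a = ⟨n / 2, by omega⟩ := Fin.ext h1
      rw [e]
      simp only [hne, hne', ↓reduceIte]
      field_simp
      ring
    · have h0 : ¬ (a.val = n / 2 - 1) := by omega
      simp only [hne, hne', h0, h1, ↓reduceIte, hz a (by omega)]
      ring


theorem iso_odd_mid (σ : K →+* K) (hσ : ∀ x, σ (σ x) = x) (n : ℕ) (hn : n % 2 = 1) (v : Fin n → K)
    (hiso : hJ σ n v v = 0) (hz : ∀ a : Fin n, n / 2 < a.val → v a = 0) :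
    v ⟨n / 2, by omega⟩ = 0 := by
  unfold hJ at hiso
  rw [Finset.sum_eq_single (⟨n / 2, by omega⟩ : Fin n)] at hiso
  · have e2 : (⟨n / 2, by omega⟩ : Fin n).rev = ⟨n / 2, by omega⟩ := by
      apply Fin.ext
      rw [Fin.val_rev]
      dsimp only
      omega
    rw [e2] at hiso
    by_contra h
    exact (mul_ne_zero h (sigma_ne_zero σ hσ h)) hiso
  · intro c _ hc
    have hc2 : c.val ≠ n / 2 := fun h => hc (Fin.ext h)
    by_cases h : n / 2 < c.val
    · rw [hz c h, zero_mul]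
    · rw [hz c.rev (by rw [Fin.val_rev]; omega), map_zero, mul_zero]
  · intro h
    exact absurd (Finset.mem_univ _) h

theorem iso_odd (σ : K →+* K) (n : ℕ) (hn : n % 2 = 1) (hn3 : 3 ≤ n) (v : Fin n → K)
    (hiso : hJ σ n v v = 0) (hz : ∀ a : Fin n, n / 2 + 1 < a.val → v a = 0) :
    v ⟨n / 2 - 1, by omega⟩ * σ (v ⟨n / 2 + 1, by omega⟩) +
      v ⟨n / 2, by omega⟩ * σ (v ⟨n / 2, by omega⟩) +
      v ⟨n / 2 + 1, by omega⟩ * σ (v ⟨n / 2 - 1, by omega⟩) = 0 := by
  unfold hJ at hiso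
  rw [← Finset.add_sum_erase Finset.univ _ (Finset.mem_univ (⟨n / 2, by omega⟩ : Fin n)),
    Finset.sum_eq_add (⟨n / 2 - 1, by omega⟩ : Fin n) (⟨n / 2 + 1, by omega⟩ : Fin n)] at hiso
  · have e1 : (⟨n / 2 - 1, by omega⟩ : Fin n).rev = ⟨n / 2 + 1, by omega⟩ := by
      apply Fin.ext
      rw [Fin.val_rev]
      dsimp only
      omega
    have e2 : (⟨n / 2, by omega⟩ : Fin n).rev = ⟨n / 2, by omega⟩ := by
      apply Fin.ext
      rw [Fin.val_rev]
      dsimp only
      omega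
    have e3 : (⟨n / 2 + 1, by omega⟩ : Fin n).rev = ⟨n / 2 - 1, by omega⟩ := by
      apply Fin.ext
      rw [Fin.val_rev]
      dsimp only
      omega
    rw [e1, e2, e3] at hiso
    linear_combination hiso
  · intro h
    have := congrArg Fin.val h
    dsimp only at this
    omega
  · intro c hcm hc
    have hc0 : c.val ≠ n / 2 := fun h => (Finset.mem_erase.1 hcm).1 (Fin.ext h)
    have hc1 : c.val ≠ n / 2 - 1 := fun h => hc.1 (Fin.ext h)
    have hc2 : c.val ≠ n / 2 + 1 := fun h => hc.2 (Fin.ext h)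
    by_cases h : n / 2 + 1 < c.val
    · rw [hz c h, zero_mul]
    · rw [hz c.rev (by rw [Fin.val_rev]; omega), map_zero, mul_zero]
  · intro h
    exfalso
    apply h
    rw [Finset.mem_erase]
    refine ⟨?_, Finset.mem_univ _⟩
    intro h'
    have := congrArg Fin.val h'
    dsimp only at this
    omega
  · intro h
    exfalso
    apply h
    rw [Finset.mem_erase]
    refine ⟨?_, Finset.mem_univ _⟩
    intro h'
    have := congrArg Fin.val h'
    dsimp only at this
    omega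

theorem stepO (σ : K →+* K) (hσ : ∀ x, σ (σ x) = x) (n : ℕ) (hn : n % 2 = 1) (hn3 : 3 ≤ n)
    (v : Fin n → K) (hiso : hJ σ n v v = 0) (hpiv : v ⟨n / 2 + 1, by omega⟩ ≠ 0)
    (hz : ∀ a : Fin n, n / 2 + 1 < a.val → v a = 0) :
    ∃ a b : K, b + σ b + a * σ a = 0 ∧
      ((sO n : Matrix (Fin n) (Fin n) K) *ᵥ (xO σ n a b *ᵥ v)) ⟨n / 2 - 1, by omega⟩ ≠ 0 ∧
      ∀ i : Fin n, n / 2 - 1 < i.val →
        ((sO n : Matrix (Fin n) (Fin n) K) *ᵥ (xO σ n a b *ᵥ v)) i = 0 := by
  have hi := iso_odd σ n hn hn3 v hiso hz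
  have hs := sigma_ne_zero σ hσ hpiv
  have h1 : ¬ (n / 2 = n / 2 - 1) := by omega
  have h2 : ¬ (n / 2 - 1 = n / 2) := by omega
  have h3 : ¬ (n / 2 + 1 = n / 2 - 1) := by omega
  have h4 : ¬ (n / 2 - 1 = n / 2 + 1) := by omega
  have h5 : ¬ (n / 2 + 1 = n / 2) := by omega
  have h6 : ¬ (n / 2 = n / 2 + 1) := by omega
  refine ⟨σ (v ⟨n / 2, by omega⟩) / σ (v ⟨n / 2 + 1, by omega⟩),
    -(v ⟨n / 2 - 1, by omega⟩ + σ (v ⟨n / 2, by omega⟩) / σ (v ⟨n / 2 + 1, by omega⟩) *
      v ⟨n / 2, by omega⟩) / v ⟨n / 2 + 1, by omega⟩, ?_, ?_, ?_⟩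
  · simp only [map_neg, map_div₀, map_add, map_mul, hσ]
    field_simp
    linear_combination -hi
  · simp only [sO_mulVec n hn hn3, xO_mulVec σ n hn hn3, h1, h2, h3, h4, h5, h6, ↓reduceIte]
    intro h
    apply hpiv
    linear_combination h
  · intro i hi'
    simp only [sO_mulVec n hn hn3, xO_mulVec σ n hn hn3, h1, h2, h3, h4, h5, h6, ↓reduceIte,
      map_div₀, hσ]
    by_cases c1 : i.val = n / 2
    · have e : i = ⟨n / 2, by omega⟩ := Fin.ext c1
      rw [e]
      simp only [h1, h2, h3, h4, h5, h6, ↓reduceIte]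
      field_simp
      ring
    · by_cases c2 : i.val = n / 2 + 1
      · have e : i = ⟨n / 2 + 1, by omega⟩ := Fin.ext c2
        rw [e]
        simp only [h1, h2, h3, h4, h5, h6, ↓reduceIte]
        field_simp
        ring
      · have c0 : ¬ (i.val = n / 2 - 1) := by omega
        simp only [c0, c1, c2, ↓reduceIte, hz i (by omega)]
        ring


theorem isTri_xL (σ : K →+* K) (n j : ℕ) (hj : j + 1 < n / 2) (t : K) : IsTri (xL σ n j t) := by
  have : xL σ n j t = 1 + (t • E n j (j + 1) - σ t • E n (n - 2 - j) (n - 1 - j)) := by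
    unfold xL; rw [add_sub_assoc]
  rw [this]
  apply (JC.isUni_one_add _ _).1
  intro a c hca
  rw [Matrix.sub_apply, Matrix.smul_apply, Matrix.smul_apply,
    JC.E_apply_of_le _ _ (by omega) _ _ hca, JC.E_apply_of_le _ _ (by omega) _ _ hca, smul_zero,
    smul_zero, sub_zero]

theorem isTri_xE (n : ℕ) (hn2 : 2 ≤ n) (t : K) : IsTri (xE n t) := by
  unfold xE
  apply (JC.isUni_one_add _ _).1
  intro a c hca
  rw [Matrix.smul_apply, JC.E_apply_of_le _ _ (by omega) _ _ hca, smul_zero]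

theorem isTri_xO (σ : K →+* K) (n : ℕ) (hn3 : 3 ≤ n) (a b : K) : IsTri (xO σ n a b) := by
  have : xO σ n a b = 1 + (a • E n (n / 2 - 1) (n / 2) + b • E n (n / 2 - 1) (n / 2 + 1) -
      σ a • E n (n / 2) (n / 2 + 1)) := by
    unfold xO; abel
  rw [this]
  apply (JC.isUni_one_add _ _).1
  intro i c hci
  rw [Matrix.sub_apply, Matrix.add_apply, Matrix.smul_apply, Matrix.smul_apply, Matrix.smul_apply,
    JC.E_apply_of_le _ _ (by omega) _ _ hci, JC.E_apply_of_le _ _ (by omega) _ _ hci,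
    JC.E_apply_of_le _ _ (by omega) _ _ hci, smul_zero, smul_zero, smul_zero, add_zero, sub_zero]

section main

variable (σ : K →+* K) (n : ℕ) (ζ : K)

/-- the generating set -/
def Hgen : Set (SUJ σ n) :=
  {b : SUJ σ n | IsTri (rho σ n b)} ∪ {s : SUJ σ n | ∃ j, j < n / 2 ∧ rho σ n s = sMat n ζ j}

/-- `v` can be moved onto the first coordinate axis -/
def Good (hn0 : 0 < n) (v : Fin n → K) : Prop :=
  ∃ h ∈ Subgroup.closure (Hgen σ n ζ), ∃ c : K,
    rho σ n h *ᵥ v = c • Pi.single (⟨0, hn0⟩ : Fin n) 1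

theorem good_of_mul (hn0 : 0 < n) (g : SUJ σ n) (hg : g ∈ Subgroup.closure (Hgen σ n ζ))
    (v : Fin n → K) (h : Good σ n ζ hn0 (rho σ n g *ᵥ v)) : Good σ n ζ hn0 v := by
  obtain ⟨h, hh, c, hc⟩ := h
  refine ⟨h * g, Subgroup.mul_mem _ hh hg, c, ?_⟩
  rw [map_mul, ← Matrix.mulVec_mulVec, hc]

theorem exists_tri (M : Matrix (Fin n) (Fin n) K) (hdet : M.det = 1) (hP : PresJ σ n M)
    (hT : IsTri M) : ∃ g ∈ Subgroup.closure (Hgen σ n ζ), rho σ n g = M := by
  obtain ⟨g, hg⟩ := exists_of_presJ σ n M hdet hP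
  refine ⟨g, Subgroup.subset_closure (Or.inl ?_), hg⟩
  show IsTri (rho σ n g)
  rw [hg]
  exact hT

theorem exists_refl (hζ : ζ ≠ 0) (hζσ : σ ζ = -ζ) (j : ℕ) (hj : j < n / 2) :
    ∃ g ∈ Subgroup.closure (Hgen σ n ζ), rho σ n g = sMat n ζ j := by
  obtain ⟨s, hs, _⟩ := exists_s σ n ζ hζ hζσ j hj
  exact ⟨s, Subgroup.subset_closure (Or.inr ⟨j, hj, hs⟩), hs⟩

theorem main (hσ : ∀ x, σ (σ x) = x) (hn : 2 ≤ n) (hζ : ζ ≠ 0) (hζσ : σ ζ = -ζ) :
    ∀ k : ℕ, ∀ hk : k < n, ∀ v : Fin n → K, hJ σ n v v = 0 → v ⟨k, hk⟩ ≠ 0 →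
      (∀ a : Fin n, k < a.val → v a = 0) → Good σ n ζ (by omega) v := by
  intro k
  induction k using Nat.strong_induction_on with
  | _ k ih =>
  intro hk v hiso hpiv hz
  by_cases hk0 : k = 0
  · subst hk0
    refine ⟨1, Subgroup.one_mem _, v ⟨0, hk⟩, ?_⟩
    rw [map_one, Matrix.one_mulVec]
    funext a
    by_cases ha : a.val = 0
    · have : a = ⟨0, hk⟩ := Fin.ext ha
      rw [this, Pi.smul_apply, Pi.single_eq_same, smul_eq_mul, mul_one]
    · rw [hz a (by omega), Pi.smul_apply, Pi.single_eq_of_ne, smul_zero]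
      intro h
      exact ha (congrArg Fin.val h)
  · by_cases hA : k < n / 2
    · obtain ⟨j, rfl⟩ : ∃ j, k = j + 1 := ⟨k - 1, by omega⟩
      obtain ⟨t, hw1, hw2⟩ := stepL_low σ n j hA v hpiv hz
      obtain ⟨gx, hgx, hgx'⟩ := exists_tri σ n ζ (xL σ n j t) (presJ_xL σ hσ n j hA t).2
        (presJ_xL σ hσ n j hA t).1 (isTri_xL σ n j hA t)
      obtain ⟨gs, hgs, hgs'⟩ := exists_refl σ n ζ hζ hζσ j (by omega)
      have hs : sMat n ζ j = pMat n (tau n j) := by unfold sMat; rw [if_pos hA]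
      apply good_of_mul σ n ζ _ gx hgx
      apply good_of_mul σ n ζ _ gs hgs
      have hiso' : hJ σ n (rho σ n gs *ᵥ (rho σ n gx *ᵥ v)) (rho σ n gs *ᵥ (rho σ n gx *ᵥ v)) = 0 := by
        rw [hJ_mulVec, hJ_mulVec]; exact hiso
      rw [hgx', hgs', hs] at hiso' ⊢
      exact ih j (by omega) (by omega) _ hiso' hw1 hw2
    · by_cases hB : n - n / 2 < k
      · obtain ⟨j, hjk⟩ : ∃ j, j = n - 1 - k := ⟨_, rfl⟩
        have hj : j + 1 < n / 2 := by omega
        have e : (⟨k, hk⟩ : Fin n) = ⟨n - 1 - j, by omega⟩ := Fin.ext (by dsimp only; omega)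
        rw [e] at hpiv
        have hz' : ∀ a : Fin n, n - 1 - j < a.val → v a = 0 := fun a ha => hz a (by omega)
        obtain ⟨t, hw1, hw2⟩ := stepL_high σ hσ n j hj v hpiv hz'
        obtain ⟨gx, hgx, hgx'⟩ := exists_tri σ n ζ (xL σ n j t) (presJ_xL σ hσ n j hj t).2
          (presJ_xL σ hσ n j hj t).1 (isTri_xL σ n j hj t)
        obtain ⟨gs, hgs, hgs'⟩ := exists_refl σ n ζ hζ hζσ j (by omega)
        have hs : sMat n ζ j = pMat n (tau n j) := by unfold sMat; rw [if_pos hj]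
        apply good_of_mul σ n ζ _ gx hgx
        apply good_of_mul σ n ζ _ gs hgs
        have hiso' : hJ σ n (rho σ n gs *ᵥ (rho σ n gx *ᵥ v)) (rho σ n gs *ᵥ (rho σ n gx *ᵥ v)) = 0 := by
          rw [hJ_mulVec, hJ_mulVec]; exact hiso
        rw [hgx', hgs', hs] at hiso' ⊢
        exact ih (n - 2 - j) (by omega) (by omega) _ hiso' hw1 hw2
      · by_cases hpar : n % 2 = 0
        · have hkm : k = n / 2 := by omega
          subst hkm
          obtain ⟨t, ht, hw1, hw2⟩ := stepE σ hσ n hpar hn ζ hζ v hiso hpiv hz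
          obtain ⟨gx, hgx, hgx'⟩ := exists_tri σ n ζ (xE n t) (presJ_xE σ hσ n hpar hn t ht).2
            (presJ_xE σ hσ n hpar hn t ht).1 (isTri_xE n hn t)
          obtain ⟨gs, hgs, hgs'⟩ := exists_refl σ n ζ hζ hζσ (n / 2 - 1) (by omega)
          have hs : sMat n ζ (n / 2 - 1) = sE n ζ := by
            unfold sMat; rw [if_neg (by omega), if_pos hpar]
          apply good_of_mul σ n ζ _ gx hgx
          apply good_of_mul σ n ζ _ gs hgs
          have hiso' : hJ σ n (rho σ n gs *ᵥ (rho σ n gx *ᵥ v)) (rho σ n gs *ᵥ (rho σ n gx *ᵥ v)) = 0 := by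
            rw [hJ_mulVec, hJ_mulVec]; exact hiso
          rw [hgx', hgs', hs] at hiso' ⊢
          exact ih (n / 2 - 1) (by omega) (by omega) _ hiso' hw1 hw2
        · have hpar' : n % 2 = 1 := by omega
          have hn3 : 3 ≤ n := by omega
          by_cases hkm : k = n / 2
          · subst hkm
            exact absurd (iso_odd_mid σ hσ n hpar' v hiso hz) hpiv
          · have hkm' : k = n / 2 + 1 := by omega
            subst hkm'
            obtain ⟨a, b, hab, hw1, hw2⟩ := stepO σ hσ n hpar' hn3 v hiso hpiv hz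
            obtain ⟨gx, hgx, hgx'⟩ := exists_tri σ n ζ (xO σ n a b)
              (presJ_xO σ hσ n hpar' hn3 a b hab).2 (presJ_xO σ hσ n hpar' hn3 a b hab).1
              (isTri_xO σ n hn3 a b)
            obtain ⟨gs, hgs, hgs'⟩ := exists_refl σ n ζ hζ hζσ (n / 2 - 1) (by omega)
            have hs : sMat n ζ (n / 2 - 1) = sO n := by
              unfold sMat; rw [if_neg (by omega), if_neg hpar]
            apply good_of_mul σ n ζ _ gx hgx
            apply good_of_mul σ n ζ _ gs hgs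
            have hiso' : hJ σ n (rho σ n gs *ᵥ (rho σ n gx *ᵥ v)) (rho σ n gs *ᵥ (rho σ n gx *ᵥ v)) = 0 := by
              rw [hJ_mulVec, hJ_mulVec]; exact hiso
            rw [hgx', hgs', hs] at hiso' ⊢
            exact ih (n / 2 - 1) (by omega) (by omega) _ hiso' hw1 hw2

end main

end COLRED

variable {K : Type*} [Field K]

/-- COLRED -/
theorem exists_col_reduce (σ : K →+* K) (hσ : ∀ x, σ (σ x) = x) (n : ℕ) (hn : 2 ≤ n) (ζ : K)
    (hζ : ζ ≠ 0) (hζσ : σ ζ = -ζ) (v : Fin n → K) (hv : v ≠ 0) (hiso : hJ σ n v v = 0) :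
    ∃ h ∈ Subgroup.closure ({b : SUJ σ n | IsTri (rho σ n b)} ∪
        {s : SUJ σ n | ∃ j, j < n / 2 ∧ rho σ n s = sMat n ζ j}),
      ∃ c : K, rho σ n h *ᵥ v = c • Pi.single (⟨0, by omega⟩ : Fin n) 1 := by
  classical
  have hex : ∃ a : Fin n, v a ≠ 0 := by
    by_contra h
    push Not at h
    exact hv (funext h)
  obtain ⟨a0, ha0⟩ := hex
  obtain ⟨a, ha, hmax⟩ := Finset.exists_max_image (Finset.univ.filter (fun a : Fin n => v a ≠ 0))
    (fun a => a.val) ⟨a0, by simp [ha0]⟩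
  have ha' : v a ≠ 0 := (Finset.mem_filter.1 ha).2
  exact COLRED.main σ n ζ hσ hn hζ hζσ a.val a.2 v hiso ha' (fun b hb => by
    by_contra hne
    have := hmax b (Finset.mem_filter.2 ⟨Finset.mem_univ _, hne⟩)
    omega)

end Cfsg.Agent.S2546P
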