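import Mathlib
import Cfsg.Agent.Helper21.S2549Defs
import Cfsg.Agent.Helper19.S2549ENTRY
import Cfsg.Agent.Helper12.OrthGenO

set_option autoImplicit false
set_option linter.unusedSectionVars false
open scoped Matrix

/-! (Alternative proof; the SIEGTRI used by the S2549 assembly is Helper17.S2549SIEGTRI; names changed to avoid clashes.) S2549 (driver helper21), piece SIEGTRI: the short root elements `E(e_i, w)` (`w` in the
anisotropic plane) are upper triangular in the ordered `K`-basis, and the `E(f_i, w)` are lower
triangular. -/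

namespace Cfsg.Agent.S2549P

open Cfsg.Agent.MatBN Cfsg.Agent.Helper28.Spin Cfsg.Agent.Helper28.Sg

variable {F : Type*} [Field F] {a b : F} {K : Type*} [Field K]

namespace SIEGTRIH1

theorem pos_outside (m : ℕ) (k : Fin m ⊕ Fin m) :
    ¬ (m ≤ (pos m (.inl k)).val ∧ (pos m (.inl k)).val ≤ m + 1) := by
  rcases k with j | j
  · have := j.2
    show ¬ (m ≤ (j : ℕ) ∧ (j : ℕ) ≤ m + 1)
    omega
  · have := j.2
    show ¬ (m ≤ 2 * m + 1 - (j : ℕ) ∧ 2 * m + 1 - (j : ℕ) ≤ m + 1)
    omega

theorem pos_e (m : ℕ) (j : Fin m) : (pos m (.inl (.inl j))).val = j := rfl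

theorem pos_f (m : ℕ) (j : Fin m) : (pos m (.inl (.inr j))).val = 2 * m + 1 - j := rfl

theorem pos_z (m : ℕ) (z : Fin 2) : (pos m (.inr z)).val = m + z := rfl

/-- the four block cases: an entry of `rho g` vanishes as soon as the corresponding entries of `g`
do -/
theorem oo_zero (E : QExt F a b K) (m : ℕ) (g : OG m F a b) (k l : Fin m ⊕ Fin m)
    (h : ((g : Matrix.GeneralLinearGroup (Idx m) F) : Matrix (Idx m) (Idx m) F) (.inl k) (.inl l) = 0) :
    rho E m g (pos m (.inl k)) (pos m (.inl l)) = 0 := by
  rw [rho_apply_oo E m g _ _ (pos_outside m k) (pos_outside m l), idx_pos, idx_pos, h, map_zero]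

theorem mo_zero (E : QExt F a b K) (m : ℕ) (g : OG m F a b) (z : Fin 2) (l : Fin m ⊕ Fin m)
    (h : ∀ y : Fin 2,
      ((g : Matrix.GeneralLinearGroup (Idx m) F) : Matrix (Idx m) (Idx m) F) (.inr y) (.inl l) = 0) :
    rho E m g (pos m (.inr z)) (pos m (.inl l)) = 0 := by
  rw [rho_apply_mo E m g _ _ (pos_outside m l), idx_pos, h 0, h 1, map_zero, mul_zero, add_zero]

theorem om_zero (E : QExt F a b K) (m : ℕ) (g : OG m F a b) (k : Fin m ⊕ Fin m) (z : Fin 2)
    (h : ∀ y : Fin 2,
      ((g : Matrix.GeneralLinearGroup (Idx m) F) : Matrix (Idx m) (Idx m) F) (.inl k) (.inr y) = 0) :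
    rho E m g (pos m (.inl k)) (pos m (.inr z)) = 0 := by
  rw [rho_apply_om E m g _ _ (pos_outside m k), idx_pos, h 0, h 1, map_zero, mul_zero, mul_zero,
    add_zero, mul_zero]

theorem mm_zero (E : QExt F a b K) (m : ℕ) (g : OG m F a b) (z z' : Fin 2) (hz : z ≠ z')
    (h : ∀ y y' : Fin 2,
      ((g : Matrix.GeneralLinearGroup (Idx m) F) : Matrix (Idx m) (Idx m) F) (.inr y) (.inr y') =
        if y = y' then 1 else 0) :
    rho E m g (pos m (.inr z)) (pos m (.inr z')) = 0 := by
  rw [rho_apply_mm]
  have h1 : (Matrix.of fun i j : Fin 2 =>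
      E.inc (((g : Matrix.GeneralLinearGroup (Idx m) F) : Matrix (Idx m) (Idx m) F) (.inr i) (.inr j))) =
      (1 : Matrix (Fin 2) (Fin 2) K) := by
    ext i j
    rw [Matrix.of_apply, h i j, Matrix.one_apply]
    split_ifs <;> simp
  rw [h1, Matrix.mul_one, P2inv_mul_P2, Matrix.one_apply_ne hz]

/-- the entries of a Siegel transformation -/
theorem siegO_entry {ι : Type} [Fintype ι] [DecidableEq ι] (Q : QuadraticForm F (ι → F))
    (u v : ι → F) (hu : Q u = 0) (huv : B Q u v = 0) (k l : ι) :
    mt Q (siegO Q u v hu huv) k l =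
      (Pi.single l (1 : F) : ι → F) k + B Q u (Pi.single l 1) * v k - B Q v (Pi.single l 1) * u k
        - Q v * B Q u (Pi.single l 1) * u k := by
  have h1 := congrFun (siegO_mulVec Q u v hu huv (Pi.single l 1)) k
  rw [Matrix.mulVec_single_one] at h1
  rw [show mt Q (siegO Q u v hu huv) k l = (mt Q (siegO Q u v hu huv)).col l k from rfl, h1]
  simp only [Pi.add_apply, Pi.sub_apply, Pi.smul_apply, smul_eq_mul]

/-- vectors of the plane are orthogonal to the coordinate vectors outside the middle -/
theorem B_plane_single (m : ℕ) (w : Idx m → F)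
    (hw : ∀ k : Fin m, w (.inl (.inl k)) = 0 ∧ w (.inl (.inr k)) = 0) (l : Fin m ⊕ Fin m) :
    B (QfMinus m F a b) w (Pi.single (.inl l) 1) = 0 := by
  rw [B_comm]
  rcases l with j | j
  · show QuadraticMap.polar _ _ _ = 0
    rw [polar_single_left (Cfsg.Agent.S2615.hypPair_minus m a b j)]
    exact (hw j).2
  · show QuadraticMap.polar _ _ _ = 0
    rw [polar_single_right (Cfsg.Agent.S2615.hypPair_minus m a b j)]
    exact (hw j).1

theorem B_eV (m : ℕ) (i : Fin m) (x : Idx m → F) :
    B (QfMinus m F a b) (eV m i) x = x (.inl (.inr i)) :=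
  polar_single_left (Cfsg.Agent.S2615.hypPair_minus m a b i) x

theorem B_fV (m : ℕ) (i : Fin m) (x : Idx m → F) :
    B (QfMinus m F a b) (fV m i) x = x (.inl (.inl i)) :=
  polar_single_right (Cfsg.Agent.S2615.hypPair_minus m a b i) x

end SIEGTRIH1

open SIEGTRIH1

section Fside

variable [Fintype F]

/-- SIEGTRI: the short root elements are triangular -/
theorem siegO_tri_alt (E : QExt F a b K) (m : ℕ) (i : Fin m) (w : Idx m → F)
    (hw : ∀ k : Fin m, w (.inl (.inl k)) = 0 ∧ w (.inl (.inr k)) = 0)
    (hu : QfMinus m F a b (eV m i) = 0) (huv : B (QfMinus m F a b) (eV m i) w = 0)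
    (hu' : QfMinus m F a b (fV m i) = 0) (huv' : B (QfMinus m F a b) (fV m i) w = 0) :
    IsTri (rho E m (siegO (QfMinus m F a b) (eV m i) w hu huv)) ∧
      ∀ r c : Fin (2 * m + 2), r < c → rho E m (siegO (QfMinus m F a b) (fV m i) w hu' huv') r c = 0 := by
  classical
  have hi := i.2
  constructor
  · intro r c hcr
    rw [← pos_idx m r, ← pos_idx m c] at hcr ⊢
    generalize idx m r = k at hcr ⊢
    generalize idx m c = l at hcr ⊢
    have hcr' : (pos m l).val < (pos m k).val := hcr
    have hG := fun k l => siegO_entry (QfMinus m F a b) (eV m i) w hu huv k l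
    rcases k with k | z <;> rcases l with l | z'
    · apply oo_zero
      show mt (QfMinus m F a b) _ _ _ = 0
      rw [hG, B_plane_single m w hw l, B_eV]
      have hwk : w (.inl k) = 0 := by
        rcases k with j | j
        · exact (hw j).1
        · exact (hw j).2
      have hkl : k ≠ l := by
        rintro rfl
        exact lt_irrefl _ hcr'
      have e1 : (Pi.single (Sum.inl l) (1 : F) : Idx m → F) (Sum.inl k) = 0 := by
        rw [Pi.single_apply, if_neg (by simpa using hkl)]
      have e2 : (Pi.single (Sum.inl l) (1 : F) : Idx m → F) (Sum.inl (Sum.inr i)) *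
          eV m i (Sum.inl k) = 0 := by
        by_cases h1 : (Sum.inl (Sum.inr i) : Idx m) = Sum.inl l
        · by_cases h2 : (Sum.inl k : Idx m) = Sum.inl (Sum.inl i)
          · exfalso
            have e1 : l = Sum.inr i := by simpa using h1.symm
            have e2 : k = Sum.inl i := by simpa using h2
            rw [e1, e2, pos_e, pos_f] at hcr'
            omega
          · unfold eV
            rw [Pi.single_apply (Sum.inl (Sum.inl i)), if_neg h2, mul_zero]
        · rw [Pi.single_apply, if_neg h1, zero_mul]
      rw [hwk, e1]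
      linear_combination (-(QfMinus m F a b w)) * e2
    · apply om_zero
      intro y
      show mt (QfMinus m F a b) _ _ _ = 0
      rw [hG, B_eV]
      have hk : ∃ j, k = Sum.inr j := by
        rcases k with j | j
        · exfalso
          rw [pos_e, pos_z] at hcr'
          have := j.2
          omega
        · exact ⟨j, rfl⟩
      obtain ⟨j, rfl⟩ := hk
      unfold eV
      simp
    · apply mo_zero
      intro y
      show mt (QfMinus m F a b) _ _ _ = 0
      rw [hG, B_eV, B_plane_single m w hw l]
      have hl : ∃ j, l = Sum.inl j := by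
        rcases l with j | j
        · exact ⟨j, rfl⟩
        · exfalso
          rw [pos_f, pos_z] at hcr'
          have := j.2
          have := z.2
          omega
      obtain ⟨j, rfl⟩ := hl
      unfold eV
      simp
    · apply mm_zero
      · rintro rfl
        exact lt_irrefl _ hcr'
      · intro y y'
        show mt (QfMinus m F a b) _ _ _ = _
        rw [hG, B_eV]
        unfold eV
        simp [Pi.single_apply, eq_comm]
  · intro r c hrc
    rw [← pos_idx m r, ← pos_idx m c] at hrc ⊢
    generalize idx m r = k at hrc ⊢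
    generalize idx m c = l at hrc ⊢
    have hrc' : (pos m k).val < (pos m l).val := hrc
    have hG := fun k l => siegO_entry (QfMinus m F a b) (fV m i) w hu' huv' k l
    rcases k with k | z <;> rcases l with l | z'
    · apply oo_zero
      show mt (QfMinus m F a b) _ _ _ = 0
      rw [hG, B_plane_single m w hw l, B_fV]
      have hwk : w (.inl k) = 0 := by
        rcases k with j | j
        · exact (hw j).1
        · exact (hw j).2
      have hkl : k ≠ l := by
        rintro rfl
        exact lt_irrefl _ hrc'
      have e1 : (Pi.single (Sum.inl l) (1 : F) : Idx m → F) (Sum.inl k) = 0 := by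
        rw [Pi.single_apply, if_neg (by simpa using hkl)]
      have e2 : (Pi.single (Sum.inl l) (1 : F) : Idx m → F) (Sum.inl (Sum.inl i)) *
          fV m i (Sum.inl k) = 0 := by
        by_cases h1 : (Sum.inl (Sum.inl i) : Idx m) = Sum.inl l
        · by_cases h2 : (Sum.inl k : Idx m) = Sum.inl (Sum.inr i)
          · exfalso
            have e1 : l = Sum.inl i := by simpa using h1.symm
            have e2 : k = Sum.inr i := by simpa using h2
            rw [e1, e2, pos_e, pos_f] at hrc'
            omega
          · unfold fV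
            rw [Pi.single_apply (Sum.inl (Sum.inr i)), if_neg h2, mul_zero]
        · rw [Pi.single_apply, if_neg h1, zero_mul]
      rw [hwk, e1]
      linear_combination (-(QfMinus m F a b w)) * e2
    · apply om_zero
      intro y
      show mt (QfMinus m F a b) _ _ _ = 0
      rw [hG, B_fV]
      have hk : ∃ j, k = Sum.inl j := by
        rcases k with j | j
        · exact ⟨j, rfl⟩
        · exfalso
          rw [pos_f, pos_z] at hrc'
          have := j.2
          have := z'.2
          omega
      obtain ⟨j, rfl⟩ := hk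
      unfold fV
      simp
    · apply mo_zero
      intro y
      show mt (QfMinus m F a b) _ _ _ = 0
      rw [hG, B_fV, B_plane_single m w hw l]
      have hl : ∃ j, l = Sum.inr j := by
        rcases l with j | j
        · exfalso
          rw [pos_e, pos_z] at hrc'
          have := j.2
          omega
        · exact ⟨j, rfl⟩
      obtain ⟨j, rfl⟩ := hl
      unfold fV
      simp
    · apply mm_zero
      · rintro rfl
        exact lt_irrefl _ hrc'
      · intro y y'
        show mt (QfMinus m F a b) _ _ _ = _
        rw [hG, B_fV]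
        unfold fV
        simp [Pi.single_apply, eq_comm]

end Fside

end Cfsg.Agent.S2549P
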