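import Mathlib
import Cfsg.Agent.Helper21.S2549Defs
import Cfsg.Agent.Helper12.OrthGenO

set_option autoImplicit false
set_option linter.unusedSectionVars false
open scoped Matrix

/-! S2549 (driver helper21), piece SLEOMEGA: for the minus type form `quadFormMinus m F a b`
(any `m ≥ 0`, `F` finite, anisotropic binary part) the Siegel transformations lie in `Ω`. -/

namespace Cfsg.Agent.S2549P

open Cfsg.Agent.MatBN Cfsg.Agent.Helper28.Spin Cfsg.Agent.Helper28.Sg Cfsg.Agent.Helper12.OrthGen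
open scoped commutatorElement

variable {F : Type*} [Field F] {a b : F}

namespace SLEOMEGA

/-- a Siegel transformation `E(u, c)` with `c` nonsingular is a commutator as soon as some `v ⟂ u`
pairs nontrivially with `c` -/
theorem sieg_mem_comm {ι : Type} [Fintype ι] [DecidableEq ι] (Q : QuadraticForm F (ι → F))
    {u c v : ι → F} (hu : Q u = 0) (huc : B Q u c = 0) (huv : B Q u v = 0) (hc : Q c ≠ 0)
    (hcv : B Q c v ≠ 0) : siegO Q u c hu huc ∈ Cfsg.Omega F ⇑Q := by
  have hcu : B Q c u = 0 := by rw [B_comm]; exact huc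
  have hgu : mt Q (reflO Q c hc) *ᵥ u = u := by
    show Cfsg.reflectionMatrix ⇑Q c *ᵥ u = u
    exact refl_fix Q hcu
  have huv' : B Q u ((-(Q c) * (B Q c v)⁻¹) • v) = 0 := B_smul_right_zero Q _ huv
  have hgv : mt Q (reflO Q c hc) *ᵥ ((-(Q c) * (B Q c v)⁻¹) • v) - (-(Q c) * (B Q c v)⁻¹) • v = c := by
    show Cfsg.reflectionMatrix ⇑Q c *ᵥ ((-(Q c) * (B Q c v)⁻¹) • v) - _ = c
    rw [refl_mulVec, QuadraticMap.polar_smul_right, smul_eq_mul]
    have : (Q c)⁻¹ * (-(Q c) * (B Q c v)⁻¹ * QuadraticMap.polar (⇑Q) c v) = -1 := by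
      show (Q c)⁻¹ * (-(Q c) * (B Q c v)⁻¹ * B Q c v) = -1
      field_simp
    rw [this]
    simp
  have h' : B Q u (mt Q (reflO Q c hc) *ᵥ ((-(Q c) * (B Q c v)⁻¹) • v) -
      (-(Q c) * (B Q c v)⁻¹) • v) = 0 := by rw [hgv]; exact huc
  have key := comm_siegO (reflO Q c hc) hu huv' hgu h'
  rw [siegO_congr Q hu h' hu huc rfl hgv] at key
  rw [← key]
  show ⁅_, _⁆ ∈ commutator _
  rw [commutator_def]
  exact Subgroup.commutator_mem_commutator (Subgroup.mem_top _) (Subgroup.mem_top _)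

/-- the discriminant of an anisotropic binary form over a finite field does not vanish -/
theorem disc_ne [Fintype F]
    (hab : ∀ z₁ z₂ : F, z₁ ^ 2 + a * z₁ * z₂ + b * z₂ ^ 2 = 0 → z₁ = 0 ∧ z₂ = 0) :
    4 * b - a ^ 2 ≠ 0 := by
  by_cases h2 : (2 : F) = 0
  · have : CharP F 2 := CharTwo.of_one_ne_zero_of_two_eq_zero one_ne_zero h2
    have ha := Cfsg.Agent.S2171.ne_zero_of_aniso a b hab
    rw [show (4 : F) = 2 * 2 by norm_num, h2]
    simpa using ha
  · have hδ := Cfsg.Agent.S2621.not_isSquare_disc h2 a b hab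
    intro h
    apply hδ
    have : a ^ 2 - 4 * b = 0 := by linear_combination -h
    rw [this]
    exact ⟨0, by simp⟩

theorem Q_eq_of_supp (m : ℕ) (w : Idx m → F)
    (hw : ∀ j : Fin m, w (.inl (.inl j)) = 0 ∧ w (.inl (.inr j)) = 0) :
    QfMinus m F a b w = w (.inr 0) ^ 2 + a * w (.inr 0) * w (.inr 1) + b * w (.inr 1) ^ 2 := by
  rw [QfMinus_coe]
  unfold Cfsg.quadFormMinus
  rw [Finset.sum_eq_zero, zero_add]
  intro j _
  rw [(hw j).1, zero_mul]

theorem eq_zero_of_supp (m : ℕ) (w : Idx m → F)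
    (hw : ∀ j : Fin m, w (.inl (.inl j)) = 0 ∧ w (.inl (.inr j)) = 0)
    (h0 : w (.inr 0) = 0) (h1 : w (.inr 1) = 0) : w = 0 := by
  funext k
  rcases k with (j | j) | j
  · exact (hw j).1
  · exact (hw j).2
  · fin_cases j
    · exact h0
    · exact h1

/-- a nonzero vector of the anisotropic plane pairs nontrivially with `z₀` or `z₁` -/
theorem exists_pair (m : ℕ) (hd : 4 * b - a ^ 2 ≠ 0) (w : Idx m → F)
    (hw : ∀ j : Fin m, w (.inl (.inl j)) = 0 ∧ w (.inl (.inr j)) = 0) (hw0 : w ≠ 0) :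
    B (QfMinus m F a b) w (Pi.single (Sum.inr 0) 1) ≠ 0 ∨
      B (QfMinus m F a b) w (Pi.single (Sum.inr 1) 1) ≠ 0 := by
  by_contra hcon
  push Not at hcon
  obtain ⟨h0, h1⟩ := hcon
  rw [B_comm] at h0 h1
  have e0 := polar_minus_z0 m a b w
  have e1 := polar_minus_z1 m a b w
  have h0' : 2 * w (Sum.inr 0) + a * w (Sum.inr 1) = 0 := by rw [← e0]; exact h0
  have h1' : a * w (Sum.inr 0) + 2 * b * w (Sum.inr 1) = 0 := by rw [← e1]; exact h1
  apply hw0
  apply eq_zero_of_supp m w hw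
  · have : (4 * b - a ^ 2) * w (Sum.inr 0) = 0 := by linear_combination 2 * b * h0' - a * h1'
    rcases mul_eq_zero.mp this with h | h
    · exact absurd h hd
    · exact h
  · have : (4 * b - a ^ 2) * w (Sum.inr 1) = 0 := by linear_combination 2 * h1' - a * h0'
    rcases mul_eq_zero.mp this with h | h
    · exact absurd h hd
    · exact h

theorem main [Fintype F] (m : ℕ)
    (hab : ∀ z₁ z₂ : F, z₁ ^ 2 + a * z₁ * z₂ + b * z₂ ^ 2 = 0 → z₁ = 0 ∧ z₂ = 0) :
    S (QfMinus m F a b) ≤ Cfsg.Omega F ⇑(QfMinus m F a b) := by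
  classical
  have hd := disc_ne hab
  have hQ : (QuadraticMap.polarBilin (QfMinus m F a b)).Nondegenerate :=
    Cfsg.Agent.S2171.QfMinus_nondeg_of m a b hd
  -- singular vectors supported on the plane vanish
  have haniso : ∀ w : Idx m → F,
      (∀ j : Fin m, w (.inl (.inl j)) = 0 ∧ w (.inl (.inr j)) = 0) → QfMinus m F a b w = 0 →
      w = 0 := by
    intro w hw hq
    rw [Q_eq_of_supp m w hw] at hq
    obtain ⟨h0, h1⟩ := hab _ _ hq
    exact eq_zero_of_supp m w hw h0 h1
  rcases Nat.eq_zero_or_pos m with hm | hm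
  · subst hm
    unfold S
    rw [Subgroup.closure_le]
    rintro g ⟨u, v, hu, huv, rfl⟩
    have hu0 : u = 0 := haniso u (fun j => j.elim0) hu
    subst hu0
    rw [siegO_zero_left]
    exact Subgroup.one_mem _
  · let a' : Fin m → Idx m := fun j => Sum.inl (Sum.inl j)
    let b' : Fin m → Idx m := fun j => Sum.inl (Sum.inr j)
    have hinj : Function.Injective (Sum.elim a' b') := by
      intro x y h
      rcases x with x | x <;> rcases y with y | y <;>
        simp only [Sum.elim_inl, Sum.elim_inr, a', b', Sum.inl.injEq, Sum.inr.injEq,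
          reduceCtorEq] at h
      · rw [h]
      · rw [h]
    let fr : HFrame (QfMinus m F a b) m :=
      coordFrame a' b' hinj (fun j => Cfsg.Agent.S2615.hypPair_minus m a b j)
    have hV0 : ∀ w, fr.InV0 w ↔ ∀ j : Fin m, w (.inl (.inl j)) = 0 ∧ w (.inl (.inr j)) = 0 :=
      fun w => coordFrame_inV0_iff a' b' hinj _ w
    let z0 : Idx m → F := Pi.single (Sum.inr 0) 1
    let z1 : Idx m → F := Pi.single (Sum.inr 1) 1
    have hz0V : fr.InV0 z0 := by
      rw [hV0]
      intro j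
      constructor <;> simp [z0]
    have hz1V : fr.InV0 z1 := by
      rw [hV0]
      intro j
      constructor <;> simp [z1]
    have hz0 : z0 ≠ 0 := by
      intro h
      have := congrFun h (Sum.inr 0)
      simp [z0] at this
    -- the short root elements are commutators
    have hshort : ∀ (u : Idx m → F) (hu : QfMinus m F a b u = 0),
        (∀ w, fr.InV0 w → B (QfMinus m F a b) u w = 0) →
        ∀ w, fr.InV0 w → w ∈ Rad (Cfsg.Omega F ⇑(QfMinus m F a b)) u hu := by
      intro u hu hperp w hw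
      by_cases hq : QfMinus m F a b w = 0
      · have : w = 0 := haniso w ((hV0 w).mp hw) hq
        rw [this]
        exact (Rad _ u hu).zero_mem
      · have hw0 : w ≠ 0 := by
          intro h
          apply hq
          rw [h]
          exact map_zero _
        refine ⟨hperp w hw, ?_⟩
        rcases exists_pair m hd w ((hV0 w).mp hw) hw0 with h | h
        · exact sieg_mem_comm _ hu (hperp w hw) (hperp z0 hz0V) hq h
        · exact sieg_mem_comm _ hu (hperp w hw) (hperp z1 hz1V) hq h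
    have hSe : ∀ i w, fr.InV0 w → w ∈ Rad (Cfsg.Omega F ⇑(QfMinus m F a b)) (fr.e i) (fr.Qe i) :=
      fun i => hshort (fr.e i) (fr.Qe i) (fun w hw => (hw i).1)
    have hSf : ∀ i w, fr.InV0 w → w ∈ Rad (Cfsg.Omega F ⇑(QfMinus m F a b)) (fr.f i) (fr.Qf i) :=
      fun i => hshort (fr.f i) (fr.Qf i) (fun w hw => (hw i).2)
    rcases exists_pair m hd z0 ((hV0 z0).mp hz0V) hz0 with h | h
    · exact S_le_of_short hQ fr ⟨0, hm⟩ hSe hSf hz0V hz0V h
    · exact S_le_of_short hQ fr ⟨0, hm⟩ hSe hSf hz0V hz1V h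

end SLEOMEGA

section Fside

variable [Fintype F]

/-- SLEOMEGA: the Siegel transformations are commutators -/
theorem S_le_Omega (m : ℕ) (hab : ∀ z₁ z₂ : F, z₁ ^ 2 + a * z₁ * z₂ + b * z₂ ^ 2 = 0 → z₁ = 0 ∧ z₂ = 0) :
    (S (QfMinus m F a b) : Subgroup (OG m F a b)) ≤ Cfsg.Omega F (Cfsg.quadFormMinus m F a b) :=
  SLEOMEGA.main m hab

end Fside

end Cfsg.Agent.S2549P
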