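import Mathlib
import Cfsg.Agent.Helper29.S2558CDefs

/-! S2558 chapter (C) piece PARITY (driver helper29): pure combinatorics, `2 #R ≤ #SO + #SOfree`. -/

set_option autoImplicit false

namespace Cfsg.Agent.S2558P

open Polynomial Cfsg.Agent.S2478P Cfsg.Agent.S2481P Cfsg.Agent.S2482P

universe u

namespace PARITY

open Classical in
/-- a chosen slot of the tuple `t` -/
noncomputable def slot {F : Type u} [Field F] (t : ℕ → F[X]) : ℕ :=
  if h : HasSlot t then Classical.choose h else 0

theorem slot_spec {F : Type u} [Field F] {t : ℕ → F[X]} (h : HasSlot t) :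
    Odd (slot t) ∧ ((X - 1 : F[X]) ∣ t (slot t) ∨ (X + 1 : F[X]) ∣ t (slot t)) := by
  unfold slot
  rw [dif_pos h]
  exact Classical.choose_spec h

open Classical in
/-- toggle one sign at the chosen slot -/
noncomputable def flipS {F : Type u} [Field F] (t : ℕ → F[X]) (s : ℕ → Bool × Bool) :
    ℕ → Bool × Bool :=
  if (X - 1 : F[X]) ∣ t (slot t) then
    Function.update s (slot t) (!(s (slot t)).1, (s (slot t)).2)
  else Function.update s (slot t) ((s (slot t)).1, !(s (slot t)).2)

/-- the flip -/
noncomputable def flip {F : Type u} [Field F] (x : (ℕ → F[X]) × (ℕ → Bool × Bool)) :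
    (ℕ → F[X]) × (ℕ → Bool × Bool) := (x.1, flipS x.1 x.2)

theorem flip_fst {F : Type u} [Field F] (x : (ℕ → F[X]) × (ℕ → Bool × Bool)) :
    (flip x).1 = x.1 := rfl

theorem flipS_injective {F : Type u} [Field F] (t : ℕ → F[X]) :
    Function.Injective (flipS t) := by
  intro s s' h
  unfold flipS at h
  funext m
  by_cases hm : m = slot t
  · subst hm
    split_ifs at h with hd
    · have := congrFun h (slot t)
      rw [Function.update_self, Function.update_self] at this
      have h1 := congrArg Prod.fst this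
      have h2 := congrArg Prod.snd this
      exact Prod.ext (by simpa using h1) h2
    · have := congrFun h (slot t)
      rw [Function.update_self, Function.update_self] at this
      have h1 := congrArg Prod.fst this
      have h2 := congrArg Prod.snd this
      exact Prod.ext h1 (by simpa using h2)
  · split_ifs at h with hd
    · have := congrFun h m
      rwa [Function.update_of_ne hm, Function.update_of_ne hm] at this
    · have := congrFun h m
      rwa [Function.update_of_ne hm, Function.update_of_ne hm] at this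

theorem flip_injective {F : Type u} [Field F] :
    Function.Injective (flip : (ℕ → F[X]) × (ℕ → Bool × Bool) → _) := by
  intro x y h
  have h1 : x.1 = y.1 := by
    have := congrArg Prod.fst h
    exact this
  have h2 : flipS x.1 x.2 = flipS y.1 y.2 := by
    have := congrArg Prod.snd h
    exact this
  rw [h1] at h2
  exact Prod.ext h1 (flipS_injective y.1 h2)

theorem toNat_not_add (b : Bool) : (!b).toNat + b.toNat = 1 := by
  cases b <;> rfl

/-- the flip changes the parity of the number of `true` signs -/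
theorem nsq_flipS_odd {F : Type u} [Field F] {r : ℕ} (t : ℕ → F[X]) (s : ℕ → Bool × Bool)
    (hm : slot t ∈ Finset.range (r + 1)) : Odd (nsq r (flipS t s) + nsq r s) := by
  classical
  unfold nsq
  have hs : ∑ m ∈ Finset.range (r + 1), ((s m).1.toNat + (s m).2.toNat) =
      ((s (slot t)).1.toNat + (s (slot t)).2.toNat) +
        ∑ m ∈ Finset.range (r + 1) \ {slot t}, ((s m).1.toNat + (s m).2.toNat) := by
    rw [← Finset.add_sum_erase _ _ hm, Finset.erase_eq]
  have hf : ∀ v : Bool × Bool,
      ∑ m ∈ Finset.range (r + 1), ((Function.update s (slot t) v m).1.toNat +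
        (Function.update s (slot t) v m).2.toNat) =
      (v.1.toNat + v.2.toNat) +
        ∑ m ∈ Finset.range (r + 1) \ {slot t}, ((s m).1.toNat + (s m).2.toNat) := by
    intro v
    rw [← Finset.add_sum_erase _ _ hm, Function.update_self, Finset.erase_eq]
    congr 1
    apply Finset.sum_congr rfl
    intro m hmm
    have : m ≠ slot t := by
      intro h
      rw [Finset.mem_sdiff, Finset.mem_singleton] at hmm
      exact hmm.2 h
    rw [Function.update_of_ne this]
  unfold flipS
  split_ifs with hd
  · rw [hf, hs]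
    have := toNat_not_add (s (slot t)).1
    refine ⟨(s (slot t)).2.toNat +
      ∑ m ∈ Finset.range (r + 1) \ {slot t}, ((s m).1.toNat + (s m).2.toNat), ?_⟩
    simp only
    omega
  · rw [hf, hs]
    have := toNat_not_add (s (slot t)).2
    refine ⟨(s (slot t)).1.toNat +
      ∑ m ∈ Finset.range (r + 1) \ {slot t}, ((s m).1.toNat + (s m).2.toNat), ?_⟩
    simp only
    omega

theorem not_dvd_one_sub {F : Type u} [Field F] : ¬ (X - 1 : F[X]) ∣ 1 := by
  intro h
  have : (X - C (1 : F)).natDegree = 1 := natDegree_X_sub_C 1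
  rw [map_one] at this
  have h2 := Polynomial.natDegree_le_of_dvd h one_ne_zero
  rw [this, natDegree_one] at h2
  omega

theorem not_dvd_one_add {F : Type u} [Field F] : ¬ (X + 1 : F[X]) ∣ 1 := by
  intro h
  have : (X + C (1 : F)).natDegree = 1 := natDegree_X_add_C 1
  rw [map_one] at this
  have h2 := Polynomial.natDegree_le_of_dvd h one_ne_zero
  rw [this, natDegree_one] at h2
  omega

/-- the slot is `≤ r` -/
theorem slot_mem {F : Type u} [Field F] {r N : ℕ} {t : ℕ → F[X]} (ht : t ∈ T F r N)
    (h : HasSlot t) : slot t ∈ Finset.range (r + 1) := by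
  rw [Finset.mem_range]
  by_contra hlt
  have h1 : t (slot t) = 1 := ht.2.1 _ (Or.inr (by omega))
  obtain ⟨-, hd⟩ := slot_spec h
  rw [h1] at hd
  rcases hd with hd | hd
  · exact not_dvd_one_sub hd
  · exact not_dvd_one_add hd

/-- the flip preserves `SO` -/
theorem flip_mem {F : Type u} [Field F] {r N : ℕ} {x : (ℕ → F[X]) × (ℕ → Bool × Bool)}
    (hx : x ∈ SO F r N) (h : HasSlot x.1) : flip x ∈ SO F r N := by
  obtain ⟨hodd, hd⟩ := slot_spec h
  refine ⟨hx.1, ?_⟩
  intro m
  show ((flipS x.1 x.2 m).1 = true → Odd m ∧ (X - 1 : F[X]) ∣ x.1 m) ∧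
    ((flipS x.1 x.2 m).2 = true → Odd m ∧ (X + 1 : F[X]) ∣ x.1 m)
  unfold flipS
  by_cases hm : m = slot x.1
  · subst hm
    split_ifs with hd1
    · rw [Function.update_self]
      exact ⟨fun _ => ⟨hodd, hd1⟩, (hx.2 _).2⟩
    · rw [Function.update_self]
      have hd2 : (X + 1 : F[X]) ∣ x.1 (slot x.1) := hd.resolve_left hd1
      exact ⟨(hx.2 _).1, fun _ => ⟨hodd, hd2⟩⟩
  · split_ifs with hd1
    · rw [Function.update_of_ne hm]
      exact hx.2 m
    · rw [Function.update_of_ne hm]
      exact hx.2 m

end PARITY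

open PARITY in
theorem PARITY.two_card_le {F : Type u} [Field F] (r N : ℕ)
    (R : Set ((ℕ → F[X]) × (ℕ → Bool × Bool))) (hR : R ⊆ SO F r N) (hfin : (SO F r N).Finite)
    (hpar : ∀ x ∈ R, ∀ x' ∈ R, x.1 = x'.1 → Even (nsq r x.2 + nsq r x'.2)) :
    2 * Nat.card R ≤ Nat.card (SO F r N) + Nat.card (SOfree F r N) := by
  classical
  rw [Nat.card_coe_set_eq, Nat.card_coe_set_eq, Nat.card_coe_set_eq]
  set S := SO F r N with hS
  have hRfin : R.Finite := hfin.subset hR
  -- the four pieces
  set Rs : Set ((ℕ → F[X]) × (ℕ → Bool × Bool)) := R ∩ {x | HasSlot x.1} with hRs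
  set Rn : Set ((ℕ → F[X]) × (ℕ → Bool × Bool)) := R ∩ {x | ¬ HasSlot x.1} with hRn
  set Ss : Set ((ℕ → F[X]) × (ℕ → Bool × Bool)) := S ∩ {x | HasSlot x.1} with hSs
  set Sn : Set ((ℕ → F[X]) × (ℕ → Bool × Bool)) := S ∩ {x | ¬ HasSlot x.1} with hSn
  have hRsplit : R.ncard = Rs.ncard + Rn.ncard := by
    have hU : R = Rs ∪ Rn := by
      ext x
      simp only [hRs, hRn, Set.mem_union, Set.mem_inter_iff, Set.mem_ofPred_eq]
      tauto
    have hD : Disjoint Rs Rn := by
      rw [Set.disjoint_left]
      intro x h1 h2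
      exact h2.2 h1.2
    conv_lhs => rw [hU]
    exact Set.ncard_union_eq hD (hRfin.subset Set.inter_subset_left)
      (hRfin.subset Set.inter_subset_left)
  have hSsplit : S.ncard = Ss.ncard + Sn.ncard := by
    have hU : S = Ss ∪ Sn := by
      ext x
      simp only [hSs, hSn, Set.mem_union, Set.mem_inter_iff, Set.mem_ofPred_eq]
      tauto
    have hD : Disjoint Ss Sn := by
      rw [Set.disjoint_left]
      intro x h1 h2
      exact h2.2 h1.2
    conv_lhs => rw [hU]
    exact Set.ncard_union_eq hD (hfin.subset Set.inter_subset_left)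
      (hfin.subset Set.inter_subset_left)
  have hSsfin : Ss.Finite := hfin.subset Set.inter_subset_left
  have hSnfin : Sn.Finite := hfin.subset Set.inter_subset_left
  have hRsfin : Rs.Finite := hRfin.subset Set.inter_subset_left
  have hRnfin : Rn.Finite := hRfin.subset Set.inter_subset_left
  -- (B)
  have hB : 2 * Rs.ncard ≤ Ss.ncard := by
    have himg : (flip '' Rs).ncard = Rs.ncard :=
      Set.ncard_image_of_injective Rs flip_injective
    have hD : Disjoint Rs (flip '' Rs) := by
      rw [Set.disjoint_left]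
      rintro x hx ⟨y, hy, hyx⟩
      have h1 : y.1 = x.1 := by rw [← hyx, flip_fst]
      have hpe := hpar y hy.1 x hx.1 h1
      have hym : y.1 ∈ T F r N := (hR hy.1).1.1
      have hodd := nsq_flipS_odd (r := r) y.1 y.2 (slot_mem hym hy.2)
      have h2 : nsq r x.2 = nsq r (flipS y.1 y.2) := by rw [← hyx]; rfl
      rw [h2, add_comm] at hpe
      exact (Nat.not_even_iff_odd.mpr hodd) hpe
    have hsub : Rs ∪ flip '' Rs ⊆ Ss := by
      rintro x (hx | ⟨y, hy, rfl⟩)
      · exact ⟨hR hx.1, hx.2⟩
      · exact ⟨flip_mem (hR hy.1) hy.2, hy.2⟩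
    have h1 := Set.ncard_le_ncard hsub hSsfin
    rw [Set.ncard_union_eq hD hRsfin (hRsfin.image _), himg] at h1
    omega
  -- (A1)
  have hA1 : Rn.ncard ≤ Sn.ncard := by
    apply Set.ncard_le_ncard _ hSnfin
    rintro x hx
    exact ⟨hR hx.1, hx.2⟩
  -- no slot: all signs false
  have hfalse : ∀ x ∈ Sn, x.2 = fun _ => (false, false) := by
    intro x hx
    funext m
    have h1 := (hx.1.2 m).1
    have h2 := (hx.1.2 m).2
    have e1 : (x.2 m).1 = false := by
      by_contra hne
      have ht : (x.2 m).1 = true := by simpa using hne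
      obtain ⟨ho, hd⟩ := h1 ht
      exact hx.2 ⟨m, ho, Or.inl hd⟩
    have e2 : (x.2 m).2 = false := by
      by_contra hne
      have ht : (x.2 m).2 = true := by simpa using hne
      obtain ⟨ho, hd⟩ := h2 ht
      exact hx.2 ⟨m, ho, Or.inr hd⟩
    exact Prod.ext e1 e2
  -- `SOfree` is finite
  have hFfin : (SOfree F r N).Finite := by
    apply (hfin.image Prod.fst).subset
    intro t ht
    refine ⟨(t, fun _ => (false, false)), ?_, rfl⟩
    refine ⟨ht.1, ?_⟩
    intro m
    simp
  -- (A2)
  have hA2 : Rn.ncard ≤ (SOfree F r N).ncard := by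
    have hinj : Set.InjOn Prod.fst Rn := by
      intro x hx y hy hxy
      have hx' : x ∈ Sn := ⟨hR hx.1, hx.2⟩
      have hy' : y ∈ Sn := ⟨hR hy.1, hy.2⟩
      exact Prod.ext hxy ((hfalse x hx').trans (hfalse y hy').symm)
    rw [← hinj.ncard_image]
    apply Set.ncard_le_ncard _ hFfin
    rintro t ⟨x, hx, rfl⟩
    exact ⟨(hR hx.1).1, hx.2⟩
  omega

end Cfsg.Agent.S2558P
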