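import Mathlib
import Cfsg.Prelude.Def_PLocal
import Cfsg.Agent.Helper28.S2768Defs
import Cfsg.Agent.Helper14.PCore

set_option autoImplicit false

/-! S2768 board, piece VF1 (blueprint 5.1, 5.3). -/

namespace Cfsg.Agent.S2768P

open Subgroup

variable {G : Type*} [Group G] [Finite G] {p : ℕ} [Fact p.Prime]

theorem VF1_aux_Z_le (S : Sylow p G) (M : Subgroup G) (hb : Basic p S M) :
    Z (S : Subgroup G) ≤ Cfsg.pCore p G ⊓ centralizer (Cfsg.pCore p G : Set G) := by
  have hQS : Cfsg.pCore p G ≤ (S : Subgroup G) := Cfsg.Agent.Helper14.pCore_le_sylow p S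
  have h1 : Z (S : Subgroup G) ≤ centralizer (Cfsg.pCore p G : Set G) := by
    intro x hx
    have hx2 : x ∈ centralizer ((S : Subgroup G) : Set G) := hx.2
    exact centralizer_le (by exact_mod_cast hQS) hx2
  exact le_inf (h1.trans hb.e1) h1

theorem VF1_aux_V_le (S : Sylow p G) (M : Subgroup G) (hb : Basic p S M) :
    V (S : Subgroup G) ≤ Cfsg.pCore p G ⊓ centralizer (Cfsg.pCore p G : Set G) := by
  haveI : (Cfsg.pCore p G).Normal := Cfsg.Agent.Helper14.pCore_normal p
  haveI : (Cfsg.pCore p G ⊓ centralizer (Cfsg.pCore p G : Set G)).Normal := inferInstance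
  exact normalClosure_le_normal (VF1_aux_Z_le S M hb)

/-- VF1 (S): 5.1, 5.3. -/
theorem VF1 (S : Sylow p G) (M : Subgroup G) (hb : Basic p S M) :
    V (S : Subgroup G) ≤ Cfsg.pCore p G ∧
    Cfsg.pCore p G ≤ centralizer (V (S : Subgroup G) : Set G) ∧
    V (S : Subgroup G) ⊓ centralizer ((S : Subgroup G) : Set G) = Z (S : Subgroup G) ∧
    ∀ g : G, g ∉ M → Z (S : Subgroup G) ⊓ cj g (Z (S : Subgroup G)) ≤ center G := by
  have hQS : Cfsg.pCore p G ≤ (S : Subgroup G) := Cfsg.Agent.Helper14.pCore_le_sylow p S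
  have hV := VF1_aux_V_le S M hb
  have hVQ : V (S : Subgroup G) ≤ Cfsg.pCore p G := hV.trans inf_le_left
  have hVC : V (S : Subgroup G) ≤ centralizer (Cfsg.pCore p G : Set G) := hV.trans inf_le_right
  refine ⟨hVQ, ?_, ?_, ?_⟩
  · exact le_centralizer_iff.mp hVC
  · apply le_antisymm
    · intro x hx
      exact ⟨hQS (hVQ hx.1), hx.2⟩
    · intro x hx
      exact ⟨subset_normalClosure hx, hx.2⟩
  · intro g hg x hx
    have hgen := hb.gen g hg
    rw [mem_center_iff]
    have hxc : (S : Subgroup G) ⊔ cj g (S : Subgroup G) ≤ centralizer ({x} : Set G) := by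
      apply sup_le
      · intro s hs
        rw [mem_centralizer_singleton_iff]
        exact (hx.1.2 s hs)
      · intro s hs
        rw [mem_centralizer_singleton_iff]
        obtain ⟨s0, hs0, rfl⟩ := hs
        obtain ⟨z, hz, rfl⟩ := hx.2
        have := hz.2 s0 hs0
        simp only [MulEquiv.coe_toMonoidHom, MulAut.conj_apply]
        calc g * s0 * g⁻¹ * (g * z * g⁻¹) = g * (s0 * z) * g⁻¹ := by group
          _ = g * (z * s0) * g⁻¹ := by rw [this]
          _ = g * z * g⁻¹ * (g * s0 * g⁻¹) := by group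
    rw [hgen] at hxc
    intro y
    have := hxc (mem_top y)
    rw [mem_centralizer_singleton_iff] at this
    exact this
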