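import Mathlib
import Cfsg.Prelude.Def_PLocal
import Cfsg.Agent.Helper28.S2768Defs
import Cfsg.Agent.Helper14.PCore
import Cfsg.Agent.Helper1.S2768VF1

set_option autoImplicit false

/-! S2768 board, piece VF2 (blueprint 5.2): `Z(S)` not normal ⇒ `C_S(V) = O_p(G)`. -/

namespace Cfsg.Agent.S2768P

open Subgroup

variable {G : Type*} [Group G] [Finite G] {p : ℕ} [Fact p.Prime]

omit [Finite G] [Fact p.Prime] in
theorem VF2_aux_S_le_normalizer (S : Subgroup G) : S ≤ normalizer (Z S : Set G) := by
  intro s hs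
  rw [mem_normalizer_iff]
  have key : ∀ s ∈ S, ∀ z ∈ Z S, s * z * s⁻¹ ∈ Z S := by
    intro s hs z hz
    refine ⟨S.mul_mem (S.mul_mem hs hz.1) (S.inv_mem hs), ?_⟩
    show s * z * s⁻¹ ∈ centralizer (S : Set G)
    rw [mem_centralizer_iff]
    intro t ht
    have h1 := hz.2 (s⁻¹ * t * s) (S.mul_mem (S.mul_mem (S.inv_mem hs) ht) hs)
    calc t * (s * z * s⁻¹) = s * ((s⁻¹ * t * s) * z) * s⁻¹ := by group
      _ = s * (z * (s⁻¹ * t * s)) * s⁻¹ := by rw [h1]
      _ = s * z * s⁻¹ * t := by group
  intro z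
  constructor
  · intro hz
    exact key s hs z hz
  · intro hz
    have := key s⁻¹ (S.inv_mem hs) _ hz
    simpa [mul_assoc] using this

/-- VF2 (S): 5.2. -/
theorem VF2 (S : Sylow p G) (M : Subgroup G) (hb : Basic p S M)
    (hZ : ¬ (Z (S : Subgroup G)).Normal) :
    (S : Subgroup G) ⊓ centralizer (V (S : Subgroup G) : Set G) = Cfsg.pCore p G := by
  have hQS : Cfsg.pCore p G ≤ (S : Subgroup G) := Cfsg.Agent.Helper14.pCore_le_sylow p S
  obtain ⟨_, hQC, _, _⟩ := VF1 S M hb
  haveI hVn : (V (S : Subgroup G)).Normal := by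
    unfold V
    infer_instance
  haveI hCn : (centralizer (V (S : Subgroup G) : Set G)).Normal := inferInstance
  apply le_antisymm
  · -- `C ⊔ S ≠ ⊤`
    have hne : centralizer (V (S : Subgroup G) : Set G) ⊔ (S : Subgroup G) ≠ ⊤ := by
      intro htop
      apply hZ
      rw [← normalizer_eq_top_iff, eq_top_iff, ← htop]
      apply sup_le
      · have h1 : centralizer (V (S : Subgroup G) : Set G) ≤ centralizer (Z (S : Subgroup G) : Set G) :=
          centralizer_le (by
            intro x hx
            exact subset_normalClosure hx)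
        exact h1.trans (centralizer_le_normalizer _)
      · exact VF2_aux_S_le_normalizer (S : Subgroup G)
    have hCM : centralizer (V (S : Subgroup G) : Set G) ≤ M :=
      le_sup_left.trans (hb.proper_le _ le_sup_right hne)
    obtain ⟨g, hg⟩ : ∃ g : G, g ∉ M := by
      by_contra hcon
      exact hb.M_ne_top (eq_top_iff.mpr fun x _ => by
        by_contra hx
        exact hcon ⟨x, hx⟩)
    rw [← hb.lemmaA g hg]
    apply inf_le_inf_left
    intro x hx
    refine ⟨g⁻¹ * x * g, hCM ?_, ?_⟩
    · have := hCn.conj_mem x hx g⁻¹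
      simpa using this
    · simp [mul_assoc]
  · exact le_inf hQS hQC
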