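import Mathlib
import Cfsg.Agent.Helper28.S3000Defs
import Cfsg.Agent.Helper14.S3000TKD3

/-! S3000, board `s3000pieces`, piece PT3 (helper1), CORE: `H ≤ M`, `Ř_A ≤ Z₀`, `z₀ = ř c`, `Z₀ = Ř_A (Z₀ ∩ C)`,
with the facts JSPLIT, J2CENT, `Tool.Rc_act` (second clause) and ZPT (second clause at `e = 1`) as hypotheses. -/

set_option autoImplicit false
set_option linter.style.haveILetI false
set_option linter.unusedVariables false

namespace Cfsg.Agent.S3000P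

open Cfsg.Agent.S2789P Cfsg.Agent.S2999P Cfsg.Agent.S3000P
open scoped commutatorElement

variable {G : Type*} [Group G] [Finite G] {p : ℕ} [Fact p.Prime] {V P : Subgroup G} {T : Sylow p ↥P} {M : Subgroup ↥P} {q : ℕ}

omit [Finite G] in
/-- elements of `X ⊔ Y` are products when `X, Y` lie in a commutative subgroup -/
theorem PT3_aux_mem_sup {V X Y : Subgroup G} (hV : ∀ v ∈ V, ∀ w ∈ V, v * w = w * v) (hX : X ≤ V) (hY : Y ≤ V) {x : G}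
    (hx : x ∈ X ⊔ Y) : ∃ a ∈ X, ∃ b ∈ Y, x = a * b := by
  have hc' : ∀ (a : X) (b : Y), Commute (X.subtype a) (Y.subtype b) := fun a b => hV _ (hX a.2) _ (hY b.2)
  have h1 := MonoidHom.noncommCoprod_range X.subtype Y.subtype hc'
  rw [Subgroup.range_subtype, Subgroup.range_subtype] at h1
  rw [← h1] at hx
  obtain ⟨⟨a, b⟩, rfl⟩ := hx
  exact ⟨a, a.2, b, b.2, by simp [MonoidHom.noncommCoprod_apply]⟩

omit [Finite G] in
/-- an element centralising a subgroup normalises it -/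
theorem PT3_aux_cj_of_cent {g : G} {X : Subgroup G} (h : ∀ x ∈ X, x * g = g * x) : cjs g X = X := by
  ext x
  rw [cj_mem]
  constructor
  · intro hx
    have h1 := h _ hx
    have e : g⁻¹ * x * g = x := by
      have h2 : g⁻¹ * x * g * g = x * g := by rw [h1]; group
      exact mul_right_cancel h2
    rwa [e] at hx
  · intro hx
    have e : g⁻¹ * x * g = x := by rw [mul_assoc, h x hx]; group
    rwa [e]

section COV
variable {A E H : Subgroup G} {w : G}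

/-- PT3 (L), core -/
theorem PT3_core (Hy : Hyp p V P T M) (K : Tool p V P q A E H w) (hB : Based (MM M) A E)
    (hAT : A ≤ TT T) {z₀ : G} (hz₀ : z₀ ∈ fixV V (TT T)) (hzM : ∀ x ∈ P, x * z₀ = z₀ * x → x ∈ MM M)
    (hJs : JOff p V (TT T) q = A ⊔ JJ2 p V (TT T) q A)
    (hJ2c : ∀ x ∈ JJ2 p V (TT T) q A, ∀ e ∈ E, x * e = e * x)
    (hact2 : ∀ r ∈ ⁅fixV V A, H⁆, r ≠ 1 → Subgroup.closure {x | ∃ h ∈ H, x = h * r * h⁻¹ * r⁻¹} = ⁅fixV V A, H⁆)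
    (hZA : Zpt P (MM M) (JJ2 p V (TT T) q A) V z₀ 1 ≤ fixV V A) :
    (∀ h ∈ H, h ∈ MM M) ∧ ⁅fixV V A, H⁆ ≤ Zpt P (MM M) (JJ2 p V (TT T) q A) V z₀ 1 ∧
      (∃ ř ∈ ⁅fixV V A, H⁆, ∃ c ∈ Zpt P (MM M) (JJ2 p V (TT T) q A) V z₀ 1 ⊓ fixV V E, z₀ = ř * c ∧ ř ≠ 1) ∧
      Zpt P (MM M) (JJ2 p V (TT T) q A) V z₀ 1 =
        ⁅fixV V A, H⁆ ⊔ (Zpt P (MM M) (JJ2 p V (TT T) q A) V z₀ 1 ⊓ fixV V E) := by
  classical
  have hVc : ∀ v ∈ V, ∀ w ∈ V, v * w = w * v := fun v hv w hw =>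
    congrArg Subtype.val (Hy.hV.1.is_comm.comm ⟨v, hv⟩ ⟨w, hw⟩)
  have hTP : TT T ≤ P := Subgroup.map_subtype_le _
  have hMP : MM M ≤ P := Subgroup.map_subtype_le _
  have hAin : A ∈ AqIn p V (TT T) q := ⟨hAT, K.hA.so, K.hA.card⟩
  have hJne : JOff p V (TT T) q ≠ ⊥ := JOff_ne_bot hAin
  have hJ2T : JJ2 p V (TT T) q A ≤ TT T := sSup_le (fun D hD => hD.1.1)
  -- (1) `H ≤ M`
  have h1 : ∀ h ∈ H, h ∈ MM M := by
    intro h hh
    apply JOff_normalizer_le Hy hJne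
    refine ⟨K.hEP (K.hHE hh), ?_⟩
    apply J_aux_mem_normalizer
    have e1 : cjs h (JJ2 p V (TT T) q A) = JJ2 p V (TT T) q A :=
      PT3_aux_cj_of_cent (fun x hx => hJ2c x hx h (K.hHE hh))
    have e2 : cjs h A = A := K.hHA h hh
    rw [hJs, cj_sup, e1, e2]
  obtain ⟨hRc1, hRc2, hRc3, hRc4⟩ := Tool.Rc Hy K
  have hRV : ⁅fixV V A, H⁆ ≤ V := by
    exact (le_sup_left.trans hRc1.le).trans (fix_le V A)
  have hzA : z₀ ∈ fixV V A := fix_anti hAT hz₀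
  have hzJ : z₀ ∈ fixV V (JJ2 p V (TT T) q A) := fix_anti hJ2T hz₀
  have hzA' : z₀ ∈ ⁅fixV V A, H⁆ ⊔ fixV V E := by rw [hRc1]; exact hzA
  obtain ⟨ř, hř, c, hc, hzrc⟩ := PT3_aux_mem_sup hVc hRV (fix_le V E) hzA'
  have hř1 : ř ≠ 1 := by
    intro h
    apply hB.hEM
    intro e he
    apply hzM e (K.hEP he)
    rw [hzrc, h, one_mul]
    exact (mem_fix.mp hc).2 e he
  -- generators
  have hgen : ∀ h ∈ H, h * z₀ * h⁻¹ ∈ Zpt P (MM M) (JJ2 p V (TT T) q A) V z₀ 1 := by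
    intro h hh
    apply Subgroup.subset_closure
    have hhP : h ∈ P := K.hEP (K.hHE hh)
    refine ⟨h, hhP, rfl, ?_, ?_⟩
    · have h2 : h * z₀ * h⁻¹ ∈ cjs h (fixV V (JJ2 p V (TT T) q A)) := cj_mem_conj.mpr hzJ
      rw [← cj_fix _ (Hy.hPV hhP), PT3_aux_cj_of_cent (fun x hx => hJ2c x hx h (K.hHE hh))] at h2
      exact h2
    · rw [mul_one]
      exact (MM M).inv_mem (h1 h hh)
  have hz₀Z : z₀ ∈ Zpt P (MM M) (JJ2 p V (TT T) q A) V z₀ 1 := by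
    have := hgen 1 H.one_mem
    simpa using this
  have h2 : ⁅fixV V A, H⁆ ≤ Zpt P (MM M) (JJ2 p V (TT T) q A) V z₀ 1 := by
    rw [← hact2 ř hř hř1, Subgroup.closure_le]
    rintro x ⟨h, hh, rfl⟩
    have h3 := (Zpt P (MM M) (JJ2 p V (TT T) q A) V z₀ 1).mul_mem (hgen h hh)
      ((Zpt P (MM M) (JJ2 p V (TT T) q A) V z₀ 1).inv_mem hz₀Z)
    have hch : h * c = c * h := (mem_fix.mp hc).2 h (K.hHE hh)
    have hch' : c * h⁻¹ = h⁻¹ * c := by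
      calc c * h⁻¹ = h⁻¹ * (h * c) * h⁻¹ := by group
        _ = h⁻¹ * (c * h) * h⁻¹ := by rw [hch]
        _ = h⁻¹ * c := by group
    have e : h * z₀ * h⁻¹ * z₀⁻¹ = h * ř * h⁻¹ * ř⁻¹ := by
      rw [hzrc]
      calc h * (ř * c) * h⁻¹ * (ř * c)⁻¹ = h * ř * (c * h⁻¹) * c⁻¹ * ř⁻¹ := by group
        _ = h * ř * (h⁻¹ * c) * c⁻¹ * ř⁻¹ := by rw [hch']
        _ = h * ř * h⁻¹ * ř⁻¹ := by group
    rw [e] at h3
    exact h3
  refine ⟨h1, h2, ⟨ř, hř, c, ⟨?_, hc⟩, hzrc, hř1⟩, ?_⟩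
  · have h3 := (Zpt P (MM M) (JJ2 p V (TT T) q A) V z₀ 1).mul_mem
      ((Zpt P (MM M) (JJ2 p V (TT T) q A) V z₀ 1).inv_mem (h2 hř)) hz₀Z
    have e : ř⁻¹ * z₀ = c := by rw [hzrc]; group
    rwa [e] at h3
  · apply le_antisymm
    · intro x hx
      have hxA : x ∈ ⁅fixV V A, H⁆ ⊔ fixV V E := by rw [hRc1]; exact hZA hx
      obtain ⟨a, ha, b, hb, hxab⟩ := PT3_aux_mem_sup hVc hRV (fix_le V E) hxA
      have hbZ : b ∈ Zpt P (MM M) (JJ2 p V (TT T) q A) V z₀ 1 := by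
        have h3 := (Zpt P (MM M) (JJ2 p V (TT T) q A) V z₀ 1).mul_mem
          ((Zpt P (MM M) (JJ2 p V (TT T) q A) V z₀ 1).inv_mem (h2 ha)) hx
        have e : a⁻¹ * x = b := by rw [hxab]; group
        rwa [e] at h3
      rw [hxab]
      exact Subgroup.mul_mem_sup ha ⟨hbZ, hb⟩
    · exact sup_le h2 inf_le_left
end COV

end Cfsg.Agent.S3000P
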