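import Mathlib
import Cfsg.Agent.Helper28.S3000Defs
import Cfsg.Agent.Helper1.S3000PT3core
import Cfsg.Agent.Helper22.S3000JSPLIT
import Cfsg.Agent.Helper27.S3000J2CENT
import Cfsg.Agent.Helper2.S3000TKD4
import Cfsg.Agent.Helper28.S3000ZPT

/-! S3000, board `s3000pieces`, piece PT3 (helper1): wrapper of `PT3_core` with the exact stub signature. -/

set_option autoImplicit false
set_option linter.unusedVariables false

namespace Cfsg.Agent.S3000P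

open Cfsg.Agent.S2789P Cfsg.Agent.S2999P Cfsg.Agent.S3000P
open scoped commutatorElement

variable {G : Type*} [Group G] [Finite G] {p : ℕ} [Fact p.Prime] {V P : Subgroup G} {T : Sylow p ↥P} {M : Subgroup ↥P} {q : ℕ}

section COV
variable {A E H : Subgroup G} {w : G}

/-- PT3 (L) -/
theorem PT3 (Hy : Hyp p V P T M) (hq : MinQ p V P q) (hq2 : 2 < q) (K : Tool p V P q A E H w) (hB : Based (MM M) A E)
    (hAT : A ≤ TT T) {z₀ : G} (hz₀ : z₀ ∈ fixV V (TT T)) (hzM : ∀ x ∈ P, x * z₀ = z₀ * x → x ∈ MM M) :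
    (∀ h ∈ H, h ∈ MM M) ∧ ⁅fixV V A, H⁆ ≤ Zpt P (MM M) (JJ2 p V (TT T) q A) V z₀ 1 ∧
      (∃ ř ∈ ⁅fixV V A, H⁆, ∃ c ∈ Zpt P (MM M) (JJ2 p V (TT T) q A) V z₀ 1 ⊓ fixV V E, z₀ = ř * c ∧ ř ≠ 1) ∧
      Zpt P (MM M) (JJ2 p V (TT T) q A) V z₀ 1 =
        ⁅fixV V A, H⁆ ⊔ (Zpt P (MM M) (JJ2 p V (TT T) q A) V z₀ 1 ⊓ fixV V E) := by
  refine PT3_core Hy K hB hAT hz₀ hzM (JSPLIT K.hA hAT) (J2CENT Hy hq K hAT) (Tool.Rc_act Hy hq2 K).2 ?_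
  have h3 := (ZPT Hy hq K hB hAT hz₀ hzM E.one_mem).2
  rwa [cj_one] at h3

end COV

end Cfsg.Agent.S3000P
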