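import Mathlib
import Cfsg.Agent.Helper25.S2981BDefs
import Cfsg.Agent.Helper28.S3000TOOL
import Cfsg.Agent.Helper2.S3000UT
import Cfsg.Agent.Helper14.S3000TKD3
import Cfsg.Agent.Helper9.S3000TKD2
import Cfsg.Agent.Helper12.S3000F6

/-! Board `s2981pieces`, piece OFFSTEP (helper1), stub-free core: the piece BOREL is taken as a hypothesis `hBOREL`
(the wrapper with the exact stub signature is `Helper1/S2981OFFSTEP.lean`).
An exact offender `B ≤ T` containing `A` splits as `A × C_B(E)`, and `C_B(E)` is again an exact offender. -/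

set_option autoImplicit false

namespace Cfsg.Agent.S2981P

open Cfsg.Agent.S2789P Cfsg.Agent.S2999P Cfsg.Agent.S3000P
open scoped commutatorElement

variable {G : Type*} [Group G]

/-- an element centralising `A` normalises it -/
theorem OFFSTEP_aux_cj_of_comm {b : G} {A : Subgroup G} (h : ∀ a ∈ A, b * a = a * b) : cjs b A = A := by
  apply cj_norm
  rw [Subgroup.mem_normalizer_iff]
  intro x
  constructor
  · intro hx
    have : b * x * b⁻¹ = x := by rw [h x hx]; group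
    rw [this]; exact hx
  · intro hx
    have h2 := h _ hx
    have : b * x * b⁻¹ = x := by
      have h3 : b * (b * x * b⁻¹) = b * x := by rw [h2]; group
      exact mul_left_cancel h3
    rw [← this]; exact hx

variable [Finite G] {p : ℕ} [Fact p.Prime] {V P : Subgroup G} {T : Sylow p ↥P} {M : Subgroup ↥P} {q : ℕ}

variable {A E : Subgroup G}

/-- OFFSTEP, with BOREL as a hypothesis. -/
theorem OFFSTEP_core (Hy : Hyp p V P T M) (hq : MinQ p V P q) (hq2 : 2 < q) (X : PkgT p V P T M q A E)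
    (hBOREL : ∀ x ∈ P, (∃ k : ℕ, x ^ p ^ k = 1) → cjs x E = E → (∀ a ∈ A, x * a = a * x) →
      ∃ a ∈ A, ∀ e ∈ E, (a⁻¹ * x) * e = e * (a⁻¹ * x))
    {B : Subgroup G} (hB : Off p V P B) (hBT : B ≤ TT T) (hAB : A ≤ B) :
    Off p V P (B ⊓ Subgroup.centralizer (E : Set G)) ∧ B = A ⊔ (B ⊓ Subgroup.centralizer (E : Set G)) ∧
      Nat.card ↥(B ⊓ Subgroup.centralizer (E : Set G) : Subgroup G) < Nat.card ↥B := by
  obtain ⟨H, w, K⟩ := TOOL Hy hq2 X.hK
  have hBab : ∀ x ∈ B, ∀ y ∈ B, x * y = y * x := fun x hx y hy =>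
    congrArg Subtype.val (hB.hel.1.is_comm.comm ⟨x, hx⟩ ⟨y, hy⟩)
  have hVab : ∀ x ∈ V, ∀ y ∈ V, x * y = y * x := fun x hx y hy =>
    congrArg Subtype.val (Hy.hV.1.is_comm.comm ⟨x, hx⟩ ⟨y, hy⟩)
  -- every `b ∈ B` normalises `A` and `E`
  have hbA : ∀ b ∈ B, cjs b A = A := fun b hb => OFFSTEP_aux_cj_of_comm (fun a ha => hBab b hb a (hAB ha))
  have hbE : ∀ b ∈ B, cjs b E = E := fun b hb => UT Hy hq hq2 X.hK X.hB X.hAT (hBT hb) (hbA b hb)
  -- abbreviations
  have hB'B : B ⊓ Subgroup.centralizer (E : Set G) ≤ B := inf_le_left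
  have hB'P : B ⊓ Subgroup.centralizer (E : Set G) ≤ P := hB'B.trans hB.le
  have hB'el : Cfsg.IsElementaryAbelian p (B ⊓ Subgroup.centralizer (E : Set G) : Subgroup G) :=
    F2_aux_elab_of_le hB.hel hB'B
  have hB'c : ∀ x ∈ B ⊓ Subgroup.centralizer (E : Set G), ∀ e ∈ E, x * e = e * x := by
    intro x hx e he
    exact ((Subgroup.mem_centralizer_iff.mp hx.2) e he).symm
  -- (2) the splitting
  have hsplit : B = A ⊔ (B ⊓ Subgroup.centralizer (E : Set G)) := by
    apply le_antisymm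
    · intro b hb
      obtain ⟨a, ha, hc⟩ := hBOREL b (hB.le hb) ⟨1, by rw [pow_one]; exact hB.hel.2 b hb⟩ (hbE b hb)
        (fun a ha => hBab b hb a (hAB ha))
      have hcB : a⁻¹ * b ∈ B ⊓ Subgroup.centralizer (E : Set G) := by
        refine Subgroup.mem_inf.mpr ⟨B.mul_mem (B.inv_mem (hAB ha)) hb, ?_⟩
        rw [Subgroup.mem_centralizer_iff]
        intro e he
        exact (hc e he).symm
      have e1 : b = a * (a⁻¹ * b) := by group
      rw [e1]
      exact Subgroup.mul_mem_sup ha hcB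
    · exact sup_le hAB hB'B
  -- `A ⊓ C_B(E) = ⊥`
  have hwP : w ∈ P := K.hEP K.hwE
  have hdisj : A ⊓ (B ⊓ Subgroup.centralizer (E : Set G)) = ⊥ := by
    rw [eq_bot_iff]
    intro a ha
    have haw : w * a = a * w := ((Subgroup.mem_centralizer_iff.mp ha.2.2) w K.hwE)
    have h1 : a ∈ cjs w A := by
      rw [cj_mem]
      have : w⁻¹ * a * w = a := by
        rw [mul_assoc, ← haw]; group
      rw [this]; exact ha.1
    have h2 : A ⊓ cjs w A = ⊥ :=
      F3_TI Hy K.hA.le K.hA.so (cj_le_of_mem hwP K.hA.le) (K.hA.so.conj (Hy.hPV hwP)) (Ne.symm K.hwA)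
    rw [← h2]
    exact ⟨ha.1, h1⟩
  -- `|B| = q |C_B(E)|`
  have hcardB : Nat.card ↥B = q * Nat.card ↥(B ⊓ Subgroup.centralizer (E : Set G) : Subgroup G) := by
    have h1 := TKD3_aux_card_sup A (B ⊓ Subgroup.centralizer (E : Set G))
      (fun a ha k hk => hBab a (hAB ha) k (hB'B hk)) hdisj
    rw [← hsplit, K.hA.card] at h1
    exact h1
  -- `C_B(E)` centralises `[V, E]`
  have hTK6 : ⁅V, B ⊓ Subgroup.centralizer (E : Set G)⁆ ≤ fixV V E :=
    Tool.TK6 Hy K _ hB'P (F2_aux_isPGroup hB'el) hB'c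
  have hVEc : ⁅V, E⁆ ≤ Subgroup.centralizer ((B ⊓ Subgroup.centralizer (E : Set G) : Subgroup G) : Set G) := by
    rw [← Subgroup.commutator_eq_bot_iff_le_centralizer]
    apply Subgroup.commutator_commutator_eq_bot_of_rotate
    · -- `[[E, B'], V] = ⊥`
      have : ⁅E, B ⊓ Subgroup.centralizer (E : Set G)⁆ = ⊥ := by
        rw [Subgroup.commutator_eq_bot_iff_le_centralizer]
        intro e he
        rw [Subgroup.mem_centralizer_iff]
        intro x hx
        exact hB'c x hx e he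
      rw [this]
      exact Subgroup.commutator_bot_left V
    · -- `[[B', V], E] = ⊥`
      rw [Subgroup.commutator_eq_bot_iff_le_centralizer, Subgroup.commutator_comm]
      exact hTK6.trans (by unfold fixV; exact inf_le_right)
  obtain ⟨hRsup, hRinf, -, hRcard, -⟩ := Tool.Ri Hy K
  have hRV : ⁅fixV V (cjs w A), H⁆ ≤ V := by
    have : ⁅fixV V (cjs w A), H⁆ ≤ fixV V (cjs w A) := le_sup_left.trans hRsup.le
    exact this.trans (fix_le _ _)
  have hRfix : ⁅fixV V (cjs w A), H⁆ ≤ fixV V (B ⊓ Subgroup.centralizer (E : Set G)) := by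
    unfold fixV
    refine le_inf hRV ?_
    exact (Subgroup.commutator_mono (fix_le _ _) K.hHE).trans hVEc
  -- `|C_V(C_B(E))| ≥ q |C_V(B)|`
  have hdisj2 : fixV V B ⊓ ⁅fixV V (cjs w A), H⁆ = ⊥ := by
    rw [eq_bot_iff, ← hRinf]
    intro x hx
    exact ⟨hx.2, fix_anti hAB hx.1⟩
  have hcard2 : Nat.card ↥(fixV V B ⊔ ⁅fixV V (cjs w A), H⁆ : Subgroup G) = Nat.card ↥(fixV V B) * q := by
    have h1 := TKD3_aux_card_sup (fixV V B) ⁅fixV V (cjs w A), H⁆
      (fun x hx y hy => hVab x (fix_le _ _ hx) y (hRV hy)) hdisj2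
    rw [hRcard] at h1
    exact h1
  have hle2 : fixV V B ⊔ ⁅fixV V (cjs w A), H⁆ ≤ fixV V (B ⊓ Subgroup.centralizer (E : Set G)) :=
    sup_le (fix_anti hB'B) hRfix
  have hcard3 : Nat.card ↥(fixV V B) * q ≤ Nat.card ↥(fixV V (B ⊓ Subgroup.centralizer (E : Set G))) := by
    rw [← hcard2]
    exact Subgroup.card_le_of_le hle2
  have hF2 := F2 Hy _ hB'P hB'el
  have hval := hB.val
  have hpos : 0 < Nat.card ↥(B ⊓ Subgroup.centralizer (E : Set G) : Subgroup G) := Nat.card_pos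
  refine ⟨⟨hB'P, hB'el, ?_⟩, hsplit, ?_⟩
  · apply le_antisymm hF2
    calc Nat.card ↥V = Nat.card ↥B * Nat.card ↥(fixV V B) := hval.symm
      _ = Nat.card ↥(B ⊓ Subgroup.centralizer (E : Set G) : Subgroup G) * (Nat.card ↥(fixV V B) * q) := by
          rw [hcardB]; ring
      _ ≤ _ := Nat.mul_le_mul_left _ hcard3
  · rw [hcardB]
    nlinarith

end Cfsg.Agent.S2981P
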