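import Mathlib
import Cfsg.Agent.Helper1.S2981OFFSTEPcore
import Cfsg.Agent.Helper22.S2981BOREL

/-! Board `s2981pieces`, piece OFFSTEP (helper1): the wrapper with the exact stub signature
(`OFFSTEP_core` + helper22's `BOREL`). -/

set_option autoImplicit false

namespace Cfsg.Agent.S2981P

open Cfsg.Agent.S2789P Cfsg.Agent.S2999P Cfsg.Agent.S3000P
open scoped commutatorElement

variable {G : Type*} [Group G] [Finite G] {p : ℕ} [Fact p.Prime] {V P : Subgroup G} {T : Sylow p ↥P} {M : Subgroup ↥P} {q : ℕ}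

variable {A E : Subgroup G}

/-- OFFSTEP (L): an exact offender `B ≤ T` containing `A` splits as `A × C_B(E)`, and `C_B(E)` is again an exact offender. -/
theorem OFFSTEP (Hy : Hyp p V P T M) (hq : MinQ p V P q) (hq2 : 2 < q) (X : PkgT p V P T M q A E)
    {B : Subgroup G} (hB : Off p V P B) (hBT : B ≤ TT T) (hAB : A ≤ B) :
    Off p V P (B ⊓ Subgroup.centralizer (E : Set G)) ∧ B = A ⊔ (B ⊓ Subgroup.centralizer (E : Set G)) ∧
      Nat.card ↥(B ⊓ Subgroup.centralizer (E : Set G) : Subgroup G) < Nat.card ↥B :=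
  OFFSTEP_core Hy hq hq2 X (fun _ hxP hxp hxE hxA => BOREL Hy hq2 X.hK hxP hxp hxE hxA) hB hBT hAB

end Cfsg.Agent.S2981P
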