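import Mathlib
import Cfsg.Agent.Helper26.S3050Defs

/-! # S3050, piece D2 (board `s3050pieces`): a non-trivial element of order dividing 3 of `SL₂(F)`,
`char F = 2`, has trace 1. -/

set_option autoImplicit false

namespace Cfsg.Agent.S3050P

open Cfsg.Agent.Helper18.NatMod

section groups

variable {F : Type*} [Field F] [CharP F 2]

local notation "SF" => Matrix.SpecialLinearGroup (Fin 2) F
local notation "MF" => Matrix (Fin 2) (Fin 2) F

/-- D2 -/
theorem tr_of_order3 (g : SF) (h1 : g ≠ 1) (h3 : g ^ 3 = 1) : tr g = 1 := by
  have h2 : (2 : F) = 0 := CharTwo.two_eq_zero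
  set a := (g : MF) 0 0 with ha
  set b := (g : MF) 0 1 with hb
  set c := (g : MF) 1 0 with hc
  set d := (g : MF) 1 1 with hd
  have hdet : a * d - b * c = 1 := by
    have := g.2
    rw [Matrix.det_fin_two] at this
    exact this
  have hM : (g : MF) * (g : MF) * (g : MF) = 1 := by
    have : ((g ^ 3 : SF) : MF) = ((1 : SF) : MF) := by rw [h3]
    rw [pow_succ, pow_succ, pow_one] at this
    simpa using this
  have e11 : (a * a + b * c) * a + (a * b + b * d) * c = 1 := by
    have := congrFun (congrFun hM 0) 0
    simpa [Matrix.mul_apply, Fin.sum_univ_two] using this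
  have e12 : (a * a + b * c) * b + (a * b + b * d) * d = 0 := by
    have := congrFun (congrFun hM 0) 1
    simpa [Matrix.mul_apply, Fin.sum_univ_two] using this
  have e21 : (c * a + d * c) * a + (c * b + d * d) * c = 0 := by
    have := congrFun (congrFun hM 1) 0
    simpa [Matrix.mul_apply, Fin.sum_univ_two] using this
  have e22 : (c * a + d * c) * b + (c * b + d * d) * d = 1 := by
    have := congrFun (congrFun hM 1) 1
    simpa [Matrix.mul_apply, Fin.sum_univ_two] using this
  show a + d = 1
  by_contra hτ
  have hs : a + d + 1 ≠ 0 := by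
    intro h
    apply hτ
    linear_combination h - h2
  have hs2 : (a + d + 1) * (a + d + 1) ≠ 0 := mul_ne_zero hs hs
  -- Cayley–Hamilton consequences
  have f12 : (a + d + 1) * (a + d + 1) * b = 0 := by
    linear_combination e12 + (b) * hdet + (a * b + b * d + b) * h2
  have f21 : (a + d + 1) * (a + d + 1) * c = 0 := by
    linear_combination e21 + (c) * hdet + (a * c + c * d + c) * h2
  have hb0 : b = 0 := by
    rcases mul_eq_zero.mp f12 with h | h
    · exact absurd h hs2
    · exact h
  have hc0 : c = 0 := by
    rcases mul_eq_zero.mp f21 with h | h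
    · exact absurd h hs2
    · exact h
  rw [hb0, hc0] at e11 e22 hdet
  have f11 : (a + d + 1) * (a + d + 1) * (a - d) = 0 := by
    linear_combination (exp := 1) e11 - e22 + (a - d) * hdet + (a * a - d * d + a - d) * h2 + 0 * hdet
  have had : a = d := by
    rcases mul_eq_zero.mp f11 with h | h
    · exact absurd h hs2
    · exact sub_eq_zero.mp h
  have ha1 : a = 1 := by
    rw [← had] at e11 hdet
    have : a * a = 1 := by linear_combination hdet
    linear_combination e11 - a * this
  apply h1
  apply Subtype.ext
  rw [Matrix.SpecialLinearGroup.coe_one]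
  ext i j
  fin_cases i <;> fin_cases j
  · show a = 1
    exact ha1
  · show b = 0
    exact hb0
  · show c = 0
    exact hc0
  · show d = 1
    rw [← had]; exact ha1

end groups

end Cfsg.Agent.S3050P
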