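import Mathlib
import Cfsg.Agent.Helper26.S3050Defs

/-! # S3050, piece D3 (board `s3050pieces`): any two trace-1 elements of `SL₂(F)`, `F` finite of
characteristic 2, are conjugate. -/

set_option autoImplicit false

namespace Cfsg.Agent.S3050P

open Cfsg.Agent.Helper18.NatMod

section groups

variable {F : Type*} [Field F] [CharP F 2]

local notation "SF" => Matrix.SpecialLinearGroup (Fin 2) F
local notation "MF" => Matrix (Fin 2) (Fin 2) F

/-- the companion matrix of `X² + X + 1` -/
def conj_of_tr_aux_J : SF :=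
  ⟨!![0, 1; 1, 1], by
    rw [Matrix.det_fin_two_of]
    have h2 : (2 : F) = 0 := CharTwo.two_eq_zero
    linear_combination (-1 : F) * h2⟩

theorem conj_of_tr_aux_key (g : SF) (h : tr g = 1) (x y l : F)
    (hl : l * l * ((g : MF) 1 0 * x * x + x * y + (g : MF) 0 1 * y * y) = 1) :
    ∃ k : SF, g * k = k * conj_of_tr_aux_J := by
  have h2 : (2 : F) = 0 := CharTwo.two_eq_zero
  set a := (g : MF) 0 0 with ha
  set b := (g : MF) 0 1 with hb
  set c := (g : MF) 1 0 with hc
  set d := (g : MF) 1 1 with hd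
  have hdet : a * d - b * c = 1 := by
    have := g.2
    rw [Matrix.det_fin_two] at this
    exact this
  have htr : a + d = 1 := h
  have hg : (g : MF) = !![a, b; c, d] := Matrix.eta_fin_two _
  refine ⟨⟨!![l * x, l * (a * x + b * y); l * y, l * (c * x + d * y)], ?_⟩, ?_⟩
  · rw [Matrix.det_fin_two_of]
    linear_combination hl + (l * l * x * y) * htr - (l * l * a * x * y + l * l * b * y * y) * h2
  · apply Subtype.ext
    show (g : MF) * !![l * x, l * (a * x + b * y); l * y, l * (c * x + d * y)] =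
      !![l * x, l * (a * x + b * y); l * y, l * (c * x + d * y)] * !![0, 1; 1, 1]
    rw [hg]
    rw [Matrix.mul_fin_two, Matrix.mul_fin_two]
    have e1 : a * (l * (a * x + b * y)) + b * (l * (c * x + d * y)) =
        l * x * 1 + l * (a * x + b * y) * 1 := by
      linear_combination (l * a * x + l * b * y) * htr - (l * x) * hdet - (l * x) * h2
    have e2 : c * (l * (a * x + b * y)) + d * (l * (c * x + d * y)) =
        l * y * 1 + l * (c * x + d * y) * 1 := by
      linear_combination (l * c * x + l * d * y) * htr - (l * y) * hdet - (l * y) * h2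
    rw [e1, e2]
    congr 1
    ring_nf

theorem conj_of_tr_aux_exists [Finite F] (g : SF) (h : tr g = 1) :
    ∃ k : SF, g * k = k * conj_of_tr_aux_J := by
  have hchar : ringChar F = 2 := ringChar.eq F 2
  have key : ∀ x y : F, (g : MF) 1 0 * x * x + x * y + (g : MF) 0 1 * y * y ≠ 0 →
      ∃ k : SF, g * k = k * conj_of_tr_aux_J := by
    intro x y hD
    obtain ⟨l, hl⟩ := FiniteField.isSquare_of_char_two hchar
      ((g : MF) 1 0 * x * x + x * y + (g : MF) 0 1 * y * y)⁻¹
    apply conj_of_tr_aux_key g h x y l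
    rw [← hl]
    exact inv_mul_cancel₀ hD
  by_cases hc : (g : MF) 1 0 = 0
  · by_cases hb : (g : MF) 0 1 = 0
    · apply key 1 1
      rw [hc, hb]
      simp
    · apply key 0 1
      simpa using hb
  · apply key 1 0
    simpa using hc

/-- D3 -/
theorem conj_of_tr [Finite F] (g₁ g₂ : SF) (h₁ : tr g₁ = 1) (h₂ : tr g₂ = 1) :
    ∃ k : SF, g₂ = k * g₁ * k⁻¹ := by
  obtain ⟨k₁, hk₁⟩ := conj_of_tr_aux_exists g₁ h₁
  obtain ⟨k₂, hk₂⟩ := conj_of_tr_aux_exists g₂ h₂
  refine ⟨k₂ * k₁⁻¹, ?_⟩
  have e1 : g₁ = k₁ * conj_of_tr_aux_J * k₁⁻¹ := by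
    rw [← hk₁]; group
  have e2 : g₂ = k₂ * conj_of_tr_aux_J * k₂⁻¹ := by
    rw [← hk₂]; group
  rw [e2, e1]
  group

end groups

end Cfsg.Agent.S3050P
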