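import Mathlib
import Cfsg.Agent.Helper18.ZStar5
import Cfsg.Agent.Helper7.PPrimeCore
import Cfsg.Agent.Helper19.Cores

/-!
# S3067 piece END: Glauberman's Z* in the quotient `Γ ⧸ N`

Board `s3067pieces`, row END (driver helper24).  The image of `t` in `Γ ⧸ N` is an isolated involution,
so it is central modulo `O(Γ ⧸ N)` by the Z*-theorem (`Cfsg.Agent.Helper18.ZS.zstar`); `M` is the preimage of
`O(Γ ⧸ N)`.
-/

set_option autoImplicit false

namespace Cfsg.Agent.S3067P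

open Cfsg

/-- In a group, if `c` and `b` are involutions and `o = c * b` has odd order `k`, then with
`x = o ^ ((k+1)/2)` one has `x⁻¹ * c * x = b`. -/
theorem END.aux_half {Q : Type*} [Group Q] (c b : Q) (hc : c * c = 1) (hb : b * b = 1)
    (hodd : Odd (orderOf (c * b))) :
    ((c * b) ^ ((orderOf (c * b) + 1) / 2))⁻¹ * c * ((c * b) ^ ((orderOf (c * b) + 1) / 2)) = b := by
  set o := c * b with ho
  set k := orderOf o with hk
  set x := o ^ ((k + 1) / 2) with hx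
  have hbinv : b⁻¹ = b := inv_eq_of_mul_eq_one_right hb
  have hcinv : c⁻¹ = c := inv_eq_of_mul_eq_one_right hc
  -- b inverts o
  have hinv : b * o * b = o⁻¹ := by
    rw [ho, mul_inv_rev, hbinv, hcinv]
    calc b * (c * b) * b = b * c * (b * b) := by group
      _ = b * c := by rw [hb, mul_one]
  -- b inverts every power of o
  have hinvpow : ∀ n : ℕ, b * o ^ n * b = (o ^ n)⁻¹ := by
    intro n
    induction n with
    | zero => simp [hb]
    | succ n ih =>
      calc b * o ^ (n + 1) * b = (b * o ^ n * b) * (b * o * b) := by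
            rw [pow_succ]
            calc b * (o ^ n * o) * b = b * o ^ n * 1 * o * b := by group
              _ = b * o ^ n * (b * b) * o * b := by rw [hb]
              _ = (b * o ^ n * b) * (b * o * b) := by group
        _ = (o ^ n)⁻¹ * o⁻¹ := by rw [ih, hinv]
        _ = (o ^ (n + 1))⁻¹ := by
            rw [pow_succ']
            exact (mul_inv_rev o (o ^ n)).symm
  have hxx : x * x = o := by
    rw [hx, ← pow_add]
    obtain ⟨j, hj⟩ := hodd
    have h2 : (k + 1) / 2 + (k + 1) / 2 = k + 1 := by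
      omega
    rw [h2, pow_succ, hk, pow_orderOf_eq_one, one_mul]
  have hbx : b * x * b = x⁻¹ := hinvpow _
  -- c = o * b
  have hco : c = o * b := by
    rw [ho, mul_assoc, hb, mul_one]
  have hbxb : x * b = b * x⁻¹ := by
    have : b * (b * x * b) = b * x⁻¹ := by rw [hbx]
    calc x * b = (b * b) * x * b := by rw [hb, one_mul]
      _ = b * (b * x * b) := by group
      _ = b * x⁻¹ := this
  calc x⁻¹ * c * x = x⁻¹ * (o * b) * x := by rw [hco]
    _ = x⁻¹ * (x * x * b) * x := by rw [hxx]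
    _ = x * (b * x) := by group
    _ = x * (x⁻¹ * b) := by
        have : b * x = x⁻¹ * b := by
          have h3 : x⁻¹ * (x * b) = x⁻¹ * (b * x⁻¹) := by rw [hbxb]
          have h4 : b = x⁻¹ * b * x⁻¹ := by
            calc b = x⁻¹ * (x * b) := by group
              _ = x⁻¹ * (b * x⁻¹) := h3
              _ = x⁻¹ * b * x⁻¹ := by group
          calc b * x = (x⁻¹ * b * x⁻¹) * x := by rw [← h4]
            _ = x⁻¹ * b := by group
        rw [this]
    _ = b := by group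

/-- END: Glauberman's Z* in the quotient `Γ ⧸ N`. -/
theorem END {Γ : Type*} [Group Γ] [Finite Γ] (N : Subgroup Γ) [N.Normal] (t : Γ) (ht2 : t * t = 1)
    (htN : t ∉ N) (φ : Γ ≃* Γ) (hφN : ∀ n ∈ N, φ n ∈ N) (hφt : φ t = t)
    (hiso : ∀ g : Γ, (g * t * g⁻¹) * t * (g * t * g⁻¹)⁻¹ * t⁻¹ ∈ N → (g * t * g⁻¹) * t⁻¹ ∈ N) :
    ∃ M : Subgroup Γ, M.Normal ∧ (∃ m : ℕ, Odd m ∧ ∀ x ∈ M, x ^ m ∈ N) ∧ (∀ x ∈ M, φ x ∈ M) ∧
      ∀ g : Γ, ∃ x ∈ M, (x⁻¹ * g) * t * (x⁻¹ * g)⁻¹ * t⁻¹ ∈ N := by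
  classical
  let π : Γ →* Γ ⧸ N := QuotientGroup.mk' N
  have hπ1 : ∀ x : Γ, π x = 1 ↔ x ∈ N := fun x => QuotientGroup.eq_one_iff x
  have hπsurj : Function.Surjective π := QuotientGroup.mk'_surjective N
  set tb : Γ ⧸ N := π t with htb
  have htb_ne : tb ≠ 1 := fun h => htN ((hπ1 t).mp h)
  have htb2 : tb * tb = 1 := by rw [htb, ← map_mul, ht2, map_one]
  have htbinv : tb⁻¹ = tb := inv_eq_of_mul_eq_one_right htb2
  have hord : orderOf tb = 2 := orderOf_eq_prime (by rw [pow_two]; exact htb2) htb_ne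
  have hisoQ : IsIsolatedInvolution tb := by
    refine ⟨hord, ?_⟩
    intro q hq
    obtain ⟨g, rfl⟩ := hπsurj q
    have h1 : (g * t * g⁻¹) * t * (g * t * g⁻¹)⁻¹ * t⁻¹ ∈ N := by
      rw [← hπ1]
      simp only [map_mul, map_inv]
      rw [← htb]
      have hq' : tb * (π g * tb * (π g)⁻¹) = (π g * tb * (π g)⁻¹) * tb := hq
      calc π g * tb * (π g)⁻¹ * tb * (π g * tb * (π g)⁻¹)⁻¹ * tb⁻¹
          = (π g * tb * (π g)⁻¹ * tb) * (π g * tb * (π g)⁻¹)⁻¹ * tb⁻¹ := by group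
        _ = (tb * (π g * tb * (π g)⁻¹)) * (π g * tb * (π g)⁻¹)⁻¹ * tb⁻¹ := by rw [hq']
        _ = 1 := by group
    have h2 := hiso g h1
    rw [← hπ1] at h2
    simp only [map_mul, map_inv] at h2
    rw [← htb] at h2
    calc π g * tb * (π g)⁻¹ = (π g * tb * (π g)⁻¹ * tb⁻¹) * tb := by group
      _ = tb := by rw [h2, one_mul]
  have hZ : InZStar 2 tb := Cfsg.Agent.Helper18.ZS.zstar tb hisoQ
  have hOn : (pPrimeCore 2 (Γ ⧸ N)).Normal := inferInstance
  have hcop : (Nat.card (pPrimeCore 2 (Γ ⧸ N))).Coprime 2 :=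
    Cfsg.Agent.Helper19.pPrimeCore_coprime 2
  have hoddcard : Odd (Nat.card (pPrimeCore 2 (Γ ⧸ N))) := by
    rw [Nat.odd_iff]
    have := Nat.Coprime.eq_one_of_dvd hcop.symm
    by_contra h
    have h0 : Nat.card (pPrimeCore 2 (Γ ⧸ N)) % 2 = 0 := by omega
    have : (2 : ℕ) ∣ Nat.card (pPrimeCore 2 (Γ ⧸ N)) := Nat.dvd_of_mod_eq_zero h0
    have := Nat.Coprime.eq_one_of_dvd hcop.symm this
    omega
  have hpowcard : ∀ y ∈ pPrimeCore 2 (Γ ⧸ N), y ^ Nat.card (pPrimeCore 2 (Γ ⧸ N)) = 1 := by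
    intro y hy
    have h1 : orderOf (⟨y, hy⟩ : pPrimeCore 2 (Γ ⧸ N)) ∣ Nat.card (pPrimeCore 2 (Γ ⧸ N)) :=
      orderOf_dvd_natCard _
    rw [Subgroup.orderOf_mk] at h1
    exact orderOf_dvd_iff_pow_eq_one.mp h1
  refine ⟨(pPrimeCore 2 (Γ ⧸ N)).comap π, inferInstance, ⟨Nat.card (pPrimeCore 2 (Γ ⧸ N)), hoddcard, ?_⟩, ?_, ?_⟩
  · intro x hx
    rw [← hπ1, map_pow]
    exact hpowcard _ hx
  · -- φ-invariance
    have hmap : N.map φ.toMonoidHom = N := by
      apply Subgroup.eq_of_le_of_card_ge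
      · rintro _ ⟨n, hn, rfl⟩
        exact hφN n hn
      · exact le_of_eq (Nat.card_congr (N.equivMapOfInjective φ.toMonoidHom φ.injective).toEquiv)
    let φb : Γ ⧸ N ≃* Γ ⧸ N := QuotientGroup.congr N N φ hmap
    have hφb : ∀ x : Γ, φb (π x) = π (φ x) := fun x => QuotientGroup.congr_mk N N φ hmap x
    have hchar := Cfsg.Agent.Helper7.pPrimeCore_map_equiv 2 φb
    intro x hx
    show π (φ x) ∈ pPrimeCore 2 (Γ ⧸ N)
    rw [← hφb, ← hchar]
    exact ⟨π x, hx, rfl⟩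
  · intro g
    set c : Γ ⧸ N := π g * tb * (π g)⁻¹ with hc
    have hcc : c * c = 1 := by
      rw [hc]
      calc π g * tb * (π g)⁻¹ * (π g * tb * (π g)⁻¹) = π g * (tb * tb) * (π g)⁻¹ := by group
        _ = 1 := by rw [htb2]; group
    have ho : c * tb ∈ pPrimeCore 2 (Γ ⧸ N) := by
      have := hZ (π g)
      rw [htbinv] at this
      exact this
    have hoodd : Odd (orderOf (c * tb)) := by
      have hdvd : orderOf (c * tb) ∣ Nat.card (pPrimeCore 2 (Γ ⧸ N)) :=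
        orderOf_dvd_of_pow_eq_one (hpowcard _ ho)
      exact Odd.of_dvd_nat hoddcard hdvd
    have hkey := END.aux_half c tb hcc htb2 hoodd
    set xb : Γ ⧸ N := (c * tb) ^ ((orderOf (c * tb) + 1) / 2) with hxb
    have hxbO : xb ∈ pPrimeCore 2 (Γ ⧸ N) := Subgroup.pow_mem _ ho _
    obtain ⟨x, hx⟩ := hπsurj xb
    refine ⟨x, ?_, ?_⟩
    · show π x ∈ pPrimeCore 2 (Γ ⧸ N)
      rw [hx]; exact hxbO
    · rw [← hπ1]
      simp only [map_mul, map_inv, mul_inv_rev, inv_inv]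
      rw [hx, ← htb, htbinv]
      calc xb⁻¹ * π g * tb * ((π g)⁻¹ * xb) * tb
          = (xb⁻¹ * (π g * tb * (π g)⁻¹) * xb) * tb := by group
        _ = tb * tb := by rw [← hc, hkey]
        _ = 1 := htb2

end Cfsg.Agent.S3067P
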