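import Mathlib
import Cfsg.Agent.Helper16.S3174Defs
import Cfsg.Agent.Helper27.S3174FIXPT

/-! # S3174, piece CENRED (board `s3174pieces`) -/

set_option autoImplicit false

namespace Cfsg.Agent.S3174P

open scoped commutatorElement

variable {T : Type*} [Group T] [Finite T]

/-- CENRED -/
theorem cen_red {W : Subgroup T} (c : Cfg T W) (h : Nat.card ↥(Subgroup.center ↥W) ≠ 8) :
    ∃ n : T, n ∈ Zi T 4 ∧ n ∉ Zi T 3 ∧ n ∈ W ∧ ∀ y ∈ W, ⁅n, y⁆ = 1 := by
  have : Fact (Nat.Prime 2) := ⟨Nat.prime_two⟩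
  have hnW := c.nW
  set C : Subgroup T := (Subgroup.center ↥W).map W.subtype with hC
  have hmemC : ∀ y : T, y ∈ C ↔ y ∈ W ∧ ∀ w ∈ W, w * y = y * w := by
    intro y
    constructor
    · rintro ⟨⟨y', hy'W⟩, hy', rfl⟩
      refine ⟨hy'W, fun w hw => ?_⟩
      have := Subgroup.mem_center_iff.mp hy' ⟨w, hw⟩
      exact congrArg Subtype.val this
    · rintro ⟨hyW, hy⟩
      refine ⟨⟨y, hyW⟩, ?_, rfl⟩
      show (⟨y, hyW⟩ : ↥W) ∈ Subgroup.center ↥W
      rw [Subgroup.mem_center_iff]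
      rintro ⟨w, hw⟩
      exact Subtype.ext (hy w hw)
  have hZC : Zi T 3 ≤ C := by
    intro z hz
    rw [hmemC]
    refine ⟨c.ZW hz, fun w hw => ?_⟩
    rw [c.hW, Subgroup.mem_centralizer_iff] at hw
    exact (hw z hz).symm
  have hcardC : Nat.card ↥C = Nat.card ↥(Subgroup.center ↥W) :=
    Subgroup.card_map_of_injective W.subtype_injective
  have hlt : Zi T 3 < C := by
    refine lt_of_le_of_ne hZC ?_
    intro heq
    apply h
    rw [← hcardC, ← heq, c.c3]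
  have hCn : ∀ g ∈ (⊤ : Subgroup T), ∀ y ∈ C, g * y * g⁻¹ ∈ C := by
    intro g _ y hy
    rw [hmemC] at hy ⊢
    obtain ⟨hyW, hyc⟩ := hy
    refine ⟨hnW.conj_mem y hyW g, fun w hw => ?_⟩
    have hw' : g⁻¹ * w * g ∈ W := by
      have := hnW.conj_mem w hw g⁻¹
      simpa using this
    have := hyc _ hw'
    calc w * (g * y * g⁻¹) = g * ((g⁻¹ * w * g) * y) * g⁻¹ := by group
      _ = g * (y * (g⁻¹ * w * g)) * g⁻¹ := by rw [this]
      _ = g * y * g⁻¹ * w := by group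
  obtain ⟨y, hyC, hyZ, hy⟩ := exists_fixed_mod c.hT (Zi T 3) C ⊤ hlt hCn
  have hyC' := (hmemC y).mp hyC
  refine ⟨y, ?_, hyZ, hyC'.1, fun w hw => ?_⟩
  · show y ∈ Subgroup.upperCentralSeries T (3 + 1)
    rw [Subgroup.mem_upperCentralSeries_succ_iff]
    intro g
    have h1 := hy g (Subgroup.mem_top g)
    have h2 : ⁅y, g⁆ = (⁅g, y⁆)⁻¹ := by
      simp only [commutatorElement_def]; group
    rw [h2]
    exact (Zi T 3).inv_mem h1
  · have := hyC'.2 w hw
    rw [commutatorElement_def]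
    calc y * w * y⁻¹ * w⁻¹ = (y * w) * y⁻¹ * w⁻¹ := by group
      _ = (w * y) * y⁻¹ * w⁻¹ := by rw [this]
      _ = 1 := by group

end Cfsg.Agent.S3174P
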