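import Mathlib
import Cfsg.Agent.Helper16.S3174Defs
import Cfsg.Agent.Helper21.S3174AVOID

/-! # S3174, piece NOSMALL (board `s3174pieces`) -/

set_option autoImplicit false

namespace Cfsg.Agent.S3174P

open scoped commutatorElement

variable {T : Type*} [Group T] [Finite T]

/-- NOSMALL -/
theorem no_small {W : Subgroup T} (c : Cfg T W) (U' : Subgroup T) (hU'W : U' ≤ W) (hZ : Zi T 3 ≤ U')
    (hcard : 2 ^ 8 ≤ Nat.card ↥U') (hsq : ∀ y ∈ U', y ^ 2 ∈ Zi T 2) : False := by
  have h23 : Zi T 2 ≤ Zi T 3 := Subgroup.upperCentralSeries_mono T (by norm_num)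
  -- an element of `Z_3 ∖ Z_2`
  obtain ⟨z, hz3, hz2⟩ : ∃ z ∈ Zi T 3, z ∉ Zi T 2 := by
    by_contra hcon
    push Not at hcon
    have hle : Zi T 3 ≤ Zi T 2 := hcon
    have := Subgroup.card_le_of_le hle
    rw [c.c3, c.c2] at this
    omega
  obtain ⟨U, hUU', hrel, hzU⟩ :=
    exists_index_two_avoiding c.hT U' (Zi T 2) (h23.trans hZ) hsq z (hZ hz3) hz2
  have hUW : U ≤ W := hUU'.trans hU'W
  have h1 : U.relIndex W = U.relIndex U' * U'.relIndex W :=
    (Subgroup.relIndex_mul_relIndex U U' W hUU' hU'W).symm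
  have h2 : U'.relIndex W * Nat.card ↥U' = Nat.card ↥W := by
    have := Subgroup.relIndex_mul_relIndex (⊥ : Subgroup T) U' W bot_le hU'W
    rw [Subgroup.relIndex_bot_left, Subgroup.relIndex_bot_left] at this
    rw [mul_comm]
    exact this
  have h3 : U'.relIndex W ≤ 8 := by
    rw [c.cW] at h2
    by_contra hcon
    push Not at hcon
    have : 9 * 2 ^ 8 ≤ U'.relIndex W * Nat.card ↥U' := Nat.mul_le_mul hcon hcard
    omega
  have h4 : U.relIndex W ≤ 16 := by
    rw [h1, hrel]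
    omega
  exact hzU (c.hd U hUW h4 hz3)

end Cfsg.Agent.S3174P
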