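import Mathlib

/-!
# S3222 piece A6A (board `s3222pieces`, driver helper12)

`A₆` has a simple subgroup of index 6: the image of `A₅` under the embedding induced by
`Fin.castSucc : Fin 5 ↪ Fin 6`, transported along the given isomorphism.
-/

set_option autoImplicit false

namespace Cfsg.Agent.S3222P

open Equiv

/-- The embedding `A₅ → A₆` induced by `Fin.castSuccEmb`. -/
noncomputable def A6A.aux_emb : ↥(alternatingGroup (Fin 5)) →* ↥(alternatingGroup (Fin 6)) :=
  ((Perm.viaEmbeddingHom (Fin.castSuccEmb (n := 5))).comp (alternatingGroup (Fin 5)).subtype).codRestrict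
    (alternatingGroup (Fin 6)) (by
      intro x
      rw [Equiv.Perm.mem_alternatingGroup]
      have hx : Perm.sign (x : Perm (Fin 5)) = 1 := Equiv.Perm.mem_alternatingGroup.mp x.2
      show Perm.sign (Perm.viaEmbedding (x : Perm (Fin 5)) (Fin.castSuccEmb (n := 5))) = 1
      unfold Perm.viaEmbedding
      rw [Perm.sign_extendDomain, hx])

theorem A6A.aux_emb_injective : Function.Injective A6A.aux_emb := by
  intro x y h
  have h1 : (A6A.aux_emb x : Perm (Fin 6)) = (A6A.aux_emb y : Perm (Fin 6)) := by rw [h]
  have h2 : Perm.viaEmbeddingHom (Fin.castSuccEmb (n := 5)) (x : Perm (Fin 5)) =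
      Perm.viaEmbeddingHom (Fin.castSuccEmb (n := 5)) (y : Perm (Fin 5)) := h1
  exact Subtype.ext (Perm.viaEmbeddingHom_injective _ h2)

/-! ## A6A (M): `A₆` has a simple subgroup of index 6 -/
theorem A6A {M : Type*} [Group M] (f : M ≃* ↥(alternatingGroup (Fin 6))) :
    ∃ A : Subgroup M, A.index = 6 ∧ IsSimpleGroup ↥A := by
  classical
  have : Finite M := Finite.of_equiv _ f.symm.toEquiv
  let ψ : ↥(alternatingGroup (Fin 5)) →* M := f.symm.toMonoidHom.comp A6A.aux_emb
  have hψ : Function.Injective ψ := f.symm.injective.comp A6A.aux_emb_injective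
  refine ⟨ψ.range, ?_, ?_⟩
  · have hM : Nat.card M = 360 := by
      rw [Nat.card_congr f.toEquiv, nat_card_alternatingGroup]
      simp [Nat.factorial]
    have hA : Nat.card ↥ψ.range = 60 := by
      rw [← Nat.card_congr (MonoidHom.ofInjective hψ).toEquiv, nat_card_alternatingGroup]
      simp [Nat.factorial]
    have h := Subgroup.index_mul_card ψ.range
    rw [hM, hA] at h
    omega
  · have := alternatingGroup.isSimpleGroup_five
    exact (MonoidHom.ofInjective hψ).symm.isSimpleGroup

end Cfsg.Agent.S3222P
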