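import Mathlib

/-!
# S3401 (Aschbacher): definitions shared by the pieces

A doubly transitive group of degree `n ≡ 2 (mod 4)`, `n > 2`: every non-trivial normal
subgroup is doubly transitive.  All subgroups below are subgroups of the ambient group `G`;
Sylow 2-subgroups are described by cardinality (`IsSyl2`).
-/

set_option autoImplicit false

namespace Cfsg.Agent.S3401P

/-- `P` is a Sylow 2-subgroup of `X` (both are subgroups of the ambient group), by cardinality. -/
def IsSyl2 {G : Type*} [Group G] (X P : Subgroup G) : Prop :=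
  P ≤ X ∧ Nat.card P = 2 ^ (Nat.card X).factorization 2

/-- The set of points of `Ω` fixed by every element of the subgroup `Q`. -/
def Fix {G : Type*} [Group G] (Ω : Type*) [MulAction G Ω] (Q : Subgroup G) : Set Ω :=
  {γ | ∀ s ∈ Q, s • γ = γ}

/-- Standing hypotheses: `G` is 2-transitive of degree `≡ 2 (mod 4)`, `M` is a normal
subgroup of `G` that is transitive on `Ω`. -/
structure Hyp {G : Type*} [Group G] (Ω : Type*) [Fintype Ω] [MulAction G Ω]
    (M : Subgroup G) : Prop where
  h2 : MulAction.IsMultiplyPretransitive G Ω 2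
  hn : Fintype.card Ω % 4 = 2
  hnormal : M.Normal
  htr : ∀ a b : Ω, ∃ m ∈ M, m • a = b

/-- `Q ≤ S` are Sylow 2-subgroups of `M_a ≤ M` (so `Q` has index 2 in `S`) and `t ∈ S \ Q`. -/
structure Config {G : Type*} [Group G] {Ω : Type*} [MulAction G Ω]
    (M : Subgroup G) (a : Ω) (Q S : Subgroup G) (t : G) : Prop where
  hQ : IsSyl2 (M ⊓ MulAction.stabilizer G a) Q
  hS : IsSyl2 M S
  hQS : Q ≤ S
  htS : t ∈ S
  htQ : t ∉ Q
  htN : t ∈ Subgroup.normalizer (Q : Set G)
  htt : t * t ∈ Q
  hcov : ∀ s ∈ S, s ∈ Q ∨ t⁻¹ * s ∈ Q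
  hta : t • a ≠ a

end Cfsg.Agent.S3401P
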