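import Mathlib
import Cfsg.Agent.Helper1.S3401Defs
import Cfsg.Agent.Helper16.S3401SYL
import Cfsg.Agent.Helper3.S3401TFIX
import Cfsg.Agent.Helper6.S3401SIGN
import Cfsg.Agent.Helper7.S3401WITT
import Cfsg.Agent.Helper29.S3401LTRANS
import Cfsg.Agent.Helper23.S3401FCARD

set_option autoImplicit false

namespace Cfsg.Agent.S3401P

/-- The normalizer of `Q` preserves `Fix Q`. -/
theorem FIX2.aux_smul_mem {G : Type*} [Group G] {Ω : Type*} [MulAction G Ω] {Q : Subgroup G} {g : G} (hg : g ∈ Subgroup.normalizer (Q : Set G))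
    {γ : Ω} (hγ : γ ∈ Fix Ω Q) : g • γ ∈ Fix Ω Q := by
  intro s hs
  have h1 : g⁻¹ * s * g ∈ Q := (Subgroup.mem_normalizer_iff''.mp hg s).mp hs
  have h2 : (g⁻¹ * s * g) • γ = γ := hγ _ h1
  calc s • g • γ = g • (g⁻¹ * s * g) • γ := by simp [mul_smul]
    _ = g • γ := by rw [h2]

/-- The action of the normalizer of `Q` on `Fix Q`. -/
def FIX2.aux_sub {G : Type*} [Group G] (Ω : Type*) [MulAction G Ω] (Q : Subgroup G) :
    SubMulAction ↥(Subgroup.normalizer (Q : Set G)) Ω where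
  carrier := Fix Ω Q
  smul_mem' := fun g _ hγ => FIX2.aux_smul_mem g.2 hγ

variable {G : Type*} [Group G] [Finite G] {Ω : Type*} [Fintype Ω] [MulAction G Ω]

omit [Fintype Ω] [MulAction G Ω] in
/-- An element of `M_a` normalizing the Sylow 2-subgroup `Q` of `M_a` has an odd power in `Q`. -/
theorem FIX2.aux_odd_pow {X Q : Subgroup G} (hQ : IsSyl2 X Q) {u : G} (huX : u ∈ X)
    (huN : u ∈ Subgroup.normalizer (Q : Set G)) : ∃ k : ℕ, Odd k ∧ u ^ k ∈ Q := by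
  have ho : orderOf u ≠ 0 := (orderOf_pos u).ne'
  obtain ⟨j, k, hk, hjk⟩ := Nat.exists_eq_two_pow_mul_odd ho
  refine ⟨k, hk, ?_⟩
  set v := u ^ k with hv
  have hvN : v ∈ Subgroup.normalizer (Q : Set G) := Subgroup.pow_mem _ huN k
  have hvX : v ∈ X := Subgroup.pow_mem _ huX k
  have hv2 : v ^ (2 ^ j) = 1 := by
    rw [hv, ← pow_mul, mul_comm, ← hjk, pow_orderOf_eq_one]
  have hZ : IsPGroup 2 (Subgroup.zpowers v) := by
    intro ⟨w, hw⟩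
    obtain ⟨i, rfl⟩ := Subgroup.mem_zpowers_iff.mp hw
    refine ⟨j, ?_⟩
    apply Subtype.ext
    simp only [Subgroup.coe_pow, Subgroup.coe_one]
    rw [← zpow_natCast, ← zpow_mul, mul_comm, zpow_mul, zpow_natCast, hv2, one_zpow]
  have hR : IsPGroup 2 (Q ⊔ Subgroup.zpowers v : Subgroup G) := by
    apply IsPGroup.to_sup_of_normal_left' (SYL.isPGroup hQ) hZ
    rw [Subgroup.zpowers_le]
    exact hvN
  have hRX : (Q ⊔ Subgroup.zpowers v : Subgroup G) ≤ X :=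
    sup_le hQ.1 (by rw [Subgroup.zpowers_le]; exact hvX)
  have hdvd := SYL.card_dvd hQ hRX hR
  have hle : Q ≤ Q ⊔ Subgroup.zpowers v := le_sup_left
  have hcard : Nat.card (Q ⊔ Subgroup.zpowers v : Subgroup G) ≤ Nat.card Q :=
    Nat.le_of_dvd Nat.card_pos hdvd
  have heq : Q = Q ⊔ Subgroup.zpowers v := Subgroup.eq_of_le_of_card_ge hle hcard
  rw [heq]
  exact (le_sup_right : Subgroup.zpowers v ≤ Q ⊔ Subgroup.zpowers v) (Subgroup.mem_zpowers v)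

/-- FIX2: `Q` fixes exactly the two points `a` and `t • a`. -/
theorem FIX2 {M : Subgroup G} (h : Hyp Ω M) {a : Ω} {Q S : Subgroup G} {t : G}
    (c : Config M a Q S t) : Fix Ω Q = {a, t • a} := by
  classical
  obtain ⟨haF, htaF, htF⟩ := TFIX h c
  obtain ⟨f, hfodd, hfcard⟩ := FCARD h c
  let N := Subgroup.normalizer (Q : Set G)
  let FS := FIX2.aux_sub Ω Q
  have : Fintype ↥FS := Fintype.ofFinite _
  let ψ : ↥N →* ℤˣ := Equiv.Perm.sign.comp (MulAction.toPermHom ↥N ↥FS)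
  have hψQ : ∀ (s : G) (hs : s ∈ Q) (hsN : s ∈ N), ψ ⟨s, hsN⟩ = 1 := by
    intro s hs hsN
    have h1 : MulAction.toPermHom ↥N ↥FS ⟨s, hsN⟩ = 1 := by
      ext ⟨γ, hγ⟩
      exact hγ s hs
    show Equiv.Perm.sign (MulAction.toPermHom ↥N ↥FS ⟨s, hsN⟩) = 1
    rw [h1, map_one]
  have hψt : ψ ⟨t, c.htN⟩ = -1 := by
    have hcard : Fintype.card ↥FS = 2 * f := by
      rw [← Nat.card_eq_fintype_card]; exact hfcard
    have h1 := SIGN (MulAction.toPermHom ↥N ↥FS ⟨t, c.htN⟩)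
      (by
        rintro ⟨γ, hγ⟩ hEq
        exact (htF γ hγ).2.1 (congrArg Subtype.val hEq))
      (by
        rintro ⟨γ, hγ⟩
        apply Subtype.ext
        exact (htF γ hγ).2.2) f hcard
    show Equiv.Perm.sign (MulAction.toPermHom ↥N ↥FS ⟨t, c.htN⟩) = -1
    rw [h1, hfodd.neg_one_pow]
  have hL1 : ∀ (l : G) (hlM : l ∈ M) (hlN : l ∈ N), ψ ⟨l, hlN⟩ = 1 →
      ∀ γ ∈ Fix Ω Q, l • γ = γ := by
    intro l hlM hlN hψl γ hγ
    by_contra hne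
    have hlγ : l • γ ∈ Fix Ω Q := FIX2.aux_smul_mem hlN hγ
    obtain ⟨g, hgN, hg1, hg2⟩ :=
      WITT h c hγ hlγ haF htaF (Ne.symm hne) (Ne.symm c.hta)
    have hl'M : g * l * g⁻¹ ∈ M := h.hnormal.conj_mem l hlM g
    have hl'N : g * l * g⁻¹ ∈ N := N.mul_mem (N.mul_mem hgN hlN) (N.inv_mem hgN)
    have hψl' : ψ ⟨g * l * g⁻¹, hl'N⟩ = 1 := by
      have h1 : (⟨g * l * g⁻¹, hl'N⟩ : ↥N) = ⟨g, hgN⟩ * ⟨l, hlN⟩ * ⟨g, hgN⟩⁻¹ := rfl
      rw [h1, map_mul, map_mul, map_inv, hψl, mul_one, mul_inv_cancel]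
    have hga : g⁻¹ • a = γ := by rw [← hg1, inv_smul_smul]
    have hl'a : (g * l * g⁻¹) • a = t • a := by
      rw [mul_smul, mul_smul, hga, hg2]
    have huM : t⁻¹ * (g * l * g⁻¹) ∈ M := M.mul_mem (M.inv_mem (c.hS.1 c.htS)) hl'M
    have huN : t⁻¹ * (g * l * g⁻¹) ∈ N := N.mul_mem (N.inv_mem c.htN) hl'N
    have hua : (t⁻¹ * (g * l * g⁻¹)) • a = a := by rw [mul_smul, hl'a, inv_smul_smul]
    have hψu : ψ ⟨t⁻¹ * (g * l * g⁻¹), huN⟩ = -1 := by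
      have h1 : (⟨t⁻¹ * (g * l * g⁻¹), huN⟩ : ↥N) = ⟨t, c.htN⟩⁻¹ * ⟨g * l * g⁻¹, hl'N⟩ := rfl
      rw [h1, map_mul, map_inv, hψt, hψl']
      simp
    obtain ⟨k, hk, hukQ⟩ := FIX2.aux_odd_pow c.hQ
      (show t⁻¹ * (g * l * g⁻¹) ∈ M ⊓ MulAction.stabilizer G a from ⟨huM, hua⟩) huN
    have h1 : ψ ((⟨t⁻¹ * (g * l * g⁻¹), huN⟩ : ↥N) ^ k) = 1 := by
      have h2 : (⟨t⁻¹ * (g * l * g⁻¹), huN⟩ : ↥N) ^ k =
          ⟨(t⁻¹ * (g * l * g⁻¹)) ^ k, N.pow_mem huN k⟩ := rfl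
      rw [h2]
      exact hψQ _ hukQ _
    rw [map_pow, hψu, hk.neg_one_pow] at h1
    exact absurd h1 (by decide)
  ext γ
  simp only [Set.mem_insert_iff, Set.mem_singleton_iff]
  constructor
  · intro hγ
    obtain ⟨l, ⟨hlM, hlN⟩, hla⟩ := LTRANS h c hγ
    rcases Int.units_eq_one_or (ψ ⟨l, hlN⟩) with h1 | h1
    · left
      rw [← hla]
      exact hL1 l hlM hlN h1 a haF
    · right
      have hvM : t⁻¹ * l ∈ M := M.mul_mem (M.inv_mem (c.hS.1 c.htS)) hlM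
      have hvN : t⁻¹ * l ∈ N := N.mul_mem (N.inv_mem c.htN) hlN
      have hψv : ψ ⟨t⁻¹ * l, hvN⟩ = 1 := by
        have h2 : (⟨t⁻¹ * l, hvN⟩ : ↥N) = ⟨t, c.htN⟩⁻¹ * ⟨l, hlN⟩ := rfl
        rw [h2, map_mul, map_inv, hψt, h1]
        simp
      have h3 := hL1 (t⁻¹ * l) hvM hvN hψv a haF
      rw [mul_smul, hla] at h3
      rw [← h3, smul_inv_smul]
  · rintro (rfl | rfl)
    · exact haF
    · exact htaF

end Cfsg.Agent.S3401P
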