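import Mathlib
import Cfsg.Agent.Helper1.S3401Defs
import Cfsg.Agent.Helper11.S3401TRANS
import Cfsg.Agent.Helper26.S3401MAIN

set_option autoImplicit false

namespace Cfsg.Agent.S3401P

/-- Private copy of row TWOT: `M` is 2-transitive. -/
theorem ASM.aux_twot {G : Type*} [Group G] [Finite G] {Ω : Type*} [Fintype Ω] [MulAction G Ω]
    {M : Subgroup G} (h : Hyp Ω M) : MulAction.IsMultiplyPretransitive ↥M Ω 2 := by
  rw [MulAction.is_two_pretransitive_iff]
  intro a b c d hab hcd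
  obtain ⟨m₁, hm₁, hm₁a⟩ := h.htr a c
  have hb : m₁ • b ≠ c := by
    intro hEq
    apply hab
    have : m₁ • a = m₁ • b := by rw [hm₁a, hEq]
    exact smul_left_cancel m₁ this
  obtain ⟨m, hm, hmc, hmb⟩ := MAIN h c (m₁ • b) d hb (Ne.symm hcd)
  refine ⟨⟨m * m₁, M.mul_mem hm hm₁⟩, ?_, ?_⟩
  · show (m * m₁) • a = c
    rw [mul_smul, hm₁a, hmc]
  · show (m * m₁) • b = d
    rw [mul_smul, hmb]

/-- Private copy of row KEY. -/
theorem ASM.aux_key {G : Type*} [Group G] [Finite G] {Ω : Type*} [Fintype Ω] [MulAction G Ω]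
    [FaithfulSMul G Ω] (h2 : MulAction.IsMultiplyPretransitive G Ω 2)
    (hn : Fintype.card Ω % 4 = 2) (M : Subgroup G) [hMn : M.Normal] (hM : M ≠ ⊥) :
    MulAction.IsMultiplyPretransitive ↥M Ω 2 ∧ ∀ a b : Ω, ∃ m ∈ M, m • a = b := by
  have htr : ∀ a b : Ω, ∃ m ∈ M, m • a = b := fun a b => TRANS h2 M hM a b
  exact ⟨ASM.aux_twot ⟨h2, hn, hMn, htr⟩, htr⟩

/-- Private copy of row CENT: the centralizer of a non-trivial normal subgroup is trivial. -/
theorem ASM.aux_cent {G : Type*} [Group G] [Finite G] {Ω : Type*} [Fintype Ω] [MulAction G Ω]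
    [FaithfulSMul G Ω] (h2 : MulAction.IsMultiplyPretransitive G Ω 2)
    (hn : Fintype.card Ω % 4 = 2) (hn2 : 2 < Fintype.card Ω) (M : Subgroup G) [hMn : M.Normal]
    (hM : M ≠ ⊥) : Subgroup.centralizer (M : Set G) = ⊥ := by
  by_contra hC
  have hCn : (Subgroup.centralizer (M : Set G)).Normal := inferInstance
  obtain ⟨hC2, -⟩ := ASM.aux_key h2 hn (Subgroup.centralizer (M : Set G)) hC
  obtain ⟨-, hMtr⟩ := ASM.aux_key h2 hn M hM
  -- three distinct points
  obtain ⟨a, b, c, hab, hac, hbc⟩ := Fintype.two_lt_card_iff.mp hn2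
  obtain ⟨z, hza, hzb⟩ := (MulAction.is_two_pretransitive_iff.mp hC2) hab hac
  -- z fixes a and commutes with the transitive M, so z fixes b
  obtain ⟨m, hm, hmab⟩ := hMtr a b
  have hcomm : (z : G) * m = m * z := ((Subgroup.mem_centralizer_iff.mp z.2) m hm).symm
  have hza' : (z : G) • a = a := hza
  have hzb' : (z : G) • b = c := hzb
  have : (z : G) • b = b := by
    rw [← hmab, ← mul_smul, hcomm, mul_smul, hza']
  rw [this] at hzb'
  exact hbc hzb'

end Cfsg.Agent.S3401P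

namespace Cfsg.Agent.S3401P

/-- A 2-transitive group on more than two points is not trivial. -/
theorem ASM.aux_top_ne_bot {G : Type*} [Group G] {Ω : Type*} [Fintype Ω] [MulAction G Ω]
    (h2 : MulAction.IsMultiplyPretransitive G Ω 2) (hn2 : 2 < Fintype.card Ω) :
    (⊤ : Subgroup G) ≠ ⊥ := by
  intro htop
  have h1 : 1 < Fintype.card Ω := by omega
  obtain ⟨a, b, hab⟩ := Fintype.exists_pair_of_one_lt_card h1
  obtain ⟨g, hg, -⟩ := (MulAction.is_two_pretransitive_iff.mp h2) hab hab.symm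
  have hg1 : g ∈ (⊥ : Subgroup G) := htop ▸ Subgroup.mem_top g
  rw [Subgroup.mem_bot] at hg1
  rw [hg1, one_smul] at hg
  exact hab hg

/-- Part A: a minimal normal subgroup `M`, unique, 2-transitive, with trivial centralizer. -/
theorem ASM.partA {G : Type*} [Group G] [Finite G] {Ω : Type*} [Fintype Ω] [MulAction G Ω]
    [FaithfulSMul G Ω] (h2 : MulAction.IsMultiplyPretransitive G Ω 2)
    (hn : Fintype.card Ω % 4 = 2) (hn2 : 2 < Fintype.card Ω) :
    ∃ M : Subgroup G, M.Normal ∧ M ≠ ⊥ ∧ (∀ N : Subgroup G, N.Normal → N ≠ ⊥ → M ≤ N) ∧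
      MulAction.IsMultiplyPretransitive ↥M Ω 2 ∧ Subgroup.centralizer (M : Set G) = ⊥ ∧
      (∀ K : Subgroup G, K.Normal → K ≤ M → K = ⊥ ∨ K = M) := by
  classical
  -- a normal non-trivial subgroup of least cardinality
  have hex : ∃ k : ℕ, ∃ N : Subgroup G, N.Normal ∧ N ≠ ⊥ ∧ Nat.card N = k :=
    ⟨_, ⊤, inferInstance, ASM.aux_top_ne_bot h2 hn2, rfl⟩
  obtain ⟨M, hMn, hM, hMk⟩ := Nat.find_spec hex
  have hleast : ∀ N : Subgroup G, N.Normal → N ≠ ⊥ → Nat.card M ≤ Nat.card N := by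
    intro N hNn hN
    rw [hMk]
    exact Nat.find_min' hex ⟨N, hNn, hN, rfl⟩
  have := hMn
  have hcent : Subgroup.centralizer (M : Set G) = ⊥ := ASM.aux_cent h2 hn hn2 M hM
  have hmin : ∀ K : Subgroup G, K.Normal → K ≤ M → K = ⊥ ∨ K = M := by
    intro K hKn hKM
    by_cases hK : K = ⊥
    · exact Or.inl hK
    · exact Or.inr (Subgroup.eq_of_le_of_card_ge hKM (hleast K hKn hK))
  refine ⟨M, hMn, hM, ?_, (ASM.aux_key h2 hn M hM).1, hcent, hmin⟩
  intro N hNn hN
  have := hNn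
  have hMN : (M ⊓ N).Normal := inferInstance
  rcases hmin (M ⊓ N) hMN inf_le_left with h0 | h1
  · exfalso
    -- then N centralizes M
    have hdisj : Disjoint M N := disjoint_iff.mpr h0
    have hNC : N ≤ Subgroup.centralizer (M : Set G) := by
      intro x hx
      rw [Subgroup.mem_centralizer_iff]
      intro m hm
      exact (Subgroup.commute_of_normal_of_disjoint M N hMn hNn hdisj m x hm hx).eq
    rw [hcent] at hNC
    exact hN (le_bot_iff.mp hNC)
  · exact h1 ▸ inf_le_right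

/-- The minimal normal subgroup is simple. -/
theorem ASM.simple {G : Type*} [Group G] [Finite G] {Ω : Type*} [Fintype Ω] [MulAction G Ω]
    [FaithfulSMul G Ω] (hn : Fintype.card Ω % 4 = 2) (hn2 : 2 < Fintype.card Ω)
    (M : Subgroup G) [hMn : M.Normal] (hM : M ≠ ⊥)
    (hmin : ∀ K : Subgroup G, K.Normal → K ≤ M → K = ⊥ ∨ K = M)
    (hM2 : MulAction.IsMultiplyPretransitive ↥M Ω 2) : IsSimpleGroup ↥M := by
  obtain ⟨K₀, hK₀n, hK₀, hK₀le, -, -, -⟩ := ASM.partA (G := ↥M) hM2 hn hn2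
  -- `K₀` is invariant under conjugation by `G`
  have hinv : ∀ (g : G) (k : ↥M), k ∈ K₀ → MulAut.conjNormal g k ∈ K₀ := by
    intro g k hk
    -- K₀ ≤ image of K₀ under conjugation by g⁻¹
    have hφ : ∃ φ : ↥M ≃* ↥M, ∀ x : ↥M, ((φ x : ↥M) : G) = g⁻¹ * x * g := by
      refine ⟨MulAut.conjNormal g⁻¹, fun x => ?_⟩
      rw [MulAut.conjNormal_apply, inv_inv]
    obtain ⟨φ, hφ⟩ := hφ
    have hn' : (K₀.map φ.toMonoidHom).Normal := hK₀n.map _ φ.surjective
    have hne' : K₀.map φ.toMonoidHom ≠ ⊥ := by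
      intro h0
      exact hK₀ ((Subgroup.map_eq_bot_iff_of_injective K₀ φ.injective).mp h0)
    obtain ⟨k', hk', hkk'⟩ := hK₀le _ hn' hne' hk
    have h1 : MulAut.conjNormal g k = k' := by
      apply Subtype.ext
      have h2 : ((φ k' : ↥M) : G) = k := congrArg Subtype.val hkk'
      rw [hφ] at h2
      rw [MulAut.conjNormal_apply, ← h2]
      group
    rw [h1]
    exact hk'
  have hKn : (K₀.map M.subtype).Normal := by
    constructor
    intro x hx g
    obtain ⟨k, hk, rfl⟩ := hx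
    exact ⟨MulAut.conjNormal g k, hinv g k hk, by simp [MulAut.conjNormal_apply]⟩
  have hKM : K₀.map M.subtype ≤ M := by
    rintro x ⟨k, -, rfl⟩
    exact k.2
  have hKne : K₀.map M.subtype ≠ ⊥ := by
    intro h0
    rw [Subgroup.map_eq_bot_iff_of_injective _ M.subtype_injective] at h0
    exact hK₀ h0
  have hKeq : K₀.map M.subtype = M := (hmin _ hKn hKM).resolve_left hKne
  have hK₀top : K₀ = ⊤ := by
    rw [eq_top_iff]
    intro k _
    have hk : (k : G) ∈ K₀.map M.subtype := by rw [hKeq]; exact k.2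
    obtain ⟨k', hk', hkk'⟩ := hk
    have : k' = k := Subtype.ext hkk'
    exact this ▸ hk'
  have : Nontrivial ↥M := (Subgroup.nontrivial_iff_ne_bot M).mpr hM
  refine ⟨fun H hH => ?_⟩
  by_cases hHb : H = ⊥
  · exact Or.inl hHb
  · right
    rw [eq_top_iff, ← hK₀top]
    exact hK₀le H hH hHb

end Cfsg.Agent.S3401P
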