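import Mathlib
import Cfsg.Agent.Helper5.HHTk
import Cfsg.Agent.Helper11.S3786Defs

/-!
# Board `s3786pieces`, row CRITREL : the relative critical subgroup

Copy of the second half of `Helper5.HHT.exists_critical_subgroup`, with the minimal subgroup searched inside the given
`x`-invariant `q`-group `R`.
-/

set_option autoImplicit false

namespace Cfsg.Agent.S3786P

open Subgroup
open scoped commutatorElement

/-- A1. The relative critical subgroup (second half of `Helper5.HHT.exists_critical_subgroup`, with the minimal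
subgroup searched inside `R`). -/
theorem CRITREL {H : Type*} [Group H] [Finite H] (p : ℕ) [Fact p.Prime] (x : H) (n : ℕ) (hn : 1 ≤ n)
    (hx : orderOf x = p ^ n) (q : ℕ) (hq : q.Prime) (hqp : q ≠ p) (R : Subgroup H) (hR : IsPGroup q R)
    (hxR : x ∈ normalizer (R : Set H)) (hnc : x ^ (p ^ (n - 1)) ∉ centralizer (R : Set H)) :
    ∃ Qs : Subgroup H, Qs ≤ R ∧ Qs ≠ ⊥ ∧ x ∈ normalizer (Qs : Set H) ∧
      (∀ j, 0 < j → j < p ^ n → ∀ g ∈ Qs, x ^ j * g = g * x ^ j → ∀ h ∈ Qs, g * h = h * g) ∧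
      Qs ≤ closure {z | ∃ (i : ℕ), ∃ g ∈ Qs,
        z = (x ^ (p ^ (n - 1))) ^ i * g * ((x ^ (p ^ (n - 1))) ^ i)⁻¹ * g⁻¹} := by
  classical
  have hp := (Fact.out : p.Prime)
  have hxN : x ^ (p ^ n) = 1 := by rw [← hx]; exact pow_orderOf_eq_one x
  set y := x ^ (p ^ (n - 1)) with hy
  have hyp : y ^ p = 1 := by
    rw [hy, ← pow_mul, ← pow_succ, Nat.sub_add_cancel hn, hxN]
  have hy1 : y ≠ 1 := by
    apply pow_ne_one_of_lt_orderOf (pow_ne_zero _ hp.ne_zero)
    rw [hx]
    exact Nat.pow_lt_pow_right hp.one_lt (by omega)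
  have hyord : orderOf y = p := orderOf_eq_prime hyp hy1
  set B := zpowers x with hB
  set A := zpowers y with hA
  have hAB : A ≤ B := by
    rw [hA, zpowers_le]
    exact npow_mem_zpowers x _
  have hBcomm : ∀ b ∈ B, ∀ b' ∈ B, b * b' = b' * b := by
    intro b hb b' hb'
    have := mul_comm' (⟨b, hb⟩ : B) ⟨b', hb'⟩
    exact congrArg Subtype.val this
  have hBR : B ≤ normalizer (R : Set H) := by
    rw [hB, zpowers_le]; exact hxR
  have hAR : ¬ A ≤ centralizer (R : Set H) := fun h => hnc (h (mem_zpowers y))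
  have hqf : Fact q.Prime := ⟨hq⟩
  -- a minimal such subgroup
  have hex : ∃ c, ∃ R' : Subgroup H, R' ≤ R ∧ B ≤ normalizer (R' : Set H) ∧
      ¬ A ≤ centralizer (R' : Set H) ∧ Nat.card R' = c := ⟨_, R, le_rfl, hBR, hAR, rfl⟩
  obtain ⟨Qs, hQR, hBQ, hAQ, hQc⟩ := Nat.find_spec hex
  have hQq : IsPGroup q Qs := hR.to_le hQR
  have hQmin : ∀ U : Subgroup H, U < Qs → B ≤ normalizer (U : Set H) →
      A ≤ centralizer (U : Set H) := by
    intro U hU hBU
    by_contra hAU
    have hlt : Nat.card U < Nat.card Qs :=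
      lt_of_le_of_ne (card_le_of_le hU.le)
        (fun heq => hU.ne (eq_of_le_of_card_ge hU.le heq.ge))
    have := Nat.find_min' hex ⟨U, hU.le.trans hQR, hBU, hAU, rfl⟩
    omega
  have hcomm_iff : ∀ U : Subgroup H, ⁅U, A⁆ = ⊥ ↔ A ≤ centralizer (U : Set H) := by
    intro U
    rw [commutator_eq_bot_iff_le_centralizer, le_centralizer_iff]
  have hAn : B ≤ normalizer (A : Set H) := by
    intro b hb
    rw [mem_normalizer_iff]
    intro h
    constructor
    · intro hh
      have : b * h * b⁻¹ = h := by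
        rw [hBcomm b hb h (hAB hh), mul_assoc, mul_inv_cancel, mul_one]
      rw [this]; exact hh
    · intro hh
      have h2 : b⁻¹ * (b * h * b⁻¹) * b = b * h * b⁻¹ := by
        rw [hBcomm b⁻¹ (B.inv_mem hb) _ (hAB hh), mul_assoc, inv_mul_cancel, mul_one]
      have h3 : b⁻¹ * (b * h * b⁻¹) * b = h := by group
      rw [← h3, h2]; exact hh
  have hAp : (Nat.card A).Coprime q := by
    rw [hA, Nat.card_zpowers, hyord]
    exact (Nat.coprime_primes hp hq).mpr (Ne.symm hqp)
  obtain ⟨c1, c2, c3, -⟩ := Cfsg.Agent.S3736.result (p := q) B A Qs hQq hBQ hAB hAn hAp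
    (fun h => hAQ ((hcomm_iff Qs).mp h))
    (fun U hU hBU => (hcomm_iff U).mpr (hQmin U hU hBU))
  set Φ : Subgroup H := (frattini ↥Qs).map Qs.subtype with hΦ
  have hΦQ : Φ ≤ Qs := map_subtype_le _
  have hΦZ : ∀ z ∈ Φ, ∀ h ∈ Qs, z * h = h * z := by
    rintro _ ⟨z, hz, rfl⟩ h hh
    rcases c2 with ⟨hc, -⟩ | ⟨-, hfc, -⟩
    · have := mul_comm' z ⟨h, hh⟩
      exact congrArg Subtype.val this
    · rw [hfc] at hz
      have := (mem_center_iff.mp hz ⟨h, hh⟩).symm
      exact congrArg Subtype.val this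
  have hQne : Qs ≠ ⊥ := by
    rintro rfl
    apply hAQ
    intro a _
    rw [mem_centralizer_iff]
    intro h hh
    rw [SetLike.mem_coe, mem_bot] at hh
    rw [hh, one_mul, mul_one]
  -- the centraliser of `y` in `Qs`
  set Cs : Subgroup H := Qs ⊓ centralizer (A : Set H) with hCs
  have hBΦ : B ≤ normalizer (Φ : Set H) :=
    hBQ.trans (Cfsg.Agent.Lead.normalizer_le_normalizer_map_of_characteristic Qs (frattini ↥Qs))
  have hBcA : B ≤ normalizer ((centralizer (A : Set H) : Subgroup H) : Set H) := by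
    intro b hb
    have key : ∀ b ∈ B, ∀ g ∈ centralizer (A : Set H), b * g * b⁻¹ ∈ centralizer (A : Set H) := by
      intro b hb g hg
      rw [mem_centralizer_iff] at hg ⊢
      intro a ha
      have h1 : b⁻¹ * a * b = a := by
        rw [mul_assoc, ← hBcomm b hb a (hAB ha), ← mul_assoc, inv_mul_cancel, one_mul]
      calc a * (b * g * b⁻¹) = b * ((b⁻¹ * a * b) * g) * b⁻¹ := by group
        _ = b * (g * (b⁻¹ * a * b)) * b⁻¹ := by rw [h1, hg a ha]
        _ = b * g * b⁻¹ * a := by group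
    rw [mem_normalizer_iff]
    intro g
    constructor
    · exact key b hb g
    · intro hg
      have := key b⁻¹ (B.inv_mem hb) _ hg
      have e : b⁻¹ * (b * g * b⁻¹) * b⁻¹⁻¹ = g := by group
      rw [e] at this; exact this
  have hBCs : B ≤ normalizer (Cs : Set H) := by
    intro b hb
    rw [mem_normalizer_iff]
    intro g
    rw [hCs, mem_inf, mem_inf, ← mem_normalizer_iff.mp (hBQ hb) g,
      ← mem_normalizer_iff.mp (hBcA hb) g]
  have hBU : B ≤ normalizer ((Cs ⊔ Φ : Subgroup H) : Set H) := by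
    intro b hb
    rw [Cfsg.Agent.Helper19.mem_normalizer_iff_map_conj, Subgroup.map_sup,
      Cfsg.Agent.Helper19.mem_normalizer_iff_map_conj.mp (hBCs hb),
      Cfsg.Agent.Helper19.mem_normalizer_iff_map_conj.mp (hBΦ hb)]
  have hCsQ : Cs ≤ Qs := inf_le_left
  have hCsΦ : Cs ≤ Φ := by
    rcases c3 (Cs ⊔ Φ) le_sup_right (sup_le hCsQ hΦQ) hBU with h | h
    · rw [← h]; exact le_sup_left
    · exfalso
      -- then `Cs = Qs`
      have htop : (Cs.subgroupOf Qs) ⊔ frattini ↥Qs = ⊤ := by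
        rw [eq_top_iff]
        intro g _
        have hg : (g : H) ∈ Cs ⊔ Φ := by rw [h]; exact g.2
        have hle : Cs ⊔ Φ ≤ ((Cs.subgroupOf Qs) ⊔ frattini ↥Qs).map Qs.subtype := by
          rw [Subgroup.map_sup]
          refine sup_le_sup ?_ le_rfl
          intro c hc
          exact ⟨⟨c, hCsQ hc⟩, mem_subgroupOf.mpr hc, rfl⟩
        obtain ⟨g', hg', hgg'⟩ := hle hg
        have : g' = g := Subtype.ext hgg'
        rw [← this]; exact hg'
      have h2 := frattini_nongenerating htop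
      apply hAQ
      rw [← le_centralizer_iff]
      intro g hg
      have : (⟨g, hg⟩ : Qs) ∈ Cs.subgroupOf Qs := by rw [h2]; exact mem_top _
      exact (mem_subgroupOf.mp this).2
  refine ⟨Qs, hQR, hQne, hBQ (mem_zpowers x), ?_, ?_⟩
  · intro j hj0 hjn g hg hcomm h hh
    have hymem : y ∈ zpowers (x ^ j) := Cfsg.Agent.Helper5.HHT.pow_mem_zpowers_pow x p n hp hxN j hj0 hjn
    have hgy : ∀ a ∈ A, a * g = g * a := by
      intro a ha
      have ha' : a ∈ zpowers (x ^ j) := by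
        have : A ≤ zpowers (x ^ j) := by rw [hA, zpowers_le]; exact hymem
        exact this ha
      obtain ⟨i, rfl⟩ := mem_zpowers_iff.mp ha'
      have hc : Commute (x ^ j) g := hcomm
      exact (hc.zpow_left i)
    have hgCs : g ∈ Cs := ⟨hg, mem_centralizer_iff.mpr hgy⟩
    exact hΦZ g (hCsΦ hgCs) h hh
  · refine le_trans (le_of_eq c1.symm) ?_
    rw [Subgroup.commutator_def, closure_le]
    rintro _ ⟨g, hg, a, ha, rfl⟩
    obtain ⟨i, rfl⟩ : ∃ i : ℕ, y ^ i = a :=
      (Submonoid.mem_powers_iff _ _).mp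
        ((isOfFinOrder_of_finite y).mem_powers_iff_mem_zpowers.mpr ha)
    have hmem : y ^ i * g * (y ^ i)⁻¹ * g⁻¹ ∈ closure {z | ∃ (i : ℕ), ∃ g ∈ Qs,
        z = y ^ i * g * (y ^ i)⁻¹ * g⁻¹} := subset_closure ⟨i, g, hg, rfl⟩
    have heq : ⁅g, y ^ i⁆ = (y ^ i * g * (y ^ i)⁻¹ * g⁻¹)⁻¹ := by
      rw [commutatorElement_def]; group
    rw [SetLike.mem_coe, heq]
    exact inv_mem hmem

end Cfsg.Agent.S3786P
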