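import Mathlib
import Cfsg.Agent.Helper11.S3786Defs
import Cfsg.Agent.Helper2.S3786FRAT
import Cfsg.Agent.Helper3.S3786NonExc
import Cfsg.Agent.Helper5.HHTn
import Cfsg.Agent.S3784
import Cfsg.Agent.Helper21.ExpSix
import Cfsg.Agent.Lead.PSolvHall

/-!
# Board `s3786pieces`, row STEP1 (core): the key step of part (a)

`STEP1_aux1_core` (a duplicate of the official row `Helper11.S3786STEP1`, unused; aux names chosen not to clash) is STEP1 with the statement of the row LIFT as a hypothesis.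
-/

set_option autoImplicit false

namespace Cfsg.Agent.S3786P

open Subgroup

universe u

/-- `p ^ a = 2 ^ b + 1` with `p` an odd prime forces `p = 2 ^ k + 1`. -/
theorem STEP1_aux1_fermat {p a b : ℕ} (hp : p.Prime) (hp2 : p ≠ 2) (ha : 1 ≤ a) (hb : 1 ≤ b)
    (h : p ^ a = 2 ^ b + 1) : ∃ k : ℕ, p = 2 ^ k + 1 := by
  rcases Cfsg.Agent.S3784.result p 2 a b hp Nat.prime_two ha hb h with h1 | h1 | h1
  · exact absurd h1.1 hp2
  · exact ⟨b, h1.2.2.2⟩
  · refine ⟨1, ?_⟩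
    have h9 : p ∣ 3 ^ 2 := by
      have : p ∣ p ^ a := dvd_pow_self p (by omega)
      rw [h1.1] at this
      exact this
    have h3 : p ∣ 3 := hp.dvd_of_dvd_pow h9
    have := (Nat.prime_dvd_prime_iff_eq hp Nat.prime_three).mp h3
    rw [this]; norm_num

/-- E1 (core). -/
theorem STEP1_aux1_core {X : Type u} [Group X] [Finite X] {p : ℕ} [Fact p.Prime] (hp2 : p ≠ 2)
    (hsol : Cfsg.IsPSolvable p X) (hO : Cfsg.pPrimeCore p X = ⊥) (hne : NonExc p X) {n : ℕ}
    (hexp : ExpLE p (n + 1) X)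
    (hLIFT : ∀ (V : Type u) [AddCommGroup V] [Module (ZMod p) V]
      (π : ↥(Cfsg.pCore p X) →* Multiplicative V)
      (ρb : Representation (ZMod p) (X ⧸ Cfsg.pCore p X) V), FratData p V π ρb →
      ∀ (x : X) (m : ℕ), x ^ p ^ m ∈ Cfsg.pCore p X →
        (ρb (QuotientGroup.mk' (Cfsg.pCore p X) x) - 1) ^ (p ^ m - 1) ≠ 0 →
        ∃ g : X, (∃ k : ℕ, g ^ p ^ k = 1) ∧ g ^ p ^ m ≠ 1)
    (P : Sylow p X) (x : X) (hx : x ∈ (P : Subgroup X)) : x ^ p ^ n ∈ Cfsg.pCore p X := by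
  classical
  have hp := (Fact.out : p.Prime)
  by_contra hcon
  have hx1 : x ^ p ^ (n + 1) = 1 := hexp P x hx
  have : Nontrivial X := nontrivial_of_ne (x ^ p ^ n) 1 (fun h => hcon (h ▸ one_mem _))
  obtain ⟨V, _, _, _, _, π, ρb, D⟩ := FRAT p hsol hO
  obtain ⟨xb, hxb⟩ : ∃ xb : X ⧸ Cfsg.pCore p X, xb = QuotientGroup.mk' (Cfsg.pCore p X) x := ⟨_, rfl⟩
  have hxb1 : xb ^ p ^ (n + 1) = 1 := by rw [hxb, ← map_pow, hx1, map_one]
  have hxb2 : ¬ xb ^ p ^ n = 1 := by
    rw [hxb, ← map_pow, QuotientGroup.mk'_apply, QuotientGroup.eq_one_iff]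
    exact hcon
  have hord : orderOf xb = p ^ (n + 1) := orderOf_eq_prime_pow hxb2 hxb1
  -- `xb` is exceptional
  have hexc : (ρb xb - 1) ^ (p ^ (n + 1) - 1) = 0 := by
    by_contra hne'
    obtain ⟨g, ⟨k, hgk⟩, hg⟩ := hLIFT V π ρb D x (n + 1) (by rw [hx1]; exact one_mem _)
      (by rw [← hxb]; exact hne')
    have hgp : IsPGroup p (zpowers g) := by
      apply IsPGroup.of_card (n := (Nat.card (zpowers g)).factorization p)
      have hdvd : Nat.card (zpowers g) ∣ p ^ k := by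
        rw [Nat.card_zpowers]; exact orderOf_dvd_of_pow_eq_one hgk
      obtain ⟨j, -, hj⟩ := (Nat.dvd_prime_pow hp).mp hdvd
      rw [hj, hp.factorization_pow, Finsupp.single_eq_same]
    obtain ⟨P', hP'⟩ := hgp.exists_le_sylow
    exact hg (hexp P' g (hP' (mem_zpowers g)))
  have : Module.Finite (ZMod p) V := Module.Finite.of_finite
  rcases Cfsg.Agent.Helper5.HHT.thmB_rep (F := ZMod p) ρb D.inj
      (Cfsg.Agent.Lead.isPSolvable_quotient hsol (Cfsg.pCore p X))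
      (Cfsg.Agent.Helper21.ExpSix.pCore_quotient_pCore_eq_bot p) xb (n + 1) (by omega) hord
      (p ^ (n + 1) - 1) hexc with h | ⟨n₀, q, m, h1, -, hq, hm, heq, hnab, -⟩
  · have : 0 < p ^ (n + 1) := pow_pos hp.pos _
    omega
  · have hpodd : Odd (p ^ n₀) := (hp.odd_of_ne_two hp2).pow
    have hpos : 0 < p ^ n₀ := pow_pos hp.pos _
    have heven : Even (q ^ m) := by
      rw [← heq]
      exact Nat.Odd.sub_odd hpodd odd_one
    have hq2 : q = 2 := by
      have h2 : 2 ∣ q := (Nat.Prime.dvd_of_dvd_pow Nat.prime_two (even_iff_two_dvd.mp heven))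
      exact ((Nat.prime_dvd_prime_iff_eq Nat.prime_two hq).mp h2).symm
    subst hq2
    have heq' : p ^ n₀ = 2 ^ m + 1 := by omega
    rcases hne.of_surjective (QuotientGroup.mk' (Cfsg.pCore p X))
        (QuotientGroup.mk'_surjective (Cfsg.pCore p X)) with h | h
    · exact h (STEP1_aux1_fermat hp hp2 h1 hm heq')
    · obtain ⟨Q⟩ : Nonempty (Sylow 2 (X ⧸ Cfsg.pCore p X)) := inferInstance
      exact hnab Q (h Q)

end Cfsg.Agent.S3786P
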