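import Mathlib
import Cfsg.Agent.Helper11.S3786Defs

/-!
# Board `s3786pieces`, row Y_main (core): Lemma Y from its pieces

`Y_main_aux_core` is Lemma Y with the rows `Y_norm`, `Y_fixed_pt`, `Y_pow_comm`, `Y_c_triv` as hypotheses.
-/

set_option autoImplicit false

namespace Cfsg.Agent.S3786P

open Subgroup

section Y

variable {p : ℕ} [Fact p.Prime] {Γ : Type*} [Group Γ] {M : Type*} [AddCommGroup M] [DistribMulAction Γ M] {Z : Type*}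
  [AddCommGroup Z] {B : Subgroup Γ} {w z : Γ} {N : ℕ} {β : M → M → Z}

/-- `b ↦ [z,b]` is multiplicative on the abelian group `B` normalised by `z`. -/
theorem Y_main_aux_mul (hBc : ∀ a ∈ B, ∀ b ∈ B, a * b = b * a) (hz : ∀ b ∈ B, z * b * z⁻¹ ∈ B)
    {a b : Γ} (ha : a ∈ B) (hb : b ∈ B) :
    z * (a * b) * z⁻¹ * (a * b)⁻¹ = (z * a * z⁻¹ * a⁻¹) * (z * b * z⁻¹ * b⁻¹) := by
  have h1 : (z * b * z⁻¹ * b⁻¹) * a⁻¹ = a⁻¹ * (z * b * z⁻¹ * b⁻¹) :=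
    hBc _ (B.mul_mem (hz b hb) (B.inv_mem hb)) _ (B.inv_mem ha)
  calc z * (a * b) * z⁻¹ * (a * b)⁻¹ = (z * a * z⁻¹) * ((z * b * z⁻¹ * b⁻¹) * a⁻¹) := by group
    _ = (z * a * z⁻¹) * (a⁻¹ * (z * b * z⁻¹ * b⁻¹)) := by rw [h1]
    _ = _ := by group

/-- `n • m = m` for odd `n` in exponent 2. -/
theorem Y_main_aux_odd (two : ∀ m : M, m + m = 0) {n : ℕ} (hn : Odd n) (m : M) : n • m = m := by
  obtain ⟨k, rfl⟩ := hn
  rw [add_smul, one_smul, mul_smul, two_smul, two, zero_add]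

/-- **Lemma Y**, from its pieces. -/
theorem Y_main_aux_core (S : YSet p B w z N β) [Finite ↥B]
    (hnorm : (∀ b ∈ B, w⁻¹ * b * w ∈ B) ∧ (∀ b ∈ B, z * b * z⁻¹ ∈ B) ∧ (∀ b ∈ B, z⁻¹ * b * z ∈ B))
    (hfp : (∃ b ∈ B, z * b ≠ b * z) →
      ∃ b ∈ B, z * b * z⁻¹ * b⁻¹ ≠ 1 ∧ z * (z * b * z⁻¹ * b⁻¹) = (z * b * z⁻¹ * b⁻¹) * z)
    (hpc : ∀ u : Γ, (∀ b ∈ B, u * b * u⁻¹ ∈ B) → ∀ (j : ℕ) (b : Γ), b ∈ B →
      ∃ b' ∈ B, u ^ j * b * (u ^ j)⁻¹ * b⁻¹ = u * b' * u⁻¹ * b'⁻¹)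
    (hct : ∀ (_ : Fintype ↥B) (Y₁ : Subgroup Γ) (_ : Fintype ↥Y₁), Y₁ ≤ B →
      (∀ k, 0 < k → k < N → ∀ y ∈ Y₁, ∃ b ∈ B, y = (w ^ k)⁻¹ * b * w ^ k * b⁻¹) →
      (∀ y ∈ Y₁, z * y = y * z) → ∀ b ∈ B, z * (z * b * z⁻¹ * b⁻¹) = (z * b * z⁻¹ * b⁻¹) * z →
      ∀ m : M, ∑ y : ↥Y₁, (y : Γ) • m = 0 → (z * b * z⁻¹ * b⁻¹) • m = m) :
    ∀ b ∈ B, z * b = b * z := by
  classical
  by_contra hcon
  push Not at hcon
  obtain ⟨b₁, hb₁, hne⟩ := hcon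
  obtain ⟨b₀, hb₀, hc₀ne, hc₀z⟩ := hfp ⟨b₁, hb₁, hne⟩
  obtain ⟨hw', hz, -⟩ := hnorm
  have hp := (Fact.out : p.Prime)
  -- the subgroup `Y₁ = [z, B₂]`
  let Y₁ : Subgroup Γ :=
    { carrier := {y | ∃ b ∈ B, y = z * b * z⁻¹ * b⁻¹ ∧ z * y = y * z}
      one_mem' := ⟨1, B.one_mem, by group, by simp⟩
      mul_mem' := by
        rintro y₁ y₂ ⟨a, ha, rfl, h1⟩ ⟨b, hb, rfl, h2⟩
        refine ⟨a * b, B.mul_mem ha hb, (Y_main_aux_mul S.Bcomm hz ha hb).symm, ?_⟩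
        rw [← mul_assoc, h1, mul_assoc, h2, ← mul_assoc]
      inv_mem' := by
        rintro y ⟨b, hb, rfl, h1⟩
        refine ⟨b⁻¹, B.inv_mem hb, ?_, ?_⟩
        · have h := Y_main_aux_mul S.Bcomm hz hb (B.inv_mem hb)
          rw [mul_inv_cancel, mul_one, mul_inv_cancel, inv_one, mul_one] at h
          exact inv_eq_of_mul_eq_one_right h.symm
        · have h2 : Commute z (z * b * z⁻¹ * b⁻¹) := h1
          exact h2.inv_right }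
  have hY₁mem : ∀ y, y ∈ Y₁ ↔ ∃ b ∈ B, y = z * b * z⁻¹ * b⁻¹ ∧ z * y = y * z := fun y => Iff.rfl
  have hY₁B : Y₁ ≤ B := by
    rintro y ⟨b, hb, rfl, -⟩
    exact B.mul_mem (hz b hb) (B.inv_mem hb)
  have hY₁z : ∀ y ∈ Y₁, z * y = y * z := by
    rintro y ⟨b, hb, rfl, h⟩
    exact h
  have : Fintype ↥B := Fintype.ofFinite _
  have : Finite ↥Y₁ := Finite.of_injective (Subgroup.inclusion hY₁B) (Subgroup.inclusion_injective _)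
  have : Fintype ↥Y₁ := Fintype.ofFinite _
  -- conjugation by powers of `w⁻¹`
  have hwk : ∀ (k : ℕ), ∀ b ∈ B, (w ^ k)⁻¹ * b * w ^ k ∈ B := by
    intro k
    induction k with
    | zero => intro b hb; simpa using hb
    | succ k ih =>
      intro b hb
      have : (w ^ (k + 1))⁻¹ * b * w ^ (k + 1) = w⁻¹ * ((w ^ k)⁻¹ * b * w ^ k) * w := by
        rw [pow_succ]; group
      rw [this]
      exact hw' _ (ih b hb)
  have hYk : ∀ k, 0 < k → k < N → ∀ y ∈ Y₁, ∃ b ∈ B, y = (w ^ k)⁻¹ * b * w ^ k * b⁻¹ := by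
    rintro k hk0 hkN y ⟨b, hb, rfl, -⟩
    obtain ⟨i, hi⟩ := S.zw k hk0 hkN
    have hu : ∀ b ∈ B, (w ^ k)⁻¹ * b * ((w ^ k)⁻¹)⁻¹ ∈ B := by
      intro b hb
      rw [inv_inv]
      exact hwk k b hb
    have huN : ((w ^ k)⁻¹) ^ N = 1 := by
      rw [inv_pow, ← pow_mul, mul_comm, pow_mul, S.wN, one_pow, inv_one]
    have hN1 : N - 1 + 1 = N := Nat.sub_add_cancel (by have := S.N2; omega)
    have hu1 : ((w ^ k)⁻¹) ^ (N - 1) = w ^ k := by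
      have h : ((w ^ k)⁻¹) ^ (N - 1) * (w ^ k)⁻¹ = 1 := by rw [← pow_succ, hN1, huN]
      rw [eq_inv_of_mul_eq_one_left h, inv_inv]
    have hzu : ((w ^ k)⁻¹) ^ ((N - 1) * i) = z := by rw [pow_mul, hu1, hi]
    obtain ⟨b', hb', hb'e⟩ := hpc ((w ^ k)⁻¹) hu ((N - 1) * i) b hb
    rw [hzu, inv_inv] at hb'e
    exact ⟨b', hb', hb'e⟩
  -- the norm of `Y₁`
  have hcard : Odd (Fintype.card ↥Y₁) := by
    obtain ⟨k, hk⟩ := IsPGroup.iff_card.mp (S.Bp.to_le hY₁B)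
    rw [← Nat.card_eq_fintype_card, hk]
    exact (hp.odd_of_ne_two S.p_odd).pow
  have htriv : ∀ m : M, ∑ y : ↥Y₁, (y : Γ) • m = 0 → ∀ y ∈ Y₁, y • m = m := by
    rintro m hm y ⟨b, hb, rfl, h⟩
    exact hct inferInstance Y₁ inferInstance hY₁B hYk hY₁z b hb h m hm
  have hL : ∀ m : M, ∑ y : ↥Y₁, (y : Γ) • m = 0 → m = 0 := by
    intro m hm
    have h1 : ∑ y : ↥Y₁, (y : Γ) • m = ∑ _y : ↥Y₁, m :=
      Finset.sum_congr rfl fun y _ => htriv m hm y y.2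
    rw [Finset.sum_const, Finset.card_univ, Y_main_aux_odd S.two hcard] at h1
    rw [← h1]; exact hm
  have hNy : ∀ y ∈ Y₁, ∀ m : M, ∑ y' : ↥Y₁, (y' : Γ) • (y • m) = ∑ y' : ↥Y₁, (y' : Γ) • m := by
    intro y hy m
    refine Fintype.sum_equiv (Equiv.mulRight (⟨y, hy⟩ : ↥Y₁)) _ _ ?_
    intro y'
    simp [mul_smul]
  have hall : ∀ y ∈ Y₁, ∀ m : M, y • m = m := by
    intro y hy m
    have h0 : ∑ y' : ↥Y₁, (y' : Γ) • (y • m + m) = 0 := by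
      simp only [smul_add]
      rw [Finset.sum_add_distrib, hNy y hy m]
      exact S.two _
    have h1 := hL _ h0
    calc y • m = (y • m + m) + m := by rw [add_assoc, S.two, add_zero]
      _ = m := by rw [h1, zero_add]
  have hc₀ : z * b₀ * z⁻¹ * b₀⁻¹ ∈ Y₁ := ⟨b₀, hb₀, rfl, hc₀z⟩
  exact hc₀ne (S.Bfaith _ (hY₁B hc₀) (hall _ hc₀))

end Y

end Cfsg.Agent.S3786P
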