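import Mathlib
import Cfsg.Agent.Helper11.S3786Defs
import Cfsg.Agent.Helper1.S3786Ymaincore
import Cfsg.Agent.Helper19.S3786Ynorm
import Cfsg.Agent.Helper19.S3786Yctriv
import Cfsg.Agent.Helper24.S3786Y_fixed_pt
import Cfsg.Agent.Helper24.S3786Y_pow_comm

/-! # Board `s3786pieces`, row Y_main : Lemma Y -/

set_option autoImplicit false

namespace Cfsg.Agent.S3786P

open Subgroup

section Y

variable {p : ℕ} [Fact p.Prime] {Γ : Type*} [Group Γ] {M : Type*} [AddCommGroup M] [DistribMulAction Γ M] {Z : Type*}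
  [AddCommGroup Z] {B : Subgroup Γ} {w z : Γ} {N : ℕ} {β : M → M → Z}

/-- **Lemma Y.**  `z` centralises `B`. -/
theorem Y_main (S : YSet p B w z N β) [Finite ↥B] : ∀ b ∈ B, z * b = b * z :=
  Y_main_aux_core S (Y_norm S)
    (fun h => Y_fixed_pt p B S.Bp z S.zp (Y_norm S).2.1 h)
    (fun u hu j _ hb => Y_pow_comm B S.Bcomm u hu j hb)
    (fun _ Y₁ _ hY₁B hYk hY₁z _ hb hc m hm => Y_c_triv S Y₁ hY₁B hYk hY₁z hb hc m hm)

end Y

end Cfsg.Agent.S3786P
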