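import Mathlib
import Cfsg.Agent.Helper26.S3818Defs
import Cfsg.Agent.Helper23.FreeE

/-!
# Board `s3818pieces`, row GT2 : a nontrivial normal `r`-subgroup of a group with a faithful irreducible representation over `k`
forces `r ≠ char k`.
-/

set_option autoImplicit false

namespace Cfsg.Agent.S3818P

open Module

/-- GT2 (`r ≠ char k`). -/
theorem GT2_char {G : Type*} [Group G] [Finite G] {k : Type*} [Field k] {V : Type*}
    [AddCommGroup V] [Module k V] [FiniteDimensional k V] (ρ : Representation k G V)
    [ρ.IsIrreducible] (hfaith : Function.Injective ρ) (N : Subgroup G) [N.Normal] (r : ℕ)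
    (hr : r.Prime) (hN : IsPGroup r N) (hN1 : N ≠ ⊥) : (r : k) ≠ 0 := by
  intro h0
  have : Fact r.Prime := ⟨hr⟩
  have : CharP k r := by
    have := CharP.ringChar_of_prime_eq_zero hr h0
    rw [← this]
    exact ringChar.charP k
  -- the fixed space of `N` as a subrepresentation
  let W : Subrepresentation ρ :=
    { toSubmodule :=
        { carrier := {v | ∀ g ∈ N, ρ g v = v}
          add_mem' := by
            intro a b ha hb g hg
            rw [map_add, ha g hg, hb g hg]
          zero_mem' := by
            intro g _
            exact map_zero _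
          smul_mem' := by
            intro c v hv g hg
            rw [map_smul, hv g hg] }
      apply_mem_toSubmodule := by
        intro h v hv g hg
        have hconj : h⁻¹ * g * h ∈ N := by
          have := ‹N.Normal›.conj_mem g hg h⁻¹
          rwa [inv_inv] at this
        have e : ρ g (ρ h v) = ρ h (ρ (h⁻¹ * g * h) v) := by
          rw [← Module.End.mul_apply, ← Module.End.mul_apply, ← map_mul, ← map_mul]
          congr 2
          group
        change ρ g (ρ h v) = ρ h v
        rw [e, hv _ hconj] }
  -- `V` is nontrivial
  have hnt : (⊤ : Submodule k V) ≠ ⊥ := by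
    intro htb
    have h1 : (⊤ : Subrepresentation ρ) = ⊥ := by
      apply Subrepresentation.toSubmodule_injective
      exact htb
    exact top_ne_bot h1
  obtain ⟨v, -, hv0, hvfix⟩ := Cfsg.Agent.Helper23.Free.exists_fixed_of_pgroup r ρ N hN ⊤
    (fun _ _ _ _ => Submodule.mem_top) hnt
  have hWne : W ≠ ⊥ := by
    intro hW
    have : v ∈ W.toSubmodule := hvfix
    rw [hW] at this
    exact hv0 ((Submodule.mem_bot k).1 this)
  have hWtop : W = ⊤ := (eq_bot_or_eq_top W).resolve_left hWne
  apply hN1
  rw [Subgroup.eq_bot_iff_forall]
  intro g hg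
  apply hfaith
  rw [map_one]
  apply LinearMap.ext
  intro v
  have : v ∈ W.toSubmodule := by rw [hWtop]; exact Submodule.mem_top
  rw [Module.End.one_apply]
  exact this g hg

end Cfsg.Agent.S3818P
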