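import Mathlib
import Cfsg.Agent.Helper26.S3818Defs

/-!
# Board `s3818pieces`, row GT3 : an element `x` of prime order `p` acting trivially on `Q/Z` but not on `Q`.

If `u ∈ Q` with `z = [x,u] ≠ 1` central, then `ρ x * ρ u = c • (ρ u * ρ x)` with `c = ζ z ≠ 1`, so `ρ u` shifts
the eigenspace of `ρ x` for `μ` into the one for `c μ`; hence the `p` eigenspaces for `1, c, …, c^{p-1}` all have
dimension at least `dim C_V(x)` and they are independent.
-/

set_option autoImplicit false

namespace Cfsg.Agent.S3818P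

open Module

/-- The dimension of an independent finite sum of subspaces. -/
theorem GT3_aux_finrank_biSup {F V : Type*} [Field F] [AddCommGroup V] [Module F V]
    [FiniteDimensional F V] {ι : Type*} [DecidableEq ι]
    (W : ι → Submodule F V) (h : iSupIndep W) (s : Finset ι) :
    finrank F ↥(⨆ i ∈ s, W i) = ∑ i ∈ s, finrank F (W i) := by
  induction s using Finset.induction_on with
  | empty => simp
  | insert a s ha ih =>
    rw [Finset.iSup_insert, Finset.sum_insert ha, ← ih]
    have hdis : Disjoint (W a) (⨆ i ∈ (s : Set ι), W i) :=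
      h.disjoint_biSup (by simpa using ha)
    simp only [Finset.mem_coe] at hdis
    have h1 := Submodule.finrank_sup_add_finrank_inf_eq (W a) (⨆ i ∈ s, W i)
    rw [hdis.eq_bot, finrank_bot, add_zero] at h1
    exact h1

/-- Abstract linear algebra: `T U = c • U T` with `U` injective, `c` of prime order `p`. -/
theorem GT3_aux_lin {F V : Type*} [Field F] [AddCommGroup V] [Module F V]
    [FiniteDimensional F V] (T U : V →ₗ[F] V) (c : F) (hU : Function.Injective U)
    (hTU : ∀ v, T (U v) = c • U (T v)) (p : ℕ) (hp : p.Prime) (hc : c ^ p = 1) (hc1 : c ≠ 1) :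
    p * finrank F (LinearMap.ker (T - 1)) ≤ finrank F V := by
  classical
  have : Fact p.Prime := ⟨hp⟩
  have hord : orderOf c = p := orderOf_eq_prime hc hc1
  have hker : LinearMap.ker (T - 1) = Module.End.eigenspace T 1 := by
    rw [Module.End.eigenspace_def, one_smul]
  -- shifting
  have hshift : ∀ (i : ℕ), finrank F (Module.End.eigenspace T 1) ≤
      finrank F (Module.End.eigenspace T (c ^ i)) := by
    intro i
    induction i with
    | zero => rw [pow_zero]
    | succ i ih =>
      refine ih.trans ?_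
      have hmap : (Module.End.eigenspace T (c ^ i)).map U ≤ Module.End.eigenspace T (c ^ (i + 1)) := by
        rintro _ ⟨v, hv, rfl⟩
        rw [SetLike.mem_coe, Module.End.mem_eigenspace_iff] at hv
        rw [Module.End.mem_eigenspace_iff, hTU, hv, map_smul, smul_smul, pow_succ, mul_comm]
      calc finrank F (Module.End.eigenspace T (c ^ i))
          = finrank F ((Module.End.eigenspace T (c ^ i)).map U) :=
            (Submodule.equivMapOfInjective U hU _).finrank_eq
        _ ≤ _ := Submodule.finrank_mono hmap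
  -- independence
  have hinj : Function.Injective (fun i : Fin p => c ^ (i : ℕ)) := by
    intro i j hij
    have := pow_injOn_Iio_orderOf (x := c) (by rw [hord]; exact i.2) (by rw [hord]; exact j.2) hij
    exact Fin.ext this
  have hind : iSupIndep (fun i : Fin p => Module.End.eigenspace T (c ^ (i : ℕ))) :=
    (Module.End.eigenspaces_iSupIndep T).comp hinj
  have hsum := GT3_aux_finrank_biSup _ hind Finset.univ
  have hle : finrank F ↥(⨆ i ∈ (Finset.univ : Finset (Fin p)),
      Module.End.eigenspace T (c ^ (i : ℕ))) ≤ finrank F V := Submodule.finrank_le _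
  rw [hsum] at hle
  rw [hker]
  calc p * finrank F (Module.End.eigenspace T 1)
      = ∑ _i : Fin p, finrank F (Module.End.eigenspace T 1) := by simp
    _ ≤ ∑ i : Fin p, finrank F (Module.End.eigenspace T (c ^ (i : ℕ))) :=
        Finset.sum_le_sum fun i _ => hshift i
    _ ≤ finrank F V := hle

/-- GT3 (`x` trivial on `Q/Z`). -/
theorem GT3_trivial_on_quotient {G : Type*} [Group G] [Finite G] {F V : Type*} [Field F]
    [AddCommGroup V] [Module F V] [FiniteDimensional F V] (ρ : Representation F G V)
    (hfaith : Function.Injective ρ) (Q : Subgroup G) (r : ℕ) (hr : r.Prime) (hQ : IsPGroup r Q)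
    (ζ : G → F) (hζ : ∀ z ∈ Subgroup.center G, ρ z = ζ z • 1)
    (x : G) (p : ℕ) (hp : p.Prime) (hx : x ^ p = 1)
    (htriv : ∀ u ∈ Q, x * u * x⁻¹ * u⁻¹ ∈ Subgroup.center G)
    (hnt : ∃ u ∈ Q, x * u * x⁻¹ ≠ u) :
    p * finrank F (LinearMap.ker (ρ x - 1)) ≤ finrank F V := by
  obtain ⟨u, hu, hne⟩ := hnt
  by_cases h0 : finrank F (LinearMap.ker (ρ x - 1)) = 0
  · rw [h0]; simp
  obtain ⟨z, hz⟩ : ∃ z : G, z = x * u * x⁻¹ * u⁻¹ := ⟨_, rfl⟩
  have hzc : z ∈ Subgroup.center G := hz ▸ htriv u hu
  have hz1 : z ≠ 1 := by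
    intro h1
    apply hne
    have : x * u * x⁻¹ * u⁻¹ = 1 := hz ▸ h1
    exact mul_inv_eq_one.mp this
  have hxu : x * u = z * (u * x) := by rw [hz]; group
  obtain ⟨c, hc⟩ : ∃ c : F, c = ζ z := ⟨_, rfl⟩
  have hρz : ρ z = c • 1 := hc ▸ hζ z hzc
  have hTU : ∀ v, ρ x (ρ u v) = c • ρ u (ρ x v) := by
    intro v
    have h1 : ρ (x * u) v = ρ (z * (u * x)) v := by rw [hxu]
    rw [map_mul, map_mul, map_mul, hρz] at h1
    simpa using h1
  have hUinj : Function.Injective (ρ u) := by
    intro a b hab
    have := congrArg (ρ u⁻¹) hab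
    have h2 : ∀ w, ρ u⁻¹ (ρ u w) = w := by
      intro w
      have : (ρ u⁻¹ * ρ u) w = w := by rw [← map_mul, inv_mul_cancel, map_one]; rfl
      exact this
    rwa [h2, h2] at this
  -- `c ≠ 1`
  have hc1 : c ≠ 1 := by
    intro h1
    apply hz1
    apply hfaith
    rw [hρz, h1, one_smul, map_one]
  -- `c ^ p = 1` from a nonzero fixed vector
  have hcp : c ^ p = 1 := by
    have hpos : 0 < finrank F (LinearMap.ker (ρ x - 1)) := Nat.pos_of_ne_zero h0
    obtain ⟨⟨v, hvk⟩, hvne⟩ := (Module.finrank_pos_iff_exists_ne_zero).mp hpos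
    have hv0 : v ≠ 0 := fun h => hvne (Subtype.ext h)
    have hfix : ρ x v = v := by
      have : (ρ x - 1) v = 0 := LinearMap.mem_ker.mp hvk
      rwa [LinearMap.sub_apply, Module.End.one_apply, sub_eq_zero] at this
    have hpow : ∀ i : ℕ, (ρ x ^ i) (ρ u v) = c ^ i • ρ u v := by
      intro i
      induction i with
      | zero => simp
      | succ i ih =>
        rw [pow_succ', Module.End.mul_apply, ih, map_smul, hTU, hfix, smul_smul, pow_succ]
    have h1 := hpow p
    rw [← map_pow, hx, map_one, Module.End.one_apply] at h1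
    have huv : ρ u v ≠ 0 := fun h => hv0 (hUinj (by rw [h, map_zero]))
    have : (c ^ p - 1) • ρ u v = 0 := by rw [sub_smul, one_smul, ← h1, sub_self]
    rcases smul_eq_zero.mp this with h | h
    · exact sub_eq_zero.mp h
    · exact absurd h huv
  exact GT3_aux_lin (ρ x) (ρ u) c hUinj hTU p hp hcp hc1

end Cfsg.Agent.S3818P
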