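import Mathlib
import Cfsg.Agent.Helper17.S3913Defs
import Cfsg.Agent.S0044
import Cfsg.Agent.Helper3.S3913NSYL
import Cfsg.Agent.Helper3.S3913FHALL
import Cfsg.Agent.Helper8.S3913CLIF1

/-!
# S3913, piece NCK (helper1): `G ⧸ F(G)` has no noncyclic normal elementary abelian subgroup.
Blueprint: `departures/helper17_S3913_blueprint.md`.
-/

set_option autoImplicit false
set_option linter.style.haveILetI false

namespace Cfsg.Agent.S3913P

open Cfsg.Agent.S3911P

/-- the index of `N` in the preimage of `R ≤ G ⧸ N` is `|R|`. -/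
theorem NCK_aux_relIndex {G : Type*} [Group G] (N : Subgroup G) [N.Normal] (R : Subgroup (G ⧸ N)) :
    N.relIndex (R.comap (QuotientGroup.mk' N)) = Nat.card ↥R := by
  have h : ((⊥ : Subgroup (G ⧸ N)).comap (QuotientGroup.mk' N)) = N := by
    rw [MonoidHom.comap_bot, QuotientGroup.ker_mk']
  calc N.relIndex (R.comap (QuotientGroup.mk' N))
      = ((⊥ : Subgroup (G ⧸ N)).comap (QuotientGroup.mk' N)).relIndex
          (R.comap (QuotientGroup.mk' N)) := by rw [h]
    _ = (⊥ : Subgroup (G ⧸ N)).relIndex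
          ((R.comap (QuotientGroup.mk' N)).map (QuotientGroup.mk' N)) :=
        Subgroup.relIndex_comap _ _ _
    _ = Nat.card ↥R := by
        rw [Subgroup.map_comap_eq_self_of_surjective (QuotientGroup.mk'_surjective N),
          Subgroup.relIndex_bot_left]

/-- A complement `S` of a normal Hall subgroup `F` inside the preimage of an `r`-group `R ≤ G ⧸ F`. -/
theorem NCK_aux_compl {G : Type*} [Group G] [Finite G] (F : Subgroup G) [F.Normal]
    (R : Subgroup (G ⧸ F)) (hcop : (Nat.card ↥F).Coprime (Nat.card ↥R)) :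
    ∃ S : Subgroup G, S ⊓ F = ⊥ ∧ F ⊔ S = R.comap (QuotientGroup.mk' F) := by
  classical
  set Rt : Subgroup G := R.comap (QuotientGroup.mk' F) with hRt
  have hFRt : F ≤ Rt := by
    intro x hx
    rw [hRt, Subgroup.mem_comap]
    have : (QuotientGroup.mk' F) x = 1 := (QuotientGroup.eq_one_iff x).2 hx
    rw [this]; exact R.one_mem
  have hNcard : Nat.card ↥(F.subgroupOf Rt) = Nat.card ↥F :=
    Nat.card_congr (Subgroup.subgroupOfEquivOfLe hFRt).toEquiv
  have hNidx : (F.subgroupOf Rt).index = Nat.card ↥R := NCK_aux_relIndex F R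
  have hc : (Nat.card ↥(F.subgroupOf Rt)).Coprime (F.subgroupOf Rt).index := by
    rw [hNcard, hNidx]; exact hcop
  obtain ⟨H, hH⟩ := Subgroup.exists_right_complement'_of_coprime hc
  refine ⟨H.map Rt.subtype, ?_, ?_⟩
  · rw [eq_bot_iff]
    rintro x ⟨hxS, hxF⟩
    obtain ⟨h, hhH, rfl⟩ := hxS
    have hN : h ∈ F.subgroupOf Rt := Subgroup.mem_subgroupOf.2 hxF
    have : h ∈ (F.subgroupOf Rt) ⊓ H := ⟨hN, hhH⟩
    rw [hH.disjoint.eq_bot] at this
    rw [Subgroup.mem_bot] at this ⊢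
    rw [this]; rfl
  · have h1 : ((F.subgroupOf Rt) ⊔ H).map Rt.subtype = F ⊔ H.map Rt.subtype := by
      rw [Subgroup.map_sup, Subgroup.subgroupOf_map_subtype, inf_eq_left.2 hFRt]
    rw [← h1, hH.sup_eq_top, ← MonoidHom.range_eq_map, Subgroup.range_subtype]

theorem NCK {G : Type*} [Group G] [Finite G] (hB : BProp G) (hsol : Group.IsSolvable G) (hred : Red G) :
    NC (G ⧸ Cfsg.fittingSubgroup G) := by
  intro R hRn hRab r hr hRexp
  by_contra hcyc
  haveI : Fact r.Prime := ⟨hr⟩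
  obtain ⟨hFab, hFcop⟩ := FHALL hB hsol hred
  -- `R` is a nontrivial `r`-group
  have hRp : IsPGroup r ↥R := by
    intro x
    refine ⟨1, ?_⟩
    have := hRexp x x.2
    rw [pow_one]
    exact Subtype.ext (by simpa using this)
  obtain ⟨k, hk⟩ := hRp.exists_card_eq
  have hRne : R ≠ ⊥ := by
    intro h
    apply hcyc
    haveI : Subsingleton ↥R := by rw [h]; infer_instance
    infer_instance
  have hk0 : k ≠ 0 := by
    intro h0
    rw [h0, pow_zero] at hk
    exact hRne ((Subgroup.card_eq_one).1 hk)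
  have hrR : r ∣ Nat.card ↥R := by rw [hk]; exact dvd_pow_self r hk0
  have hrI : r ∣ (Cfsg.fittingSubgroup G).index := by
    rw [Subgroup.index_eq_card]
    exact hrR.trans (Subgroup.card_subgroup_dvd_card R)
  have hrF : ¬ r ∣ Nat.card ↥(Cfsg.fittingSubgroup G) := by
    intro h
    have := Nat.dvd_gcd h hrI
    rw [hFcop.gcd_eq_one] at this
    exact hr.one_lt.ne' (Nat.dvd_one.1 this)
  have hcopFR : (Nat.card ↥(Cfsg.fittingSubgroup G)).Coprime (Nat.card ↥R) := by
    rw [hk]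
    exact Nat.Coprime.pow_right k ((Nat.Coprime.symm ((Nat.Prime.coprime_iff_not_dvd hr).2 hrF)))
  obtain ⟨S, hSF, hFS⟩ := NCK_aux_compl (Cfsg.fittingSubgroup G) R hcopFR
  have hSle : S ≤ R.comap (QuotientGroup.mk' (Cfsg.fittingSubgroup G)) := hFS ▸ le_sup_right
  -- elements of `S` killed by `π` are trivial
  have hker : ∀ x ∈ S, (QuotientGroup.mk' (Cfsg.fittingSubgroup G)) x = 1 → x = 1 := by
    intro x hx h1
    have : x ∈ S ⊓ Cfsg.fittingSubgroup G := ⟨hx, (QuotientGroup.eq_one_iff x).1 h1⟩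
    rw [hSF] at this
    exact (Subgroup.mem_bot).1 this
  have hSab : ∀ a ∈ S, ∀ b ∈ S, a * b = b * a := by
    intro a ha b hb
    have h1 : (a * b) * (b * a)⁻¹ ∈ S := S.mul_mem (S.mul_mem ha hb) (S.inv_mem (S.mul_mem hb ha))
    have h2 : (QuotientGroup.mk' (Cfsg.fittingSubgroup G)) ((a * b) * (b * a)⁻¹) = 1 := by
      have hc := hRab _ (Subgroup.mem_comap.1 (hSle ha)) _ (Subgroup.mem_comap.1 (hSle hb))
      rw [map_mul, map_inv, map_mul, map_mul, hc, mul_inv_cancel]
    exact mul_inv_eq_one.1 (hker _ h1 h2)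
  have hSexp : ∀ x ∈ S, x ^ r = 1 := by
    intro x hx
    apply hker _ (S.pow_mem hx r)
    rw [map_pow]
    exact hRexp _ (Subgroup.mem_comap.1 (hSle hx))
  have hSR : S.map (QuotientGroup.mk' (Cfsg.fittingSubgroup G)) = R := by
    have h1 : (R.comap (QuotientGroup.mk' (Cfsg.fittingSubgroup G))).map
        (QuotientGroup.mk' (Cfsg.fittingSubgroup G)) = R :=
      Subgroup.map_comap_eq_self_of_surjective (QuotientGroup.mk'_surjective _) R
    rw [← hFS, Subgroup.map_sup, QuotientGroup.map_mk'_self, bot_sup_eq] at h1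
    exact h1
  have hSnc : ¬ IsCyclic ↥S := by
    intro hS
    apply hcyc
    haveI := hS
    have h1 : IsCyclic ↥(S.map (QuotientGroup.mk' (Cfsg.fittingSubgroup G))) :=
      isCyclic_of_surjective ((QuotientGroup.mk' (Cfsg.fittingSubgroup G)).subgroupMap S)
        ((QuotientGroup.mk' (Cfsg.fittingSubgroup G)).subgroupMap_surjective S)
    rw [hSR] at h1
    exact h1
  have hSp : IsPGroup r ↥S := by
    intro x
    refine ⟨1, ?_⟩
    rw [pow_one]
    exact Subtype.ext (by simpa using hSexp x x.2)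
  obtain ⟨j, hj⟩ := hSp.exists_card_eq
  have hcopSF : (Nat.card ↥S).Coprime (Nat.card ↥(Cfsg.fittingSubgroup G)) := by
    rw [hj]
    exact Nat.Coprime.pow_left j ((Nat.Prime.coprime_iff_not_dvd hr).2 hrF)
  have hFSn : (Cfsg.fittingSubgroup G ⊔ S).Normal := by
    rw [hFS]; exact hRn.comap _
  -- every `O_p(G)` centralises `S`
  have hcore : ∀ p : Nat.Primes, Cfsg.pCore (p : ℕ) G ≤ Subgroup.centralizer (S : Set G) := by
    intro p
    haveI : Fact (p : ℕ).Prime := ⟨p.2⟩
    by_cases hp : Cfsg.pCore (p : ℕ) G = ⊥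
    · rw [hp]; exact bot_le
    · obtain ⟨-, -, hexp, -⟩ := NSYL hB hsol hred (p : ℕ) hp
      exact CLIF1 hB (Cfsg.fittingSubgroup G) S hFab hSab hSnc r hr hSexp hcopSF hFSn
        (Cfsg.pCore (p : ℕ) G) (Cfsg.Agent.Helper7.pCore_le_fittingSubgroup (p : ℕ)) (p : ℕ) p.2 hexp
  have hFc : Cfsg.fittingSubgroup G ≤ Subgroup.centralizer (S : Set G) := by
    rw [Cfsg.Agent.Helper7.fittingSubgroup_eq_pCoreSup]
    exact iSup_le hcore
  have hSc : S ≤ Subgroup.centralizer (Cfsg.fittingSubgroup G : Set G) :=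
    Subgroup.le_centralizer_iff.1 hFc
  haveI := hsol
  have hSF' : S ≤ Cfsg.fittingSubgroup G := hSc.trans Cfsg.Agent.S0044.result
  have hSbot : S = ⊥ := by
    rw [eq_bot_iff, ← hSF]
    exact le_inf le_rfl hSF'
  apply hSnc
  haveI : Subsingleton ↥S := by rw [hSbot]; infer_instance
  infer_instance

end Cfsg.Agent.S3913P
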