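import Mathlib
import Cfsg.Agent.Helper17.S3913Defs
import Cfsg.Agent.Helper6.S3912MN
import Cfsg.Agent.Helper26.S3912ABS

/-!
# S3913, piece UNIQ (helper1): if `O_r(K) ≠ 1` (K a solvable B-group with `NC K`) there is a normal subgroup of
order `r` containing all elements of order `r`.  Blueprint: `departures/helper17_S3913_blueprint.md`.
-/

set_option autoImplicit false
set_option linter.style.haveILetI false

namespace Cfsg.Agent.S3913P

open Cfsg.Agent.S3911P

theorem UNIQ {K : Type*} [Group K] [Finite K] (hB : BProp K) (hsol : Group.IsSolvable K) (hNC : NC K)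
    (r : ℕ) [Fact r.Prime] (hr : Cfsg.pCore r K ≠ ⊥) :
    ∃ E : Subgroup K, E.Normal ∧ Nat.card ↥E = r ∧ ∀ x : K, orderOf x = r → x ∈ E := by
  have hrp : r.Prime := Fact.out
  obtain ⟨N, hNn, hNle, hNne, hNab, r', hr', hr'd, hNexp, -⟩ :=
    Cfsg.Agent.S3912P.MN hsol (Cfsg.pCore r K) hr
  haveI := hNn
  -- `N` is an `r`-group
  have hNp : IsPGroup r ↥N :=
    (Cfsg.Agent.Helper14.pCore_isPGroup (p := r) (G := K)).to_le hNle
  obtain ⟨t, ht⟩ := hNp.exists_card_eq
  have hrr : r' = r := by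
    rw [ht] at hr'd
    exact (Nat.prime_dvd_prime_iff_eq hr' hrp).1 (hr'.dvd_of_dvd_pow hr'd)
  subst hrr
  -- `N` is cyclic
  have hNcyc : IsCyclic ↥N := hNC N hNn hNab r' hr' hNexp
  obtain ⟨g, hg⟩ := hNcyc.exists_generator
  have hgord : orderOf g = Nat.card ↥N := orderOf_eq_card_of_forall_mem_zpowers hg
  have hgr : orderOf g ∣ r' := by
    apply orderOf_dvd_of_pow_eq_one
    have := hNexp g g.2
    exact Subtype.ext (by simpa using this)
  have hcard1 : Nat.card ↥N ≠ 1 := by
    intro h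
    exact hNne ((Subgroup.card_eq_one).1 h)
  have hcard : Nat.card ↥N = r' := by
    rw [← hgord] at hcard1 ⊢
    rcases (Nat.dvd_prime hr').1 hgr with h | h
    · exact absurd h hcard1
    · exact h
  refine ⟨N, hNn, hcard, ?_⟩
  intro x hx
  refine Cfsg.Agent.S3912P.ABS hB N x ⟨(g : K), g.2, ?_⟩
  rw [Subgroup.orderOf_coe, hgord, hcard, hx]

end Cfsg.Agent.S3913P
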