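import Mathlib
import Cfsg.Agent.Helper17.S3913Defs
import Cfsg.Agent.Helper1.S3913UNIQ
import Cfsg.Agent.S3908
import Cfsg.Agent.Helper26.S3912MAIN

/-!
# S3913, piece SYLA (helper1): Sylow `r`-subgroups of `K` (solvable B-group with `NC K`, `O_r(K) ≠ 1`) are cyclic or `Q8`.
Blueprint: `departures/helper17_S3913_blueprint.md`.
-/

set_option autoImplicit false
set_option linter.style.haveILetI false

namespace Cfsg.Agent.S3913P

open Cfsg.Agent.S3911P

universe u

/-- a subgroup of a group of prime order is cyclic. -/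
theorem SYLA_aux_cyc {K : Type*} [Group K] [Finite K] (P E : Subgroup K) (r : ℕ) (hr : r.Prime)
    (hE : Nat.card ↥E = r) (hPE : P ≤ E) : IsCyclic ↥P := by
  have hd : Nat.card ↥P ∣ r := hE ▸ Subgroup.card_dvd_of_le hPE
  rcases (Nat.dvd_prime hr).1 hd with h | h
  · haveI : Subsingleton ↥P := (Nat.card_eq_one_iff_unique.1 h).1
    infer_instance
  · haveI : Fact r.Prime := ⟨hr⟩
    exact isCyclic_of_prime_card h

/-- a subgroup of exponent `r` lies in a subgroup containing all elements of order `r`. -/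
theorem SYLA_aux_le {K : Type*} [Group K] (P E : Subgroup K) (r : ℕ) (hr : r.Prime)
    (hE : ∀ x : K, orderOf x = r → x ∈ E) (hexp : ∀ x ∈ P, x ^ r = 1) : P ≤ E := by
  intro x hx
  have hd : orderOf x ∣ r := orderOf_dvd_of_pow_eq_one (hexp x hx)
  rcases (Nat.dvd_prime hr).1 hd with h | h
  · rw [orderOf_eq_one_iff] at h
    rw [h]; exact E.one_mem
  · exact hE x h

theorem SYLA {K : Type u} [Group K] [Finite K] (hB : BProp K) (hsol : Group.IsSolvable K) (hNC : NC K)
    (r : ℕ) [Fact r.Prime] (hr : Cfsg.pCore r K ≠ ⊥) (P : Sylow r K) :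
    IsCyclic ↥(P : Subgroup K) ∨ (r = 2 ∧ Nonempty (↥(P : Subgroup K) ≃* QuaternionGroup 2)) := by
  have hrp : r.Prime := Fact.out
  obtain ⟨E, -, hEcard, hE⟩ := UNIQ hB hsol hNC r hr
  obtain ⟨h2, hodd⟩ := Cfsg.Agent.S3908.result hB
  rcases eq_or_ne r 2 with rfl | hr2
  · rcases h2 P with h | h | ⟨k, ⟨e⟩⟩
    · exact Or.inl h
    · left
      exact SYLA_aux_cyc _ E 2 hrp hEcard (SYLA_aux_le _ E 2 hrp hE h.2)
    · rcases Nat.lt_or_ge k 2 with hk | hk
      · interval_cases k
        · left
          haveI : IsCyclic (QuaternionGroup (2 ^ 0)) := by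
            rw [pow_zero]; exact QuaternionGroup.quaternionGroup_one_isCyclic
          exact isCyclic_of_surjective e.symm.toMonoidHom e.symm.surjective
        · right
          refine ⟨rfl, ⟨?_⟩⟩
          rw [pow_one] at e
          exact e
      · exfalso
        have h4 : 4 ∣ 2 ^ k := by
          have : (4 : ℕ) = 2 ^ 2 := by norm_num
          rw [this]
          exact pow_dvd_pow 2 hk
        exact Cfsg.Agent.S3912P.Q1 _ K rfl hB hsol P (2 ^ k) h4 (by positivity) e
  · rcases hodd r hr2 P with h | h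
    · exact Or.inl h
    · left
      exact SYLA_aux_cyc _ E r hrp hEcard (SYLA_aux_le _ E r hrp hE h)

end Cfsg.Agent.S3913P
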