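import Mathlib
import Cfsg.Agent.Helper2.S4130Defs
import Cfsg.Agent.Helper22.ConjCover

set_option autoImplicit false

/-! S4130, piece ABEL: if `Z(G) = 1` and `p²` divides no class size then the Sylow `p`-subgroups
are abelian. -/

namespace Cfsg.Agent.S4130P

open Subgroup Pointwise

/-- in a finite `p`-group a subgroup of index at most `p` contains all commutators -/
theorem ABEL_aux_comm {Q : Type*} [Group Q] [Finite Q] {p : ℕ} [Fact p.Prime] (hQ : IsPGroup p Q)
    (S : Subgroup Q) (h : Nat.card Q ≤ p * Nat.card S) (a b : Q) : a * b * a⁻¹ * b⁻¹ ∈ S := by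
  have hp : p.Prime := Fact.out
  by_cases hS : S = ⊤
  · rw [hS]; trivial
  have hidx : S.index = p := by
    have hmul := S.card_mul_index
    have hSpos : 0 < Nat.card S := Nat.card_pos
    have hle : S.index ≤ p := by
      have : Nat.card S * S.index ≤ Nat.card S * p := by rw [hmul, mul_comm]; exact h
      exact Nat.le_of_mul_le_mul_left this hSpos
    obtain ⟨n, hn⟩ := hQ.index S
    have hne1 : S.index ≠ 1 := fun h1 => hS (Subgroup.index_eq_one.mp h1)
    rw [hn] at hle hne1 ⊢
    rcases n with _ | n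
    · simp at hne1
    rcases n with _ | n
    · simp
    · exfalso
      have : p ^ 2 ≤ p ^ (n + 1 + 1) := Nat.pow_le_pow_right hp.pos (by omega)
      have h2 : p < p ^ 2 := by nlinarith [hp.two_le]
      omega
  have hminfac : S.index = (Nat.card Q).minFac := by
    obtain ⟨n, hn⟩ := IsPGroup.iff_card.mp hQ
    have hn0 : n ≠ 0 := by
      rintro rfl
      rw [pow_zero] at hn
      have : Subsingleton Q := (Nat.card_eq_one_iff_unique.mp hn).1
      exact hS (Subsingleton.elim _ _)
    rw [hidx, hn, hp.pow_minFac hn0]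
  have hnorm : S.Normal := Subgroup.normal_of_index_eq_minFac_card hminfac
  have hcard : Nat.card (Q ⧸ S) = p := by rw [← hidx]; rfl
  have hcyc : IsCyclic (Q ⧸ S) := isCyclic_of_prime_card hcard
  have hcomm : ∀ x y : Q ⧸ S, x * y = y * x := fun x y =>
    (IsCyclic.isMulCommutative (α := Q ⧸ S)).is_comm.comm x y
  have : ((a * b * a⁻¹ * b⁻¹ : Q) : Q ⧸ S) = 1 := by
    simp only [QuotientGroup.mk_mul, QuotientGroup.mk_inv]
    rw [hcomm (a : Q ⧸ S) (b : Q ⧸ S)]
    group
  exact (QuotientGroup.eq_one_iff _).mp this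

theorem ABEL {G : Type*} [Group G] [Finite G] {p : ℕ} [Fact p.Prime] (P : Sylow p G)
    (hZ : center G = ⊥) (h : ∀ y : G, ¬ p ^ 2 ∣ (centralizer ({y} : Set G)).index) :
    ∀ a ∈ (P : Subgroup G), ∀ b ∈ (P : Subgroup G), a * b = b * a := by
  have hp : p.Prime := Fact.out
  intro a ha b hb
  -- the commutator
  set d : G := a * b * a⁻¹ * b⁻¹ with hd
  suffices hdc : centralizer ({d} : Set G) = ⊤ by
    have hdz : d ∈ center G := by
      rw [Subgroup.mem_center_iff]
      intro g
      have hg : g ∈ centralizer ({d} : Set G) := by rw [hdc]; trivial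
      exact (Subgroup.mem_centralizer_singleton_iff.mp hg)
    rw [hZ, Subgroup.mem_bot] at hdz
    have : a * b = d * (b * a) := by rw [hd]; group
    rw [this, hdz, one_mul]
  by_contra hne
  obtain ⟨g, hg⟩ := Cfsg.Agent.Helper22.exists_not_mem_conj _ hne
  -- a Sylow `p`-subgroup of `C_G(g)`
  obtain ⟨S₀⟩ : Nonempty (Sylow p (centralizer ({g} : Set G))) := inferInstance
  set C : Subgroup G := centralizer ({g} : Set G) with hC
  set S : Subgroup G := (S₀ : Subgroup C).map C.subtype with hS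
  have hSp : IsPGroup p S := S₀.isPGroup'.map _
  obtain ⟨Q, hSQ⟩ := hSp.exists_le_sylow
  obtain ⟨u, hu⟩ := MulAction.exists_smul_eq G P Q
  -- orders
  have hcardS : Nat.card S = p ^ (Nat.card C).factorization p := by
    rw [hS, Nat.card_congr (Subgroup.equivMapOfInjective _ _ C.subtype_injective).symm.toEquiv]
    exact S₀.card_eq_multiplicity
  have hcardQ : Nat.card Q = p ^ (Nat.card G).factorization p := Q.card_eq_multiplicity
  have hfac : (Nat.card G).factorization p ≤ (Nat.card C).factorization p + 1 := by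
    have hmul := C.card_mul_index
    have hi0 : C.index ≠ 0 := Subgroup.index_ne_zero_of_finite
    have hc0 : Nat.card C ≠ 0 := Nat.card_pos.ne'
    rw [← hmul, Nat.factorization_mul hc0 hi0, Finsupp.add_apply]
    have : C.index.factorization p ≤ 1 := by
      by_contra hcon
      rw [not_le] at hcon
      exact h g ((hp.pow_dvd_iff_le_factorization hi0).mpr hcon)
    omega
  have hle : Nat.card Q ≤ p * Nat.card (S.subgroupOf Q) := by
    rw [Nat.card_congr (Subgroup.subgroupOfEquivOfLe hSQ).toEquiv, hcardS, hcardQ, ← pow_succ']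
    exact Nat.pow_le_pow_right hp.pos hfac
  -- the conjugate of `d` lies in `S`
  have hQa : u * a * u⁻¹ ∈ (Q : Subgroup G) := by
    rw [← hu, Sylow.coe_subgroup_smul]
    exact ⟨a, ha, rfl⟩
  have hQb : u * b * u⁻¹ ∈ (Q : Subgroup G) := by
    rw [← hu, Sylow.coe_subgroup_smul]
    exact ⟨b, hb, rfl⟩
  have hmem := ABEL_aux_comm (Q := Q) Q.isPGroup' (S.subgroupOf Q) hle ⟨_, hQa⟩ ⟨_, hQb⟩
  rw [Subgroup.mem_subgroupOf] at hmem
  have hval : ((⟨_, hQa⟩ * ⟨_, hQb⟩ * (⟨_, hQa⟩ : Q)⁻¹ * (⟨_, hQb⟩ : Q)⁻¹ : Q) : G)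
      = u * d * u⁻¹ := by
    show u * a * u⁻¹ * (u * b * u⁻¹) * (u * a * u⁻¹)⁻¹ * (u * b * u⁻¹)⁻¹ = u * d * u⁻¹
    rw [hd]
    group
  rw [hval] at hmem
  -- hence `g` commutes with it
  have hSC : S ≤ C := by
    rw [hS]
    exact Subgroup.map_subtype_le _
  have hcomm : g * (u * d * u⁻¹) = (u * d * u⁻¹) * g := by
    have := hSC hmem
    rw [hC, Subgroup.mem_centralizer_singleton_iff] at this
    exact this.symm
  apply hg u
  rw [Subgroup.mem_pointwise_smul_iff_inv_smul_mem, MulAut.smul_def, ← map_inv,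
    MulAut.conj_apply, Subgroup.mem_centralizer_singleton_iff]
  simp only [inv_inv]
  have h1 : u⁻¹ * g * u * d = u⁻¹ * (g * (u * d * u⁻¹)) * u := by group
  have h2 : d * (u⁻¹ * g * u) = u⁻¹ * ((u * d * u⁻¹) * g) * u := by group
  rw [h2, ← hcomm, ← h1]

end Cfsg.Agent.S4130P
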