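import Mathlib
import Cfsg.Prelude.Def_Transfer
import Cfsg.Agent.Helper4.S4404Defs
import Cfsg.Agent.Helper8.S4404PG
import Cfsg.Agent.Helper9.S4404PGPHI
import Cfsg.Agent.Helper11.S4404PGIDX

/-! Board `s4404pieces`, row PGLAST (helper1): the final contradiction of PG.  `a` centralises `Φ(T₀)`, the cube map is
multiplicative on `T₀`, so every commutator `[t, b]` (`b ∈ ⟨a⟩`) has cube `1`: `T₀ = [T₀, a] ≤ Ω`, hence `Ω = T₀` has order `27`,
`Φ(T₀) = 1` by PGIDX and `T₀` is abelian. -/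

set_option autoImplicit false
set_option linter.unusedVariables false
set_option linter.unusedSectionVars false

namespace Cfsg.Agent.S4404P

open Subgroup
open scoped commutatorElement

variable {S : Type*} [Group S] [Finite S]

/-- the cube map is multiplicative on a `3`-group `P` with `Φ(P) ≤ Z(P)` -/
theorem PGLAST_aux_mul_cube (P : Subgroup S) (hP : IsPGroup 3 ↥P) (hΦ : Fr P ≤ Zc P) :
    ∀ x ∈ P, ∀ y ∈ P, (x * y) ^ 3 = x ^ 3 * y ^ 3 := by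
  obtain ⟨hder, hcube⟩ := der_le_fr_three P hP
  have hcen : ∀ z : ↥P, (z : S) ∈ Fr P → z ∈ Subgroup.center ↥P := by
    intro z hz
    have hz' := hΦ hz
    rw [Subgroup.mem_center_iff]
    intro g
    have := (Subgroup.mem_centralizer_iff.mp (Subgroup.mem_inf.mp hz').2) (g : S) g.2
    exact Subtype.ext this
  have h1 : ∀ a b : ↥P, a⁻¹ * b⁻¹ * a * b ∈ Subgroup.center ↥P := by
    intro a b
    apply hcen
    apply hder
    have : ((a⁻¹ * b⁻¹ * a * b : ↥P) : S) = ⁅(a : S)⁻¹, (b : S)⁻¹⁆ := by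
      simp [commutatorElement_def]
    rw [this]
    exact Subgroup.commutator_mem_commutator (P.inv_mem a.2) (P.inv_mem b.2)
  have h2 : ∀ a : ↥P, a ^ 3 ∈ Subgroup.center ↥P := by
    intro a
    apply hcen
    have := hcube (a : S) a.2
    simpa using this
  intro x hx y hy
  have := PGCUBE_aux_mul_cube h1 h2 (⟨x, hx⟩ : ↥P) ⟨y, hy⟩
  have := congrArg Subtype.val this
  simpa using this

/-- PGLAST : the final contradiction. -/
theorem minAct_last (T₀ : Subgroup S) (hT : IsPGroup 3 ↥T₀) (a : S) (q : ℕ) [Fact q.Prime] (hq2 : q ≠ 2)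
    (hq3 : q ≠ 3) (haq : ∃ k : ℕ, a ^ q ^ k = 1) (h : MinAct T₀ a) (Ω : Subgroup S)
    (hΩ : ∀ t : S, t ∈ Ω ↔ t ∈ T₀ ∧ t ^ 3 = 1) (h27 : Nat.card ↥Ω = 27) (hna : ¬ IsMulCommutative ↥Ω) : False := by
  have hfull := minAct_comm_eq T₀ hT a q hq3 haq h
  have hphi := minAct_fr_le_center T₀ hT a q hq3 haq h
  obtain ⟨hder, hcube⟩ := der_le_fr_three T₀ hT
  have hidx := minAct_index_ge T₀ hT a q hq2 hq3 haq h
  have hmul := PGLAST_aux_mul_cube T₀ hT hphi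
  obtain ⟨haN, haC, hmin⟩ := h
  -- `a` centralises `Φ(T₀)`
  have hFrne : Fr T₀ ≠ T₀ := by
    intro heq
    rw [heq] at hidx
    have : 0 < Nat.card ↥T₀ := Nat.card_pos
    omega
  have haFr : a ∈ centralizer ((Fr T₀ : Subgroup S) : Set S) :=
    hmin (Fr T₀) (Fr_le T₀) hFrne (PGPHI_aux_normalizer_le T₀ haN)
  have hzFr : zpowers a ≤ centralizer ((Fr T₀ : Subgroup S) : Set S) := Subgroup.zpowers_le.mpr haFr
  have hzN : zpowers a ≤ normalizer (T₀ : Set S) := Subgroup.zpowers_le.mpr haN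
  -- `T₀ = [T₀, a] ≤ Ω`
  have hle : T₀ ≤ Ω := by
    have hcomm : ⁅T₀, zpowers a⁆ ≤ Ω := by
      rw [Subgroup.commutator_le]
      intro t ht b hb
      rw [hΩ, commutatorElement_def]
      have h1 : b * t⁻¹ * b⁻¹ ∈ T₀ := (Subgroup.mem_normalizer_iff.mp (hzN hb) _).mp (T₀.inv_mem ht)
      have e1 : t * b * t⁻¹ * b⁻¹ = t * (b * t⁻¹ * b⁻¹) := by group
      rw [e1]
      refine ⟨T₀.mul_mem ht h1, ?_⟩
      rw [hmul t ht _ h1]
      have e2 : (b * t⁻¹ * b⁻¹) ^ 3 = b * (t⁻¹) ^ 3 * b⁻¹ := conj_pow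
      have h3 : (t⁻¹) ^ 3 ∈ Fr T₀ := hcube _ (T₀.inv_mem ht)
      have h4 := Subgroup.mem_centralizer_iff.mp (hzFr hb) _ h3
      -- `h4 : t⁻¹ ^ 3 * b = b * t⁻¹ ^ 3`
      rw [e2, ← h4]
      have e3 : t ^ 3 * ((t⁻¹) ^ 3 * b * b⁻¹) = t ^ 3 * (t⁻¹) ^ 3 := by group
      rw [e3, inv_pow, mul_inv_cancel]
    calc T₀ = ⁅T₀, zpowers a⁆ := hfull.symm
      _ ≤ Ω := hcomm
  have hΩT : Ω ≤ T₀ := fun t ht => ((hΩ t).mp ht).1
  have hEq : Ω = T₀ := le_antisymm hΩT hle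
  have hcardT : Nat.card ↥T₀ = 27 := by rw [← hEq]; exact h27
  have hFr1 : Nat.card ↥(Fr T₀) = 1 := by
    have : 0 < Nat.card ↥(Fr T₀) := Nat.card_pos
    omega
  have hFrbot : Fr T₀ = ⊥ := Subgroup.card_eq_one.mp hFr1
  apply hna
  refine ⟨⟨?_⟩⟩
  rintro ⟨x, hx⟩ ⟨y, hy⟩
  apply Subtype.ext
  show x * y = y * x
  have h5 : ⁅x, y⁆ ∈ ⁅T₀, T₀⁆ := Subgroup.commutator_mem_commutator (hΩT hx) (hΩT hy)
  have h6 := hder h5
  rw [hFrbot, Subgroup.mem_bot] at h6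
  exact commutatorElement_eq_one_iff_mul_comm.mp h6

end Cfsg.Agent.S4404P
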