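import Mathlib
import Cfsg.Prelude.Def_Transfer
import Cfsg.Agent.Helper4.S4404Defs

/-! Board `s4404pieces`, row PGOM (helper1): a group of exponent `3`, class at most `2` and order at least `27` contains an
elementary abelian subgroup of order `27`, or is non-abelian of order `27`. -/

set_option autoImplicit false
set_option linter.unusedSectionVars false

namespace Cfsg.Agent.S4404P

open Subgroup
open scoped commutatorElement

section abstract

variable {G : Type*} [Group G] [Finite G]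

/-- a strictly larger subgroup of a `3`-group has at least three times the order -/
theorem PGOM_aux_strict (hG : IsPGroup 3 G) {H K : Subgroup G} (hlt : H < K) : 3 * Nat.card ↥H ≤ Nat.card ↥K := by
  have : Fact (Nat.Prime 3) := ⟨by norm_num⟩
  obtain ⟨k, hk⟩ := (hG.to_subgroup K).exists_card_eq
  obtain ⟨m, hm⟩ := Subgroup.card_dvd_of_le hlt.le
  have hHpos : 0 < Nat.card ↥H := Nat.card_pos
  have hm1 : m ≠ 1 := by
    rintro rfl
    rw [mul_one] at hm
    exact hlt.ne (Subgroup.eq_of_le_of_card_ge hlt.le hm.le)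
  have hmd : m ∣ 3 ^ k := by rw [← hk, hm]; exact dvd_mul_left m _
  obtain ⟨j, -, rfl⟩ := (Nat.dvd_prime_pow (by norm_num : Nat.Prime 3)).mp hmd
  have hj : j ≠ 0 := by rintro rfl; exact hm1 (pow_zero 3)
  have h3 : 3 ≤ 3 ^ j := by
    calc 3 = 3 ^ 1 := (pow_one 3).symm
      _ ≤ 3 ^ j := Nat.pow_le_pow_right (by norm_num) (Nat.one_le_iff_ne_zero.mpr hj)
  rw [hm, mul_comm]
  exact Nat.mul_le_mul_left _ h3

/-- adjoining an element centralising an abelian subgroup keeps it abelian -/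
theorem PGOM_aux_adjoin {H : Subgroup G} (hH : ∀ a ∈ H, ∀ b ∈ H, a * b = b * a) {y : G} (hy : ∀ a ∈ H, y * a = a * y) :
    ∀ a ∈ H ⊔ zpowers y, ∀ b ∈ H ⊔ zpowers y, a * b = b * a := by
  have h1 : H ≤ centralizer ((H ⊔ zpowers y : Subgroup G) : Set G) := by
    rw [Subgroup.le_centralizer_iff]
    refine sup_le ?_ ?_
    · intro a ha
      rw [Subgroup.mem_centralizer_iff]
      intro b hb
      exact hH b hb a ha
    · rw [Subgroup.zpowers_le, Subgroup.mem_centralizer_iff]
      intro b hb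
      exact (hy b hb).symm
  have h2 : zpowers y ≤ centralizer ((H ⊔ zpowers y : Subgroup G) : Set G) := by
    rw [Subgroup.le_centralizer_iff]
    refine sup_le ?_ ?_
    · intro a ha
      rw [Subgroup.mem_centralizer_iff]
      intro b hb
      obtain ⟨k, rfl⟩ := Subgroup.mem_zpowers_iff.mp hb
      have : Commute y a := hy a ha
      exact ((this.zpow_left k).eq)
    · intro a ha
      rw [Subgroup.mem_centralizer_iff]
      intro b hb
      obtain ⟨k, rfl⟩ := Subgroup.mem_zpowers_iff.mp hb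
      obtain ⟨l, rfl⟩ := Subgroup.mem_zpowers_iff.mp ha
      exact ((Commute.refl y).zpow_zpow k l).eq
  intro a ha b hb
  have := (sup_le h1 h2) ha
  rw [Subgroup.mem_centralizer_iff] at this
  exact (this b hb).symm

/-- an abelian subgroup of order at least `27` of a group of exponent `3` contains an abelian subgroup of order exactly `27` -/
theorem PGOM_aux_cut (hexp : ∀ g : G, g ^ 3 = 1) {A : Subgroup G} (hA : ∀ a ∈ A, ∀ b ∈ A, a * b = b * a)
    (hcard : 27 ≤ Nat.card ↥A) :
    ∃ B : Subgroup G, (∀ a ∈ B, ∀ b ∈ B, a * b = b * a) ∧ Nat.card ↥B = 27 := by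
  have : Fact (Nat.Prime 3) := ⟨by norm_num⟩
  have hG : IsPGroup 3 G := fun g => ⟨1, by rw [pow_one]; exact hexp g⟩
  obtain ⟨n, hn⟩ := (hG.to_subgroup A).exists_card_eq
  have hn3 : 3 ≤ n := by
    by_contra hlt
    rw [not_le] at hlt
    have : 3 ^ n ≤ 3 ^ 2 := Nat.pow_le_pow_right (by norm_num) (by omega)
    omega
  have hdvd : 3 ^ 3 ∣ Nat.card ↥A := by rw [hn]; exact pow_dvd_pow 3 hn3
  obtain ⟨K, hK⟩ := Sylow.exists_subgroup_card_pow_prime 3 hdvd
  refine ⟨K.map A.subtype, ?_, ?_⟩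
  · rintro a ⟨a', -, rfl⟩ b ⟨b', -, rfl⟩
    exact hA _ a'.2 _ b'.2
  · rw [Subgroup.card_map_of_injective A.subtype_injective, hK]; norm_num

/-- the abstract form of PGOM -/
theorem PGOM_aux_abstract (hexp : ∀ g : G, g ^ 3 = 1) (hcl : ∀ g h k : G, ⁅g, h⁆ * k = k * ⁅g, h⁆)
    (hcard : 27 ≤ Nat.card G) :
    (∃ B : Subgroup G, (∀ a ∈ B, ∀ b ∈ B, a * b = b * a) ∧ Nat.card ↥B = 27) ∨
      (Nat.card G = 27 ∧ ∃ x y : G, x * y ≠ y * x) := by
  have : Fact (Nat.Prime 3) := ⟨by norm_num⟩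
  have hG : IsPGroup 3 G := fun g => ⟨1, by rw [pow_one]; exact hexp g⟩
  by_cases hab : ∀ x y : G, x * y = y * x
  · -- abelian
    left
    apply PGOM_aux_cut hexp (A := ⊤) (fun a _ b _ => hab a b)
    rw [Subgroup.card_top]; exact hcard
  push Not at hab
  obtain ⟨x, y₀, hxy⟩ := hab
  by_cases h27 : Nat.card G = 27
  · right; exact ⟨h27, x, y₀, hxy⟩
  left
  -- `|G| ≥ 81`
  obtain ⟨n, hn⟩ := hG.exists_card_eq
  have hn4 : 4 ≤ n := by
    by_contra hlt
    rw [not_le] at hlt
    have hn3 : n = 3 := by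
      by_contra hne
      have : 3 ^ n ≤ 3 ^ 2 := Nat.pow_le_pow_right (by norm_num) (by omega)
      omega
    apply h27
    rw [hn, hn3]; norm_num
  have h81 : 81 ≤ Nat.card G := by
    rw [hn]
    calc 81 = 3 ^ 4 := by norm_num
      _ ≤ 3 ^ n := Nat.pow_le_pow_right (by norm_num) hn4
  -- the centre
  have hxZ : x ∉ center G := by
    intro hx
    rw [Subgroup.mem_center_iff] at hx
    exact hxy (hx y₀).symm
  have : Nontrivial G := ⟨⟨x * y₀, y₀ * x, hxy⟩⟩
  have := hG.center_nontrivial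
  have hZ3 : 3 ≤ Nat.card ↥(center G) := by
    have hlt : (⊥ : Subgroup G) < center G := by
      rw [bot_lt_iff_ne_bot]
      intro h
      have := (Subgroup.nontrivial_iff_ne_bot (center G)).mp inferInstance
      exact this h
    have := PGOM_aux_strict hG hlt
    rw [Subgroup.card_bot] at this
    omega
  have hZab : ∀ a ∈ center G, ∀ b ∈ center G, a * b = b * a := by
    intro a ha b _
    exact ((Subgroup.mem_center_iff.mp ha) b).symm
  -- `H₁ = Z ⟨x⟩`
  have hH1ab := PGOM_aux_adjoin hZab (y := x) (fun a ha => (Subgroup.mem_center_iff.mp ha) x)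
  have hlt1 : center G < center G ⊔ zpowers x := by
    refine lt_of_le_of_ne le_sup_left ?_
    intro h
    apply hxZ
    rw [h]
    exact (le_sup_right : zpowers x ≤ center G ⊔ zpowers x) (Subgroup.mem_zpowers x)
  have hH1card := PGOM_aux_strict hG hlt1
  by_cases hbig : 27 ≤ Nat.card ↥(center G ⊔ zpowers x : Subgroup G)
  · exact PGOM_aux_cut hexp hH1ab hbig
  rw [not_le] at hbig
  -- `|Z| ≤ 3`
  obtain ⟨z, hz⟩ := (hG.to_subgroup (center G)).exists_card_eq
  have hz1 : z ≤ 1 := by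
    by_contra hlt
    rw [not_le] at hlt
    have : 3 ^ 2 ≤ 3 ^ z := Nat.pow_le_pow_right (by norm_num) hlt
    omega
  have hZle : Nat.card ↥(center G) ≤ 3 := by
    rw [hz]
    calc 3 ^ z ≤ 3 ^ 1 := Nat.pow_le_pow_right (by norm_num) hz1
      _ = 3 := by norm_num
  -- the homomorphism `g ↦ [g, x]`
  let φ : G →* G :=
    { toFun := fun g => ⁅g, x⁆
      map_one' := by simp
      map_mul' := by
        intro g h
        have h1 := hcl h x (g⁻¹)
        have h2 := hcl h x (x * g⁻¹ * x⁻¹)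
        simp only [commutatorElement_def] at h1 h2 ⊢
        calc g * h * x * (g * h)⁻¹ * x⁻¹ = g * (h * x * h⁻¹ * x⁻¹ * (x * g⁻¹ * x⁻¹)) := by group
          _ = g * (x * g⁻¹ * x⁻¹ * (h * x * h⁻¹ * x⁻¹)) := by rw [h2]
          _ = g * x * g⁻¹ * x⁻¹ * (h * x * h⁻¹ * x⁻¹) := by group }
  have hφ : ∀ g, φ g = ⁅g, x⁆ := fun g => rfl
  have hrange : φ.range ≤ center G := by
    rintro _ ⟨g, rfl⟩
    rw [Subgroup.mem_center_iff]
    intro k
    rw [hφ]
    exact (hcl g x k).symm
  have hker : ∀ g ∈ φ.ker, g * x = x * g := by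
    intro g hg
    rw [MonoidHom.mem_ker, hφ, commutatorElement_def] at hg
    have : g * x = (g * x * g⁻¹ * x⁻¹) * (x * g) := by group
    rw [this, hg, one_mul]
  have hcount : Nat.card G ≤ Nat.card ↥φ.ker * 3 := by
    rw [← Subgroup.card_mul_index φ.ker, Subgroup.index_ker]
    exact Nat.mul_le_mul_left _ ((Subgroup.card_le_of_le hrange).trans hZle)
  have hker27 : 27 ≤ Nat.card ↥φ.ker := by omega
  -- `H₁ ≤ ker φ`
  have hH1ker : center G ⊔ zpowers x ≤ φ.ker := by
    refine sup_le ?_ ?_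
    · intro a ha
      rw [MonoidHom.mem_ker, hφ, commutatorElement_def]
      have := (Subgroup.mem_center_iff.mp ha) x
      rw [← this]; group
    · rw [Subgroup.zpowers_le, MonoidHom.mem_ker, hφ, commutatorElement_def]; group
  have hlt2 : center G ⊔ zpowers x < φ.ker := by
    refine lt_of_le_of_ne hH1ker ?_
    intro h
    rw [h] at hbig
    omega
  obtain ⟨y, hyker, hyH1⟩ := SetLike.exists_of_lt hlt2
  -- `H₂ = H₁ ⟨y⟩`
  have hycomm : ∀ a ∈ center G ⊔ zpowers x, y * a = a * y := by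
    have h1 : center G ⊔ zpowers x ≤ centralizer ({y} : Set G) := by
      refine sup_le ?_ ?_
      · intro a ha
        rw [Subgroup.mem_centralizer_singleton_iff]
        exact ((Subgroup.mem_center_iff.mp ha) y).symm
      · rw [Subgroup.zpowers_le, Subgroup.mem_centralizer_singleton_iff]
        exact (hker y hyker).symm
    intro a ha
    have := h1 ha
    rw [Subgroup.mem_centralizer_singleton_iff] at this
    exact this.symm
  have hH2ab := PGOM_aux_adjoin hH1ab hycomm
  have hlt3 : center G ⊔ zpowers x < center G ⊔ zpowers x ⊔ zpowers y := by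
    refine lt_of_le_of_ne le_sup_left ?_
    intro h
    apply hyH1
    rw [h]
    exact (le_sup_right : zpowers y ≤ center G ⊔ zpowers x ⊔ zpowers y) (Subgroup.mem_zpowers y)
  have hH2card := PGOM_aux_strict hG hlt3
  exact PGOM_aux_cut hexp hH2ab (by omega)

end abstract

variable {S : Type*} [Group S] [Finite S]

/-- PGOM : a group of exponent `3`, class at most `2`, order at least `27`, contains an `E_27` or is non-abelian of order `27`. -/
theorem e27_of_exp_three (Ω : Subgroup S) (hexp : ∀ t ∈ Ω, t ^ 3 = 1) (hcl : ⁅Ω, Ω⁆ ≤ centralizer (Ω : Set S))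
    (hcard : 27 ≤ Nat.card ↥Ω) : HasE3 3 Ω ∨ (Nat.card ↥Ω = 27 ∧ ¬ IsMulCommutative ↥Ω) := by
  have hexp' : ∀ g : ↥Ω, g ^ 3 = 1 := by
    intro g
    apply Subtype.ext
    rw [Subgroup.coe_pow, Subgroup.coe_one]
    exact hexp g g.2
  have hcl' : ∀ g h k : ↥Ω, ⁅g, h⁆ * k = k * ⁅g, h⁆ := by
    intro g h k
    apply Subtype.ext
    have h1 : ⁅(g : S), (h : S)⁆ ∈ ⁅Ω, Ω⁆ := Subgroup.commutator_mem_commutator g.2 h.2
    have h2 := Subgroup.mem_centralizer_iff.mp (hcl h1) (k : S) k.2
    simp only [commutatorElement_def, Subgroup.coe_mul, Subgroup.coe_inv] at h2 ⊢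
    exact h2.symm
  rcases PGOM_aux_abstract hexp' hcl' hcard with ⟨B, hBab, hBcard⟩ | ⟨h27, x, y, hxy⟩
  · left
    refine ⟨B.map Ω.subtype, ?_, ⟨⟨⟨?_⟩⟩, ?_⟩, ?_⟩
    · rintro _ ⟨b, -, rfl⟩
      exact b.2
    · rintro ⟨_, ⟨a, ha, rfl⟩⟩ ⟨_, ⟨b, hb, rfl⟩⟩
      apply Subtype.ext
      have := hBab a ha b hb
      show (a : S) * (b : S) = (b : S) * (a : S)
      exact congrArg Subtype.val this
    · rintro _ ⟨b, -, rfl⟩
      exact hexp b b.2
    · rw [Subgroup.card_map_of_injective Ω.subtype_injective, hBcard]; norm_num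
  · right
    refine ⟨h27, ?_⟩
    intro hc
    exact hxy (hc.is_comm.comm x y)

end Cfsg.Agent.S4404P
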