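import Mathlib
import Cfsg.Agent.Helper11.S4409Defs
import Cfsg.Agent.Helper11.S4409Q0
import Cfsg.Agent.Helper11.S4409Q1

/-! Board `s4409pieces`, row NQ8 (helper1), CORE: `no_hasA_over_q8_core` = `no_hasA_over_q8` with the instantiated row Q2
(`q8_idx N P`) as a hypothesis. -/

set_option autoImplicit false
set_option linter.unusedVariables false
set_option linter.unusedSectionVars false

namespace Cfsg.Agent.S4409P

open Subgroup
open scoped commutatorElement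

variable {S : Type*} [Group S] [Finite S]

/-- `ζ` is central in `Q8` -/
theorem NQ8_aux_zeta_comm {N : Subgroup S} {ζ : S} (hsq : ∀ x ∈ N, x = 1 ∨ x = ζ ∨ x * x = ζ) {x : S} (hx : x ∈ N) :
    x * ζ = ζ * x := by
  rcases hsq x hx with h | h | h
  · rw [h, one_mul, mul_one]
  · rw [h]
  · rw [← h, mul_assoc]

/-- two elements of `Q8` commute or commute up to `ζ` -/
theorem NQ8_aux_comm_or {N : Subgroup S} {ζ : S} (hζ2 : ζ * ζ = 1) (hsq : ∀ x ∈ N, x = 1 ∨ x = ζ ∨ x * x = ζ)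
    {x y : S} (hx : x ∈ N) (hy : y ∈ N) : x * y = y * x ∨ x * y = ζ * (y * x) := by
  have hzc : ∀ x ∈ N, x * ζ = ζ * x := fun x hx => NQ8_aux_zeta_comm hsq hx
  rcases hsq x hx with h | h | hx2
  · left; rw [h, one_mul, mul_one]
  · left; rw [h]; exact (hzc y hy).symm
  rcases hsq y hy with h | h | hy2
  · left; rw [h, one_mul, mul_one]
  · left; rw [h]; exact hzc x hx
  rcases hsq (x * y) (N.mul_mem hx hy) with h | h | h
  · left
    have : y = x⁻¹ := eq_inv_of_mul_eq_one_right h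
    rw [this, mul_inv_cancel, inv_mul_cancel]
  · left
    have : y = x⁻¹ * ζ := by rw [← h]; group
    rw [this]
    calc x * (x⁻¹ * ζ) = ζ := by group
      _ = x⁻¹ * (ζ * x) := by rw [← hzc x hx]; group
      _ = x⁻¹ * ζ * x := by group
  · right
    have hxi : x⁻¹ = ζ * x := by
      rw [inv_eq_iff_mul_eq_one, ← mul_assoc, hzc x hx, mul_assoc, hx2, hζ2]
    have hyi : y⁻¹ = ζ * y := by
      rw [inv_eq_iff_mul_eq_one, ← mul_assoc, hzc y hy, mul_assoc, hy2, hζ2]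
    have e : y * x = x⁻¹ * ((x * y) * (x * y)) * y⁻¹ := by group
    rw [e, h, hxi, hyi]
    symm
    calc ζ * (ζ * x * ζ * (ζ * y)) = ζ * (ζ * (x * ζ) * (ζ * y)) := by group
      _ = ζ * (ζ * (ζ * x) * (ζ * y)) := by rw [hzc x hx]
      _ = (ζ * ζ) * (ζ * (x * ζ) * y) := by group
      _ = (ζ * ζ) * (ζ * (ζ * x) * y) := by rw [hzc x hx]
      _ = (ζ * ζ) * ((ζ * ζ) * (x * y)) := by group
      _ = x * y := by rw [hζ2, one_mul, one_mul]

/-- if `t²` commutes with `y` then `t` inverts `v = t y t⁻¹ y⁻¹` -/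
theorem NQ8_aux_sq {t y : S} (hcc : (t * t) * y = y * (t * t)) :
    t * (t * y * t⁻¹ * y⁻¹) * t⁻¹ = (t * y * t⁻¹ * y⁻¹)⁻¹ := by
  calc t * (t * y * t⁻¹ * y⁻¹) * t⁻¹ = ((t * t) * y) * t⁻¹ * y⁻¹ * t⁻¹ := by group
    _ = (y * (t * t)) * t⁻¹ * y⁻¹ * t⁻¹ := by rw [hcc]
    _ = (t * y * t⁻¹ * y⁻¹)⁻¹ := by group

/-- if `t` fixes `v` and inverts `v` then `v² = 1` -/
theorem NQ8_aux_fix_inv {t v : S} (h1 : t * v * t⁻¹ = v) (h2 : t * v * t⁻¹ = v⁻¹) : v * v = 1 := by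
  have : v = v⁻¹ := h1.symm.trans h2
  calc v * v = v * v⁻¹ := by rw [← this]
    _ = 1 := mul_inv_cancel v

/-- the key computation: an element `t` normalising `Q8 = N`, commuting with `a ∈ N ∖ Z`, with `t² ∈ Z`, acts trivially on `N / Z`. -/
theorem NQ8_aux_key {N : Subgroup S} {ζ : S} (hζN : ζ ∈ N) (hζ1 : ζ ≠ 1) (hζ2 : ζ * ζ = 1)
    (hsq : ∀ x ∈ N, x = 1 ∨ x = ζ ∨ x * x = ζ) {t a : S} (ha : a ∈ N) (ha1 : a ≠ 1) (haζ : a ≠ ζ)
    (hta : t * a = a * t) (hn : ∀ y ∈ N, t * y * t⁻¹ ∈ N) (htt : t * t = 1 ∨ t * t = ζ)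
    {y : S} (hy : y ∈ N) : t * y * t⁻¹ * y⁻¹ = 1 ∨ t * y * t⁻¹ * y⁻¹ = ζ := by
  have hzc : ∀ x ∈ N, x * ζ = ζ * x := fun x hx => NQ8_aux_zeta_comm hsq hx
  have ha2 : a * a = ζ := by
    rcases hsq a ha with h | h | h
    · exact absurd h ha1
    · exact absurd h haζ
    · exact h
  have htζ : t * ζ = ζ * t := by
    rw [← ha2, ← mul_assoc, hta, mul_assoc, hta, mul_assoc]
  have hζi : ζ⁻¹ = ζ := by rw [inv_eq_iff_mul_eq_one, hζ2]
  obtain ⟨v, hv⟩ : ∃ v, v = t * y * t⁻¹ * y⁻¹ := ⟨_, rfl⟩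
  rw [← hv]
  have hvN : v ∈ N := by rw [hv]; exact N.mul_mem (hn y hy) (N.inv_mem hy)
  by_contra hcon
  push Not at hcon
  obtain ⟨hv1, hvζ⟩ := hcon
  have hv2 : v * v = ζ := by
    rcases hsq v hvN with h | h | h
    · exact absurd h hv1
    · exact absurd h hvζ
    · exact h
  have httc : ∀ x ∈ N, (t * t) * x = x * (t * t) := by
    intro x hx
    rcases htt with h | h
    · rw [h, one_mul, mul_one]
    · rw [h]; exact (hzc x hx).symm
  have hτv : t * v * t⁻¹ = v⁻¹ := by rw [hv]; exact NQ8_aux_sq (httc y hy)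
  rcases NQ8_aux_comm_or hζ2 hsq ha hvN with hav | hav
  · -- `a` commutes with `v`: then `v ∈ ⟨a⟩` is fixed by `t`
    have hta' : t * a⁻¹ = a⁻¹ * t := (Commute.inv_right (show Commute t a from hta)).eq
    have htv : t * v * t⁻¹ = v := by
      have h1 : (a * v) * (a * v) = 1 := by
        calc (a * v) * (a * v) = a * (v * a) * v := by group
          _ = a * (a * v) * v := by rw [hav]
          _ = (a * a) * (v * v) := by group
          _ = 1 := by rw [ha2, hv2, hζ2]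
      rcases hsq (a * v) (N.mul_mem ha hvN) with h | h | h
      · have : v = a⁻¹ := eq_inv_of_mul_eq_one_right h
        rw [this, hta']; group
      · have : v = a⁻¹ * ζ := by rw [← h]; group
        rw [this]
        calc t * (a⁻¹ * ζ) * t⁻¹ = (t * a⁻¹) * ζ * t⁻¹ := by group
          _ = a⁻¹ * (t * ζ) * t⁻¹ := by rw [hta']; group
          _ = a⁻¹ * ζ := by rw [htζ]; group
      · rw [h1] at h; exact absurd h.symm hζ1
    have := NQ8_aux_fix_inv htv hτv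
    rw [hv2] at this
    exact hζ1 this
  · -- `a` inverts `v`: replace `t` by `t' = a⁻¹ t`
    have hαv : a⁻¹ * v * a = ζ * v := by
      have h1 : v * a = ζ * (a * v) := by rw [hav, ← mul_assoc, hζ2, one_mul]
      calc a⁻¹ * v * a = a⁻¹ * (v * a) := by group
        _ = a⁻¹ * (ζ * (a * v)) := by rw [h1]
        _ = a⁻¹ * ((ζ * a) * v) := by group
        _ = a⁻¹ * ((a * ζ) * v) := by rw [hzc a ha]
        _ = ζ * v := by group
    have hc : a⁻¹ * y * a * y⁻¹ = 1 ∨ a⁻¹ * y * a * y⁻¹ = ζ := by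
      rcases NQ8_aux_comm_or hζ2 hsq hy ha with h | h
      · left
        calc a⁻¹ * y * a * y⁻¹ = a⁻¹ * (y * a) * y⁻¹ := by group
          _ = a⁻¹ * (a * y) * y⁻¹ := by rw [h]
          _ = 1 := by group
      · right
        calc a⁻¹ * y * a * y⁻¹ = a⁻¹ * (y * a) * y⁻¹ := by group
          _ = a⁻¹ * (ζ * (a * y)) * y⁻¹ := by rw [h]
          _ = a⁻¹ * ((ζ * a) * y) * y⁻¹ := by group
          _ = a⁻¹ * ((a * ζ) * y) * y⁻¹ := by rw [hzc a ha]
          _ = ζ := by group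
    have hta' : t * a⁻¹ = a⁻¹ * t := (Commute.inv_right (show Commute t a from hta)).eq
    have ht'sq : ∀ x ∈ N, ((a⁻¹ * t) * (a⁻¹ * t)) * x = x * ((a⁻¹ * t) * (a⁻¹ * t)) := by
      have e : (a⁻¹ * t) * (a⁻¹ * t) = ζ * (t * t) := by
        calc (a⁻¹ * t) * (a⁻¹ * t) = a⁻¹ * (t * a⁻¹) * t := by group
          _ = a⁻¹ * (a⁻¹ * t) * t := by rw [hta']
          _ = (a * a)⁻¹ * (t * t) := by group
          _ = ζ * (t * t) := by rw [ha2, hζi]
      intro x hx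
      rw [e, mul_assoc, httc x hx, ← mul_assoc, ← hzc x hx, mul_assoc]
    have hv' : (a⁻¹ * t) * y * (a⁻¹ * t)⁻¹ * y⁻¹ = (a⁻¹ * v * a) * (a⁻¹ * y * a * y⁻¹) := by
      rw [hv]; group
    have hτ'v' := NQ8_aux_sq (ht'sq y hy)
    have ht'v : (a⁻¹ * t) * v * (a⁻¹ * t)⁻¹ = v := by
      calc (a⁻¹ * t) * v * (a⁻¹ * t)⁻¹ = a⁻¹ * (t * v * t⁻¹) * a := by group
        _ = a⁻¹ * v⁻¹ * a := by rw [hτv]
        _ = (a⁻¹ * v * a)⁻¹ := by group
        _ = (ζ * v)⁻¹ := by rw [hαv]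
        _ = v := by rw [inv_eq_iff_mul_eq_one, mul_assoc, hv2, hζ2]
    have ht'ζ : (a⁻¹ * t) * ζ * (a⁻¹ * t)⁻¹ = ζ := by
      calc (a⁻¹ * t) * ζ * (a⁻¹ * t)⁻¹ = a⁻¹ * (t * ζ) * t⁻¹ * a := by group
        _ = a⁻¹ * (ζ * t) * t⁻¹ * a := by rw [htζ]
        _ = a⁻¹ * (ζ * a) := by group
        _ = a⁻¹ * (a * ζ) := by rw [hzc a ha]
        _ = ζ := by group
    rw [hαv] at hv'
    -- `v' = ζ v c` with `c ∈ {1, ζ}` is fixed and inverted by `t'`, but `v' v' = ζ`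
    have hfix : ∀ u : S, (a⁻¹ * t) * u * (a⁻¹ * t)⁻¹ = u → (a⁻¹ * t) * (ζ * v * u) * (a⁻¹ * t)⁻¹ = ζ * v * u := by
      intro u hu
      calc (a⁻¹ * t) * (ζ * v * u) * (a⁻¹ * t)⁻¹
          = ((a⁻¹ * t) * ζ * (a⁻¹ * t)⁻¹) * ((a⁻¹ * t) * v * (a⁻¹ * t)⁻¹) * ((a⁻¹ * t) * u * (a⁻¹ * t)⁻¹) := by
            group
        _ = ζ * v * u := by rw [ht'ζ, ht'v, hu]
    rcases hc with hc | hc
    · rw [hc] at hv'
      rw [hv'] at hτ'v'
      have h1 := NQ8_aux_fix_inv (hfix 1 (by group)) hτ'v'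
      have h2 : (ζ * v * 1) * (ζ * v * 1) = ζ := by
        calc (ζ * v * 1) * (ζ * v * 1) = ζ * (v * ζ) * v := by group
          _ = ζ * (ζ * v) * v := by rw [hzc v hvN]
          _ = (ζ * ζ) * (v * v) := by group
          _ = ζ := by rw [hζ2, hv2, one_mul]
      rw [h1] at h2
      exact hζ1 h2.symm
    · rw [hc] at hv'
      rw [hv'] at hτ'v'
      have h1 := NQ8_aux_fix_inv (hfix ζ ht'ζ) hτ'v'
      have h2 : (ζ * v * ζ) * (ζ * v * ζ) = ζ := by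
        calc (ζ * v * ζ) * (ζ * v * ζ) = ζ * v * (ζ * ζ) * v * ζ := by group
          _ = ζ * (v * v) * ζ := by rw [hζ2]; group
          _ = ζ := by rw [hv2, hζ2, one_mul]
      rw [h1] at h2
      exact hζ1 h2.symm

/-- NQ8 (core) -/
theorem no_hasA_over_q8_core (N P : Subgroup S) (hN : IsQ8 N) (hNn : N.Normal) (hC : centralizer (N : Set S) ≤ N)
    (hP : IsPGroup 2 ↥P) (hNP : N ≤ P)
    (hQ2 : ∃ H : Subgroup S, H ≤ P ∧ (∀ x, x ∈ H ↔ x ∈ P ∧ ∀ y ∈ N, ⁅y, x⁆ ∈ Zc N) ∧ (H = P ∨ H.relIndex P = 2) ∧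
      ∀ k : S, k ∈ normalizer (P : Set S) → k ∈ normalizer (N : Set S) → k ∈ normalizer (H : Set S)) :
    ¬ HasA P := by
  obtain ⟨hZ2, hDer, -, -, hNna⟩ := q8_basic N hN
  obtain ⟨H, hHP, hHmem, hHor, -⟩ := hQ2
  have hHN : H = N := by
    apply le_antisymm
    · intro x hx
      obtain ⟨y0, hy0, hc⟩ := q8_inn N hN x (by rw [normalizer_eq_top]; trivial) ((hHmem x).mp hx).2
      have := N.mul_mem (hC hc) hy0
      simpa using this
    · intro x hx
      rw [hHmem]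
      refine ⟨hNP hx, fun y hy => ?_⟩
      rw [← hDer]
      exact commutator_mem_commutator hy hx
  rw [hHN] at hHor hHmem
  obtain ⟨h8, ζ, hζN, hζ1, hζ2, hsq⟩ := hN
  have hzc : ∀ x ∈ N, x * ζ = ζ * x := fun x hx => NQ8_aux_zeta_comm hsq hx
  rintro ⟨A, hAP, hAc, hAnc, hA8⟩
  have hAab : ∀ x ∈ A, ∀ y ∈ A, x * y = y * x := (isAb_iff A).mpr hAc
  have hAN : ¬ A ≤ N := by
    intro h
    have : A = N := Subgroup.eq_of_le_of_card_ge h (by rw [h8, hA8])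
    apply hNna
    rw [← this]
    exact hAab
  obtain ⟨t, htA, htN⟩ := SetLike.not_le_iff_exists.mp hAN
  rcases hHor with hNP' | hidx
  · exact htN (hNP' ▸ hAP htA)
  have hmul : ∀ s ∈ P, s ∉ N → ∀ s' ∈ P, s' ∉ N → s * s' ∈ N := by
    intro s hs hsN s' hs' hs'N
    have hi : (N.subgroupOf P).index = 2 := hidx
    have := Subgroup.mul_mem_iff_of_index_two hi (a := ⟨s, hs⟩) (b := ⟨s', hs'⟩)
    rw [mem_subgroupOf, mem_subgroupOf, mem_subgroupOf] at this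
    exact this.mpr (by simp [hsN, hs'N])
  have hex : ∃ a ∈ A, a ∈ N ∧ a ≠ 1 ∧ a ≠ ζ := by
    by_contra hcon
    push Not at hcon
    obtain ⟨x, hxA, hx1, hxζ, hx3, hx4⟩ := Q0_aux_exists_not_mem A hA8 1 ζ t⁻¹ (t⁻¹ * ζ)
    by_cases hxN : x ∈ N
    · exact hxζ (hcon x hxA hxN hx1)
    · have h1 : t * x ∈ N := hmul t (hAP htA) htN x (hAP hxA) hxN
      have h2 : t * x ∈ A := A.mul_mem htA hxA
      by_cases h3 : t * x = 1
      · exact hx3 (eq_inv_of_mul_eq_one_right h3)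
      · have := hcon _ h2 h1 h3
        apply hx4
        rw [← this]; group
  obtain ⟨a, haA, haN, ha1, haζ⟩ := hex
  have httN : t * t ∈ N := hmul t (hAP htA) htN t (hAP htA) htN
  have hclaim : ¬ (t * t = 1 ∨ t * t = ζ) := by
    intro htt
    apply htN
    rw [hHmem]
    refine ⟨hAP htA, fun y hy => ?_⟩
    have hk := NQ8_aux_key hζN hζ1 hζ2 hsq haN ha1 haζ (hAab t htA a haA) (fun y hy => hNn.conj_mem y hy t) htt hy
    have e : ⁅y, t⁆ = (t * y * t⁻¹ * y⁻¹)⁻¹ := by rw [commutatorElement_def]; group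
    rw [e]
    apply (Zc N).inv_mem
    rcases hk with h | h
    · rw [h]; exact (Zc N).one_mem
    · rw [h]; exact mem_Zc.mpr ⟨hζN, fun y hy => hzc y hy⟩
  have ht4 : (t * t) * (t * t) = ζ := by
    rcases hsq (t * t) httN with h | h | h
    · exact absurd (Or.inl h) hclaim
    · exact absurd (Or.inr h) hclaim
    · exact h
  have hord : orderOf t = 2 ^ (2 + 1) := by
    apply orderOf_eq_prime_pow
    · have : t ^ 2 ^ 2 = (t * t) * (t * t) := by
        rw [show (2 : ℕ) ^ 2 = 1 + 1 + 1 + 1 from rfl]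
        simp only [pow_succ, pow_zero, one_mul, mul_assoc]
      rw [this, ht4]; exact hζ1
    · have : t ^ 2 ^ (2 + 1) = ((t * t) * (t * t)) * ((t * t) * (t * t)) := by
        rw [show (2 : ℕ) ^ (2 + 1) = 1 + 1 + 1 + 1 + 1 + 1 + 1 + 1 from rfl]
        simp only [pow_succ, pow_zero, one_mul, mul_assoc]
      rw [this, ht4, hζ2]
  apply hAnc
  have hord' : orderOf (⟨t, htA⟩ : ↥A) = Nat.card ↥A := by
    rw [hA8, ← Subgroup.orderOf_coe]
    simpa using hord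
  exact isCyclic_of_orderOf_eq_card _ hord'

end Cfsg.Agent.S4409P
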