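import Mathlib
import Cfsg.Agent.Helper11.S4409Defs
import Cfsg.Agent.Helper1.S4409NQ8core
import Cfsg.Agent.Helper6.S4409Q2

/-! Board `s4409pieces`, row NQ8 (helper1): `no_hasA_over_q8` (wrapper of `no_hasA_over_q8_core`). -/

set_option autoImplicit false
set_option linter.unusedVariables false
set_option linter.unusedSectionVars false

namespace Cfsg.Agent.S4409P

open Subgroup
open scoped commutatorElement

variable {S : Type*} [Group S] [Finite S]

/-- NQ8 -/
theorem no_hasA_over_q8 (N P : Subgroup S) (hN : IsQ8 N) (hNn : N.Normal) (hC : centralizer (N : Set S) ≤ N)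
    (hP : IsPGroup 2 ↥P) (hNP : N ≤ P) : ¬ HasA P :=
  no_hasA_over_q8_core N P hN hNn hC hP hNP
    (q8_idx N P hN hP hNP (by rw [normalizer_eq_top]; exact le_top))

end Cfsg.Agent.S4409P
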