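import Mathlib
import Cfsg.Agent.Helper11.S4409Defs
import Cfsg.Agent.Helper9.S4409F
import Cfsg.Agent.Helper20.S4409STEP0
import Cfsg.Agent.Helper11.S4409Q0
import Cfsg.Agent.Helper11.S4409Q1

/-! Board `s4409pieces`, row TB2 (helper1), CORE: `tcore_b2_core` = `tcore_b2` (the case `Y = Q8`, `[Y,K] ≠ 1`) with the
instantiated rows Q2 (`q8_idx Y X`), V2 (`v4_sub · K`) and Q6 (`q8q8 Y ·`) as hypotheses. -/

set_option autoImplicit false
set_option linter.unusedVariables false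
set_option linter.unusedSectionVars false

namespace Cfsg.Agent.S4409P

open Subgroup
open scoped commutatorElement

variable {S : Type*} [Group S] [Finite S]

/-- an element normalising `X` and `Y` normalises `X ∩ C(Y)` -/
theorem TB2_aux_norm_inf_cent (X Y : Subgroup S) {k : S} (hkX : k ∈ normalizer (X : Set S))
    (hkY : k ∈ normalizer (Y : Set S)) : k ∈ normalizer ((X ⊓ centralizer (Y : Set S) : Subgroup S) : Set S) := by
  have key : ∀ g : S, g ∈ normalizer (X : Set S) → g ∈ normalizer (Y : Set S) →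
      ∀ c, c ∈ X ⊓ centralizer (Y : Set S) → g * c * g⁻¹ ∈ X ⊓ centralizer (Y : Set S) := by
    intro g hgX hgY c hc
    refine ⟨(mem_normalizer_iff.mp hgX c).mp hc.1, ?_⟩
    show g * c * g⁻¹ ∈ centralizer (Y : Set S)
    rw [mem_centralizer_iff]
    intro y hy
    have hy' : g⁻¹ * y * g ∈ Y := by
      have := (mem_normalizer_iff.mp ((normalizer (Y : Set S)).inv_mem hgY) y).mp hy
      simpa using this
    have hcy := (mem_centralizer_iff.mp hc.2) _ hy'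
    calc y * (g * c * g⁻¹) = g * ((g⁻¹ * y * g) * c) * g⁻¹ := by group
      _ = g * (c * (g⁻¹ * y * g)) * g⁻¹ := by rw [hcy]
      _ = g * c * g⁻¹ * y := by group
  rw [mem_normalizer_iff]
  intro c
  constructor
  · exact key k hkX hkY c
  · intro hc
    have h1 := key k⁻¹ ((normalizer (X : Set S)).inv_mem hkX) ((normalizer (Y : Set S)).inv_mem hkY) _ hc
    have e : k⁻¹ * (k * c * k⁻¹) * k⁻¹⁻¹ = c := by group
    rwa [e] at h1

/-- TB2 : case `Y = Q8`, `[Y,K] ≠ 1` (core). -/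
theorem tcore_b2_core (X K Y : Subgroup S) (hX : IsPGroup 2 ↥X) (hK : Odd (Nat.card ↥K)) (hKX : K ≤ normalizer (X : Set S))
    (hXK : ⁅X, K⁆ = X) (hna : ¬ IsAb X) (hI : IHyp X K)
    (hY1 : Fr X ≤ Y) (hY2 : Y ≤ X) (hY3 : Y ≠ X) (hY4 : K ≤ normalizer (Y : Set S))
    (hY5 : ∀ H : Subgroup S, Y ≤ H → H ≤ X → K ≤ normalizer (H : Set S) → H = Y ∨ H = X)
    (hYQ : IsQ8 Y) (hYK : ⁅Y, K⁆ ≠ ⊥)
    (hQ2 : ∃ H : Subgroup S, H ≤ X ∧ (∀ x, x ∈ H ↔ x ∈ X ∧ ∀ y ∈ Y, ⁅y, x⁆ ∈ Zc Y) ∧ (H = X ∨ H.relIndex X = 2) ∧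
      ∀ k : S, k ∈ normalizer (X : Set S) → k ∈ normalizer (Y : Set S) → k ∈ normalizer (H : Set S))
    (hV2 : ∀ C : Subgroup S, IsV4 C → K ≤ normalizer (C : Set S) → ⁅C, K⁆ ≠ ⊥ →
      ∀ H : Subgroup S, H ≤ C → K ≤ normalizer (H : Set S) → H = ⊥ ∨ H = C)
    (hQ6 : ∀ C : Subgroup S, IsQ8 C → C ≤ centralizer (Y : Set S) → Y ⊓ C = Zc Y →
      SpecialInt (Y ⊔ C) ∧ Nat.card ↥(Zc (Y ⊔ C)) = 2 ∧ Nat.card ↥(Y ⊔ C) = 32) :
    SpecialInt X ∧ Nat.card ↥(Zc X) = 2 ∧ Nat.card ↥X = 32 := by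
  have hXY : X ≤ normalizer (Y : Set S) := normal_of_fr_le X Y hX hY1 hY2
  obtain ⟨H, hHX, hHmem, hHor, hHK⟩ := hQ2
  have hKH : K ≤ normalizer (H : Set S) := fun k hk => hHK k (hKX hk) (hY4 hk)
  have hHeq : H = X := by
    rcases hHor with h | h
    · exact h
    · exact (no_inv_index_two X K hKX hXK H hHX hKH h).elim
  -- every element of `X` is `c * y0` with `c ∈ C_X(Y)`, `y0 ∈ Y`
  have hdec : ∀ x ∈ X, ∃ c ∈ X ⊓ centralizer (Y : Set S), ∃ y0 ∈ Y, x = c * y0 := by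
    intro x hx
    have hxH : x ∈ H := by rw [hHeq]; exact hx
    obtain ⟨y0, hy0, hc⟩ := q8_inn Y hYQ x (hXY hx) ((hHmem x).mp hxH).2
    exact ⟨x * y0⁻¹, ⟨X.mul_mem hx (X.inv_mem (hY2 hy0)), hc⟩, y0, hy0, by group⟩
  have hXYC : Y ⊔ (X ⊓ centralizer (Y : Set S)) = X := by
    apply le_antisymm
    · exact sup_le hY2 inf_le_left
    · intro x hx
      obtain ⟨c, hc, y0, hy0, rfl⟩ := hdec x hx
      exact (Y ⊔ (X ⊓ centralizer (Y : Set S))).mul_mem (mem_sup_right hc) (mem_sup_left hy0)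
  obtain ⟨hZ2, hDerY, -, -, hYna⟩ := q8_basic Y hYQ
  have hCne : X ⊓ centralizer (Y : Set S) ≠ X := by
    intro h
    apply hYna
    intro x hx y hy
    have hyC : y ∈ X ⊓ centralizer (Y : Set S) := by rw [h]; exact hY2 hy
    exact ((mem_centralizer_iff.mp hyC.2) x hx)
  have hKC : K ≤ normalizer ((X ⊓ centralizer (Y : Set S) : Subgroup S) : Set S) :=
    fun k hk => TB2_aux_norm_inf_cent X Y (hKX hk) (hY4 hk)
  have hCK : ⁅X ⊓ centralizer (Y : Set S), K⁆ ≠ ⊥ := by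
    intro h
    apply hY3
    apply le_antisymm hY2
    rw [← hXK, commutator_le]
    intro x hx k hk
    obtain ⟨c, hc, y0, hy0, rfl⟩ := hdec x hx
    have hck : ⁅c, k⁆ = 1 := by
      have : ⁅c, k⁆ ∈ ⁅X ⊓ centralizer (Y : Set S), K⁆ := commutator_mem_commutator hc hk
      rwa [h, mem_bot] at this
    have hck' : k * c⁻¹ * k⁻¹ = c⁻¹ := by
      rw [commutatorElement_def] at hck
      calc k * c⁻¹ * k⁻¹ = c⁻¹ * (c * k * c⁻¹ * k⁻¹) := by group
        _ = c⁻¹ := by rw [hck, mul_one]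
    have hyk : ⁅y0, k⁆ ∈ Y := by
      rw [commutatorElement_def]
      have h1 : k * y0⁻¹ * k⁻¹ ∈ Y := (mem_normalizer_iff.mp (hY4 hk) _).mp (Y.inv_mem hy0)
      have := Y.mul_mem hy0 h1
      have e : y0 * (k * y0⁻¹ * k⁻¹) = y0 * k * y0⁻¹ * k⁻¹ := by group
      rwa [e] at this
    have hcy := (mem_centralizer_iff.mp hc.2) _ hyk
    have e : ⁅c * y0, k⁆ = ⁅y0, k⁆ := by
      calc ⁅c * y0, k⁆ = c * (y0 * k * y0⁻¹ * k⁻¹) * (k * c⁻¹ * k⁻¹) := by
            rw [commutatorElement_def]; group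
        _ = c * ⁅y0, k⁆ * c⁻¹ := by rw [hck', commutatorElement_def]
        _ = ⁅y0, k⁆ * c * c⁻¹ := by rw [← hcy]
        _ = ⁅y0, k⁆ := by group
    rw [e]
    exact hyk
  have hint : Y ⊓ (X ⊓ centralizer (Y : Set S)) = Zc Y := by
    unfold Zc
    rw [← inf_assoc, inf_eq_left.mpr hY2]
  rcases hI _ inf_le_left hCne hKC hCK with hV | hQ
  · exfalso
    have hZC : Zc Y ≤ X ⊓ centralizer (Y : Set S) := by rw [← hint]; exact inf_le_right
    have hKZ : K ≤ normalizer ((Zc Y : Subgroup S) : Set S) :=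
      fun k hk => TB2_aux_norm_inf_cent Y Y (hY4 hk) (hY4 hk)
    rcases hV2 _ hV hKC hCK (Zc Y) hZC hKZ with h | h
    · rw [h] at hZ2
      simp at hZ2
    · rw [h, hV.1] at hZ2
      omega
  · have h := hQ6 _ hQ inf_le_right hint
    rw [hXYC] at h
    exact h

end Cfsg.Agent.S4409P
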