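import Mathlib
import Cfsg.Agent.Helper11.S4409Defs
import Cfsg.Agent.Helper9.S4409F
import Cfsg.Agent.Helper1.S4409TB2core
import Cfsg.Agent.Helper6.S4409Q2
import Cfsg.Agent.Helper9.S4409V
import Cfsg.Agent.Helper10.S4409Q6

/-! Board `s4409pieces`, row TB2 (helper1): `tcore_b2`, the case `Y = Q8`, `[Y,K] ≠ 1` (wrapper of `tcore_b2_core`). -/

set_option autoImplicit false
set_option linter.unusedVariables false
set_option linter.unusedSectionVars false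

namespace Cfsg.Agent.S4409P

open Subgroup
open scoped commutatorElement

variable {S : Type*} [Group S] [Finite S]

/-- TB2 : case `Y = Q8`, `[Y,K] ≠ 1`. -/
theorem tcore_b2 (X K Y : Subgroup S) (hX : IsPGroup 2 ↥X) (hK : Odd (Nat.card ↥K)) (hKX : K ≤ normalizer (X : Set S))
    (hXK : ⁅X, K⁆ = X) (hna : ¬ IsAb X) (hI : IHyp X K)
    (hY1 : Fr X ≤ Y) (hY2 : Y ≤ X) (hY3 : Y ≠ X) (hY4 : K ≤ normalizer (Y : Set S))
    (hY5 : ∀ H : Subgroup S, Y ≤ H → H ≤ X → K ≤ normalizer (H : Set S) → H = Y ∨ H = X)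
    (hYQ : IsQ8 Y) (hYK : ⁅Y, K⁆ ≠ ⊥) :
    SpecialInt X ∧ Nat.card ↥(Zc X) = 2 ∧ Nat.card ↥X = 32 :=
  tcore_b2_core X K Y hX hK hKX hXK hna hI hY1 hY2 hY3 hY4 hY5 hYQ hYK
    (q8_idx Y X hYQ hX hY2 (normal_of_fr_le X Y hX hY1 hY2))
    (fun C hV hKC hCK H hHC hKH => v4_sub C K hV hK hKC hCK H hHC hKH)
    (fun C hQ hCY hint => q8q8 Y C hYQ hQ hCY hint)

end Cfsg.Agent.S4409P
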