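import Cfsg.Agent.Helper3.S4411Defs
import Cfsg.Agent.Helper14.Irreducible

set_option autoImplicit false

/-! S4411 piece SYLN (board `s4411pieces`): a Sylow `p`-subgroup meets a normal subgroup in a Sylow `p`-subgroup of it. -/

namespace Cfsg.Agent.S4411P

open Cfsg

/-- a Sylow `p`-subgroup meets a normal subgroup in a Sylow `p`-subgroup of it. -/
theorem SYLN {Y : Type*} [Group Y] [Finite Y] (p : ℕ) [Fact p.Prime] (R : Sylow p Y) (N : Subgroup Y) [N.Normal] :
    ∃ R' : Sylow p ↥N, (R' : Subgroup ↥N).map N.subtype = (R : Subgroup Y) ⊓ N := by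
  have h := Cfsg.Agent.Helper14.sylow_inf_normal_isSylowIn R N
  exact ⟨h.toSylow, h.toSylow_map⟩

end Cfsg.Agent.S4411P
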