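import Cfsg.Agent.Helper3.S4411Defs
import Cfsg.Agent.Helper1.S4411SYLN
import Cfsg.Agent.Helper10.SolvPSolv

set_option autoImplicit false

/-! S4411 piece ORDPSOL (board `s4411pieces`): if `C_R(H) ≤ H` and `N_G(H)/C_G(H)` is `p`-solvable then `N_G(H)` is
`p`-solvable. -/

namespace Cfsg.Agent.S4411P

open Cfsg

/-- transport of `IsPSolvable` along an isomorphism -/
theorem ORD_psol_aux_equiv {G H : Type*} [Group G] [Group H] {p : ℕ} (e : G ≃* H)
    (hG : Cfsg.IsPSolvable p G) : Cfsg.IsPSolvable p H := by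
  obtain ⟨n, K, h0, hlast, hmono, hnorm, hfac⟩ := hG
  refine ⟨n, fun i => (K i).map e.toMonoidHom, ?_, ?_, ?_, ?_, ?_⟩
  · simp only [h0, Subgroup.map_bot]
  · simp only [hlast]
    exact Subgroup.map_top_of_surjective _ e.surjective
  · intro i j hij
    exact Subgroup.map_mono (hmono hij)
  · intro i
    exact (hnorm i).map _ e.surjective
  · intro i
    rw [Subgroup.relIndex_map_map_of_injective _ _ e.injective]
    exact hfac i

/-- `X/K` `p`-solvable, `Z ≤ K` both normal, `Z` a `p`-group, `|K : Z|` prime to `p` ⟹ `X` `p`-solvable. -/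
theorem ORD_psol_aux_two {X : Type*} [Group X] [Finite X] {p : ℕ} [Fact p.Prime]
    (K Z : Subgroup X) [K.Normal] [Z.Normal] (hZK : Z ≤ K) (hZ : IsPGroup p Z)
    (hKZ : (Z.relIndex K).Coprime p) (h : Cfsg.IsPSolvable p (X ⧸ K)) : Cfsg.IsPSolvable p X := by
  apply Cfsg.Agent.Helper10.isPSolvable_of_quotient' Z (Or.inl hZ.exists_card_eq)
  apply Cfsg.Agent.Helper10.isPSolvable_of_quotient' (K.map (QuotientGroup.mk' Z))
  · right
    have h1 : Nat.card (K.map (QuotientGroup.mk' Z)) = Z.relIndex K := by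
      rw [← Subgroup.relIndex_bot_left, ← Subgroup.relIndex_comap]
      congr 1
      exact QuotientGroup.ker_mk' Z
    rw [h1]
    exact hKZ
  · exact ORD_psol_aux_equiv (QuotientGroup.quotientQuotientEquivQuotient Z K hZK).symm h

/-- the general form, `N ≤ N_G(H)` -/
theorem ORD_psol_aux_main {G : Type*} [Group G] [Finite G] (p : ℕ) [Fact p.Prime]
    (H : Subgroup G) (hH : IsPGroup p H) (N : Subgroup G) (hNle : N ≤ Subgroup.normalizer (H : Set G))
    [hCn : ((Subgroup.centralizer (H : Set G)).subgroupOf N).Normal]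
    (hsol : Cfsg.IsPSolvable p (↥N ⧸ (Subgroup.centralizer (H : Set G)).subgroupOf N))
    (R : Sylow p ↥N)
    (hC : (R : Subgroup _).map N.subtype ⊓ Subgroup.centralizer (H : Set G) ≤ H) :
    Cfsg.IsPSolvable p ↥N := by
  classical
  have hZn : ((H ⊓ Subgroup.centralizer (H : Set G)).subgroupOf N).Normal := by
    constructor
    intro z hz n
    rw [Subgroup.mem_subgroupOf] at hz ⊢
    have hn : (n : G) ∈ Subgroup.normalizer (H : Set G) := hNle n.2
    have hz1 : (z : G) ∈ H := hz.1
    have hz2 : (z : G) ∈ Subgroup.centralizer (H : Set G) := hz.2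
    have e : ((n * z * n⁻¹ : N) : G) = (n : G) * (z : G) * (n : G)⁻¹ := by push_cast; rfl
    rw [e]
    refine Subgroup.mem_inf.mpr ⟨(Subgroup.mem_normalizer_iff.mp hn _).mp hz1, ?_⟩
    rw [Subgroup.mem_centralizer_iff]
    intro h hh
    have h3 : (n : G)⁻¹ * h * (n : G) ∈ H := (Subgroup.mem_normalizer_iff''.mp hn h).mp hh
    have h4 := (Subgroup.mem_centralizer_iff.mp hz2) _ h3
    calc h * ((n : G) * (z : G) * (n : G)⁻¹)
        = (n : G) * (((n : G)⁻¹ * h * (n : G)) * (z : G)) * (n : G)⁻¹ := by group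
      _ = (n : G) * ((z : G) * ((n : G)⁻¹ * h * (n : G))) * (n : G)⁻¹ := by rw [h4]
      _ = (n : G) * (z : G) * (n : G)⁻¹ * h := by group
  have hZC : (H ⊓ Subgroup.centralizer (H : Set G)).subgroupOf N ≤
      (Subgroup.centralizer (H : Set G)).subgroupOf N := by
    intro x hx
    rw [Subgroup.mem_subgroupOf] at hx ⊢
    exact hx.2
  have hZp : IsPGroup p ((H ⊓ Subgroup.centralizer (H : Set G)).subgroupOf N) := by
    have : IsPGroup p ((H ⊓ Subgroup.centralizer (H : Set G) : Subgroup G)) := hH.to_le inf_le_left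
    exact this.comap_subtype
  obtain ⟨R'', hR''⟩ := SYLN p R ((Subgroup.centralizer (H : Set G)).subgroupOf N)
  have hRC : (R : Subgroup N) ⊓ (Subgroup.centralizer (H : Set G)).subgroupOf N ≤
      (H ⊓ Subgroup.centralizer (H : Set G)).subgroupOf N := by
    intro x hx
    rw [Subgroup.mem_subgroupOf]
    have hx1 : x ∈ (R : Subgroup N) := hx.1
    have hx2 : x ∈ (Subgroup.centralizer (H : Set G)).subgroupOf N := hx.2
    rw [Subgroup.mem_subgroupOf] at hx2
    have : (x : G) ∈ (R : Subgroup N).map N.subtype ⊓ Subgroup.centralizer (H : Set G) :=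
      Subgroup.mem_inf.mpr ⟨⟨x, hx1, rfl⟩, hx2⟩
    exact Subgroup.mem_inf.mpr ⟨hC this, hx2⟩
  have hcop : (((H ⊓ Subgroup.centralizer (H : Set G)).subgroupOf N).relIndex
      ((Subgroup.centralizer (H : Set G)).subgroupOf N)).Coprime p := by
    have h1 := Subgroup.relIndex_dvd_of_le_left ((Subgroup.centralizer (H : Set G)).subgroupOf N) hRC
    have h2 : ¬ p ∣ ((R : Subgroup N) ⊓ (Subgroup.centralizer (H : Set G)).subgroupOf N).relIndex
        ((Subgroup.centralizer (H : Set G)).subgroupOf N) := by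
      rw [← hR'']
      have h3 : ((R'' : Subgroup ↥((Subgroup.centralizer (H : Set G)).subgroupOf N)).map ((Subgroup.centralizer (H : Set G)).subgroupOf N).subtype).relIndex
          ((Subgroup.centralizer (H : Set G)).subgroupOf N) = (R'' : Subgroup ↥((Subgroup.centralizer (H : Set G)).subgroupOf N)).index := by
        show (((R'' : Subgroup ↥((Subgroup.centralizer (H : Set G)).subgroupOf N)).map ((Subgroup.centralizer (H : Set G)).subgroupOf N).subtype).comap
          ((Subgroup.centralizer (H : Set G)).subgroupOf N).subtype).index = _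
        rw [Subgroup.comap_map_eq_self_of_injective (Subgroup.subtype_injective _)]
      rw [h3]
      exact Sylow.not_dvd_index R''
    have h4 : ¬ p ∣ ((H ⊓ Subgroup.centralizer (H : Set G)).subgroupOf N).relIndex
      ((Subgroup.centralizer (H : Set G)).subgroupOf N) := fun h => h2 (h.trans h1)
    exact ((Nat.Prime.coprime_iff_not_dvd Fact.out).mpr h4).symm
  exact ORD_psol_aux_two _ _ hZC hZp hcop hsol

/-- if `C_R(H) ≤ H` and `N_G(H)/C_G(H)` is `p`-solvable then `N_G(H)` is `p`-solvable. -/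
theorem ORD_psol {G : Type*} [Group G] [Finite G] (p : ℕ) [Fact p.Prime]
    (H : Subgroup G) (hH : IsPGroup p H)
    (hsol : Cfsg.IsPSolvable p (↥(Subgroup.normalizer (H : Set G)) ⧸
      (Subgroup.centralizer (H : Set G)).subgroupOf (Subgroup.normalizer (H : Set G))))
    (R : Sylow p ↥(Subgroup.normalizer (H : Set G)))
    (hC : (R : Subgroup _).map (Subgroup.normalizer (H : Set G)).subtype ⊓ Subgroup.centralizer (H : Set G) ≤ H) :
    Cfsg.IsPSolvable p ↥(Subgroup.normalizer (H : Set G)) :=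
  ORD_psol_aux_main p H hH _ le_rfl hsol R hC

end Cfsg.Agent.S4411P
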