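import Mathlib
import Cfsg.Agent.Helper9.S4415Defs

/-!
# Board `s4415pieces`, row D1C (core) : `D1C_aux_main` = `odd_is_c13` with MOD2, MOD3, MOD6 as hypotheses

An `r`-group (`r` odd) `T₀ ≠ 1` in the class `𝒴` with `|[E,T₀]| ≤ 81` has order `13` and `|[E,T₀]| = 27`.
-/

set_option autoImplicit false
set_option linter.style.haveILetI false
set_option linter.unusedSectionVars false

namespace Cfsg.Agent.S4415P

open Subgroup

variable {S : Type*} [Group S] [Finite S] {E : Type*} [AddCommGroup E] [Module (ZMod 3) E] [Finite E]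

/-- the action of `H` on an `H`-invariant subspace. -/
@[reducible] def D1C_aux_act (ρ : Representation (ZMod 3) S E) (H : Subgroup S) (U : Submodule (ZMod 3) E)
    (hinv : Inv ρ H U) : MulAction ↥H ↥U where
  smul h u := ⟨ρ h u, hinv h h.2 u u.2⟩
  one_smul u := by
    apply Subtype.ext
    change ρ ((1 : ↥H) : S) (u : E) = u
    simp
  mul_smul g h u := by
    apply Subtype.ext
    change ρ ((g * h : ↥H) : S) (u : E) = ρ g (ρ h u)
    simp

theorem D1C_aux_card_pow (U : Submodule (ZMod 3) E) : ∃ k : ℕ, Nat.card ↥U = 3 ^ k :=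
  ⟨_, by rw [Module.natCard_eq_pow_finrank (K := ZMod 3), Nat.card_zmod]⟩

/-- fixed point congruence for an `r`-group acting on an invariant subspace. -/
theorem D1C_aux_modEq (ρ : Representation (ZMod 3) S E) (r : ℕ) [Fact r.Prime] (H : Subgroup S)
    (hH : IsPGroup r ↥H) (U : Submodule (ZMod 3) E) (hinv : Inv ρ H U) :
    Nat.card ↥U ≡ Nat.card ↥(U ⊓ CE ρ H : Submodule (ZMod 3) E) [MOD r] := by
  letI := D1C_aux_act ρ H U hinv
  have h1 := hH.card_modEq_card_fixedPoints ↥U
  have h2 : Nat.card ↥(MulAction.fixedPoints ↥H ↥U) = Nat.card ↥(U ⊓ CE ρ H : Submodule (ZMod 3) E) := by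
    apply Nat.card_congr
    refine
      { toFun := fun x => ⟨x.1.1, ⟨x.1.2, fun y hy => ?_⟩⟩
        invFun := fun x => ⟨⟨x.1, x.2.1⟩, fun y => Subtype.ext (x.2.2 y.1 y.2)⟩
        left_inv := fun x => rfl
        right_inv := fun x => rfl }
    have := x.2 ⟨y, hy⟩
    exact congrArg Subtype.val this
  rw [h2] at h1
  exact h1

theorem D1C_aux_mem_CE_zpowers (ρ : Representation (ZMod 3) S E) (u : S) (v : E) (h : ρ u v = v) :
    v ∈ CE ρ (zpowers u) := by
  intro y hy
  obtain ⟨n, rfl⟩ := mem_zpowers_iff.1 hy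
  have hinv : ρ u⁻¹ v = v := by
    have : ρ u⁻¹ (ρ u v) = v := by
      rw [← Module.End.mul_apply, ← map_mul, inv_mul_cancel, map_one, Module.End.one_apply]
    rw [h] at this
    exact this
  clear hy
  induction n using Int.induction_on with
  | zero => simp
  | succ n ih =>
    rw [zpow_add_one, map_mul, Module.End.mul_apply, h, ih]
  | pred n ih =>
    rw [zpow_sub_one, map_mul, Module.End.mul_apply, hinv, ih]

/-- Burnside counting: a group acting semiregularly on the nonzero vectors of an invariant subspace. -/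
theorem D1C_aux_semireg (ρ : Representation (ZMod 3) S E) (H : Subgroup S) (U : Submodule (ZMod 3) E)
    (hinv : Inv ρ H U) (hfree : ∀ h ∈ H, h ≠ 1 → ∀ v ∈ U, ρ h v = v → v = 0) :
    Nat.card ↥H ∣ Nat.card ↥U - 1 := by
  classical
  letI := D1C_aux_act ρ H U hinv
  letI : Fintype ↥H := Fintype.ofFinite _
  letI : Fintype ↥U := Fintype.ofFinite _
  letI : ∀ g : ↥H, Fintype ↥(MulAction.fixedBy ↥U g) := fun g => Fintype.ofFinite _
  letI : Fintype (Quotient (MulAction.orbitRel ↥H ↥U)) := Fintype.ofFinite _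
  have hB := MulAction.sum_card_fixedBy_eq_card_orbits_mul_card_group ↥H ↥U
  have h1 : Fintype.card ↥(MulAction.fixedBy ↥U (1 : ↥H)) = Fintype.card ↥U := by
    apply Fintype.card_congr
    exact
      { toFun := fun x => x.1
        invFun := fun x => ⟨x, by simp⟩
        left_inv := fun x => rfl
        right_inv := fun x => rfl }
  have h2 : ∀ g : ↥H, g ≠ 1 → Fintype.card ↥(MulAction.fixedBy ↥U g) = 1 := by
    intro g hg
    rw [Fintype.card_eq_one_iff]
    refine ⟨⟨0, ?_⟩, ?_⟩
    · rw [MulAction.mem_fixedBy]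
      apply Subtype.ext
      change ρ (g : S) ((0 : ↥U) : E) = ((0 : ↥U) : E)
      simp
    · rintro ⟨x, hx⟩
      apply Subtype.ext
      apply Subtype.ext
      rw [MulAction.mem_fixedBy] at hx
      have hx' : ρ (g : S) (x : E) = x := congrArg Subtype.val hx
      have hg' : (g : S) ≠ 1 := fun h => hg (Subtype.ext h)
      simpa using hfree g g.2 hg' x x.2 hx'
  rw [← Finset.add_sum_erase Finset.univ _ (Finset.mem_univ (1 : ↥H)), h1,
    Finset.sum_congr rfl (fun g hg => h2 g (Finset.ne_of_mem_erase hg)), Finset.sum_const,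
    Finset.card_erase_of_mem (Finset.mem_univ _), Finset.card_univ, smul_eq_mul, mul_one] at hB
  rw [Nat.card_eq_fintype_card, Nat.card_eq_fintype_card]
  have hpos : 0 < Fintype.card ↥H := Fintype.card_pos
  have hposU : 0 < Fintype.card ↥U := Fintype.card_pos
  have : Fintype.card ↥U - 1 + Fintype.card ↥H =
      Fintype.card (Quotient (MulAction.orbitRel ↥H ↥U)) * Fintype.card ↥H := by omega
  have hd : Fintype.card ↥H ∣ Fintype.card ↥U - 1 + Fintype.card ↥H := ⟨_, by rw [this, mul_comm]⟩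
  exact (Nat.dvd_add_left (dvd_refl _)).1 hd

/-- the conjugation action of `B ≤ N(T)` on `T`. -/
@[reducible] def D1C_aux_conjAct (B T : Subgroup S) (hN : B ≤ normalizer (T : Set S)) : MulAction ↥B ↥T where
  smul b t := ⟨(b : S) * t * (b : S)⁻¹, (mem_normalizer_iff.1 (hN b.2) t).1 t.2⟩
  one_smul t := by
    apply Subtype.ext
    change ((1 : ↥B) : S) * t * ((1 : ↥B) : S)⁻¹ = t
    simp
  mul_smul g h t := by
    apply Subtype.ext
    change ((g * h : ↥B) : S) * t * ((g * h : ↥B) : S)⁻¹ = (g : S) * ((h : S) * t * (h : S)⁻¹) * (g : S)⁻¹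
    simp [mul_assoc]

/-- a group of order `3` normalising a group of order `5` centralises it. -/
theorem D1C_aux_cent_of_card (B T : Subgroup S) (hB : Nat.card ↥B = 3) (hT : Nat.card ↥T = 5)
    (hN : B ≤ normalizer (T : Set S)) : T ≤ centralizer (B : Set S) := by
  let _ := D1C_aux_conjAct B T hN
  haveI : Fact (Nat.Prime 3) := ⟨by norm_num⟩
  have hB3 : IsPGroup 3 ↥B := IsPGroup.of_card (n := 1) (by rw [hB]; norm_num)
  have h1 := hB3.card_modEq_card_fixedPoints ↥T
  -- the fixed points form the subgroup `T ⊓ C(B)`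
  have h2 : Nat.card ↥(MulAction.fixedPoints ↥B ↥T) = Nat.card ↥(T ⊓ centralizer (B : Set S) : Subgroup S) := by
    apply Nat.card_congr
    refine
      { toFun := fun x => ⟨x.1.1, ⟨x.1.2, fun y hy => ?_⟩⟩
        invFun := fun x => ⟨⟨x.1, x.2.1⟩, fun y => Subtype.ext ?_⟩
        left_inv := fun x => rfl
        right_inv := fun x => rfl }
    · have := congrArg Subtype.val (x.2 ⟨y, hy⟩)
      change y * (x.1 : S) * y⁻¹ = x.1 at this
      rw [mul_inv_eq_iff_eq_mul] at this
      exact this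
    · have := x.2.2 y.1 y.2
      change (y : S) * x.1 * (y : S)⁻¹ = x.1
      rw [mul_inv_eq_iff_eq_mul]
      exact this
  rw [h2, hT] at h1
  have hdvd : Nat.card ↥(T ⊓ centralizer (B : Set S) : Subgroup S) ∣ 5 := by
    rw [← hT]
    exact Subgroup.card_dvd_of_le inf_le_left
  have h5 : Nat.card ↥(T ⊓ centralizer (B : Set S) : Subgroup S) = 5 := by
    have hp : Nat.Prime 5 := by norm_num
    rcases (Nat.dvd_prime hp).1 hdvd with h | h
    · rw [h] at h1
      exact absurd h1 (by decide)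
    · exact h
  have heq : T ⊓ centralizer (B : Set S) = T := by
    apply Subgroup.eq_of_le_of_card_ge inf_le_left
    rw [h5, hT]
  rw [← heq]
  exact inf_le_right

theorem D1C_aux_main (ρ : Representation (ZMod 3) S E) (b : S) (B : Subgroup S) (hb : Base ρ b B) (r : ℕ)
    [Fact r.Prime] (hr2 : r ≠ 2) (T₀ : Subgroup S) (hT : IsPGroup r ↥T₀) (hY : YC B T₀) (hne : T₀ ≠ ⊥)
    (h81 : Nat.card ↥(ComE ρ T₀) ≤ 81)
    (hcompl : CE ρ T₀ ⊓ ComE ρ T₀ = ⊥)
    (hinvT : Inv ρ T₀ (ComE ρ T₀))
    (hfaith : ∀ u ∈ T₀, (∀ v ∈ ComE ρ T₀, ρ u v = v) → u = 1) :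
    Nat.card ↥T₀ = 13 ∧ Nat.card ↥(ComE ρ T₀) = 27 := by
  have hrp : r.Prime := Fact.out
  obtain ⟨n, hn⟩ := IsPGroup.exists_card_eq hT
  have hn0 : n ≠ 0 := by
    rintro rfl
    rw [pow_zero] at hn
    exact hne (Subgroup.card_eq_one.1 hn)
  have hr3 : r ≠ 3 := by
    rintro rfl
    have h3 : 3 ∣ Nat.card ↥T₀ := by rw [hn]; exact dvd_pow_self 3 hn0
    have := Nat.Coprime.eq_one_of_dvd hY.cop.symm h3
    omega
  set W := ComE ρ T₀ with hW
  obtain ⟨k, hk⟩ := D1C_aux_card_pow W
  have h1 : Nat.card ↥W ≡ 1 [MOD r] := by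
    have := D1C_aux_modEq ρ r T₀ hT W hinvT
    rw [inf_comm, hcompl] at this
    simpa using this
  have hk4 : k ≤ 4 := by
    rw [hk] at h81
    have : (3 : ℕ) ^ k ≤ 3 ^ 4 := by simpa using h81
    exact (Nat.pow_le_pow_iff_right (by norm_num)).1 this
  have hk0 : k ≠ 0 := by
    rintro rfl
    rw [pow_zero] at hk
    have hWbot : W = ⊥ := by
      have : Subsingleton ↥W := (Nat.card_eq_one_iff_unique.1 hk).1
      exact (Submodule.eq_bot_iff W).2 fun v hv => by
        have := Subsingleton.elim (⟨v, hv⟩ : ↥W) 0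
        exact congrArg Subtype.val this
    apply hne
    rw [Subgroup.eq_bot_iff_forall]
    intro u hu
    apply hfaith u hu
    intro v hv
    rw [hWbot, Submodule.mem_bot] at hv
    rw [hv, map_zero]
  have hdvd : r ∣ 3 ^ k - 1 := by
    rw [hk] at h1
    exact (Nat.modEq_iff_dvd' (Nat.one_le_pow _ _ (by norm_num))).1 h1.symm
  -- semiregularity
  have hsemi : ∀ u ∈ T₀, u ≠ 1 → ∀ v ∈ W, ρ u v = v → v = 0 := by
    intro u hu hu1 v hv huv
    have hzle : zpowers u ≤ T₀ := zpowers_le.2 hu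
    have hP : IsPGroup r ↥(zpowers u) := hT.to_le hzle
    have hinvu : Inv ρ (zpowers u) W := fun y hy w hw => hinvT y (hzle hy) w hw
    have hm := D1C_aux_modEq ρ r (zpowers u) hP W hinvu
    obtain ⟨j, hj⟩ := D1C_aux_card_pow (W ⊓ CE ρ (zpowers u))
    have hle : Nat.card ↥(W ⊓ CE ρ (zpowers u) : Submodule (ZMod 3) E) ≤ Nat.card ↥W :=
      Nat.card_le_card_of_injective (Submodule.inclusion inf_le_left) (Submodule.inclusion_injective _)
    have hjk : j ≤ k := by
      rw [hj, hk] at hle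
      exact (Nat.pow_le_pow_iff_right (by norm_num)).1 hle
    have hne' : W ⊓ CE ρ (zpowers u) ≠ W := by
      intro heq
      apply hu1
      apply hfaith u hu
      intro w hw
      have : w ∈ W ⊓ CE ρ (zpowers u) := by rw [heq]; exact hw
      exact this.2 u (mem_zpowers u)
    have hjk' : j ≠ k := by
      intro hjk'
      apply hne'
      have hcard : Nat.card ↥(W ⊓ CE ρ (zpowers u) : Submodule (ZMod 3) E) = Nat.card ↥W := by
        rw [hj, hk, hjk']
      have hinj : Function.Injective (Submodule.inclusion (inf_le_left : W ⊓ CE ρ (zpowers u) ≤ W)) :=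
        Submodule.inclusion_injective _
      have hbij : Function.Bijective (Submodule.inclusion (inf_le_left : W ⊓ CE ρ (zpowers u) ≤ W)) :=
        (Nat.bijective_iff_injective_and_card _).2 ⟨hinj, hcard⟩
      apply le_antisymm inf_le_left
      intro w hw
      obtain ⟨x, hx⟩ := hbij.2 ⟨w, hw⟩
      have : (x : E) = w := congrArg Subtype.val hx
      rw [← this]
      exact x.2
    have hj0 : j = 0 := by
      rw [hk, hj] at hm
      have hd2 : r ∣ 3 ^ k - 3 ^ j :=
        (Nat.modEq_iff_dvd' (Nat.pow_le_pow_right (by norm_num) hjk)).1 hm.symm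
      by_contra hj0
      have hrdj : ¬ r ∣ 3 ^ j := by
        intro h
        have := (Nat.prime_dvd_prime_iff_eq hrp (by norm_num : Nat.Prime 3)).1 (hrp.dvd_of_dvd_pow h)
        exact hr3 this
      have hlt : j < k := lt_of_le_of_ne hjk hjk'
      -- `3^k - 3^j = 3^j (3^(k-j) - 1)`
      have hfac : 3 ^ k - 3 ^ j = 3 ^ j * (3 ^ (k - j) - 1) := by
        rw [Nat.mul_sub, mul_one, ← pow_add, Nat.add_sub_cancel' hjk]
      rw [hfac] at hd2
      have hd3 : r ∣ 3 ^ (k - j) - 1 := by
        rcases (Nat.Prime.dvd_mul hrp).1 hd2 with h | h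
        · exact absurd h hrdj
        · exact h
      -- both `r ∣ 3^k - 1` and `r ∣ 3^(k-j) - 1` with `0 < k - j < k ≤ 4`
      interval_cases k <;> interval_cases j <;> simp at hd3 hdvd <;>
        first
          | omega
          | (have h2 := Nat.dvd_gcd hdvd hd3
             norm_num at h2
             first
              | exact hr2 ((Nat.prime_dvd_prime_iff_eq hrp Nat.prime_two).1 h2)
              | exact hr2 ((Nat.prime_dvd_prime_iff_eq hrp Nat.prime_two).1
                  (hrp.dvd_of_dvd_pow (show r ∣ 2 ^ 3 by norm_num; exact h2))))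
    rw [hj0, pow_zero] at hj
    have hbot : W ⊓ CE ρ (zpowers u) = ⊥ := by
      have : Subsingleton ↥(W ⊓ CE ρ (zpowers u) : Submodule (ZMod 3) E) := (Nat.card_eq_one_iff_unique.1 hj).1
      exact (Submodule.eq_bot_iff _).2 fun v hv => by
        have := Subsingleton.elim (⟨v, hv⟩ : ↥(W ⊓ CE ρ (zpowers u) : Submodule (ZMod 3) E)) 0
        exact congrArg Subtype.val this
    have hmem : v ∈ W ⊓ CE ρ (zpowers u) := ⟨hv, D1C_aux_mem_CE_zpowers ρ u v huv⟩
    rw [hbot, Submodule.mem_bot] at hmem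
    exact hmem
  have hBurn := D1C_aux_semireg ρ T₀ W hinvT hsemi
  rw [hn, hk] at hBurn
  have hk1 : 1 ≤ k := Nat.one_le_iff_ne_zero.2 hk0
  have hn1 : 1 ≤ n := Nat.one_le_iff_ne_zero.2 hn0
  have hr_of_two_pow : ∀ m : ℕ, r ∣ 2 ^ m → False := fun m h =>
    hr2 ((Nat.prime_dvd_prime_iff_eq hrp Nat.prime_two).1 (hrp.dvd_of_dvd_pow h))
  interval_cases k
  · exact (hr_of_two_pow 1 (by simpa using hdvd)).elim
  · exact (hr_of_two_pow 3 (by simpa using hdvd)).elim
  · -- `r ∣ 26`
    have h26 : r ∣ 2 * 13 := by simpa using hdvd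
    have hr13 : r = 13 := by
      rcases (Nat.Prime.dvd_mul hrp).1 h26 with h | h
      · exact absurd ((Nat.prime_dvd_prime_iff_eq hrp Nat.prime_two).1 h) hr2
      · exact (Nat.prime_dvd_prime_iff_eq hrp (by norm_num)).1 h
    subst hr13
    have hn' : n = 1 := by
      by_contra hne1
      have h2 : 2 ≤ n := by omega
      have := dvd_trans (pow_dvd_pow 13 h2) hBurn
      norm_num at this
    subst hn'
    exact ⟨by rw [hn]; norm_num, by rw [hk]; norm_num⟩
  · -- `r ∣ 80`
    have h80 : r ∣ 2 ^ 4 * 5 := by simpa using hdvd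
    have hr5 : r = 5 := by
      rcases (Nat.Prime.dvd_mul hrp).1 h80 with h | h
      · exact (hr_of_two_pow 4 h).elim
      · exact (Nat.prime_dvd_prime_iff_eq hrp (by norm_num)).1 h
    subst hr5
    have hn' : n = 1 := by
      by_contra hne1
      have h2 : 2 ≤ n := by omega
      have := dvd_trans (pow_dvd_pow 5 h2) hBurn
      norm_num at this
    subst hn'
    exfalso
    have hT5 : Nat.card ↥T₀ = 5 := by rw [hn]; norm_num
    have hcent := D1C_aux_cent_of_card B T₀ hb.card hT5 hY.norm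
    have hbot := commutator_eq_bot_iff_le_centralizer.2 hcent
    rw [hY.comm] at hbot
    exact hne hbot

end Cfsg.Agent.S4415P
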