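import Mathlib
import Cfsg.Agent.Helper9.S4415Defs
import Cfsg.Agent.Helper1.S4415D1Ccore
import Cfsg.Agent.Helper19.S4415MOD2
import Cfsg.Agent.Helper23.S4415MOD3
import Cfsg.Agent.Helper17.S4415MOD6S

/-!
# Board `s4415pieces`, row D1C : `odd_is_c13`
-/

set_option autoImplicit false

namespace Cfsg.Agent.S4415P

open Subgroup

variable {S : Type*} [Group S] [Finite S] {E : Type*} [AddCommGroup E] [Module (ZMod 3) E] [Finite E]

/-- **D1C** : an `r`-group (`r ≠ 2` prime) `T₀ ≠ 1` in `𝒴` with `|[E,T₀]| ≤ 81` has order `13`, and `|[E,T₀]| = 27`. -/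
theorem odd_is_c13 (ρ : Representation (ZMod 3) S E) (b : S) (B : Subgroup S) (hb : Base ρ b B) (r : ℕ)
    [Fact r.Prime] (hr2 : r ≠ 2) (T₀ : Subgroup S) (hT : IsPGroup r ↥T₀) (hY : YC B T₀) (hne : T₀ ≠ ⊥)
    (h81 : Nat.card ↥(ComE ρ T₀) ≤ 81) : Nat.card ↥T₀ = 13 ∧ Nat.card ↥(ComE ρ T₀) = 27 :=
  D1C_aux_main ρ b B hb r hr2 T₀ hT hY hne h81 (ce_comE_compl ρ T₀ hY.cop).1
    (fun t ht v hv => (inv_of_normalizer ρ T₀ t (le_normalizer ht)).2 v hv)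
    (fun u hu h => MOD6_aux_core ρ hb.faith T₀ (ce_comE_compl ρ T₀ hY.cop).2 T₀ (trivOn_CE ρ T₀) u hu h)

end Cfsg.Agent.S4415P
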