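import Mathlib

/-!
# Board `s4415pieces`, row V4B (linear algebra core)

`τ, σ` commuting involutions and `β` of order `3` with `σβ = βτ`, `τβ = βτσ` on a `ZMod 3`-module `E`; `W` an invariant
subspace with `C_W(⟨τ,σ⟩) = 0`, spanned by the fixed spaces of `τ, σ, τσ`, containing `range (β - 1)` (of order `9`) and
`range (τ - 1)`.  Then `|W| = 27`, `|C_W(τ)| = 3`, `|range (τ - 1)| = 9`.
-/

set_option autoImplicit false
set_option linter.unusedSectionVars false

namespace Cfsg.Agent.S4415P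

variable {E : Type*} [AddCommGroup E] [Module (ZMod 3) E] [Finite E]

theorem V4B_aux_three (w : E) : w + w + w = 0 := by
  have h : (3 : ZMod 3) = 0 := by decide
  calc w + w + w = (3 : ZMod 3) • w := by module
    _ = 0 := by rw [h, zero_smul]

/-- the parametrisation `(x, y, z) ↦ x + β y + β² z` of `W` by `L³`, `L = C_W(τ)`. -/
noncomputable def V4B_aux_Psi (β : E →ₗ[ZMod 3] E) (L : Submodule (ZMod 3) E) :
    (↥L × ↥L × ↥L) →ₗ[ZMod 3] E :=
  L.subtype.coprod ((β ∘ₗ L.subtype).coprod (β ∘ₗ β ∘ₗ L.subtype))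

theorem V4B_aux_Psi_apply (β : E →ₗ[ZMod 3] E) (L : Submodule (ZMod 3) E) (p : ↥L × ↥L × ↥L) :
    V4B_aux_Psi β L p = (p.1 : E) + (β (p.2.1 : E) + β (β (p.2.2 : E))) := by
  simp [V4B_aux_Psi, LinearMap.coprod_apply]

theorem V4B_aux_lin (τ σ β : E →ₗ[ZMod 3] E) (W : Submodule (ZMod 3) E)
    (hττ : ∀ v, τ (τ v) = v) (hσσ : ∀ v, σ (σ v) = v) (hτσ : ∀ v, τ (σ v) = σ (τ v))
    (hσβ : ∀ v, σ (β v) = β (τ v)) (hτβ : ∀ v, τ (β v) = β (τ (σ v))) (hβ3 : ∀ v, β (β (β v)) = v)
    (hWσ : ∀ v ∈ W, σ v ∈ W) (hWβ : ∀ v ∈ W, β v ∈ W)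
    (hfix : ∀ v ∈ W, τ v = v → σ v = v → v = 0)
    (hspan : ∀ w ∈ W, ∃ x y z : E, x ∈ W ∧ τ x = x ∧ y ∈ W ∧ σ y = y ∧ z ∈ W ∧ τ (σ z) = z ∧ w = x + y + z)
    (hN : ∀ v, β v - v ∈ W) (hτW : ∀ v, τ v - v ∈ W)
    (h9 : Nat.card ↥(LinearMap.range (β - 1)) = 9) :
    Nat.card ↥W = 27 ∧ Nat.card ↥(W ⊓ LinearMap.ker (τ - 1) : Submodule (ZMod 3) E) = 3 ∧
      Nat.card ↥(LinearMap.range (τ - 1)) = 9 := by
  set L : Submodule (ZMod 3) E := W ⊓ LinearMap.ker (τ - 1) with hL
  have memL : ∀ x : E, x ∈ L ↔ x ∈ W ∧ τ x = x := by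
    intro x
    rw [hL, Submodule.mem_inf, LinearMap.mem_ker, LinearMap.sub_apply, Module.End.one_apply, sub_eq_zero]
  have h3 := V4B_aux_three (E := E)
  -- the action on `L`, `β L`, `β² L`
  have hσL : ∀ x ∈ L, σ x = -x := by
    intro x hx
    obtain ⟨hxW, hτx⟩ := (memL x).1 hx
    have hy : σ x + x = 0 := by
      apply hfix _ (W.add_mem (hWσ x hxW) hxW)
      · rw [map_add, hτσ, hτx]
      · rw [map_add, hσσ, add_comm]
    exact eq_neg_of_add_eq_zero_left hy
  have hτβL : ∀ x ∈ L, τ (β x) = -β x := by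
    intro x hx
    rw [hτβ, hσL x hx, map_neg, ((memL x).1 hx).2, map_neg]
  have hσβL : ∀ x ∈ L, σ (β x) = β x := by
    intro x hx
    rw [hσβ, ((memL x).1 hx).2]
  have hτββL : ∀ x ∈ L, τ (β (β x)) = -β (β x) := by
    intro x hx
    rw [hτβ, hσβL x hx, hτβL x hx, map_neg]
  have hσββL : ∀ x ∈ L, σ (β (β x)) = -β (β x) := by
    intro x hx
    rw [hσβ, hτβL x hx, map_neg]
  have hβinj : ∀ v, β v = 0 → v = 0 := by
    intro v hv
    have := hβ3 v
    rw [hv, map_zero, map_zero] at this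
    exact this.symm
  -- extraction of the components
  have hext : ∀ p : ↥L × ↥L × ↥L,
      V4B_aux_Psi β L p + τ (V4B_aux_Psi β L p) = -(p.1 : E) ∧
      V4B_aux_Psi β L p + σ (V4B_aux_Psi β L p) = -β (p.2.1 : E) ∧
      V4B_aux_Psi β L p + τ (σ (V4B_aux_Psi β L p)) = -β (β (p.2.2 : E)) := by
    intro p
    obtain ⟨x, y, z⟩ := p
    have e1 := ((memL x).1 x.2).2
    have e2 := hσL x x.2
    have e3 := hτβL y y.2
    have e4 := hσβL y y.2
    have e5 := hτββL z z.2
    have e6 := hσββL z z.2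
    simp only [V4B_aux_Psi_apply, map_add, map_neg, e1, e2, e3, e4, e5, e6, neg_neg]
    refine ⟨?_, ?_, ?_⟩
    · linear_combination (norm := module) h3 (x : E)
    · linear_combination (norm := module) h3 (β (y : E))
    · linear_combination (norm := module) h3 (β (β (z : E)))
  have hinj : Function.Injective (V4B_aux_Psi β L) := by
    rw [injective_iff_map_eq_zero]
    intro p hp
    obtain ⟨h1, h2, h4⟩ := hext p
    rw [hp] at h1 h2 h4
    simp only [map_zero, add_zero] at h1 h2 h4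
    have hx : (p.1 : E) = 0 := by
      have := h1.symm; rwa [neg_eq_zero] at this
    have hy : (p.2.1 : E) = 0 := by
      apply hβinj
      have := h2.symm; rwa [neg_eq_zero] at this
    have hz : (p.2.2 : E) = 0 := by
      apply hβinj; apply hβinj
      have := h4.symm; rwa [neg_eq_zero] at this
    apply Prod.ext
    · exact Subtype.ext hx
    · apply Prod.ext
      · exact Subtype.ext hy
      · exact Subtype.ext hz
  -- `τ β² = β² σ` and `τσ`-fixed vectors
  have hτββ : ∀ v, τ (β (β v)) = β (β (σ v)) := by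
    intro v
    rw [hτβ, hσβ, hτβ, hτσ (τ v), hττ]
  -- the range of `Ψ` is `W`
  have hPsiW : ∀ p, V4B_aux_Psi β L p ∈ W := by
    intro p
    rw [V4B_aux_Psi_apply]
    exact W.add_mem ((memL _).1 p.1.2).1
      (W.add_mem (hWβ _ ((memL _).1 p.2.1.2).1) (hWβ _ (hWβ _ ((memL _).1 p.2.2.2).1)))
  have hrange : LinearMap.range (V4B_aux_Psi β L) = W := by
    apply le_antisymm
    · rintro _ ⟨p, rfl⟩
      exact hPsiW p
    · intro w hw
      obtain ⟨x, y, z, hxW, hx, hyW, hy, hzW, hz, rfl⟩ := hspan w hw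
      have hxL : x ∈ L := (memL x).2 ⟨hxW, hx⟩
      have hyL : β (β y) ∈ L := (memL _).2 ⟨hWβ _ (hWβ _ hyW), by rw [hτββ, hy]⟩
      have hzL : β z ∈ L := (memL _).2 ⟨hWβ _ hzW, by rw [hτβ, hz]⟩
      refine ⟨(⟨x, hxL⟩, ⟨β (β y), hyL⟩, ⟨β z, hzL⟩), ?_⟩
      rw [V4B_aux_Psi_apply]
      simp only [hβ3]
      abel
  have hcardW : Nat.card ↥W = Nat.card ↥L * (Nat.card ↥L * Nat.card ↥L) := by
    rw [← hrange, ← Nat.card_congr (LinearEquiv.ofInjective (V4B_aux_Psi β L) hinj).toEquiv, Nat.card_prod,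
      Nat.card_prod]
  -- the trace-zero part
  let ι : (↥L × ↥L) →ₗ[ZMod 3] (↥L × ↥L × ↥L) :=
    (LinearMap.fst _ _ _).prod ((LinearMap.snd _ _ _).prod (-(LinearMap.fst _ _ _) - LinearMap.snd _ _ _))
  have hι : ∀ q : ↥L × ↥L, ι q = (q.1, q.2, -q.1 - q.2) := fun q => rfl
  have hιinj : Function.Injective ι := by
    intro q q' h
    rw [hι, hι] at h
    have h1 := congrArg Prod.fst h
    have h2 := congrArg (fun r => r.2.1) h
    exact Prod.ext h1 h2
  have hrangeN : LinearMap.range (V4B_aux_Psi β L ∘ₗ ι) = LinearMap.range (β - 1) := by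
    apply le_antisymm
    · rintro _ ⟨q, rfl⟩
      refine ⟨-β (q.2 : E) + β (β (q.1 : E)), ?_⟩
      rw [LinearMap.comp_apply, hι, V4B_aux_Psi_apply, LinearMap.sub_apply, Module.End.one_apply]
      simp only [map_add, map_neg, hβ3, Submodule.coe_sub, Submodule.coe_neg, map_sub]
      abel
    · rintro _ ⟨v, rfl⟩
      rw [LinearMap.sub_apply, Module.End.one_apply]
      have hmem : β v - v ∈ LinearMap.range (V4B_aux_Psi β L) := by rw [hrange]; exact hN v
      obtain ⟨p, hp⟩ := hmem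
      -- the sum of the components vanishes
      have hsum : (p.1 : E) + p.2.1 + p.2.2 = 0 := by
        have h0 : (β v - v) + β (β v - v) + β (β (β v - v)) = 0 := by
          simp only [map_sub, hβ3]
          abel
        rw [← hp, V4B_aux_Psi_apply] at h0
        simp only [map_add, hβ3] at h0
        have hs : V4B_aux_Psi β L (p.1 + p.2.1 + p.2.2, p.1 + p.2.1 + p.2.2, p.1 + p.2.1 + p.2.2) = 0 := by
          rw [V4B_aux_Psi_apply]
          simp only [Submodule.coe_add, map_add]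
          rw [← h0]
          abel
        have := (injective_iff_map_eq_zero (V4B_aux_Psi β L)).1 hinj _ hs
        have h1 := congrArg (fun r : ↥L × ↥L × ↥L => (r.1 : E)) this
        simpa using h1
      refine ⟨(p.1, p.2.1), ?_⟩
      rw [LinearMap.comp_apply, hι, ← hp]
      congr 1
      refine Prod.ext ?_ (Prod.ext ?_ ?_)
      · rfl
      · rfl
      apply Subtype.ext
      simp only [Submodule.coe_sub, Submodule.coe_neg]
      have : (p.2.2 : E) = -(p.1 : E) - p.2.1 := by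
        rw [eq_sub_iff_add_eq, eq_neg_iff_add_eq_zero, ← hsum]
        abel
      exact this.symm
  have hc2 : Nat.card ↥L * Nat.card ↥L = 9 := by
    rw [← h9, ← hrangeN, ← Nat.card_congr (LinearEquiv.ofInjective (V4B_aux_Psi β L ∘ₗ ι)
      (hinj.comp hιinj)).toEquiv, Nat.card_prod]
  have hc : Nat.card ↥L = 3 := by
    have hle : Nat.card ↥L ≤ 9 := by
      by_contra h
      push Not at h
      nlinarith
    interval_cases (Nat.card ↥L) <;> omega
  -- the range of `τ - 1`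
  let ι' : (↥L × ↥L) →ₗ[ZMod 3] (↥L × ↥L × ↥L) := LinearMap.inr _ _ _
  have hι' : ∀ q : ↥L × ↥L, ι' q = (0, q.1, q.2) := fun q => rfl
  have hι'inj : Function.Injective ι' := LinearMap.inr_injective
  have hrangeτ : LinearMap.range (V4B_aux_Psi β L ∘ₗ ι') = LinearMap.range (τ - 1) := by
    apply le_antisymm
    · rintro _ ⟨q, rfl⟩
      refine ⟨β (q.1 : E) + β (β (q.2 : E)), ?_⟩
      rw [LinearMap.comp_apply, hι', V4B_aux_Psi_apply, LinearMap.sub_apply, Module.End.one_apply]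
      simp only [map_add, hτβL _ q.1.2, hτββL _ q.2.2, Submodule.coe_zero, zero_add]
      linear_combination (norm := module) (-1 : ZMod 3) • h3 (β (q.1 : E)) + (-1 : ZMod 3) • h3 (β (β (q.2 : E)))
    · rintro _ ⟨v, rfl⟩
      rw [LinearMap.sub_apply, Module.End.one_apply]
      have hmem : τ v - v ∈ LinearMap.range (V4B_aux_Psi β L) := by rw [hrange]; exact hτW v
      obtain ⟨p, hp⟩ := hmem
      have h0 : (p.1 : E) = 0 := by
        have h1 := (hext p).1
        rw [hp, map_sub, hττ] at h1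
        have : -(p.1 : E) = 0 := by rw [← h1]; abel
        rwa [neg_eq_zero] at this
      refine ⟨(p.2.1, p.2.2), ?_⟩
      rw [LinearMap.comp_apply, hι', ← hp]
      congr 1
      apply Prod.ext
      · exact (Subtype.ext h0).symm
      · rfl
  have hcτ : Nat.card ↥(LinearMap.range (τ - 1)) = 9 := by
    rw [← hrangeτ, ← Nat.card_congr (LinearEquiv.ofInjective (V4B_aux_Psi β L ∘ₗ ι')
      (hinj.comp hι'inj)).toEquiv, Nat.card_prod, hc2]
  refine ⟨?_, hc, hcτ⟩
  rw [hcardW, hc]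

end Cfsg.Agent.S4415P
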