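import Mathlib
import Cfsg.Agent.Helper9.S4415Defs
import Cfsg.Agent.Helper9.S4409V
import Cfsg.Agent.Helper1.S4415D1Ccore
import Cfsg.Agent.Helper1.S4415V4Bcore
import Cfsg.Agent.Helper19.S4415MOD2
import Cfsg.Agent.Helper23.S4415MOD3
import Cfsg.Agent.Helper9.S4415MOD5
import Cfsg.Agent.Helper15.S4415MOD11
import Cfsg.Agent.Helper27.S4415V4A

/-!
# Board `s4415pieces`, row V4B : `v4_cards`

A four-group `T ∈ 𝒴` has `|[E,T]| = 27`; each `Ln ρ T t` is a line and `|[E,t]| = 9` (`t ∈ T ∖ 1`).
-/

set_option autoImplicit false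
set_option linter.unusedSectionVars false

namespace Cfsg.Agent.S4415P

open Subgroup
open Cfsg.Agent.S4409P (IsV4 V0_aux_perm V0_aux_coprime_fix V0_aux_conj_mem)

variable {S : Type*} [Group S] [Finite S] {E : Type*} [AddCommGroup E] [Module (ZMod 3) E] [Finite E]

/-- fixed point congruence for the conjugation action of a `p`-group `B ≤ N(T)` on `T`. -/
theorem V4B_aux_fix_modEq (p : ℕ) [Fact p.Prime] (B T : Subgroup S) (hB : IsPGroup p ↥B)
    (hN : B ≤ normalizer (T : Set S)) :
    Nat.card ↥T ≡ Nat.card ↥(T ⊓ centralizer (B : Set S) : Subgroup S) [MOD p] := by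
  let _ := D1C_aux_conjAct B T hN
  have h1 := hB.card_modEq_card_fixedPoints ↥T
  have h2 : Nat.card ↥(MulAction.fixedPoints ↥B ↥T) = Nat.card ↥(T ⊓ centralizer (B : Set S) : Subgroup S) := by
    apply Nat.card_congr
    refine
      { toFun := fun x => ⟨x.1.1, ⟨x.1.2, fun y hy => ?_⟩⟩
        invFun := fun x => ⟨⟨x.1, x.2.1⟩, fun y => Subtype.ext ?_⟩
        left_inv := fun x => rfl
        right_inv := fun x => rfl }
    · have := congrArg Subtype.val (x.2 ⟨y, hy⟩)
      change y * (x.1 : S) * y⁻¹ = x.1 at this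
      rw [mul_inv_eq_iff_eq_mul] at this
      exact this
    · have := x.2.2 y.1 y.2
      change (y : S) * x.1 * (y : S)⁻¹ = x.1
      rw [mul_inv_eq_iff_eq_mul]
      exact this
  rw [h2] at h1
  exact h1

/-- `B` of order `3` acting on a four-group `T = [T,B]` has no nontrivial fixed points. -/
theorem V4B_aux_fix_bot (B T : Subgroup S) (hB : Nat.card ↥B = 3) (hT : Nat.card ↥T = 4)
    (hN : B ≤ normalizer (T : Set S)) (hcomm : ⁅T, B⁆ = T) : T ⊓ centralizer (B : Set S) = ⊥ := by
  have : Fact (Nat.Prime 3) := ⟨by norm_num⟩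
  have hB3 : IsPGroup 3 ↥B := IsPGroup.of_card (n := 1) (by rw [hB]; norm_num)
  have h1 := V4B_aux_fix_modEq 3 B T hB3 hN
  rw [hT] at h1
  have hdvd : Nat.card ↥(T ⊓ centralizer (B : Set S) : Subgroup S) ∣ 4 := by
    rw [← hT]
    exact Subgroup.card_dvd_of_le inf_le_left
  have hle : Nat.card ↥(T ⊓ centralizer (B : Set S) : Subgroup S) ≤ 4 := Nat.le_of_dvd (by norm_num) hdvd
  have hcases : Nat.card ↥(T ⊓ centralizer (B : Set S) : Subgroup S) = 1 ∨
      Nat.card ↥(T ⊓ centralizer (B : Set S) : Subgroup S) = 4 := by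
    have h1' : 4 % 3 = Nat.card ↥(T ⊓ centralizer (B : Set S) : Subgroup S) % 3 := h1
    interval_cases (Nat.card ↥(T ⊓ centralizer (B : Set S) : Subgroup S)) <;> simp_all
  rcases hcases with h | h
  · exact Subgroup.card_eq_one.1 h
  · exfalso
    have heq : T ⊓ centralizer (B : Set S) = T := by
      apply Subgroup.eq_of_le_of_card_ge inf_le_left
      rw [h, hT]
    have hle' : T ≤ centralizer (B : Set S) := by
      rw [← heq]; exact inf_le_right
    have hbot := commutator_eq_bot_iff_le_centralizer.2 hle'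
    rw [hcomm] at hbot
    rw [hbot] at hT
    simp at hT

/-- **V4B** : a four-group `T ∈ 𝒴` has `|[E,T]| = 27`; each `Ln ρ T t` is a line and `|[E,t]| = 9` (`t ∈ T ∖ 1`). -/
theorem v4_cards (ρ : Representation (ZMod 3) S E) (b : S) (B : Subgroup S) (hb : Base ρ b B) (T : Subgroup S)
    (hT : IsV4 T) (hY : YC B T) :
    Nat.card ↥(ComE ρ T) = 27 ∧
      ∀ t ∈ T, t ≠ 1 → Nat.card ↥(Ln ρ T t) = 3 ∧ Nat.card ↥(ComE ρ (zpowers t)) = 9 := by
  have hTne : T ≠ ⊥ := by
    intro h
    have := hT.1
    rw [h] at this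
    simp at this
  have hbB : b ∈ B := by rw [← hb.gen]; exact mem_zpowers b
  have hbN : b ∈ normalizer (T : Set S) := hY.norm hbB
  have hb3 : b ^ 3 = 1 := hb.cubic.pow
  have hfixbot := V4B_aux_fix_bot B T hb.card hT.1 hY.norm hY.comm
  have hm : ∀ g h : S, ∀ x : E, ρ (g * h) x = ρ g (ρ h x) := by
    intro g h x
    rw [map_mul, Module.End.mul_apply]
  have ho : ∀ x : E, ρ 1 x = x := by
    intro x
    rw [map_one, Module.End.one_apply]
  -- the main claim for one `t`
  have main : ∀ t ∈ T, t ≠ 1 → Nat.card ↥(ComE ρ T) = 27 ∧ Nat.card ↥(Ln ρ T t) = 3 ∧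
      Nat.card ↥(ComE ρ (zpowers t)) = 9 := by
    intro t ht ht1
    have hne : b * t * b⁻¹ ≠ t := by
      intro h
      apply ht1
      have htC : t ∈ centralizer (B : Set S) := by
        have hle : zpowers b ≤ centralizer ({t} : Set S) := by
          rw [zpowers_le, mem_centralizer_singleton_iff]
          calc b * t = (b * t * b⁻¹) * b := by group
            _ = t * b := by rw [h]
        rw [mem_centralizer_iff]
        intro g hg
        have hg' : g ∈ zpowers b := by rw [hb.gen]; exact hg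
        have := hle hg'
        rw [mem_centralizer_singleton_iff] at this
        exact this
      have : t ∈ T ⊓ centralizer (B : Set S) := ⟨ht, htC⟩
      rw [hfixbot, mem_bot] at this
      exact this
    obtain ⟨hfour, hts1, hcase⟩ := V0_aux_perm T hT b hbN t ht hne
    set s := b * t * b⁻¹ with hs
    have hsT : s ∈ T := V0_aux_conj_mem hbN ht
    have hcase' : b * s * b⁻¹ = t * s ∧ b * (t * s) * b⁻¹ = t := by
      rcases hcase with h | h
      · exfalso
        apply hne
        refine V0_aux_coprime_fix b t 2 3 (by norm_num) ?_ hb3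
        calc b ^ 2 * t * (b ^ 2)⁻¹ = b * (b * t * b⁻¹) * b⁻¹ := by rw [pow_two]; group
          _ = t := h
      · exact h
    obtain ⟨hbs, hbts⟩ := hcase'
    have hs1 : s ≠ 1 := by
      intro h
      apply ht1
      have : t = b⁻¹ * s * b := by rw [hs]; group
      rw [this, h]; group
    have hts : t ≠ s := fun h => hne h.symm
    have htt : t * t = 1 := hT.2 t ht
    have hss : s * s = 1 := hT.2 s hsT
    have hcomm : t * s = s * t := Cfsg.Agent.S4409P.IsV4.isAb hT t ht s hsT
    have hsb : s * b = b * t := by rw [hs]; group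
    have htb : t * b = b * (t * s) := by
      calc t * b = (b * (t * s) * b⁻¹) * b := by rw [hbts]
        _ = b * (t * s) := by group
    have hbbb : b * (b * b) = 1 := by
      rw [← hb3, pow_succ, pow_two, mul_assoc]
    -- invariance of `W`
    have hinvN : ∀ g ∈ normalizer (T : Set S), ∀ v ∈ ComE ρ T, ρ g v ∈ ComE ρ T :=
      fun g hg => (inv_of_normalizer ρ T g hg).2
    have hcompl := (ce_comE_compl ρ T hY.cop).1
    have hkey := (key ρ b B hb T hY hTne).2
    have hspan := v4_span ρ T hT t s ht hsT ht1 hs1 hts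
    have hlin := V4B_aux_lin (ρ t) (ρ s) (ρ b) (ComE ρ T)
      (fun v => by rw [← hm, htt, ho])
      (fun v => by rw [← hm, hss, ho])
      (fun v => by rw [← hm, ← hm, hcomm])
      (fun v => by rw [← hm, ← hm, hsb])
      (fun v => by rw [← hm, ← hm, ← hm, htb, mul_assoc])
      (fun v => by rw [← hm, ← hm, mul_assoc, hbbb, ho])
      (hinvN s (le_normalizer hsT))
      (hinvN b hbN)
      (by
        intro v hvW hτ hσ
        have hvC : v ∈ CE ρ T := by
          intro y hy
          rcases hfour y hy with h | h | h | h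
          · rw [h, ho]
          · rw [h, hτ]
          · rw [h, hσ]
          · rw [h, hm, hσ, hτ]
        have : v ∈ CE ρ T ⊓ ComE ρ T := ⟨hvC, hvW⟩
        rw [hcompl, Submodule.mem_bot] at this
        exact this)
      (by
        intro w hw
        have hw' := hspan hw
        obtain ⟨a, ha, z, hz, rfl⟩ := Submodule.mem_sup.1 hw'
        obtain ⟨x, hx, y, hy, rfl⟩ := Submodule.mem_sup.1 ha
        refine ⟨x, y, z, hx.1, hx.2 t (mem_zpowers t), hy.1, hy.2 s (mem_zpowers s), hz.1, ?_, rfl⟩
        rw [← hm]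
        exact hz.2 (t * s) (mem_zpowers _))
      (fun v => hkey ⟨v, by rw [Nb_apply]⟩)
      (fun v => sub_mem_ComE ρ ht v)
      hb.cubic.card_range
    obtain ⟨h27, h3, h9⟩ := hlin
    refine ⟨h27, ?_, ?_⟩
    · have hLn : Ln ρ T t = ComE ρ T ⊓ LinearMap.ker (ρ t - 1) := by
        unfold Ln
        congr 1
        ext v
        rw [LinearMap.mem_ker, LinearMap.sub_apply, Module.End.one_apply, sub_eq_zero]
        exact ⟨fun h => h t (mem_zpowers t), fun h => D1C_aux_mem_CE_zpowers ρ t v h⟩
      rw [hLn]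
      exact h3
    · rw [comE_zpowers]
      exact h9
  obtain ⟨t₀, ht₀, ht₀1⟩ : ∃ t ∈ T, t ≠ 1 := by
    by_contra h
    push Not at h
    exact hTne ((Subgroup.eq_bot_iff_forall T).2 h)
  exact ⟨(main t₀ ht₀ ht₀1).1, fun t ht ht1 => (main t ht ht1).2⟩

end Cfsg.Agent.S4415P
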