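import Mathlib

/-!
# S4503: the combinatorial core

Pure finite arithmetic: no groups.  `ι` plays the role of `Irr(G)`, `Λ` of the non-trivial
`p`-linear characters of `C_G(P)`, `r` of conjugacy under `N_G(P)`.
-/

set_option autoImplicit false
set_option linter.unusedSectionVars false

namespace Cfsg.Agent.S4503P.Core

open Finset

section

variable {ι Λ : Type*} [Fintype ι] [DecidableEq ι] [Fintype Λ] [DecidableEq Λ]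
  (X : Finset ι) (Ψ : Λ → ι) (ε : ℤ) (w : ι → ℤ) (a₁ : ι → ℕ) (a : ι → Λ → ℕ)
  (m₂ : ι → ℕ) (L₂ : Λ → ℕ)

/-- a constituent has no trivial part -/
theorem a₁_eq_zero (hm₂a₁ : ∑ χ, m₂ χ * a₁ χ = 0) {χ : ι} (hχ : 0 < m₂ χ) : a₁ χ = 0 := by
  have h := (Finset.sum_eq_zero_iff.mp hm₂a₁) χ (Finset.mem_univ χ)
  rcases Nat.mul_eq_zero.mp h with h | h
  · omega
  · exact h

/-- a non-exceptional constituent has sign `+1` -/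
theorem w_eq_one [Nonempty Λ] (hΨX : ∀ ν, Ψ ν ∉ X) (hwX : ∀ χ ∈ X, w χ = 1 ∨ w χ = -1)
    (ha : ∀ ν χ, χ ≠ Ψ ν → (a χ ν : ℤ) - a₁ χ = w χ)
    (hm₂a₁ : ∑ χ, m₂ χ * a₁ χ = 0) {χ : ι} (hχX : χ ∈ X) (hχ : 0 < m₂ χ) : w χ = 1 := by
  obtain ⟨ν⟩ := ‹Nonempty Λ›
  have h1 := ha ν χ (fun h => hΨX ν (h ▸ hχX))
  rw [a₁_eq_zero a₁ m₂ hm₂a₁ hχ] at h1
  rcases hwX χ hχX with h | h
  · exact h
  · rw [h] at h1
    have : (0 : ℤ) ≤ a χ ν := Int.natCast_nonneg _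
    simp at h1

/-- the key identity `L₂(ν) = ε m₂(Ψ ν) + c₀` -/
theorem L₂_eq [Nonempty Λ] (hΨX : ∀ ν, Ψ ν ∉ X) (hwX : ∀ χ ∈ X, w χ = 1 ∨ w χ = -1)
    (hwX0 : ∀ χ, χ ∉ X → w χ = 0)
    (ha_exc : ∀ ν, (a (Ψ ν) ν : ℤ) - a₁ (Ψ ν) = ε)
    (ha : ∀ ν χ, χ ≠ Ψ ν → (a χ ν : ℤ) - a₁ χ = w χ)
    (hL₂ : ∀ ν, ∑ χ, m₂ χ * a χ ν = L₂ ν)
    (hm₂a₁ : ∑ χ, m₂ χ * a₁ χ = 0) (ν : Λ) :
    (L₂ ν : ℤ) = ε * m₂ (Ψ ν) + ∑ χ ∈ X, (m₂ χ : ℤ) := by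
  have h1 : ∀ χ, ((m₂ χ * a χ ν : ℕ) : ℤ)
      = (if χ = Ψ ν then ε * m₂ (Ψ ν) else 0) + (if χ ∈ X then (m₂ χ : ℤ) else 0) := by
    intro χ
    rcases Nat.eq_zero_or_pos (m₂ χ) with h0 | hpos
    · by_cases hχ : χ = Ψ ν
      · subst hχ
        simp [h0]
      · simp [h0, hχ]
    · have ha0 := a₁_eq_zero a₁ m₂ hm₂a₁ hpos
      by_cases hχ : χ = Ψ ν
      · subst hχ
        have h2 := ha_exc ν
        rw [ha0] at h2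
        rw [if_pos rfl, if_neg (hΨX ν)]
        push_cast
        simp at h2
        rw [h2]
        ring
      · have h2 := ha ν χ hχ
        rw [ha0] at h2
        rw [if_neg hχ]
        push_cast
        simp at h2
        by_cases hX : χ ∈ X
        · rw [if_pos hX, h2, w_eq_one X Ψ w a₁ a m₂ hΨX hwX ha hm₂a₁ hX hpos]
          ring
        · rw [if_neg hX, h2, hwX0 χ hX]
          ring
  rw [← hL₂ ν]
  push_cast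
  have h3 : ∀ χ ∈ (Finset.univ : Finset ι), ((m₂ χ : ℤ) * (a χ ν : ℤ))
      = (if χ = Ψ ν then ε * m₂ (Ψ ν) else 0) + (if χ ∈ X then (m₂ χ : ℤ) else 0) := by
    intro χ _
    have := h1 χ
    push_cast at this
    exact this
  rw [Finset.sum_congr rfl h3, Finset.sum_add_distrib, Finset.sum_ite_eq' Finset.univ (Ψ ν),
    if_pos (Finset.mem_univ _), Finset.sum_ite_mem, Finset.univ_inter]

/-- some member of the principal block is a constituent -/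
theorem exists_constituent [Nonempty Λ] (hΨX : ∀ ν, Ψ ν ∉ X)
    (hwX : ∀ χ ∈ X, w χ = 1 ∨ w χ = -1) (hwX0 : ∀ χ, χ ∉ X → w χ = 0)
    (ha_exc : ∀ ν, (a (Ψ ν) ν : ℤ) - a₁ (Ψ ν) = ε)
    (ha : ∀ ν χ, χ ≠ Ψ ν → (a χ ν : ℤ) - a₁ χ = w χ)
    (hL₂ : ∀ ν, ∑ χ, m₂ χ * a χ ν = L₂ ν)
    (hm₂a₁ : ∑ χ, m₂ χ * a₁ χ = 0) (hS₂ : 0 < ∑ ν, L₂ ν) :
    ∃ χ, (χ ∈ X ∨ ∃ ν, χ = Ψ ν) ∧ 0 < m₂ χ := by
  by_contra hcon
  push Not at hcon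
  have h0 : ∀ ν, L₂ ν = 0 := by
    intro ν
    have h1 := L₂_eq X Ψ ε w a₁ a m₂ L₂ hΨX hwX hwX0 ha_exc ha hL₂ hm₂a₁ ν
    have h2 : m₂ (Ψ ν) = 0 := Nat.le_zero.mp (hcon (Ψ ν) (Or.inr ⟨ν, rfl⟩))
    have h3 : ∑ χ ∈ X, (m₂ χ : ℤ) = 0 := by
      apply Finset.sum_eq_zero
      intro χ hχ
      have := Nat.le_zero.mp (hcon χ (Or.inl hχ))
      simp [this]
    rw [h2, h3] at h1
    simp at h1
    exact h1
  simp [h0] at hS₂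

/-- summation over the fibres of `Ψ` -/
theorem sum_comp_Ψ (r : Λ → Λ → Prop) [DecidableRel r] (f : ℕ)
    (hΨ : ∀ μ ν, Ψ μ = Ψ ν ↔ r μ ν) (hr : ∀ μ, (Finset.univ.filter (r μ)).card = f)
    (g : ι → ℤ) : ∑ ν, g (Ψ ν) = f * ∑ χ ∈ Finset.univ.image Ψ, g χ := by
  rw [Finset.sum_comp g Ψ, Finset.mul_sum]
  refine Finset.sum_congr rfl fun χ hχ => ?_
  obtain ⟨μ, -, rfl⟩ := Finset.mem_image.mp hχ
  have : (Finset.univ.filter fun ν => Ψ ν = Ψ μ) = Finset.univ.filter (r μ) := by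
    ext ν
    simp only [Finset.mem_filter, Finset.mem_univ, true_and]
    rw [← hΨ μ ν]
    exact eq_comm
  rw [this, hr μ]
  simp

/-- the contradiction -/
theorem core_false [Nonempty Λ] (r : Λ → Λ → Prop) [DecidableRel r] (p f : ℕ)
    (hf2 : 2 ≤ f) (hfp : 2 * f + 1 < p) (hcardΛ : Fintype.card Λ = p - 1)
    (hΨ : ∀ μ ν, Ψ μ = Ψ ν ↔ r μ ν) (hr : ∀ μ, (Finset.univ.filter (r μ)).card = f)
    (hε : ε = 1 ∨ ε = -1) (hcardX : X.card = f) (hΨX : ∀ ν, Ψ ν ∉ X)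
    (hwX : ∀ χ ∈ X, w χ = 1 ∨ w χ = -1) (hwX0 : ∀ χ, χ ∉ X → w χ = 0)
    (ha_exc : ∀ ν, (a (Ψ ν) ν : ℤ) - a₁ (Ψ ν) = ε)
    (ha : ∀ ν χ, χ ≠ Ψ ν → (a χ ν : ℤ) - a₁ χ = w χ)
    (m₁ : ι → ℕ) (L₁ : Λ → ℕ)
    (hL₂ : ∀ ν, ∑ χ, m₂ χ * a χ ν = L₂ ν)
    (hm₂a₁ : ∑ χ, m₂ χ * a₁ χ = 0) (hm₁a₁ : ∑ χ, m₁ χ * a₁ χ = f)
    (hS : ∑ ν, L₂ ν = ∑ ν, L₁ ν + f) (hS₂ : ∑ ν, L₂ ν ≤ f ^ 2)
    (hsX : ∀ χ ∈ X, (m₁ χ : ℤ) = m₂ χ - w χ)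
    (hsΨ : ∀ ν, (m₁ (Ψ ν) : ℤ) = m₂ (Ψ ν) + ε * ((L₁ ν : ℤ) - L₂ ν))
    (χ₀ : ι) (hker : ∀ χ ∈ X, w χ = -1 → a₁ χ = 1 → χ = χ₀) : False := by
  classical
  have hp1 : 0 < p - 1 := by omega
  set c₀ : ℤ := ∑ χ ∈ X, (m₂ χ : ℤ) with hc₀
  have hc₀nn : 0 ≤ c₀ := Finset.sum_nonneg fun χ _ => Int.natCast_nonneg _
  have hA : ∀ ν, (L₂ ν : ℤ) = ε * m₂ (Ψ ν) + c₀ :=
    L₂_eq X Ψ ε w a₁ a m₂ L₂ hΨX hwX hwX0 ha_exc ha hL₂ hm₂a₁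
  have hεsq : ε * ε = 1 := by rcases hε with h | h <;> rw [h] <;> norm_num
  -- the values of `m₂` and `m₁` at the exceptional characters
  have hB₂ : ∀ ν, (m₂ (Ψ ν) : ℤ) = ε * ((L₂ ν : ℤ) - c₀) := by
    intro ν
    have := hA ν
    calc (m₂ (Ψ ν) : ℤ) = ε * ε * m₂ (Ψ ν) := by rw [hεsq, one_mul]
      _ = ε * ((L₂ ν : ℤ) - c₀) := by rw [this]; ring
  have hB₁ : ∀ ν, (m₁ (Ψ ν) : ℤ) = ε * ((L₁ ν : ℤ) - c₀) := by
    intro ν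
    rw [hsΨ ν, hB₂ ν]
    ring
  -- the sets `X⁺` and `X⁻`
  set Xp : Finset ι := X.filter fun χ => 0 < m₂ χ with hXp
  set Xm : Finset ι := X.filter fun χ => ¬ 0 < m₂ χ with hXm
  have hXcard : Xp.card + Xm.card = f := by
    rw [← hcardX, hXp, hXm]
    exact Finset.card_filter_add_card_filter_not _
  have hXp_le : (Xp.card : ℤ) ≤ c₀ := by
    have h1 : ∑ χ ∈ Xp, (1 : ℤ) ≤ ∑ χ ∈ Xp, (m₂ χ : ℤ) := by
      apply Finset.sum_le_sum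
      intro χ hχ
      have := (Finset.mem_filter.mp hχ).2
      exact_mod_cast this
    have h2 : ∑ χ ∈ Xp, (m₂ χ : ℤ) ≤ c₀ := by
      rw [hc₀]
      apply Finset.sum_le_sum_of_subset_of_nonneg (Finset.filter_subset _ _)
      intro χ _ _
      exact Int.natCast_nonneg _
    simp at h1
    linarith
  -- on `X⁻`
  have hXm_w : ∀ χ ∈ Xm, w χ = -1 ∧ m₁ χ = 1 ∧ 1 ≤ a₁ χ := by
    intro χ hχ
    obtain ⟨hχX, hm⟩ := Finset.mem_filter.mp hχ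
    have hm0 : m₂ χ = 0 := by omega
    have h1 := hsX χ hχX
    rw [hm0] at h1
    have hw : w χ = -1 := by
      rcases hwX χ hχX with h | h
      · rw [h] at h1
        have : (0 : ℤ) ≤ m₁ χ := Int.natCast_nonneg _
        simp at h1
      · exact h
    refine ⟨hw, ?_, ?_⟩
    · rw [hw] at h1
      simp at h1
      exact_mod_cast h1
    · obtain ⟨ν⟩ := ‹Nonempty Λ›
      have h2 := ha ν χ (fun h => hΨX ν (h ▸ hχX))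
      rw [hw] at h2
      have : (0 : ℤ) ≤ a χ ν := Int.natCast_nonneg _
      omega
  have hXm_sum : 2 * (Xm.card : ℤ) - 1 ≤ ∑ χ ∈ Xm, ((m₁ χ * a₁ χ : ℕ) : ℤ) := by
    have h1 : ∀ χ ∈ Xm, (2 : ℤ) - (if χ = χ₀ then 1 else 0) ≤ ((m₁ χ * a₁ χ : ℕ) : ℤ) := by
      intro χ hχ
      obtain ⟨hw, hm, ha1⟩ := hXm_w χ hχ
      rw [hm, one_mul]
      by_cases h : χ = χ₀
      · rw [if_pos h]
        have : (1 : ℤ) ≤ a₁ χ := by exact_mod_cast ha1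
        linarith
      · rw [if_neg h]
        have h2 : a₁ χ ≠ 1 := fun h3 => h (hker χ (Finset.mem_filter.mp hχ).1 hw h3)
        have : (2 : ℤ) ≤ a₁ χ := by
          have : 2 ≤ a₁ χ := by omega
          exact_mod_cast this
        linarith
    have h2 := Finset.sum_le_sum h1
    rw [Finset.sum_sub_distrib, Finset.sum_const, nsmul_eq_mul] at h2
    have h3 : ∑ χ ∈ Xm, (if χ = χ₀ then (1 : ℤ) else 0) ≤ 1 := by
      rw [Finset.sum_ite_eq' Xm χ₀]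
      split_ifs <;> norm_num
    have h4 : (Xm.card : ℤ) * 2 = 2 * Xm.card := by ring
    linarith
  -- the exceptional characters
  set Exc : Finset ι := Finset.univ.image Ψ with hExc
  have hdisj : Disjoint Xm Exc := by
    rw [Finset.disjoint_left]
    intro χ hχ hχ'
    obtain ⟨ν, -, rfl⟩ := Finset.mem_image.mp hχ'
    exact hΨX ν (Finset.mem_filter.mp hχ).1
  have hm₁ge : ∑ χ ∈ Xm, ((m₁ χ * a₁ χ : ℕ) : ℤ) + ∑ χ ∈ Exc, ((m₁ χ * a₁ χ : ℕ) : ℤ)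
      ≤ (f : ℤ) := by
    rw [← Finset.sum_union hdisj]
    have h1 : ∑ χ ∈ Xm ∪ Exc, ((m₁ χ * a₁ χ : ℕ) : ℤ) ≤ ∑ χ, ((m₁ χ * a₁ χ : ℕ) : ℤ) := by
      apply Finset.sum_le_sum_of_subset_of_nonneg (Finset.subset_univ _)
      intro χ _ _
      exact Int.natCast_nonneg _
    have h2 : ∑ χ, ((m₁ χ * a₁ χ : ℕ) : ℤ) = (f : ℤ) := by
      rw [← Nat.cast_sum, hm₁a₁]
    linarith
  have hcardΛ' : (Finset.univ : Finset Λ).card = p - 1 := by rw [Finset.card_univ, hcardΛ]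
  have hS₁ : ∑ ν, (L₁ ν : ℤ) = ∑ ν, (L₂ ν : ℤ) - f := by
    have := congrArg (Nat.cast : ℕ → ℤ) hS
    push_cast at this
    linarith
  have hS₂' : ∑ ν, (L₂ ν : ℤ) ≤ (f : ℤ) ^ 2 := by exact_mod_cast hS₂
  have hf2' : (2 : ℤ) ≤ f := by exact_mod_cast hf2
  have hfp' : 2 * (f : ℤ) + 1 < p := by exact_mod_cast hfp
  have hp1' : ((p - 1 : ℕ) : ℤ) = (p : ℤ) - 1 := by
    rw [Nat.cast_sub (by omega)]
    simp
  have hXcard' : (Xp.card : ℤ) + Xm.card = f := by exact_mod_cast hXcard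
  rcases hε with hε1 | hε1
  · -- `ε = 1`
    have h1 : ∀ ν, c₀ ≤ L₁ ν := by
      intro ν
      have := hB₁ ν
      rw [hε1, one_mul] at this
      have h2 : (0 : ℤ) ≤ m₁ (Ψ ν) := Int.natCast_nonneg _
      linarith
    have h2 : ((p : ℤ) - 1) * c₀ ≤ ∑ ν, (L₁ ν : ℤ) := by
      have := Finset.sum_le_sum (fun ν (_ : ν ∈ (Finset.univ : Finset Λ)) => h1 ν)
      rw [Finset.sum_const, hcardΛ', nsmul_eq_mul, hp1'] at this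
      exact this
    have h3 : (0 : ℤ) ≤ ∑ χ ∈ Exc, ((m₁ χ * a₁ χ : ℕ) : ℤ) :=
      Finset.sum_nonneg fun χ _ => Int.natCast_nonneg _
    -- `2 c₀ ≥ f - 1`
    have h4 : (f : ℤ) - 1 ≤ 2 * c₀ := by linarith
    -- `(p - 1)(f - 1) ≤ 2 f (f - 1)`
    have h5 : ((p : ℤ) - 1) * ((f : ℤ) - 1) ≤ 2 * (f : ℤ) * ((f : ℤ) - 1) := by
      have h6 : ((p : ℤ) - 1) * ((f : ℤ) - 1) ≤ ((p : ℤ) - 1) * (2 * c₀) :=
        mul_le_mul_of_nonneg_left h4 (by linarith)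
      have h13 : ((p : ℤ) - 1) * (2 * c₀) = 2 * (((p : ℤ) - 1) * c₀) := by ring
      have h14 : (f : ℤ) ^ 2 = f * f := sq _
      have h15 : 2 * (f : ℤ) * ((f : ℤ) - 1) = 2 * (f * f - f) := by ring
      linarith
    have h7 : (0 : ℤ) < (f : ℤ) - 1 := by linarith
    have h8 : (p : ℤ) - 1 ≤ 2 * f := le_of_mul_le_mul_right h5 h7
    linarith
  · -- `ε = -1`
    have h0 : ∀ ν, m₂ (Ψ ν) = 0 := by
      intro ν
      by_contra hne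
      have hpos : 0 < m₂ (Ψ ν) := Nat.pos_of_ne_zero hne
      have h1 := a₁_eq_zero a₁ m₂ hm₂a₁ hpos
      have h2 := ha_exc ν
      rw [h1, hε1] at h2
      have : (0 : ℤ) ≤ a (Ψ ν) ν := Int.natCast_nonneg _
      simp at h2
    have h1 : ∀ ν, (L₂ ν : ℤ) = c₀ := by
      intro ν
      have := hA ν
      rw [h0 ν] at this
      simpa using this
    have h2 : ∑ ν, (L₂ ν : ℤ) = ((p : ℤ) - 1) * c₀ := by
      rw [Finset.sum_congr rfl (fun ν _ => h1 ν), Finset.sum_const, hcardΛ', nsmul_eq_mul, hp1']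
    have h3 : ∀ ν, (1 : ℤ) ≤ a₁ (Ψ ν) := by
      intro ν
      have h2 := ha_exc ν
      rw [hε1] at h2
      have : (0 : ℤ) ≤ a (Ψ ν) ν := Int.natCast_nonneg _
      linarith
    have h4 : ∀ ν, (m₁ (Ψ ν) : ℤ) = c₀ - L₁ ν := by
      intro ν
      rw [hB₁ ν, hε1]
      ring
    -- the exceptional part of the count
    have h5 : (f : ℤ) * ∑ χ ∈ Exc, ((m₁ χ * a₁ χ : ℕ) : ℤ)
        = ∑ ν, ((m₁ (Ψ ν) * a₁ (Ψ ν) : ℕ) : ℤ) :=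
      (sum_comp_Ψ Ψ r f hΨ hr (fun χ => ((m₁ χ * a₁ χ : ℕ) : ℤ))).symm
    have h6 : ∑ ν, (c₀ - L₁ ν) ≤ ∑ ν, ((m₁ (Ψ ν) * a₁ (Ψ ν) : ℕ) : ℤ) := by
      apply Finset.sum_le_sum
      intro ν _
      push_cast
      rw [← h4 ν]
      have h7 : (0 : ℤ) ≤ m₁ (Ψ ν) := Int.natCast_nonneg _
      nlinarith [h3 ν]
    have h7 : ∑ ν : Λ, (c₀ - L₁ ν) = (f : ℤ) := by
      rw [Finset.sum_sub_distrib, Finset.sum_const, hcardΛ', nsmul_eq_mul, hp1', hS₁, ← h2]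
      ring
    -- `f · f ≥ f (2 |X⁻| - 1) + f`
    have h8 : (f : ℤ) * (2 * (Xm.card : ℤ) - 1) + f ≤ f * f := by
      have h9 : (f : ℤ) * (∑ χ ∈ Xm, ((m₁ χ * a₁ χ : ℕ) : ℤ) + ∑ χ ∈ Exc, ((m₁ χ * a₁ χ : ℕ) : ℤ))
          ≤ f * f := mul_le_mul_of_nonneg_left hm₁ge (by linarith)
      have h10 : (f : ℤ) * (2 * (Xm.card : ℤ) - 1) ≤ f * ∑ χ ∈ Xm, ((m₁ χ * a₁ χ : ℕ) : ℤ) :=
        mul_le_mul_of_nonneg_left hXm_sum (by linarith)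
      rw [mul_add, h5] at h9
      linarith
    -- `2 |X⁺| ≥ f`
    have h9 : (f : ℤ) ≤ 2 * Xp.card := by
      have h10 : (f : ℤ) * (2 * (Xm.card : ℤ)) ≤ f * f := by linarith
      have h11 : 2 * (Xm.card : ℤ) ≤ f := le_of_mul_le_mul_left h10 (by linarith)
      linarith
    have h10 : (f : ℤ) ≤ 2 * c₀ := by linarith
    -- `(p - 1) f ≤ 2 f²`
    have h11 : ((p : ℤ) - 1) * f ≤ 2 * (f : ℤ) * f := by
      have h12 : ((p : ℤ) - 1) * f ≤ ((p : ℤ) - 1) * (2 * c₀) :=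
        mul_le_mul_of_nonneg_left h10 (by linarith)
      have h13 : ((p : ℤ) - 1) * (2 * c₀) = 2 * ∑ ν, (L₂ ν : ℤ) := by rw [h2]; ring
      have h14 : (f : ℤ) ^ 2 = f * f := sq _
      linarith
    have h12 : (p : ℤ) - 1 ≤ 2 * f := le_of_mul_le_mul_right h11 (by linarith)
    linarith

end

end Cfsg.Agent.S4503P.Core
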