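import Mathlib
import Cfsg.Prelude.Def_Characters
import Cfsg.Prelude.Def_Blocks
import Cfsg.Agent.Helper24.Abelian
import Cfsg.Agent.Helper24.Linear
import Cfsg.Agent.Helper8.D1Base
import Cfsg.Agent.Helper8.D1Conj
import Cfsg.Agent.Helper20.S4705BLKDefs

/-!
# S4503 (Brauer: a faithful character of a group with a non-normal Sylow subgroup of order `p`
has degree at least `(p - 1)/2`): shared definitions

Notation of the project: `|P| = p`, `C = C_G(P)`, `N = N_G(P)`, `f = |N : C|`.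
`IsPLin p μ` are the `p` linear characters of `C` that are trivial on the `p`-regular elements,
`NT p μ` the non-trivial ones (`Helper8.D1Base`, `Helper8.D1Conj`).
`mult H ξ χ = ⟨χ|_H, ξ⟩` is `Cfsg.Agent.S4705P.mult` (`Helper20.S4705BLKDefs`).
-/

set_option autoImplicit false

namespace Cfsg.Agent.S4503P

open Cfsg Cfsg.Agent.Helper24 Cfsg.Agent.Helper8.D1 Cfsg.Agent.S4705P
open scoped ComplexConjugate

universe u

variable {G : Type u} [Group G] [Finite G]

/-- `⟨α, β⟩_G` for a finite group without a chosen `Fintype` instance -/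
noncomputable def ip (α β : G → ℂ) : ℂ :=
  haveI := Fintype.ofFinite G
  classInner α β

theorem ip_eq [inst : Fintype G] (α β : G → ℂ) : ip α β = classInner α β := by
  unfold ip
  congr!

/-- the class function `α · conj β` -/
def mulConj (α β : G → ℂ) : G → ℂ := fun g => α g * conj (β g)

/-- the index `f = |N_G(P) : C_G(P)|` -/
noncomputable def fN (P : Subgroup G) : ℕ :=
  (Subgroup.centralizer (P : Set G)).relIndex (Subgroup.normalizer (P : Set G))

/-- the multiplicity `⟨χ|_H, ξ⟩` as a natural number (meaningful when `ξ` is irreducible and `χ`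
a character) -/
noncomputable def multN (H : Subgroup G) (ξ : H → ℂ) (χ : G → ℂ) : ℕ := ⌊(mult H ξ χ).re⌋₊

/-- the multiplicity `⟨Ξ, χ⟩_G` as a natural number -/
noncomputable def ipN (Ξ χ : G → ℂ) : ℕ := ⌊(ip Ξ χ).re⌋₊

/-- the trivial character of the subgroup `H` -/
def triv (H : Subgroup G) : H → ℂ := fun _ => 1

/-- The principal block data for a Sylow subgroup of order `p`: what `Helper8.D1.core` gives for the
block of `G` induced from the principal block of `C = C_G(P)`, in terms of the multiplicities of the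
`p`-linear characters of `C` in the restrictions `χ|_C`. -/
structure B0Data (p : ℕ) (P : Sylow p G) where
  /-- the non-exceptional characters -/
  X : Finset (IrrCharacter G)
  /-- the exceptional characters -/
  Ψ : (Subgroup.centralizer ((P : Subgroup G) : Set G) → ℂ) → IrrCharacter G
  ε : ℤ
  w : IrrCharacter G → ℤ
  hε : ε = 1 ∨ ε = -1
  card_X : X.card = fN (P : Subgroup G)
  w_X : ∀ χ ∈ X, w χ = 1 ∨ w χ = -1
  w_notX : ∀ χ, χ ∉ X → w χ = 0
  Ψ_notX : ∀ μ, NT p μ → Ψ μ ∉ X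
  Ψ_eq : ∀ μ ν, NT p μ → NT p ν →
    (Ψ μ = Ψ ν ↔ TConj (P : Subgroup G) (Subgroup.normalizer ((P : Subgroup G) : Set G)) μ ν)
  dnum_exc : ∀ μ, NT p μ →
    (multN (Subgroup.centralizer ((P : Subgroup G) : Set G)) μ ((Ψ μ : IrrCharacter G) : G → ℂ) : ℤ) -
      multN (Subgroup.centralizer ((P : Subgroup G) : Set G)) (triv _)
        ((Ψ μ : IrrCharacter G) : G → ℂ) = ε
  dnum : ∀ μ, NT p μ → ∀ χ : IrrCharacter G, χ ≠ Ψ μ →
    (multN (Subgroup.centralizer ((P : Subgroup G) : Set G)) μ (χ : G → ℂ) : ℤ) -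
      multN (Subgroup.centralizer ((P : Subgroup G) : Set G)) (triv _) (χ : G → ℂ) = w χ
  val : ∀ χ : IrrCharacter G, (χ ∈ X ∨ ∃ μ, NT p μ ∧ χ = Ψ μ) →
    ∀ c : Subgroup.centralizer ((P : Subgroup G) : Set G), p ∣ orderOf (c : G) →
      (χ : G → ℂ) c = ∑ᶠ ν ∈ {ν : Subgroup.centralizer ((P : Subgroup G) : Set G) → ℂ | NT p ν},
        (((multN (Subgroup.centralizer ((P : Subgroup G) : Set G)) ν (χ : G → ℂ) : ℤ) -
          multN (Subgroup.centralizer ((P : Subgroup G) : Set G)) (triv _) (χ : G → ℂ) : ℤ) : ℂ) * ν c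
  ker : ∀ χ : IrrCharacter G, (χ ∈ X ∨ ∃ μ, NT p μ ∧ χ = Ψ μ) →
    (∑ᶠ x : (P : Subgroup G), (χ : G → ℂ) (x : G) = 0) →
    ∀ c ∈ Subgroup.centralizer ((P : Subgroup G) : Set G), ¬ p ∣ orderOf c →
      (χ : G → ℂ) c = (χ : G → ℂ) 1

/-- The data attached to a faithful irreducible character `ψ` of degree `< (p - 1)/2`: a second
exceptional character `ψ₂` of the same block, not conjugate to `ψ` under `N_G(P)`. -/
structure PsiData (p : ℕ) (P : Sylow p G) (ψ : IrrCharacter G) where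
  ψ₂ : IrrCharacter G
  hf2 : 2 ≤ fN (P : Subgroup G)
  hfp : 2 * fN (P : Subgroup G) + 1 < p
  reg : ∀ g : G, ¬ p ∣ orderOf g → (ψ₂ : G → ℂ) g = (ψ : G → ℂ) g
  L11_one : multN (Subgroup.centralizer ((P : Subgroup G) : Set G)) (triv _)
    (mulConj (ψ : G → ℂ) (ψ : G → ℂ)) = fN (P : Subgroup G)
  L12_one : multN (Subgroup.centralizer ((P : Subgroup G) : Set G)) (triv _)
    (mulConj (ψ : G → ℂ) (ψ₂ : G → ℂ)) = 0
  L11_sum : ∑ᶠ ν ∈ {ν : Subgroup.centralizer ((P : Subgroup G) : Set G) → ℂ | IsPLin p ν},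
    multN (Subgroup.centralizer ((P : Subgroup G) : Set G)) ν (mulConj (ψ : G → ℂ) (ψ : G → ℂ))
      ≤ fN (P : Subgroup G) ^ 2
  L12_sum : ∑ᶠ ν ∈ {ν : Subgroup.centralizer ((P : Subgroup G) : Set G) → ℂ | IsPLin p ν},
    multN (Subgroup.centralizer ((P : Subgroup G) : Set G)) ν (mulConj (ψ : G → ℂ) (ψ₂ : G → ℂ)) =
    ∑ᶠ ν ∈ {ν : Subgroup.centralizer ((P : Subgroup G) : Set G) → ℂ | IsPLin p ν},
      multN (Subgroup.centralizer ((P : Subgroup G) : Set G)) ν (mulConj (ψ : G → ℂ) (ψ : G → ℂ))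
  orthP : ∑ᶠ x : (P : Subgroup G), (ψ : G → ℂ) (x : G) * conj ((ψ₂ : G → ℂ) (x : G)) = 0

/-- The restrictions of `ψ` and `ψ₂` to `C = C_G(P)`: multiplicity-free sums over two disjoint
`N_G(P)`-orbits (of length `f`) of irreducible characters of `C`, orthogonal on `P`. -/
structure PsiSets (p : ℕ) (P : Sylow p G) (ψ ψ₂ : IrrCharacter G) where
  S : Finset (IrrCharacter (Subgroup.centralizer ((P : Subgroup G) : Set G)))
  S₂ : Finset (IrrCharacter (Subgroup.centralizer ((P : Subgroup G) : Set G)))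
  cardS : S.card = fN (P : Subgroup G)
  cardS₂ : S₂.card = fN (P : Subgroup G)
  resψ : ∀ c : Subgroup.centralizer ((P : Subgroup G) : Set G),
    (ψ : G → ℂ) c = ∑ ξ ∈ S, (ξ : Subgroup.centralizer ((P : Subgroup G) : Set G) → ℂ) c
  resψ₂ : ∀ c : Subgroup.centralizer ((P : Subgroup G) : Set G),
    (ψ₂ : G → ℂ) c = ∑ ξ ∈ S₂, (ξ : Subgroup.centralizer ((P : Subgroup G) : Set G) → ℂ) c
  orth : ∀ ξ ∈ S, ∀ ξ' ∈ S₂,
    ∑ᶠ c ∈ {c : Subgroup.centralizer ((P : Subgroup G) : Set G) | (c : G) ∈ (P : Subgroup G)},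
      (ξ : Subgroup.centralizer ((P : Subgroup G) : Set G) → ℂ) c *
        conj ((ξ' : Subgroup.centralizer ((P : Subgroup G) : Set G) → ℂ) c) = 0

/-- the statement proved by induction on the group order -/
def Goal (G : Type u) [Group G] [Finite G] : Prop :=
  ∀ p : ℕ, p.Prime → p ∣ Nat.card G → ¬ p ^ 2 ∣ Nat.card G →
    ∀ χ : G → ℂ, IsCharacter G χ → (∀ g : G, χ g = χ 1 → g = 1) → 2 * charDegree χ + 1 < p →
      ∃ H : Subgroup G, H.Normal ∧ Nat.card H = p

end Cfsg.Agent.S4503P
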