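import Mathlib
import Cfsg.Agent.Helper1.S4503Defs
import Cfsg.Agent.Helper8.CharComp

/-!
# S4503, piece GMIN: the structure of a minimal counterexample
-/

set_option autoImplicit false
set_option linter.unusedSectionVars false
set_option linter.unusedVariables false
set_option linter.style.haveILetI false

namespace Cfsg.Agent.S4503P

open Cfsg Cfsg.Agent.Helper24 Cfsg.Agent.Helper8.D1 Cfsg.Agent.S4705P
open scoped ComplexConjugate

universe u

variable {G : Type u} [Group G] [Finite G]

namespace GMIN

theorem factorization_eq_one (p : ℕ) [Fact p.Prime] (P : Sylow p G) (hP : Nat.card P = p) :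
    (Nat.card G).factorization p = 1 := by
  have h := P.card_eq_multiplicity
  rw [hP] at h
  have h2 : p ^ 1 = p ^ (Nat.card G).factorization p := by rw [pow_one]; exact h
  exact (Nat.pow_right_injective (Fact.out : p.Prime).two_le h2).symm

theorem not_sq_dvd (p : ℕ) [Fact p.Prime] (P : Sylow p G) (hP : Nat.card P = p) :
    ¬ p ^ 2 ∣ Nat.card G := by
  have h := Nat.pow_succ_factorization_not_dvd (Nat.card_pos (α := G)).ne' (Fact.out : p.Prime)
  rw [factorization_eq_one p P hP] at h
  exact h

/-- a `p`-subgroup of order `|P|` normalizing the Sylow subgroup `P` is `P` -/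
theorem eq_of_le_normalizer (p : ℕ) [Fact p.Prime] (P : Sylow p G) (Q : Subgroup G)
    (hQ : IsPGroup p Q) (hcard : Nat.card Q = Nat.card P)
    (hle : Q ≤ Subgroup.normalizer ((P : Subgroup G) : Set G)) : Q = (P : Subgroup G) := by
  have h : Q ⊓ Subgroup.normalizer ((P : Subgroup G) : Set G) = Q ⊓ (P : Subgroup G) :=
    hQ.inf_normalizer_sylow P
  rw [inf_eq_left.mpr hle] at h
  have hQP : Q ≤ (P : Subgroup G) := by
    rw [h]
    exact inf_le_right
  exact Subgroup.eq_of_le_of_card_ge hQP (le_of_eq hcard.symm)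

/-- a subgroup of order `p` normalized by `P` is `P` -/
theorem eq_of_le_normalizer' (p : ℕ) [Fact p.Prime] (P : Sylow p G) (hP : Nat.card P = p)
    (Q : Subgroup G) (hcard : Nat.card Q = p)
    (hle : (P : Subgroup G) ≤ Subgroup.normalizer (Q : Set G)) : Q = (P : Subgroup G) := by
  have hc : Nat.card Q = p ^ (Nat.card G).factorization p := by
    rw [factorization_eq_one p P hP, pow_one, hcard]
  have h := eq_of_le_normalizer p (Sylow.ofCard Q hc) (P : Subgroup G) P.2
    (by rw [Sylow.coe_ofCard, hcard]; exact hP) (by rw [Sylow.coe_ofCard]; exact hle)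
  rw [Sylow.coe_ofCard] at h
  exact h.symm

/-- proper overgroups of `P` normalize `P` -/
theorem le_normalizer_of_ne_top
    (ih : ∀ (H : Type u) [Group H] [Finite H], Nat.card H < Nat.card G → Goal H)
    (p : ℕ) [Fact p.Prime] (P : Sylow p G) (hP : Nat.card P = p)
    (ψ : IrrCharacter G)
    (hfaith : ∀ g : G, (ψ : G → ℂ) g = (ψ : G → ℂ) 1 → g = 1)
    (hdeg : 2 * irrDeg ψ + 1 < p) (H : Subgroup G) (hPH : (P : Subgroup G) ≤ H) (hH : H ≠ ⊤) :
    H ≤ Subgroup.normalizer ((P : Subgroup G) : Set G) := by
  have hlt : Nat.card H < Nat.card G := by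
    refine lt_of_le_of_ne (Subgroup.card_le_card_group H) ?_
    intro h
    exact hH ((Subgroup.card_eq_iff_eq_top H).mp h)
  have hgoal := ih H hlt
  have hdiv : p ∣ Nat.card H := by
    have := Subgroup.card_dvd_of_le hPH
    rwa [hP] at this
  have hsq : ¬ p ^ 2 ∣ Nat.card H := fun h =>
    not_sq_dvd p P hP (h.trans (Subgroup.card_subgroup_dvd_card H))
  have hchar : IsCharacter H (fun x : H => (ψ : G → ℂ) x) :=
    Cfsg.Agent.Helper8.isCharacter_restrict H (IsIrrCharacter.isCharacter ψ.2)
  have hf : ∀ g : H, (fun x : H => (ψ : G → ℂ) x) g = (fun x : H => (ψ : G → ℂ) x) 1 → g = 1 := by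
    intro g hg
    apply Subtype.ext
    exact hfaith g hg
  have hd : 2 * charDegree (fun x : H => (ψ : G → ℂ) x) + 1 < p := by
    have : charDegree (fun x : H => (ψ : G → ℂ) x) = irrDeg ψ := by
      unfold charDegree
      simp only [Subgroup.coe_one]
      rw [irrDeg_spec]
      simp
    rw [this]
    exact hdeg
  obtain ⟨Q, hQn, hQc⟩ := hgoal p (Fact.out : p.Prime) hdiv hsq _ hchar hf hd
  have hcard : Nat.card (Q.map H.subtype) = p := by
    rw [← hQc]
    exact (Nat.card_congr (Q.equivMapOfInjective _ (Subgroup.subtype_injective H)).toEquiv).symm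
  have hle : Q.map H.subtype ≤ H := Subgroup.map_subtype_le Q
  have hnorm : H ≤ Subgroup.normalizer ((Q.map H.subtype : Subgroup G) : Set G) := by
    rw [← Subgroup.normal_subgroupOf_iff_le_normalizer hle]
    have : (Q.map H.subtype).subgroupOf H = Q :=
      Subgroup.comap_map_eq_self_of_injective (Subgroup.subtype_injective H) Q
    rw [this]
    exact hQn
  have heq := eq_of_le_normalizer' p P hP (Q.map H.subtype) hcard (hPH.trans hnorm)
  rw [heq] at hnorm
  exact hnorm

end GMIN

open GMIN in
/-- **GMIN**: the structure of a minimal counterexample -/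
theorem minimal_structure
    (ih : ∀ (H : Type u) [Group H] [Finite H], Nat.card H < Nat.card G → Goal H)
    (p : ℕ) [Fact p.Prime] (P : Sylow p G) (hP : Nat.card P = p)
    (hnn : ¬ (P : Subgroup G).Normal) (ψ : IrrCharacter G)
    (hfaith : ∀ g : G, (ψ : G → ℂ) g = (ψ : G → ℂ) 1 → g = 1)
    (hdeg : 2 * irrDeg ψ + 1 < p) :
    Subgroup.normalClosure ((P : Subgroup G) : Set G) = ⊤ ∧
    (fN (P : Subgroup G) = 1 ∨
      ∀ K : Subgroup G, K.Normal → K ≠ ⊤ → K ≤ Subgroup.center G) := by
  have hA := le_normalizer_of_ne_top ih p P hP ψ hfaith hdeg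
  -- (G2)
  have hG2 : Subgroup.normalClosure ((P : Subgroup G) : Set G) = ⊤ := by
    by_contra hne
    have hPM : (P : Subgroup G) ≤ Subgroup.normalClosure ((P : Subgroup G) : Set G) :=
      Subgroup.le_normalClosure
    have hMN := hA _ hPM hne
    apply hnn
    constructor
    intro x hx g
    set Q : Subgroup G := (P : Subgroup G).map (MulAut.conj g).toMonoidHom with hQ
    have hQcard : Nat.card Q = Nat.card P :=
      (Nat.card_congr ((P : Subgroup G).equivMapOfInjective _
        (MulAut.conj g).injective).toEquiv).symm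
    have hQp : IsPGroup p Q := P.2.map _
    have hQM : Q ≤ Subgroup.normalClosure ((P : Subgroup G) : Set G) := by
      rintro y ⟨z, hz, rfl⟩
      exact Subgroup.normalClosure_normal.conj_mem z (hPM hz) g
    have heq := eq_of_le_normalizer p P Q hQp hQcard (hQM.trans hMN)
    have : g * x * g⁻¹ ∈ Q := ⟨x, hx, rfl⟩
    rw [heq] at this
    exact this
  refine ⟨hG2, ?_⟩
  by_cases hf1 : fN (P : Subgroup G) = 1
  · exact Or.inl hf1
  · right
    intro K hKn hKtop
    haveI := hKn
    -- `P ⊓ K = ⊥`
    have hPK : ∀ x ∈ (P : Subgroup G), x ∈ K → x = 1 := by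
      intro x hxP hxK
      by_contra hx1
      -- `P ≤ K`
      have hPleK : (P : Subgroup G) ≤ K := by
        have hdvd : Nat.card ((P : Subgroup G) ⊓ K : Subgroup G) ∣ p := by
          have := Subgroup.card_dvd_of_le (inf_le_left : (P : Subgroup G) ⊓ K ≤ (P : Subgroup G))
          rwa [hP] at this
        rcases (Nat.dvd_prime (Fact.out : p.Prime)).mp hdvd with h1 | h1
        · have := Subgroup.eq_bot_of_card_eq _ h1
          have hx : x ∈ ((P : Subgroup G) ⊓ K : Subgroup G) := ⟨hxP, hxK⟩
          rw [this] at hx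
          exact absurd (Subgroup.mem_bot.mp hx) hx1
        · have := Subgroup.eq_of_le_of_card_ge
            (inf_le_left : (P : Subgroup G) ⊓ K ≤ (P : Subgroup G)) (by rw [h1, hP])
          rw [← this]
          exact inf_le_right
      exact hKtop (top_le_iff.mp (hG2 ▸ Subgroup.normalClosure_le_normal hPleK))
    -- the commutator of `k ∈ K ⊓ N` and `y ∈ P` is trivial
    have hcomm : ∀ k ∈ K, k ∈ Subgroup.normalizer ((P : Subgroup G) : Set G) →
        k ∈ Subgroup.centralizer ((P : Subgroup G) : Set G) := by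
      intro k hkK hkN
      rw [Subgroup.mem_centralizer_iff]
      intro y hy
      have h1 : k * y * k⁻¹ ∈ (P : Subgroup G) := (Subgroup.mem_normalizer_iff.mp hkN y).mp hy
      have h2 : k * y * k⁻¹ * y⁻¹ ∈ (P : Subgroup G) :=
        Subgroup.mul_mem _ h1 (Subgroup.inv_mem _ hy)
      have h3 : k * y * k⁻¹ * y⁻¹ ∈ K := by
        have : k * y * k⁻¹ * y⁻¹ = k * (y * k⁻¹ * y⁻¹) := by group
        rw [this]
        exact Subgroup.mul_mem _ hkK (hKn.conj_mem _ (Subgroup.inv_mem _ hkK) y)
      have h4 := hPK _ h2 h3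
      have : y * k = k * y := by
        have h5 : k * y * k⁻¹ * y⁻¹ * (y * k) = 1 * (y * k) := by rw [h4]
        rw [one_mul] at h5
        rw [← h5]
        group
      exact this
    by_cases hPKtop : (P : Subgroup G) ⊔ K = ⊤
    · -- `N = C`, so `f = 1`
      exfalso
      apply hf1
      unfold fN
      rw [Subgroup.relIndex_eq_one]
      intro n hn
      have hmem : n ∈ ((P : Subgroup G) ⊔ K : Subgroup G) := by rw [hPKtop]; exact Subgroup.mem_top n
      rw [← SetLike.mem_coe, Subgroup.mul_normal] at hmem
      obtain ⟨x, hx, k, hk, rfl⟩ := Set.mem_mul.mp hmem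
      have hxN : x ∈ Subgroup.normalizer ((P : Subgroup G) : Set G) := Subgroup.le_normalizer hx
      have hkN : k ∈ Subgroup.normalizer ((P : Subgroup G) : Set G) := by
        have : k = x⁻¹ * (x * k) := by group
        rw [this]
        exact Subgroup.mul_mem _ (Subgroup.inv_mem _ hxN) hn
      have hxC : x ∈ Subgroup.centralizer ((P : Subgroup G) : Set G) := by
        haveI : Fact (Nat.card (P : Subgroup G)).Prime := ⟨by rw [hP]; exact Fact.out⟩
        haveI : IsCyclic (P : Subgroup G) := isCyclic_of_prime_card rfl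
        rw [Subgroup.mem_centralizer_iff]
        intro y hy
        have := IsCyclic.commGroup.mul_comm (⟨y, hy⟩ : (P : Subgroup G)) ⟨x, hx⟩
        exact congrArg Subtype.val this
      exact Subgroup.mul_mem _ hxC (hcomm k hk hkN)
    · -- `K ≤ C`, hence `K ≤ Z(G)`
      have hPKN := hA _ le_sup_left hPKtop
      have hKC : K ≤ Subgroup.centralizer ((P : Subgroup G) : Set G) :=
        fun k hk => hcomm k hk (hPKN (le_sup_right (a := (P : Subgroup G)) hk))
      have hPcK : (P : Subgroup G) ≤ Subgroup.centralizer (K : Set G) := by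
        intro y hy
        rw [Subgroup.mem_centralizer_iff]
        intro k hk
        exact ((Subgroup.mem_centralizer_iff.mp (hKC hk)) y hy).symm
      have htop : Subgroup.centralizer (K : Set G) = ⊤ := by
        apply top_le_iff.mp
        rw [← hG2]
        exact Subgroup.normalClosure_le_normal hPcK
      intro k hk
      rw [Subgroup.mem_center_iff]
      intro g
      have hg : g ∈ Subgroup.centralizer (K : Set G) := by rw [htop]; exact Subgroup.mem_top g
      exact ((Subgroup.mem_centralizer_iff.mp hg) k hk).symm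

end Cfsg.Agent.S4503P
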