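import Mathlib
import Cfsg.Prelude.Def_Characters
import Cfsg.Agent.Helper24.Linear
import Cfsg.Agent.Helper24.Abelian

set_option autoImplicit false

/-!
# Wielandt's theorem on primitive groups of degree `2p` (S0720): shared definitions

`BrauerData p P` packages Brauer's theorem on the irreducible characters of a finite group `H` with a
self-centralizing Sylow `p`-subgroup `P` of prime order `p` (`C_H(P) = P`), with `e = |N_H(P) : P|`: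

* `X` : the `e` non-exceptional characters of the principal block, `χ(y) = δ χ = ± 1` on `P ∖ 1`;
* `Y` : the `(p-1)/e` exceptional characters, `ψ(y) = ε * Lam ψ y` on `P ∖ 1`, where `Lam ψ` is the sum of an
  `N_H(P)`-orbit of `e` non-trivial linear characters of `P` and `ψ(1) = a ψ * p + ε * e`;
* all other irreducible characters vanish on `P ∖ 1` and have degree divisible by `p`;
* `∑_{χ ∈ X} δ χ * χ g = ε * ψ g` for every `p`-regular `g` and every `ψ ∈ Y`.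
-/

namespace Cfsg.Agent.Helper1.W2p

open Cfsg Cfsg.Agent.Helper24

universe u

/-- `e = |N_H(P) : P|`. -/
noncomputable def eN {H : Type u} [Group H] (P : Subgroup H) : ℕ :=
  P.relIndex (Subgroup.normalizer (P : Set H))

/-- Brauer's theorem for a self-centralizing Sylow subgroup of prime order, packaged. -/
structure BrauerData {H : Type u} [Group H] [Finite H] (p : ℕ) (P : Subgroup H) where
  X : Set (IrrCharacter H)
  Y : Set (IrrCharacter H)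
  δ : IrrCharacter H → ℤ
  ε : ℤ
  a : IrrCharacter H → ℕ
  Lam : IrrCharacter H → H → ℂ
  card_X : Nat.card X = eN P
  card_Y : Nat.card Y * eN P = p - 1
  disj : Disjoint X Y
  triv_mem : trivIrr H ∈ X
  δ_triv : δ (trivIrr H) = 1
  δ_pm : ∀ χ ∈ X, δ χ = 1 ∨ δ χ = -1
  ε_pm : ε = 1 ∨ ε = -1
  val_X : ∀ χ ∈ X, ∀ y ∈ P, y ≠ 1 → (χ : H → ℂ) y = (δ χ : ℂ)
  deg_X : ∀ χ ∈ X, (irrDeg χ : ℤ) ≡ δ χ [ZMOD p]
  val_other : ∀ χ : IrrCharacter H, χ ∉ X → χ ∉ Y → ∀ y ∈ P, y ≠ 1 → (χ : H → ℂ) y = 0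
  deg_other : ∀ χ : IrrCharacter H, χ ∉ X → χ ∉ Y → p ∣ irrDeg χ
  val_Y : ∀ ψ ∈ Y, ∀ y ∈ P, y ≠ 1 → (ψ : H → ℂ) y = (ε : ℂ) * Lam ψ y
  deg_Y : ∀ ψ ∈ Y, (irrDeg ψ : ℤ) = a ψ * p + ε * eN P
  Lam_one : ∀ ψ ∈ Y, Lam ψ 1 = (eN P : ℂ)
  Lam_sum : ∀ ψ ∈ Y, ∑ᶠ y : ↥P, Lam ψ (y : H) = 0
  Lam_norm : ∀ ψ ∈ Y, ∑ᶠ y : ↥P, Lam ψ (y : H) * (starRingEnd ℂ) (Lam ψ (y : H)) =
    ((p * eN P : ℕ) : ℂ)
  Lam_orth : ∀ ψ ∈ Y, ∀ ψ' ∈ Y, ψ ≠ ψ' →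
    ∑ᶠ y : ↥P, Lam ψ (y : H) * (starRingEnd ℂ) (Lam ψ' (y : H)) = 0
  rel : ∀ ψ ∈ Y, ∀ g : H, ¬ p ∣ orderOf g →
    ∑ᶠ χ ∈ X, (δ χ : ℂ) * (χ : H → ℂ) g = (ε : ℂ) * (ψ : H → ℂ) g

end Cfsg.Agent.Helper1.W2p
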