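import Mathlib
import Cfsg.Agent.Helper1.S4503Defs
import Cfsg.Agent.Helper5.Central
import Cfsg.Agent.Helper24.CharBasic
import Cfsg.Agent.Helper20.S4705BLKc

/-!
# S4503, piece PF2: `f = 1` is impossible
-/

set_option autoImplicit false
set_option linter.unusedSectionVars false
set_option linter.unusedVariables false
set_option linter.style.haveILetI false

namespace Cfsg.Agent.S4503P

open Cfsg Cfsg.Agent.Helper24 Cfsg.Agent.Helper8.D1 Cfsg.Agent.S4705P
open scoped ComplexConjugate

universe u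

variable {G : Type u} [Group G] [Finite G]

namespace PF2

/-- a central element has `|ξ(z)| = ξ(1)` for an irreducible character `ξ` -/
theorem norm_eq_of_mem_center {H : Type*} [Group H] [Finite H] (ξ : IrrCharacter H) (z : H)
    (hz : z ∈ Subgroup.center H) : ‖(ξ : H → ℂ) z‖ = ‖(ξ : H → ℂ) 1‖ := by
  obtain ⟨n, ρ, hirr, hρ⟩ := ξ.2
  haveI := hirr
  obtain ⟨c, hc⟩ := Cfsg.Agent.Helper5.schur_scalar ρ (ρ z) (by
    intro g
    rw [← Module.End.mul_eq_comp, ← Module.End.mul_eq_comp, ← map_mul, ← map_mul,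
      (Subgroup.mem_center_iff.mp hz g)])
  have h1 := (norm_char_eq_iff ρ z).mpr ⟨c, hc⟩
  rw [← hρ, h1, Representation.char_one]
  simp

end PF2

/-- **PF2** -/
theorem two_le_fN (p : ℕ) [Fact p.Prime] (P : Sylow p G) (hP : Nat.card P = p)
    (hnn : ¬ (P : Subgroup G).Normal) (ψ ψ₂ : IrrCharacter G)
    (hfaith : ∀ g : G, (ψ : G → ℂ) g = (ψ : G → ℂ) 1 → g = 1) (D : PsiSets p P ψ ψ₂) :
    2 ≤ fN (P : Subgroup G) := by
  by_contra hlt
  have hpos : fN (P : Subgroup G) ≠ 0 := by
    unfold fN Subgroup.relIndex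
    exact Subgroup.index_ne_zero_of_finite
  have hf1 : fN (P : Subgroup G) = 1 := by omega
  apply hnn
  -- `P` is abelian
  have hPC : (P : Subgroup G) ≤ Subgroup.centralizer ((P : Subgroup G) : Set G) := by
    haveI : Fact (Nat.card (P : Subgroup G)).Prime := ⟨by rw [hP]; exact Fact.out⟩
    haveI : IsCyclic (P : Subgroup G) := isCyclic_of_prime_card rfl
    intro x hx
    rw [Subgroup.mem_centralizer_iff]
    intro y hy
    have := IsCyclic.commGroup.mul_comm (⟨y, hy⟩ : (P : Subgroup G)) ⟨x, hx⟩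
    exact congrArg Subtype.val this
  obtain ⟨ξ, hξ⟩ := Finset.card_eq_one.mp (D.cardS.trans hf1)
  have hres : ∀ c : Subgroup.centralizer ((P : Subgroup G) : Set G),
      (ψ : G → ℂ) c = (ξ : Subgroup.centralizer ((P : Subgroup G) : Set G) → ℂ) c := by
    intro c
    rw [D.resψ c, hξ, Finset.sum_singleton]
  have hcent : ∀ x ∈ (P : Subgroup G), x ∈ Subgroup.center G := by
    intro x hx
    apply Cfsg.Agent.Helper20.S4705BLK.mem_center_of_norm_eq ψ hfaith x
    have hz : (⟨x, hPC hx⟩ : Subgroup.centralizer ((P : Subgroup G) : Set G)) ∈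
        Subgroup.center (Subgroup.centralizer ((P : Subgroup G) : Set G)) := by
      rw [Subgroup.mem_center_iff]
      intro c
      apply Subtype.ext
      exact (Subgroup.mem_centralizer_iff.mp c.2 x hx).symm
    have h1 := PF2.norm_eq_of_mem_center ξ _ hz
    have h2 := hres ⟨x, hPC hx⟩
    have h3 := hres 1
    simp only [Subgroup.coe_one] at h3
    simp only [] at h2
    rw [← h2, ← h3, irrDeg_spec] at h1
    rw [h1]
    simp
  constructor
  intro x hx g
  have := Subgroup.mem_center_iff.mp (hcent x hx) g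
  rw [this, mul_inv_cancel_right]
  exact hx

end Cfsg.Agent.S4503P
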