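import Mathlib
import Cfsg.Agent.Helper11.D1QC
import Cfsg.Agent.Helper20.S4705BLKDefs

/-!
# S4705, piece BLK, sub-piece BLKO: the orbit bound

`|N : T| · θ(1) · Σ_μ ⟨χ|_C, μθ⟩ ≤ χ(1)`.
-/

set_option autoImplicit false
set_option linter.unusedSectionVars false
set_option linter.unusedVariables false
set_option linter.style.haveILetI false

namespace Cfsg.Agent.S4705P

open Cfsg Cfsg.Agent.Helper24 Cfsg.Agent.Helper8.D1 Cfsg.Agent.Helper11.D1QC
  Cfsg.Agent.Helper11.D1QL Cfsg.Agent.Helper18.D1QO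

universe u

variable {G : Type u} [Group G] [Finite G]

/-! ### BLKO: the orbit bound -/
theorem blk_orbit_bound (p : ℕ) [Fact p.Prime] (P : Sylow p G) (hP : Nat.card P = p)
    (θ : IrrCharacter (Subgroup.centralizer ((P : Subgroup G) : Set G)))
    (hθP : ∀ x : Subgroup.centralizer ((P : Subgroup G) : Set G), (x : G) ∈ (P : Subgroup G) →
      (θ : Subgroup.centralizer ((P : Subgroup G) : Set G) → ℂ) x =
        (θ : Subgroup.centralizer ((P : Subgroup G) : Set G) → ℂ) 1)
    (T : Subgroup G)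
    (hT : ∀ g : G, g ∈ T ↔ (g ∈ Subgroup.normalizer ((P : Subgroup G) : Set G) ∧
      ∀ c c' : Subgroup.centralizer ((P : Subgroup G) : Set G), (c' : G) = g * c * g⁻¹ →
        (θ : Subgroup.centralizer ((P : Subgroup G) : Set G) → ℂ) c' =
          (θ : Subgroup.centralizer ((P : Subgroup G) : Set G) → ℂ) c))
    (χ : IrrCharacter G)
    (a : (Subgroup.centralizer ((P : Subgroup G) : Set G) → ℂ) → ℕ)
    (ha : ∀ μ, IsPLin p μ → mult (Subgroup.centralizer ((P : Subgroup G) : Set G))
      (fun c => μ c * (θ : Subgroup.centralizer ((P : Subgroup G) : Set G) → ℂ) c) (χ : G → ℂ) =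
        (a μ : ℂ)) :
    T.relIndex (Subgroup.normalizer ((P : Subgroup G) : Set G)) *
      (irrDeg θ * ∑ᶠ μ : {μ : Subgroup.centralizer ((P : Subgroup G) : Set G) → ℂ // IsPLin p μ},
        a μ.1) ≤ irrDeg χ := by
  classical
  have hp : p.Prime := Fact.out
  obtain ⟨hZ, hZc, hZi⟩ := subgroupOf_facts P hP
  have hcardL0 : Nat.card (Lty p (P : Subgroup G)) = p := card_pLin _ hZ hZc hZi
  haveI : Finite (Lty p (P : Subgroup G)) :=
    Nat.finite_of_card_ne_zero (by rw [hcardL0]; exact hp.ne_zero)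
  letI : Fintype (Subgroup.centralizer ((P : Subgroup G) : Set G)) := Fintype.ofFinite _
  haveI : Fintype (IrrCharacter (Subgroup.centralizer ((P : Subgroup G) : Set G))) :=
    Fintype.ofFinite _
  haveI : Fintype (Lty p (P : Subgroup G)) := Fintype.ofFinite _
  haveI : Fintype (Tty (P : Subgroup G)) := Fintype.ofFinite _
  have hcardL : Fintype.card (Lty p (P : Subgroup G)) = p := by
    rw [← Nat.card_eq_fintype_card]; exact hcardL0
  have hχcf : IsClassFunction G (χ : G → ℂ) := isClassFunction_irr χ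
  -- the multiplicities
  have hres : IsCharacter (Subgroup.centralizer ((P : Subgroup G) : Set G))
      (fun c : Subgroup.centralizer ((P : Subgroup G) : Set G) => (χ : G → ℂ) c) :=
    Cfsg.Agent.Helper8.isCharacter_restrict _ (IsIrrCharacter.isCharacter χ.2)
  have haN : ∀ ξ : IrrCharacter (Subgroup.centralizer ((P : Subgroup G) : Set G)), ∃ n : ℕ,
      classInner (fun c : Subgroup.centralizer ((P : Subgroup G) : Set G) => (χ : G → ℂ) c)
        (ξ : Subgroup.centralizer ((P : Subgroup G) : Set G) → ℂ) = n :=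
    fun ξ => IsCharacter.classInner_irr_nat hres ξ
  choose aN haN using haN
  -- the sums `S θ'`
  set S : IrrCharacter (Subgroup.centralizer ((P : Subgroup G) : Set G)) → ℕ := fun θ' =>
    ∑ μ : Lty p (P : Subgroup G), aN (mulIrr μ θ') with hSdef
  -- the degree expansion
  have hdeg : irrDeg χ = ∑ θ' : Tty (P : Subgroup G), irrDeg θ'.1 * S θ'.1 := by
    have h1 := char_one_eq_sum (Subgroup.centralizer ((P : Subgroup G) : Set G)) χ
    rw [sum_irr_eq_sum_prod P hP] at h1
    have h2 : ∀ (θ' : Tty (P : Subgroup G)) (μ : Lty p (P : Subgroup G)),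
        classInner (fun c : Subgroup.centralizer ((P : Subgroup G) : Set G) => (χ : G → ℂ) c)
            (mulIrr μ θ'.1 : Subgroup.centralizer ((P : Subgroup G) : Set G) → ℂ)
            * (mulIrr μ θ'.1 : Subgroup.centralizer ((P : Subgroup G) : Set G) → ℂ) 1
          = (aN (mulIrr μ θ'.1) : ℂ) * (irrDeg θ'.1 : ℂ) := by
      intro θ' μ
      rw [haN]
      congr 1
      show μ.1 1 * (θ'.1 : Subgroup.centralizer ((P : Subgroup G) : Set G) → ℂ) 1 = _
      rw [μ.2.one, one_mul, irrDeg_spec]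
    rw [Finset.sum_congr rfl (fun θ' _ => Finset.sum_congr rfl (fun μ _ => h2 θ' μ)),
      irrDeg_spec] at h1
    have h3 : ((irrDeg χ : ℕ) : ℂ) = ((∑ θ' : Tty (P : Subgroup G),
        irrDeg θ'.1 * S θ'.1 : ℕ) : ℂ) := by
      push_cast
      rw [h1]
      refine Finset.sum_congr rfl fun θ' _ => ?_
      rw [hSdef]
      push_cast
      rw [Finset.mul_sum]
      refine Finset.sum_congr rfl fun μ _ => ?_
      ring
    exact_mod_cast h3
  -- the orbit of `θ`
  letI := funAct (P : Subgroup G)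
  set Orb : Set (Subgroup.centralizer ((P : Subgroup G) : Set G) → ℂ) :=
    MulAction.orbit (Subgroup.normalizer ((P : Subgroup G) : Set G))
      (θ : Subgroup.centralizer ((P : Subgroup G) : Set G) → ℂ) with hOrbdef
  have hOrb : ∀ ψ, ψ ∈ Orb ↔ ∃ (n : G)
      (hn : n ∈ Subgroup.normalizer ((P : Subgroup G) : Set G)),
      ψ = fun c => (θ : Subgroup.centralizer ((P : Subgroup G) : Set G) → ℂ)
        (kap (P : Subgroup G) n hn c) :=
    fun ψ => mem_orbit_funAct_iff (P : Subgroup G)
      (θ : Subgroup.centralizer ((P : Subgroup G) : Set G) → ℂ) ψ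
  have hOrbcard : Orb.ncard = T.relIndex (Subgroup.normalizer ((P : Subgroup G) : Set G)) :=
    ncard_orbit_funAct (P : Subgroup G)
      (θ : Subgroup.centralizer ((P : Subgroup G) : Set G) → ℂ) T hT
  -- `S` in terms of `classInner`
  have hS : ∀ θ' : IrrCharacter (Subgroup.centralizer ((P : Subgroup G) : Set G)),
      ((S θ' : ℕ) : ℂ) = (p : ℂ) *
        classInner (fun c : Subgroup.centralizer ((P : Subgroup G) : Set G) => (χ : G → ℂ) c)
          (θ' : Subgroup.centralizer ((P : Subgroup G) : Set G) → ℂ)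
        + Ssum p (P : Subgroup G) θ' χ := by
    intro θ'
    have h1 := sum_classInner_eq p (P : Subgroup G) hcardL
      (θ' : Subgroup.centralizer ((P : Subgroup G) : Set G) → ℂ) (χ : G → ℂ)
    have h2 : ∀ μ : Lty p (P : Subgroup G),
        classInner (fun c : Subgroup.centralizer ((P : Subgroup G) : Set G) => (χ : G → ℂ) c)
          (fun c => μ.1 c * (θ' : Subgroup.centralizer ((P : Subgroup G) : Set G) → ℂ) c)
          = (aN (mulIrr μ θ') : ℂ) := fun μ => haN (mulIrr μ θ')
    rw [Finset.sum_congr rfl (fun μ _ => h2 μ)] at h1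
    rw [hSdef]
    push_cast
    exact h1
  have hii : ∀ θ' : Tty (P : Subgroup G),
      (θ'.1 : Subgroup.centralizer ((P : Subgroup G) : Set G) → ℂ) ∈ Orb →
      S θ'.1 = S θ ∧ irrDeg θ'.1 = irrDeg θ := by
    intro θ' hmem
    obtain ⟨n, hn, hconj⟩ := (hOrb _).mp hmem
    constructor
    · have h1 : ((S θ'.1 : ℕ) : ℂ) = ((S θ : ℕ) : ℂ) := by
        rw [hS, hS, hconj, Ssum_comp_kap p (P : Subgroup G) hχcf hn
          (θ : Subgroup.centralizer ((P : Subgroup G) : Set G) → ℂ),
          classInner_res_kap (P : Subgroup G) hχcf hn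
            (θ : Subgroup.centralizer ((P : Subgroup G) : Set G) → ℂ)]
      exact_mod_cast h1
    · have h1 : ((irrDeg θ'.1 : ℕ) : ℂ) = (irrDeg θ : ℂ) := by
        rw [← irrDeg_spec, ← irrDeg_spec, hconj]
        show (θ : Subgroup.centralizer ((P : Subgroup G) : Set G) → ℂ)
          (kap (P : Subgroup G) n hn 1) = _
        rw [map_one]
      exact_mod_cast h1
  -- `S θ` is the sum of the `a μ`
  have hSa : S θ = ∑ᶠ μ : {μ : Subgroup.centralizer ((P : Subgroup G) : Set G) → ℂ //
      IsPLin p μ}, a μ.1 := by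
    rw [finsum_eq_sum_of_fintype, hSdef]
    refine Finset.sum_congr rfl fun μ _ => ?_
    have h1 := ha μ.1 μ.2
    rw [mult_eq] at h1
    have h2 := haN (mulIrr μ θ)
    have h3 : ((aN (mulIrr μ θ) : ℕ) : ℂ) = ((a μ.1 : ℕ) : ℂ) := by
      rw [← h2, ← h1]
      rfl
    exact_mod_cast h3
  -- lower bound
  rw [← hSa, hdeg]
  have h1 : ∀ θ' : Tty (P : Subgroup G),
      (if (θ'.1 : Subgroup.centralizer ((P : Subgroup G) : Set G) → ℂ) ∈ Orb
        then irrDeg θ * S θ else 0) ≤ irrDeg θ'.1 * S θ'.1 := by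
    intro θ'
    by_cases hmem : (θ'.1 : Subgroup.centralizer ((P : Subgroup G) : Set G) → ℂ) ∈ Orb
    · rw [if_pos hmem, (hii θ' hmem).1, (hii θ' hmem).2]
    · rw [if_neg hmem]
      exact Nat.zero_le _
  refine le_trans (le_of_eq ?_) (Finset.sum_le_sum fun θ' _ => h1 θ')
  rw [Finset.sum_ite, Finset.sum_const_zero, add_zero, Finset.sum_const, smul_eq_mul]
  congr 1
  rw [← hOrbcard, ← card_filter_orbit P hP θ hθP Orb hOrb, Nat.card_eq_fintype_card,
    Fintype.card_subtype]
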