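import Mathlib
import Cfsg.Agent.Helper1.S4503Defs
import Cfsg.Agent.Helper1.S4503PF2
import Cfsg.Agent.Helper20.S4503PSIAN
import Cfsg.Agent.Helper8.S4503PSETS
import Cfsg.Agent.Helper5.S4503PREG
import Cfsg.Agent.Helper23.S4503LIN
import Cfsg.Agent.Helper7.S4503PNORM

/-!
# S4503, piece PSI: assembly of the data attached to `ψ`
-/

set_option autoImplicit false
set_option linter.unusedSectionVars false
set_option linter.unusedVariables false
set_option linter.style.haveILetI false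

namespace Cfsg.Agent.S4503P

open Cfsg Cfsg.Agent.Helper24 Cfsg.Agent.Helper8.D1 Cfsg.Agent.S4705P
open scoped ComplexConjugate

universe u

variable {G : Type u} [Group G] [Finite G]

/-- **PSI** -/
theorem exists_psiData (p : ℕ) [Fact p.Prime] (P : Sylow p G) (hP : Nat.card P = p)
    (hnn : ¬ (P : Subgroup G).Normal) (ψ : IrrCharacter G)
    (hfaith : ∀ g : G, (ψ : G → ℂ) g = (ψ : G → ℂ) 1 → g = 1)
    (hdeg : 2 * irrDeg ψ + 1 < p) : Nonempty (PsiData p P ψ) := by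
  obtain ⟨θ, μ₁, μ₂, ψ₂, hθP, hμ₁, hμ₂, hnc, hreg, h1, h2, hdegψ⟩ :=
    psi_analysis p P hP hnn ψ hfaith hdeg
  have hp1 : ¬ p ∣ orderOf (1 : G) := by
    rw [orderOf_one]
    exact (Fact.out : p.Prime).one_lt.not_ge ∘ Nat.le_of_dvd one_pos
  have hdeg₂ : irrDeg ψ₂ = irrDeg ψ := by
    have h := hreg 1 hp1
    rw [irrDeg_spec, irrDeg_spec] at h
    exact_mod_cast h
  obtain ⟨D⟩ := exists_psiSets p P hP ψ ψ₂ θ μ₁ μ₂ hθP hμ₁ hμ₂ hnc hdeg₂ h1 h2 hdegψ
  obtain ⟨hL11, hL12, hL11s, horth⟩ := psi_norms p P hP ψ ψ₂ D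
  have hc11 : IsCharacter G (mulConj (ψ : G → ℂ) (ψ : G → ℂ)) :=
    isCharacter_mulConj _ _ (IsIrrCharacter.isCharacter ψ.2) (IsIrrCharacter.isCharacter ψ.2)
  have hc12 : IsCharacter G (mulConj (ψ : G → ℂ) (ψ₂ : G → ℂ)) :=
    isCharacter_mulConj _ _ (IsIrrCharacter.isCharacter ψ.2) (IsIrrCharacter.isCharacter ψ₂.2)
  have hsum := sum_multN_congr p P hP _ _ hc12 hc11 (fun g hg => by
    unfold mulConj
    rw [hreg g hg])
  have hf2 := two_le_fN p P hP hnn ψ ψ₂ hfaith D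
  have hfp : 2 * fN (P : Subgroup G) + 1 < p := by
    have h3 : fN (P : Subgroup G) ≤ irrDeg ψ := by
      rw [hdegψ]
      exact Nat.le_mul_of_pos_right _ (irrDeg_pos θ)
    omega
  exact ⟨⟨ψ₂, hf2, hfp, hreg, hL11, hL12, hL11s, hsum, horth⟩⟩

end Cfsg.Agent.S4503P
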