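import Mathlib
import Cfsg.Agent.Helper1.S4503Defs
import Cfsg.Agent.Helper23.S4503LIN
import Cfsg.Agent.Helper5.S4503PREG
import Cfsg.Agent.Helper26.S4705CCH
import Cfsg.Agent.Helper24.Codegree
import Cfsg.Agent.Helper24.CharBasic
import Cfsg.Agent.Helper24.Orthogonality

/-!
# S4503, piece TRIV: a character of the principal block with `⟨χ_C, 1_C⟩ = 1` and no other
`p`-linear constituent is trivial (when `V ≤ Z(G)` and `⟨P^G⟩ = G`)
-/

set_option autoImplicit false
set_option linter.unusedSectionVars false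
set_option linter.unusedVariables false
set_option linter.style.haveILetI false

namespace Cfsg.Agent.S4503P

open Cfsg Cfsg.Agent.Helper24 Cfsg.Agent.Helper8.D1 Cfsg.Agent.S4705P
  Cfsg.Agent.Helper11.D1QC Cfsg.Agent.Helper11.D1QL Cfsg.Agent.Helper18.D1QO
  Cfsg.Agent.Helper5.S4503PREG
open scoped ComplexConjugate

universe u

variable {G : Type u} [Group G] [Finite G]

/-- **TRIV** -/
theorem eq_one_of_multN (p : ℕ) [Fact p.Prime] (P : Sylow p G) (hP : Nat.card P = p)
    (hG2 : Subgroup.normalClosure ((P : Subgroup G) : Set G) = ⊤)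
    (hZ : ∀ c ∈ Subgroup.centralizer ((P : Subgroup G) : Set G), ¬ p ∣ orderOf c →
      c ∈ Subgroup.center G)
    (χ : IrrCharacter G)
    (h1 : multN (Subgroup.centralizer ((P : Subgroup G) : Set G)) (triv _) (χ : G → ℂ) = 1)
    (h0 : ∀ ν, NT p ν →
      multN (Subgroup.centralizer ((P : Subgroup G) : Set G)) ν (χ : G → ℂ) = 0) :
    ∀ g : G, (χ : G → ℂ) g = 1 := by
  classical
  have hp : p.Prime := Fact.out
  obtain ⟨hZ', hZc, hZi⟩ := subgroupOf_facts P hP
  have hcardL0 : Nat.card (Lty p (P : Subgroup G)) = p := card_pLin _ hZ' hZc hZi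
  haveI : Finite (Lty p (P : Subgroup G)) :=
    Nat.finite_of_card_ne_zero (by rw [hcardL0]; exact hp.ne_zero)
  haveI : Fintype (Lty p (P : Subgroup G)) := Fintype.ofFinite _
  haveI : Fintype (Subgroup.centralizer ((P : Subgroup G) : Set G)) := Fintype.ofFinite _
  have hχc : IsCharacter G (χ : G → ℂ) := IsIrrCharacter.isCharacter χ.2
  -- the trivial `p`-linear function
  let ν₁ : Lty p (P : Subgroup G) := ⟨triv _, isPLin_one p⟩
  have hmult : ∀ ν : Lty p (P : Subgroup G),
      mult (Subgroup.centralizer ((P : Subgroup G) : Set G)) ν.1 (χ : G → ℂ) =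
        if ν = ν₁ then 1 else 0 := by
    intro ν
    rw [← multN_cast _ ν.1 (isIrr_of_isPLin ν.2) _ hχc]
    by_cases hν : ν = ν₁
    · rw [if_pos hν, hν]
      show ((multN _ (triv _) (χ : G → ℂ) : ℕ) : ℂ) = 1
      rw [h1]
      simp
    · rw [if_neg hν]
      have hNT : NT p ν.1 := by
        refine ⟨ν.2, ?_⟩
        by_contra hcon
        push Not at hcon
        apply hν
        apply Subtype.ext
        funext x
        exact hcon x
      rw [h0 ν.1 hNT]
      simp
  have hsumχ : ∑ ν : Lty p (P : Subgroup G),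
      mult (Subgroup.centralizer ((P : Subgroup G) : Set G)) ν.1 (χ : G → ℂ) = 1 := by
    rw [Finset.sum_congr rfl (fun ν _ => hmult ν), Finset.sum_ite_eq' Finset.univ ν₁]
    simp
  have hmult1 : ∀ ν : Lty p (P : Subgroup G),
      mult (Subgroup.centralizer ((P : Subgroup G) : Set G)) ν.1 (fun _ : G => (1 : ℂ)) =
        if ν = ν₁ then 1 else 0 := by
    intro ν
    rw [mult_eq]
    have h := classInner_of_isIrrCharacter
      (isIrrCharacter_const_one (G := Subgroup.centralizer ((P : Subgroup G) : Set G)))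
      (isIrr_of_isPLin ν.2)
    rw [h]
    by_cases hν : ν = ν₁
    · rw [if_pos hν, if_pos]
      rw [hν]
      rfl
    · rw [if_neg hν, if_neg]
      intro hcon
      apply hν
      apply Subtype.ext
      exact hcon.symm
  have hsum1 : ∑ ν : Lty p (P : Subgroup G),
      mult (Subgroup.centralizer ((P : Subgroup G) : Set G)) ν.1 (fun _ : G => (1 : ℂ)) = 1 := by
    rw [Finset.sum_congr rfl (fun ν _ => hmult1 ν), Finset.sum_ite_eq' Finset.univ ν₁]
    simp
  rw [sum_mult_eq p P hP] at hsumχ hsum1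
  have hCne : (Nat.card (Subgroup.centralizer ((P : Subgroup G) : Set G)) : ℂ) ≠ 0 := by
    exact_mod_cast (Nat.card_pos (α := Subgroup.centralizer ((P : Subgroup G) : Set G))).ne'
  have hpne : (p : ℂ) ≠ 0 := by exact_mod_cast hp.ne_zero
  -- the set `V` of `p`-regular elements of `C`
  set V : Finset (Subgroup.centralizer ((P : Subgroup G) : Set G)) :=
    Finset.univ.filter (fun c => ¬ p ∣ orderOf (c : G)) with hV
  have hrew : ∀ F : Subgroup.centralizer ((P : Subgroup G) : Set G) → ℂ,
      (∑ c : Subgroup.centralizer ((P : Subgroup G) : Set G),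
        if p ∣ orderOf (c : G) then 0 else (p : ℂ) * F c) = (p : ℂ) * ∑ c ∈ V, F c := by
    intro F
    rw [hV, Finset.sum_filter, Finset.mul_sum]
    refine Finset.sum_congr rfl fun c _ => ?_
    by_cases hc : p ∣ orderOf (c : G)
    · rw [if_pos hc, if_neg (not_not.mpr hc), mul_zero]
    · rw [if_neg hc, if_pos hc]
  rw [hrew (fun c => (χ : G → ℂ) c)] at hsumχ
  rw [hrew (fun _ => (1 : ℂ))] at hsum1
  have hS : ∑ c ∈ V, (χ : G → ℂ) c = (V.card : ℂ) := by
    have h2 : (p : ℂ) * ∑ c ∈ V, (χ : G → ℂ) c = (p : ℂ) * ∑ c ∈ V, (1 : ℂ) := by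
      have e1 := hsumχ
      have e2 := hsum1
      rw [inv_mul_eq_iff_eq_mul₀ hCne, mul_one] at e1 e2
      rw [e1, e2]
    have h3 := mul_left_cancel₀ hpne h2
    rw [h3]
    simp
  have h1V : (1 : Subgroup.centralizer ((P : Subgroup G) : Set G)) ∈ V := by
    rw [hV, Finset.mem_filter]
    refine ⟨Finset.mem_univ _, ?_⟩
    rw [Subgroup.coe_one, orderOf_one]
    exact fun h => hp.one_lt.not_ge (Nat.le_of_dvd one_pos h)
  have hVne : (V.card : ℂ) ≠ 0 := by
    have : 0 < V.card := Finset.card_pos.mpr ⟨1, h1V⟩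
    exact_mod_cast this.ne'
  -- members of `V` have `χ(v) = χ(1)`
  have hVmem : ∀ c : Subgroup.centralizer ((P : Subgroup G) : Set G),
      c ∈ V ↔ ¬ p ∣ orderOf (c : G) := by
    intro c
    rw [hV, Finset.mem_filter]
    simp
  have hval : ∀ v ∈ V, (χ : G → ℂ) (v : G) = (χ : G → ℂ) 1 := by
    intro v hv
    have hvreg := (hVmem v).mp hv
    have hvc : (v : G) ∈ Subgroup.center G := hZ v v.2 hvreg
    have hcomm : ∀ c : G, Commute (v : G) c := fun c =>
      ((Subgroup.mem_center_iff.mp hvc) c).symm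
    have hshift : ∑ c ∈ V, (χ : G → ℂ) ((v : G) * (c : G)) = ∑ c ∈ V, (χ : G → ℂ) c := by
      refine Finset.sum_nbij' (fun c => v * c) (fun c => v⁻¹ * c) ?_ ?_ ?_ ?_ ?_
      · intro c hc
        rw [hVmem] at hc ⊢
        intro hdvd
        have h2 := (hcomm (c : G)).orderOf_mul_dvd_lcm
        have h3 : p ∣ Nat.lcm (orderOf (v : G)) (orderOf (c : G)) := by
          rw [Subgroup.coe_mul] at hdvd
          exact hdvd.trans h2
        have h4 := h3.trans (Nat.lcm_dvd_mul _ _)
        rcases (Nat.Prime.dvd_mul hp).mp h4 with h | h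
        · exact hvreg h
        · exact hc h
      · intro c hc
        rw [hVmem] at hc ⊢
        intro hdvd
        have hvi : (v : G)⁻¹ ∈ Subgroup.center G := Subgroup.inv_mem _ hvc
        have hcomm' : Commute ((v : G)⁻¹) (c : G) :=
          ((Subgroup.mem_center_iff.mp hvi) (c : G)).symm
        have h2 := hcomm'.orderOf_mul_dvd_lcm
        have h3 : p ∣ Nat.lcm (orderOf ((v : G)⁻¹)) (orderOf (c : G)) := by
          rw [Subgroup.coe_mul, Subgroup.coe_inv] at hdvd
          exact hdvd.trans h2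
        have h4 := h3.trans (Nat.lcm_dvd_mul _ _)
        rcases (Nat.Prime.dvd_mul hp).mp h4 with h | h
        · rw [orderOf_inv] at h
          exact hvreg h
        · exact hc h
      · intro c _
        simp
      · intro c _
        simp
      · intro c _
        rw [Subgroup.coe_mul]
    have h5 : (∑ c ∈ V, (χ : G → ℂ) ((v : G) * (c : G))) * (χ : G → ℂ) 1 =
        (χ : G → ℂ) (v : G) * ∑ c ∈ V, (χ : G → ℂ) c := by
      rw [Finset.sum_mul, Finset.mul_sum]
      refine Finset.sum_congr rfl fun c _ => ?_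
      exact central_mul χ (v : G) hvc (c : G)
    rw [hshift, hS] at h5
    have h6 : (V.card : ℂ) * (χ : G → ℂ) 1 = (V.card : ℂ) * (χ : G → ℂ) (v : G) := by
      rw [h5]; ring
    exact (mul_left_cancel₀ hVne h6).symm
  -- `χ(1) = 1`
  have hdeg : (χ : G → ℂ) 1 = 1 := by
    have h2 : ∑ c ∈ V, (χ : G → ℂ) c = (V.card : ℂ) * (χ : G → ℂ) 1 := by
      rw [Finset.sum_congr rfl (fun c hc => hval c hc), Finset.sum_const, nsmul_eq_mul]
    rw [hS] at h2
    have h3 : (V.card : ℂ) * 1 = (V.card : ℂ) * (χ : G → ℂ) 1 := by rw [mul_one]; exact h2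
    exact (mul_left_cancel₀ hVne h3).symm
  -- `‖χ(g)‖ ≤ 1`
  have hnorm : ∀ g : G, ‖(χ : G → ℂ) g‖ ≤ 1 := by
    intro g
    obtain ⟨n, ρ, hirr, hρ⟩ := χ.2
    have h2 := norm_char_le ρ g
    have h3 : (Module.finrank ℂ (Fin n → ℂ) : ℂ) = 1 := by
      rw [← hdeg, ← hρ, Representation.char_one]
    have h4 : (Module.finrank ℂ (Fin n → ℂ) : ℝ) = 1 := by exact_mod_cast h3
    rw [hρ, h4] at h2
    exact h2
  -- `χ = 1` on `C`
  have hC : ∀ c : Subgroup.centralizer ((P : Subgroup G) : Set G), (χ : G → ℂ) c = 1 := by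
    have hm := hmult ν₁
    rw [if_pos rfl, mult_eq] at hm
    unfold classInner at hm
    rw [inv_mul_eq_iff_eq_mul₀ hCne, mul_one] at hm
    have h2 : ∑ c : Subgroup.centralizer ((P : Subgroup G) : Set G), (χ : G → ℂ) c =
        (Nat.card (Subgroup.centralizer ((P : Subgroup G) : Set G)) : ℂ) := by
      rw [← hm]
      refine Finset.sum_congr rfl fun c _ => ?_
      show (χ : G → ℂ) c = (χ : G → ℂ) c * conj (triv _ c)
      unfold triv
      simp
    have h3 : ∑ c : Subgroup.centralizer ((P : Subgroup G) : Set G),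
        (1 - ((χ : G → ℂ) c).re) = 0 := by
      have h4 := congrArg Complex.re h2
      rw [Complex.re_sum, Complex.natCast_re] at h4
      rw [Finset.sum_sub_distrib, h4, Finset.sum_const, Finset.card_univ,
        Nat.card_eq_fintype_card]
      simp
    have h5 : ∀ c ∈ (Finset.univ : Finset (Subgroup.centralizer ((P : Subgroup G) : Set G))),
        0 ≤ 1 - ((χ : G → ℂ) c).re := by
      intro c _
      have := (Complex.re_le_norm ((χ : G → ℂ) c)).trans (hnorm c)
      linarith
    intro c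
    have h6 := (Finset.sum_eq_zero_iff_of_nonneg h5).mp h3 c (Finset.mem_univ c)
    have hre : ((χ : G → ℂ) c).re = 1 := by linarith
    have hn := hnorm c
    have hsq : ‖(χ : G → ℂ) c‖ ^ 2 ≤ 1 := by
      have h0n := norm_nonneg ((χ : G → ℂ) c)
      nlinarith
    rw [Complex.sq_norm, Complex.normSq_apply, hre] at hsq
    have him : ((χ : G → ℂ) c).im = 0 := by nlinarith
    apply Complex.ext
    · rw [hre]; simp
    · rw [him]; simp
  -- the kernel
  obtain ⟨N, hNn, hN, -⟩ := exists_kernel_quotient χ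
  haveI := hNn
  have hPN : ((P : Subgroup G) : Set G) ⊆ N := by
    intro x hx
    have hxC : x ∈ Subgroup.centralizer ((P : Subgroup G) : Set G) := by
      haveI : Fact (Nat.card (P : Subgroup G)).Prime := ⟨by rw [hP]; exact hp⟩
      haveI : IsCyclic (P : Subgroup G) := isCyclic_of_prime_card rfl
      rw [Subgroup.mem_centralizer_iff]
      intro y hy
      have := IsCyclic.commGroup.mul_comm (⟨y, hy⟩ : (P : Subgroup G)) ⟨x, hx⟩
      exact congrArg Subtype.val this
    rw [SetLike.mem_coe, hN, hdeg]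
    exact hC ⟨x, hxC⟩
  have htop : N = ⊤ := top_le_iff.mp (hG2 ▸ Subgroup.normalClosure_le_normal hPN)
  intro g
  have : g ∈ N := by rw [htop]; exact Subgroup.mem_top g
  rw [(hN g).mp this, hdeg]

end Cfsg.Agent.S4503P
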