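import Mathlib
import Cfsg.Agent.Helper1.S4503Defs
import Cfsg.Agent.Helper1.S4503Core
import Cfsg.Agent.Helper1.S4503GMIN
import Cfsg.Agent.Helper1.S4503PSI
import Cfsg.Agent.Helper20.S4503B0ASM
import Cfsg.Agent.Helper23.S4503KERZ
import Cfsg.Agent.Helper23.S4503LIN
import Cfsg.Agent.Helper23.S4503SHIFT
import Cfsg.Agent.Helper23.S4503ORB
import Cfsg.Agent.Helper24.S4503GIRR
import Cfsg.Agent.Helper1.S4503TRIV

/-!
# S4503: the assembly (bridge to the combinatorial core, final contradiction)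
-/

set_option autoImplicit false
set_option linter.unusedSectionVars false
set_option linter.unusedVariables false
set_option linter.style.haveILetI false

namespace Cfsg.Agent.S4503P

open Cfsg Cfsg.Agent.Helper24 Cfsg.Agent.Helper8.D1 Cfsg.Agent.S4705P
open scoped ComplexConjugate

universe u

variable {G : Type u} [Group G] [Finite G]

/-- splitting a sum over the `p`-linear characters into the trivial one and the non-trivial ones -/
theorem finsum_isPLin_eq (p : ℕ) [Fact p.Prime] (P : Sylow p G) (hP : Nat.card P = p)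
    [Fintype {ν : Subgroup.centralizer ((P : Subgroup G) : Set G) → ℂ // NT p ν}]
    (g : (Subgroup.centralizer ((P : Subgroup G) : Set G) → ℂ) → ℕ) :
    ∑ᶠ ν ∈ {ν : Subgroup.centralizer ((P : Subgroup G) : Set G) → ℂ | IsPLin p ν}, g ν =
      g (triv _) + ∑ ν : {ν : Subgroup.centralizer ((P : Subgroup G) : Set G) → ℂ // NT p ν},
        g ν.1 := by
  classical
  have hfin : Set.Finite {ν : Subgroup.centralizer ((P : Subgroup G) : Set G) → ℂ | NT p ν} :=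
    Set.finite_coe_iff.mp (inferInstanceAs
      (Finite {ν : Subgroup.centralizer ((P : Subgroup G) : Set G) → ℂ // NT p ν}))
  have hset : {ν : Subgroup.centralizer ((P : Subgroup G) : Set G) → ℂ | IsPLin p ν} =
      insert (triv _) {ν : Subgroup.centralizer ((P : Subgroup G) : Set G) → ℂ | NT p ν} := by
    ext ν
    simp only [Set.mem_ofPred_eq, Set.mem_insert_iff]
    constructor
    · intro h
      by_cases h1 : ∃ x, ν x ≠ 1
      · exact Or.inr ⟨h, h1⟩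
      · left
        push Not at h1
        funext x
        exact h1 x
    · rintro (h | h)
      · rw [h]
        exact isPLin_one p
      · exact h.1
  have hnot : triv _ ∉ {ν : Subgroup.centralizer ((P : Subgroup G) : Set G) → ℂ | NT p ν} := by
    rintro ⟨-, x, hx⟩
    exact hx rfl
  rw [hset, finsum_mem_insert _ hnot hfin]
  congr 1
  rw [← finsum_eq_sum_of_fintype]
  exact (finsum_subtype_eq_finsum_cond (f := fun ν => g ν) (fun ν => NT p ν)).symm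

/-- the same for a sum over the non-trivial ones only -/
theorem finsum_NT_eq (p : ℕ) {A : Type*} [AddCommMonoid A]
    {C : Type*} [Group C]
    [Fintype {ν : C → ℂ // NT p ν}] (g : (C → ℂ) → A) :
    ∑ᶠ ν ∈ {ν : C → ℂ | NT p ν}, g ν = ∑ ν : {ν : C → ℂ // NT p ν}, g ν.1 := by
  rw [← finsum_eq_sum_of_fintype]
  exact (finsum_subtype_eq_finsum_cond (f := fun ν => g ν) (fun ν => NT p ν)).symm

section final

variable (p : ℕ) [Fact p.Prime] (P : Sylow p G)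

local notation "CC" => Subgroup.centralizer ((P : Subgroup G) : Set G)
local notation "NN" => Subgroup.normalizer ((P : Subgroup G) : Set G)

theorem final_false (hP : Nat.card P = p)
    (hG2 : Subgroup.normalClosure ((P : Subgroup G) : Set G) = ⊤)
    (hG3 : ∀ K : Subgroup G, K.Normal → K ≠ ⊤ → K ≤ Subgroup.center G)
    (ψ : IrrCharacter G) (B : B0Data p P) (D : PsiData p P ψ) : False := by
  classical
  haveI : Fintype (IrrCharacter G) := Fintype.ofFinite _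
  haveI hfinΛ : Finite {ν : CC → ℂ // NT p ν} := finite_NT p P hP
  haveI : Fintype {ν : CC → ℂ // NT p ν} := Fintype.ofFinite _
  set f : ℕ := fN (P : Subgroup G) with hf
  have hf2 : 2 ≤ f := D.hf2
  have hchar11 : IsCharacter G (mulConj (ψ : G → ℂ) (ψ : G → ℂ)) :=
    isCharacter_mulConj _ _ (IsIrrCharacter.isCharacter ψ.2) (IsIrrCharacter.isCharacter ψ.2)
  have hchar12 : IsCharacter G (mulConj (ψ : G → ℂ) (D.ψ₂ : G → ℂ)) :=
    isCharacter_mulConj _ _ (IsIrrCharacter.isCharacter ψ.2) (IsIrrCharacter.isCharacter D.ψ₂.2)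
  have hirrν : ∀ ν : {ν : CC → ℂ // NT p ν}, IsIrrCharacter CC ν.1 :=
    fun ν => isIrrCharacter_of_isPLin p P ν.1 ν.2.1
  have hirr1 : IsIrrCharacter CC (triv CC) := isIrrCharacter_triv _
  -- the data for the core
  let Ψ : {ν : CC → ℂ // NT p ν} → IrrCharacter G := fun ν => B.Ψ ν.1
  let a₁ : IrrCharacter G → ℕ := fun χ => multN CC (triv CC) (χ : G → ℂ)
  let a : IrrCharacter G → {ν : CC → ℂ // NT p ν} → ℕ := fun χ ν => multN CC ν.1 (χ : G → ℂ)
  let m₁ : IrrCharacter G → ℕ := fun χ => ipN (mulConj (ψ : G → ℂ) (ψ : G → ℂ)) (χ : G → ℂ)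
  let m₂ : IrrCharacter G → ℕ := fun χ => ipN (mulConj (ψ : G → ℂ) (D.ψ₂ : G → ℂ)) (χ : G → ℂ)
  let L₁ : {ν : CC → ℂ // NT p ν} → ℕ := fun ν => multN CC ν.1 (mulConj (ψ : G → ℂ) (ψ : G → ℂ))
  let L₂ : {ν : CC → ℂ // NT p ν} → ℕ :=
    fun ν => multN CC ν.1 (mulConj (ψ : G → ℂ) (D.ψ₂ : G → ℂ))
  let r : {ν : CC → ℂ // NT p ν} → {ν : CC → ℂ // NT p ν} → Prop :=
    fun μ ν => TConj (P : Subgroup G) NN μ.1 ν.1
  have hcardΛ : Fintype.card {ν : CC → ℂ // NT p ν} = p - 1 := by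
    rw [← Nat.card_eq_fintype_card]
    exact card_NT p P hP
  haveI : Nonempty {ν : CC → ℂ // NT p ν} := by
    have hp2 := (Fact.out : p.Prime).two_le
    apply Fintype.card_pos_iff.mp
    omega
  have hΨ : ∀ μ ν, Ψ μ = Ψ ν ↔ r μ ν := fun μ ν => B.Ψ_eq μ.1 ν.1 μ.2 ν.2
  have hr : ∀ μ, (Finset.univ.filter (r μ)).card = f := by
    intro μ
    rw [← Fintype.card_subtype, ← Nat.card_eq_fintype_card]
    exact card_TConj p P hP μ.1 μ.2
  have hΨX : ∀ ν, Ψ ν ∉ B.X := fun ν => B.Ψ_notX ν.1 ν.2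
  have ha_exc : ∀ ν, (a (Ψ ν) ν : ℤ) - a₁ (Ψ ν) = B.ε := fun ν => B.dnum_exc ν.1 ν.2
  have ha : ∀ ν χ, χ ≠ Ψ ν → (a χ ν : ℤ) - a₁ χ = B.w χ := fun ν χ h => B.dnum ν.1 ν.2 χ h
  have hL₁ : ∀ ν, ∑ χ, m₁ χ * a χ ν = L₁ ν := by
    intro ν
    rw [← finsum_eq_sum_of_fintype]
    exact sum_ipN_mul_multN CC ν.1 (hirrν ν) _ hchar11
  have hL₂ : ∀ ν, ∑ χ, m₂ χ * a χ ν = L₂ ν := by
    intro ν
    rw [← finsum_eq_sum_of_fintype]
    exact sum_ipN_mul_multN CC ν.1 (hirrν ν) _ hchar12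
  have hm₂a₁ : ∑ χ, m₂ χ * a₁ χ = 0 := by
    rw [← finsum_eq_sum_of_fintype]
    rw [show (∑ᶠ χ : IrrCharacter G, m₂ χ * a₁ χ) = _ from
      sum_ipN_mul_multN CC (triv CC) hirr1 _ hchar12]
    exact D.L12_one
  have hm₁a₁ : ∑ χ, m₁ χ * a₁ χ = f := by
    rw [← finsum_eq_sum_of_fintype]
    rw [show (∑ᶠ χ : IrrCharacter G, m₁ χ * a₁ χ) = _ from
      sum_ipN_mul_multN CC (triv CC) hirr1 _ hchar11]
    exact D.L11_one
  have hsplit1 := finsum_isPLin_eq p P hP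
    (fun ν => multN CC ν (mulConj (ψ : G → ℂ) (ψ : G → ℂ)))
  have hsplit2 := finsum_isPLin_eq p P hP
    (fun ν => multN CC ν (mulConj (ψ : G → ℂ) (D.ψ₂ : G → ℂ)))
  have hS : ∑ ν, L₂ ν = ∑ ν, L₁ ν + f := by
    have h := D.L12_sum
    rw [hsplit1, hsplit2] at h
    rw [D.L12_one, D.L11_one] at h
    show ∑ ν : {ν : CC → ℂ // NT p ν}, multN CC ν.1 (mulConj (ψ : G → ℂ) (D.ψ₂ : G → ℂ)) = _
    rw [zero_add] at h
    rw [h]
    exact add_comm _ _
  have hS₂ : ∑ ν, L₂ ν ≤ f ^ 2 := by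
    have h := D.L11_sum
    rw [← D.L12_sum, hsplit2] at h
    rw [D.L12_one, zero_add] at h
    exact h
  have hS₂pos : 0 < ∑ ν, L₂ ν := by omega
  -- the differences
  have hdiff : ∑ ν, ((L₁ ν : ℤ) - L₂ ν) = -(f : ℤ) := by
    rw [Finset.sum_sub_distrib, ← Nat.cast_sum, ← Nat.cast_sum, hS]
    push_cast
    ring
  have hfpos : (0 : ℤ) < f := by exact_mod_cast (by omega : 0 < f)
  have hshift : ∀ χ : IrrCharacter G, (χ ∈ B.X ∨ ∃ μ, NT p μ ∧ χ = B.Ψ μ) →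
      (f : ℤ) * ((m₁ χ : ℤ) - m₂ χ) = ∑ ν, ((a χ ν : ℤ) - a₁ χ) * ((L₁ ν : ℤ) - L₂ ν) := by
    intro χ hχ
    have h := shift p P hP ψ D.ψ₂ χ D.reg (B.val χ hχ)
    rw [finsum_NT_eq p] at h
    exact h
  have hsX : ∀ χ ∈ B.X, (m₁ χ : ℤ) = m₂ χ - B.w χ := by
    intro χ hχ
    have h := hshift χ (Or.inl hχ)
    have h2 : ∀ ν ∈ (Finset.univ : Finset {ν : CC → ℂ // NT p ν}),
        ((a χ ν : ℤ) - a₁ χ) * ((L₁ ν : ℤ) - L₂ ν) = B.w χ * ((L₁ ν : ℤ) - L₂ ν) := by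
      intro ν _
      rw [ha ν χ (fun h => hΨX ν (h ▸ hχ))]
    rw [Finset.sum_congr rfl h2, ← Finset.mul_sum, hdiff] at h
    have h3 : (f : ℤ) * ((m₁ χ : ℤ) - m₂ χ) = f * (-B.w χ) := by rw [h]; ring
    have h4 := mul_left_cancel₀ (ne_of_gt hfpos) h3
    linarith
  have hsΨ : ∀ ν, (m₁ (Ψ ν) : ℤ) = m₂ (Ψ ν) + B.ε * ((L₁ ν : ℤ) - L₂ ν) := by
    intro ν₀
    have h := hshift (Ψ ν₀) (Or.inr ⟨ν₀.1, ν₀.2, rfl⟩)
    have hw0 : B.w (Ψ ν₀) = 0 := B.w_notX _ (hΨX ν₀)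
    have h2 : ∀ ν ∈ (Finset.univ : Finset {ν : CC → ℂ // NT p ν}),
        ((a (Ψ ν₀) ν : ℤ) - a₁ (Ψ ν₀)) * ((L₁ ν : ℤ) - L₂ ν) =
          if r ν₀ ν then B.ε * ((L₁ ν₀ : ℤ) - L₂ ν₀) else 0 := by
      intro ν _
      by_cases hrν : r ν₀ ν
      · rw [if_pos hrν]
        have h3 : Ψ ν₀ = Ψ ν := (hΨ ν₀ ν).mpr hrν
        rw [h3, ha_exc ν]
        have h4 : L₁ ν = L₁ ν₀ := multN_TConj p P _ (IsCharacter.isClassFunction hchar11) ν₀.1 ν.1 hrν
        have h5 : L₂ ν = L₂ ν₀ := multN_TConj p P _ (IsCharacter.isClassFunction hchar12) ν₀.1 ν.1 hrν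
        rw [h4, h5]
      · rw [if_neg hrν]
        have h3 : Ψ ν₀ ≠ Ψ ν := fun h => hrν ((hΨ ν₀ ν).mp h)
        rw [ha ν (Ψ ν₀) h3, hw0, zero_mul]
    rw [Finset.sum_congr rfl h2, Finset.sum_ite, Finset.sum_const_zero, add_zero,
      Finset.sum_const, hr ν₀, nsmul_eq_mul] at h
    have h4 := mul_left_cancel₀ (ne_of_gt hfpos) h
    linarith
  -- the subgroup `V` is central
  obtain ⟨χ₁, hχ₁B, hχ₁pos⟩ := Core.exists_constituent B.X Ψ B.ε B.w a₁ a m₂ L₂ hΨX B.w_X B.w_notX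
    ha_exc ha hL₂ hm₂a₁ hS₂pos
  have hχ₁B' : χ₁ ∈ B.X ∨ ∃ μ, NT p μ ∧ χ₁ = B.Ψ μ := by
    rcases hχ₁B with h | ⟨ν, h⟩
    · exact Or.inl h
    · exact Or.inr ⟨ν.1, ν.2, h⟩
  have hχ₁P : ∑ᶠ x : (P : Subgroup G), (χ₁ : G → ℂ) (x : G) = 0 :=
    sum_subgroup_eq_zero_of_constituent (P : Subgroup G) _ hchar12 D.orthP χ₁ hχ₁pos
  have hZ : ∀ c ∈ CC, ¬ p ∣ orderOf c → c ∈ Subgroup.center G :=
    regular_central p P hP hG3 χ₁ hχ₁P (B.ker χ₁ hχ₁B' hχ₁P)
  -- the trivial character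
  let χ₀ : IrrCharacter G := ⟨fun _ => 1, isIrrCharacter_const_one⟩
  have hker : ∀ χ ∈ B.X, B.w χ = -1 → a₁ χ = 1 → χ = χ₀ := by
    intro χ hχ hw h1
    apply Subtype.ext
    funext g
    refine eq_one_of_multN p P hP hG2 hZ χ h1 ?_ g
    intro ν hν
    have h2 := ha ⟨ν, hν⟩ χ (fun h => hΨX ⟨ν, hν⟩ (h ▸ hχ))
    have h1' : a₁ χ = 1 := h1
    rw [hw, h1'] at h2
    have h3 : (a χ ⟨ν, hν⟩ : ℤ) = 0 := by push_cast at h2; linarith
    exact_mod_cast h3
  exact Core.core_false B.X Ψ B.ε B.w a₁ a m₂ L₂ r p f hf2 D.hfp hcardΛ hΨ hr B.hε B.card_X hΨX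
    B.w_X B.w_notX ha_exc ha m₁ L₁ hL₂ hm₂a₁ hm₁a₁ hS hS₂ hsX hsΨ χ₀ hker

end final

theorem card_sylow_eq_prime {p : ℕ} [hp : Fact p.Prime]
    (hdiv : p ∣ Nat.card G) (hsq : ¬ p ^ 2 ∣ Nat.card G) (P : Sylow p G) : Nat.card P = p := by
  have hfac : (Nat.card G).factorization p = 1 := by
    have h0 : Nat.card G ≠ 0 := Nat.card_pos.ne'
    have h1 : 1 ≤ (Nat.card G).factorization p :=
      (hp.out.dvd_iff_one_le_factorization h0).mp hdiv
    have h2 : ¬ 2 ≤ (Nat.card G).factorization p := fun h =>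
      hsq ((hp.out.pow_dvd_iff_le_factorization h0).mpr h)
    omega
  have := P.card_eq_multiplicity
  rw [hfac, pow_one] at this
  exact this

/-- the induction -/
theorem goal_all : ∀ (n : ℕ) (G : Type u) [Group G] [Finite G], Nat.card G = n → Goal G := by
  intro n
  induction n using Nat.strong_induction_on with
  | _ n IH =>
    intro G _ _ hn
    have ih : ∀ (H : Type u) [Group H] [Finite H], Nat.card H < Nat.card G → Goal H := by
      intro H _ _ hlt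
      exact IH (Nat.card H) (hn ▸ hlt) H rfl
    intro p hp hdiv hsq χ hχ hfaith hdeg
    haveI : Fact p.Prime := ⟨hp⟩
    rcases exists_faithful_irr_or_normal ih p hp hdiv hsq χ hχ hfaith hdeg with h | ⟨ψ, hψf, hψd⟩
    · exact h
    · obtain ⟨P⟩ : Nonempty (Sylow p G) := inferInstance
      have hP : Nat.card P = p := card_sylow_eq_prime hdiv hsq P
      by_cases hnn : (P : Subgroup G).Normal
      · exact ⟨(P : Subgroup G), hnn, hP⟩
      · exfalso
        obtain ⟨hG2, hG3'⟩ := minimal_structure ih p P hP hnn ψ hψf hψd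
        obtain ⟨D⟩ := exists_psiData p P hP hnn ψ hψf hψd
        obtain ⟨B⟩ := exists_b0Data p P hP
        have hG3 : ∀ K : Subgroup G, K.Normal → K ≠ ⊤ → K ≤ Subgroup.center G := by
          rcases hG3' with h | h
          · have := D.hf2
            omega
          · exact h
        exact final_false p P hP hG2 hG3 ψ B D

theorem goal (G : Type u) [Group G] [Finite G] : Goal G := goal_all (Nat.card G) G rfl

end Cfsg.Agent.S4503P
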