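import Mathlib
import Cfsg.Agent.Helper5.S4607Defs
import Cfsg.Agent.Helper3.S4607GCENTER

/-!
# S4607 piece CENK (helper1): the dimension of `a * Z(k[G])` is the rank of the class matrix.
-/

set_option autoImplicit false

namespace Cfsg.Agent.S4607P

namespace CENK

open Cfsg.Agent.Helper5.CC

variable {k : Type*} [Field k] {G : Type*} [Group G] [Fintype G]

/-- class functions, as elements of the group algebra -/
noncomputable def theta : (ConjClasses G → k) →ₗ[k] MonoidAlgebra k G :=
  (MonoidAlgebra.coeffLinearEquiv k).symm.toLinearMap ∘ₗ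
    (Finsupp.linearEquivFunOnFinite k k G).symm.toLinearMap ∘ₗ
      (LinearMap.funLeft k k (ConjClasses.mk : G → ConjClasses G))

theorem theta_coeff (c : ConjClasses G → k) (g : G) :
    (theta c).coeff g = c (ConjClasses.mk g) := by
  show ((Finsupp.linearEquivFunOnFinite k k G).symm
    (LinearMap.funLeft k k (ConjClasses.mk : G → ConjClasses G) c)) g = _
  rw [Finsupp.linearEquivFunOnFinite_symm_apply, LinearMap.funLeft_apply]

theorem theta_injective : Function.Injective (theta : (ConjClasses G → k) →ₗ[k] MonoidAlgebra k G) := by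
  intro c c' h
  funext K
  obtain ⟨g, rfl⟩ := ConjClasses.exists_rep K
  have h1 := theta_coeff c g
  have h2 := theta_coeff c' g
  rw [← h1, ← h2, h]

omit [Fintype G] in
theorem coeff_rep_mk (a : MonoidAlgebra k G)
    (ha : a ∈ Subalgebra.center k (MonoidAlgebra k G)) (g : G) :
    a.coeff (rep (ConjClasses.mk g)) = a.coeff g := by
  have h1 : ConjClasses.mk (rep (ConjClasses.mk g)) = ConjClasses.mk g := mk_rep _
  obtain ⟨x, hx⟩ := isConj_iff.mp (ConjClasses.mk_eq_mk_iff_isConj.mp h1)
  have h2 := (mem_center_iff a).mp ha (rep (ConjClasses.mk g)) x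
  rw [hx] at h2
  exact h2.symm

theorem range_theta :
    LinearMap.range (theta : (ConjClasses G → k) →ₗ[k] MonoidAlgebra k G) =
      Subalgebra.toSubmodule (Subalgebra.center k (MonoidAlgebra k G)) := by
  apply le_antisymm
  · rintro _ ⟨c, rfl⟩
    rw [Subalgebra.mem_toSubmodule, mem_center_iff]
    intro g x
    rw [theta_coeff, theta_coeff]
    congr 1
    exact ConjClasses.mk_eq_mk_iff_isConj.mpr (isConj_iff.mpr ⟨x⁻¹, by group⟩)
  · intro a ha
    rw [Subalgebra.mem_toSubmodule] at ha
    refine ⟨fun K => a.coeff (rep K), ?_⟩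
    ext g
    rw [theta_coeff]
    exact coeff_rep_mk a ha g

open Classical in
theorem mul_theta [Fintype (ConjClasses G)] (a : MonoidAlgebra k G)
    (ha : a ∈ Subalgebra.center k (MonoidAlgebra k G)) (c : ConjClasses G → k) :
    a * theta c = theta ((cmat (fun g => a.coeff g)).mulVec c) := by
  have hmem : a * theta c ∈ Subalgebra.toSubmodule (Subalgebra.center k (MonoidAlgebra k G)) := by
    rw [Subalgebra.mem_toSubmodule]
    refine Subalgebra.mul_mem _ ha ?_
    rw [← Subalgebra.mem_toSubmodule, ← range_theta]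
    exact ⟨c, rfl⟩
  rw [← range_theta] at hmem
  obtain ⟨c', hc'⟩ := hmem
  rw [← hc']
  congr 1
  funext K
  have h1 : c' K = (a * theta c).coeff (rep K) := by
    rw [← hc', theta_coeff, mk_rep]
  rw [h1, MonoidAlgebra.coeff_mul_apply_right, Finsupp.sum_fintype _ _ (fun i => by simp)]
  simp only [theta_coeff]
  show _ = ∑ L, cmat (fun g => a.coeff g) K L * c L
  simp only [cmat, Finset.sum_mul]
  rw [Finset.sum_comm]
  refine Finset.sum_congr rfl fun h _ => ?_
  rw [Finset.sum_eq_single (ConjClasses.mk h)]
  · rw [if_pos rfl]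
  · intro L _ hL
    rw [if_neg (Ne.symm hL), zero_mul]
  · intro h'; exact absurd (Finset.mem_univ _) h'

end CENK

/-- CENK: the dimension of `a * Z(k[G])` (`a` central) is the rank of the class matrix of `a` -/
theorem finrank_center_map_mulLeft {k : Type*} [Field k] {G : Type*} [Group G] [Fintype G]
    [Fintype (ConjClasses G)] (a : MonoidAlgebra k G) (ha : a ∈ Subalgebra.center k (MonoidAlgebra k G)) :
    Module.finrank k ((Subalgebra.toSubmodule (Subalgebra.center k (MonoidAlgebra k G))).map
      (LinearMap.mulLeft k a)) = (cmat (fun g => a.coeff g)).rank := by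
  classical
  rw [← CENK.range_theta, ← LinearMap.range_comp]
  have hcomp : (LinearMap.mulLeft k a) ∘ₗ (CENK.theta : (ConjClasses G → k) →ₗ[k] MonoidAlgebra k G) =
      CENK.theta ∘ₗ (cmat (fun g => a.coeff g)).mulVecLin := by
    refine LinearMap.ext fun c => ?_
    show a * CENK.theta c = CENK.theta ((cmat (fun g => a.coeff g)).mulVec c)
    exact CENK.mul_theta a ha c
  rw [hcomp, LinearMap.range_comp]
  rw [Matrix.rank]
  exact (Submodule.equivMapOfInjective _ CENK.theta_injective _).symm.finrank_eq
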