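import Mathlib
import Cfsg.Prelude.Def_Blocks
import Cfsg.Prelude.Def_BlockRank
import Cfsg.Agent.Helper5.S4607Defs
import Cfsg.Agent.Helper5.BrauerMap2
import Cfsg.Agent.Helper5.Osima
import Cfsg.Agent.Helper8.S4607TRIDEM
import Cfsg.Agent.Helper28.S4607CENC1
import Cfsg.Agent.Helper1.S4607CENK
import Cfsg.Agent.Helper28.S4607CENC2
import Cfsg.Agent.Helper26.S4607IDEMRANK
import Cfsg.Agent.Helper7.S4607REDCMAT
import Cfsg.Agent.Helper7.S4607EPS

/-!
# S4607 piece CEN (helper1): the dimension of the centre of the block algebra is `k(B)`.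
-/

set_option autoImplicit false

namespace Cfsg.Agent.S4607P

open Cfsg Cfsg.Agent.Helper5.Res Cfsg.Agent.Helper5.CC Cfsg.Agent.Helper24

section Block

variable {M : Ideal AlgInt} [hMax : M.IsMaximal] {G : Type*} [Group G] [Fintype G]
  [Fintype (IrrCharacter G)]

/-- CEN: the dimension of the centre of the block algebra is `k(B)` -/
theorem finrank_center_eps (B : Set (IrrCharacter G)) (hB : IsPBlock M B) :
    Module.finrank (AlgInt ⧸ M)
      ((Subalgebra.toSubmodule (Subalgebra.center (AlgInt ⧸ M) (MonoidAlgebra (AlgInt ⧸ M) G))).map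
        (LinearMap.mulLeft (AlgInt ⧸ M) (eps M B))) = Nat.card B := by
  classical
  have : Fintype (ConjClasses G) := Fintype.ofFinite _
  rw [finrank_center_map_mulLeft (eps M B) (eps_mem_center B)]
  have hlr : ∀ g, MemLocalRing M (blockCoeff B g) := fun g => osima hMax.isPrime B hB g
  obtain ⟨h1, h2⟩ := cmat_red (M := M) (blockCoeff B) hlr
  have hidem : cmat (blockCoeff B) * cmat (blockCoeff B) = cmat (blockCoeff B) := by
    rw [← cmat_conv _ _ (isClassFunction_blockCoeff B) (isClassFunction_blockCoeff B),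
      conv_blockCoeff_self]
  show (cmat (fun g => (red M (blockCoeff B)).coeff g)).rank = Nat.card B
  rw [h1, rank_map_res_eq _ hidem h2]
  have h3 := rank_eq_trace_of_idem _ hidem
  rw [trace_cmat_blockCoeff] at h3
  exact_mod_cast h3

end Block

end Cfsg.Agent.S4607P
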