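import Mathlib
import Cfsg.Prelude.Def_Blocks
import Cfsg.Prelude.Def_BlockRank
import Cfsg.Agent.Helper5.S4607Defs
import Cfsg.Agent.Helper5.BrauerMap2
import Cfsg.Agent.Helper5.Osima
import Cfsg.Agent.Helper8.S4607TRIDEM
import Cfsg.Agent.Helper24.Abelian

/-!
# S4607 piece DIMC (helper1): the complex matrix `(e_B (g h⁻¹))` is idempotent of rank `∑ χ(1)²`.
-/

set_option autoImplicit false

namespace Cfsg.Agent.S4607P

open Cfsg Cfsg.Agent.Helper5.Res Cfsg.Agent.Helper5.CC Cfsg.Agent.Helper24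

section Block

variable {G : Type*} [Group G] [Fintype G] [Fintype (IrrCharacter G)]

open Classical in
/-- DIMC: the complex matrix `(e_B (g h⁻¹))` is idempotent of rank `∑_{χ ∈ B} χ(1)²` -/
theorem rank_blockMatrix (B : Set (IrrCharacter G)) :
    (Matrix.of fun g h : G => blockCoeff B (g * h⁻¹)) *
        (Matrix.of fun g h : G => blockCoeff B (g * h⁻¹)) =
      (Matrix.of fun g h : G => blockCoeff B (g * h⁻¹)) ∧
    (Matrix.of fun g h : G => blockCoeff B (g * h⁻¹)).rank =
      ∑ χ : IrrCharacter G, if χ ∈ B then irrDeg χ ^ 2 else 0 := by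
  have hidem : (Matrix.of fun g h : G => blockCoeff B (g * h⁻¹)) *
        (Matrix.of fun g h : G => blockCoeff B (g * h⁻¹)) =
      (Matrix.of fun g h : G => blockCoeff B (g * h⁻¹)) := by
    ext g h
    rw [Matrix.mul_apply]
    simp only [Matrix.of_apply]
    have h1 := congrFun (conv_blockCoeff_self B) (g * h⁻¹)
    rw [← h1]
    simp only [conv]
    -- substitute `t = g * x⁻¹`
    rw [← Equiv.sum_comp ((Equiv.inv G).trans (Equiv.mulLeft g))
      (fun t => blockCoeff B t * blockCoeff B (t⁻¹ * (g * h⁻¹)))]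
    refine Finset.sum_congr rfl fun x _ => ?_
    simp only [Equiv.trans_apply, Equiv.inv_apply, Equiv.coe_mulLeft]
    congr 2
    group
  refine ⟨hidem, ?_⟩
  have h2 := rank_eq_trace_of_idem _ hidem
  have h3 : (Matrix.of fun g h : G => blockCoeff B (g * h⁻¹)).trace =
      ((∑ χ : IrrCharacter G, if χ ∈ B then irrDeg χ ^ 2 else 0 : ℕ) : ℂ) := by
    rw [Matrix.trace]
    simp only [Matrix.diag_apply, Matrix.of_apply, mul_inv_cancel]
    rw [Finset.sum_const, Finset.card_univ, nsmul_eq_mul, blockCoeff_eq, ← mul_assoc,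
      Nat.card_eq_fintype_card, mul_inv_cancel₀, one_mul]
    · push_cast
      refine Finset.sum_congr rfl fun χ _ => ?_
      by_cases hχ : χ ∈ B
      · rw [if_pos hχ, if_pos hχ, irrDeg_spec, one_mul, Complex.conj_natCast, sq]
      · rw [if_neg hχ, if_neg hχ, zero_mul]
    · exact Nat.cast_ne_zero.mpr Fintype.card_ne_zero
  rw [h3] at h2
  exact_mod_cast h2

end Block

end Cfsg.Agent.S4607P
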