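import Mathlib
import Cfsg.Agent.Helper5.S4607Defs

/-!
# S4607 piece LIFT (helper1): lifting weak matrix units along a surjection onto a matrix algebra
with nil kernel.
-/

set_option autoImplicit false

namespace Cfsg.Agent.S4607P

namespace LIFT

universe u v

variable {k : Type u} {B : Type v} [Field k] [Ring B] [Algebra k B]

/-- the diagonal matrix units form a complete system of orthogonal idempotents -/
theorem coi_single (n : ℕ) :
    CompleteOrthogonalIdempotents
      (fun i : Fin (n + 1) => (Matrix.single i i (1 : k) : Matrix (Fin (n + 1)) (Fin (n + 1)) k)) := by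
  refine ⟨⟨fun i => ?_, fun i j hij => ?_⟩, ?_⟩
  · show Matrix.single i i (1 : k) * Matrix.single i i (1 : k) = Matrix.single i i (1 : k)
    rw [Matrix.single_mul_single_same, mul_one]
  · show Matrix.single i i (1 : k) * Matrix.single j j (1 : k) = 0
    exact Matrix.single_mul_single_of_ne (c := (1 : k)) i i j hij 1
  · ext a b
    rw [Matrix.sum_apply]
    by_cases hab : a = b
    · subst hab
      rw [Matrix.one_apply_eq, Finset.sum_eq_single a]
      · simp
      · intro i _ hia
        simp [Matrix.single, hia]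
      · intro h; exact absurd (Finset.mem_univ a) h
    · rw [Matrix.one_apply_ne hab]
      refine Finset.sum_eq_zero fun i _ => ?_
      simp only [Matrix.single, Matrix.of_apply]
      rw [if_neg]
      rintro ⟨rfl, rfl⟩
      exact hab rfl

/-- a one-sided inverse inside a corner: if `w ∈ e B e` and `e - w` is nilpotent then `w` has a left
inverse in the corner -/
theorem exists_left_inv (e w : B) (he : e * e = e) (hw1 : e * w = w) (hw2 : w * e = w)
    (hnil : IsNilpotent (e - w)) : ∃ t : B, e * t = t ∧ t * w = e := by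
  obtain ⟨N, hN⟩ := hnil
  set ν := e - w with hν
  have hνl : e * ν = ν := by rw [hν, mul_sub, he, hw1]
  have hνr : ν * e = ν := by rw [hν, sub_mul, he, hw2]
  have hw : w = (1 - ν) * e := by
    rw [sub_mul, one_mul, hνr, hν, sub_sub_cancel]
  refine ⟨e * (∑ j ∈ Finset.range N, ν ^ j), ?_, ?_⟩
  · rw [← mul_assoc, he]
  · rw [hw, mul_assoc, ← mul_assoc (∑ j ∈ Finset.range N, ν ^ j), geom_sum_mul_neg, hN, sub_zero,
      one_mul, he]

end LIFT

section Ring

universe u v

variable {k : Type u} {B : Type v} [Field k] [Ring B] [Algebra k B]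

/-- LIFT: lifting (weak) matrix units along a surjection onto a matrix algebra with nil kernel;
the corner `e 0 B e 0` is `k e 0 + (kernel)` -/
theorem exists_unitSystem (n : ℕ) (f : B →ₐ[k] Matrix (Fin (n + 1)) (Fin (n + 1)) k)
    (hf : Function.Surjective f) (hnil : ∀ x : B, f x = 0 → IsNilpotent x) :
    ∃ e u v : Fin (n + 1) → B, IsUnitSystem e u v ∧
      ∀ a : B, e 0 * a * e 0 = a → ∃ c : k, f (a - c • e 0) = 0 := by
  classical
  -- lift the diagonal idempotents
  obtain ⟨e, he, hfe⟩ := CompleteOrthogonalIdempotents.lift_of_isNilpotent_ker f.toRingHom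
    (fun x hx => hnil x (by simpa [RingHom.mem_ker] using hx)) (LIFT.coi_single (k := k) n)
    (fun i => ⟨(hf _).choose, (hf _).choose_spec⟩)
  have hfe' : ∀ i, f (e i) = Matrix.single i i (1 : k) := fun i => congr_fun hfe i
  have hidem : ∀ i, e i * e i = e i := fun i => (he.idem i).eq
  have horth : ∀ i j, i ≠ j → e i * e j = 0 := fun i j hij => he.ortho hij
  -- off-diagonal preimages
  choose a ha using fun i : Fin (n + 1) => hf (Matrix.single i 0 (1 : k))
  choose b hb using fun i : Fin (n + 1) => hf (Matrix.single 0 i (1 : k))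
  obtain ⟨u', hu'⟩ : ∃ u' : Fin (n + 1) → B, ∀ i, u' i = e i * a i * e 0 := ⟨_, fun _ => rfl⟩
  obtain ⟨v', hv'⟩ : ∃ v' : Fin (n + 1) → B, ∀ i, v' i = e 0 * b i * e i := ⟨_, fun _ => rfl⟩
  have hfu' : ∀ i, f (u' i) = Matrix.single i 0 (1 : k) := by
    intro i
    simp only [hu', map_mul, hfe', ha, Matrix.single_mul_single_same, mul_one]
  have hfv' : ∀ i, f (v' i) = Matrix.single 0 i (1 : k) := by
    intro i
    simp only [hv', map_mul, hfe', hb, Matrix.single_mul_single_same, mul_one]
  -- the corner elements `w i = v' i * u' i`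
  have hw1 : ∀ i, e 0 * (v' i * u' i) = v' i * u' i := by
    intro i
    simp only [hv', ← mul_assoc, hidem]
  have hw2 : ∀ i, (v' i * u' i) * e 0 = v' i * u' i := by
    intro i
    simp only [hu', mul_assoc, hidem]
  have hwnil : ∀ i, IsNilpotent (e 0 - v' i * u' i) := by
    intro i
    apply hnil
    rw [map_sub, map_mul, hfu', hfv', hfe', Matrix.single_mul_single_same, mul_one, sub_self]
  choose t ht1 ht2 using fun i => LIFT.exists_left_inv (e 0) (v' i * u' i) (hidem 0) (hw1 i) (hw2 i)
    (hwnil i)
  obtain ⟨v, hv⟩ : ∃ v : Fin (n + 1) → B, ∀ i, v i = t i * v' i := ⟨_, fun _ => rfl⟩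
  have hvu : ∀ i, v i * u' i = e 0 := by
    intro i
    simp only [hv, mul_assoc]
    exact ht2 i
  have hu_mem : ∀ i, e i * u' i * e 0 = u' i := by
    intro i
    simp only [hu', mul_assoc, hidem]
    simp only [← mul_assoc, hidem]
  have hv_mem : ∀ i, e 0 * v i * e i = v i := by
    intro i
    simp only [hv, hv', mul_assoc, hidem]
    simp only [← mul_assoc, ht1]
  have hu_r : ∀ i, u' i * e 0 = u' i := by
    intro i
    simp only [hu', mul_assoc, hidem]
  have hu_l : ∀ i, e i * u' i = u' i := by
    intro i
    simp only [hu', ← mul_assoc, hidem]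
  have hv_r : ∀ i, v i * e i = v i := by
    intro i
    simp only [hv, hv', mul_assoc, hidem]
  -- f (t i) * E_00 = E_00
  have hft : ∀ i, f (t i) * Matrix.single 0 0 (1 : k) = Matrix.single 0 0 (1 : k) := by
    intro i
    have h1 := congrArg f (ht2 i)
    rw [map_mul, map_mul, hfu', hfv', hfe', Matrix.single_mul_single_same, mul_one] at h1
    exact h1
  have hfv : ∀ i, f (v i) = Matrix.single 0 i (1 : k) := by
    intro i
    have h0 : (Matrix.single 0 i (1 : k) : Matrix (Fin (n + 1)) (Fin (n + 1)) k) =
        Matrix.single 0 0 (1 : k) * Matrix.single 0 i (1 : k) := by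
      rw [Matrix.single_mul_single_same, mul_one]
    simp only [hv, map_mul, hfv']
    rw [h0, ← mul_assoc, hft]
  have huv : ∀ i, u' i * v i = e i := by
    intro i
    have hg : IsIdempotentElem (u' i * v i) := by
      show u' i * v i * (u' i * v i) = u' i * v i
      calc u' i * v i * (u' i * v i) = u' i * (v i * u' i) * v i := by simp only [mul_assoc]
        _ = u' i * v i := by rw [hvu, hu_r]
    have hcomm : Commute (e i) (u' i * v i) := by
      show e i * (u' i * v i) = u' i * v i * e i
      rw [← mul_assoc, hu_l, mul_assoc, hv_r]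
    refine (eq_of_isNilpotent_sub_of_isIdempotentElem_of_commute (he.idem i) hg ?_ hcomm).symm
    apply hnil
    rw [map_sub, map_mul, hfu', hfv, hfe', Matrix.single_mul_single_same, mul_one, sub_self]
  refine ⟨e, u', v, ⟨?_, he.complete, huv, hvu, hu_mem, hv_mem⟩, ?_⟩
  · intro i j
    by_cases hij : i = j
    · subst hij
      rw [if_pos rfl, hidem]
    · rw [if_neg hij, horth i j hij]
  · intro x hx
    refine ⟨f x 0 0, ?_⟩
    have h1 : f x = Matrix.single 0 0 (f x 0 0) := by
      have := congrArg f hx
      rw [map_mul, map_mul, hfe', Matrix.single_mul_mul_single, one_mul, mul_one] at this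
      exact this.symm
    rw [map_sub, map_smul, hfe', Matrix.smul_single, smul_eq_mul, mul_one]
    exact sub_eq_zero.mpr h1

end Ring

end Cfsg.Agent.S4607P
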