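import Mathlib
import Cfsg.Prelude.Def_FusionSystem
import Cfsg.Agent.Helper18.S5113Defs
import Cfsg.Agent.Helper26.CB11

/-!
# S5113 piece R3 (board `s5113pieces`, driver helper18)

The transfer of `iota u` is the `index`-th power of the class of `u`, modulo the image of any subgroup `T`
containing the focal subgroup.  Copy of `Helper26.CB.phi_conj_weak` / `trf_iota_weak` with the weak
centrality replaced by a congruence modulo `TA S T`.
-/

set_option autoImplicit false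

namespace Cfsg.Agent.S5113P

open Cfsg Cfsg.FusionSystem Cfsg.Agent.Helper25 Cfsg.Agent.Helper25.Park Cfsg.Agent.Helper26.CB

universe u

variable {Ω : Type u} [Group Ω] {S : Subgroup Ω} {X : Type u}

/-- One orbit factor: `phi (g₀⁻¹ (iota u)^n g₀) ≡ (of u)^n` modulo `TA S T`. -/
theorem R3.aux_phi (a : ↥(S.prod S) →* Equiv.Perm X) (x₀ : X) (F : FusionSystem S)
    (hTD : ∀ x, TD F (stab a x)) {T : Subgroup Ω} (hfoc : F.focalSubgroup ≤ T) (u : ↥S)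
    (g₀ : ↥(Cen a)) (n : ℕ) (hmem : g₀⁻¹ * iota a u ^ n * g₀ ∈ H0 a x₀) :
    (phi a x₀ F hTD ⟨_, hmem⟩)⁻¹ * Abelianization.of u ^ n ∈ TA S T := by
  rw [phi_apply]
  set s : ↥S := sOf a x₀ ⟨_, hmem⟩ with hs
  have h1 := sOf_spec a x₀ ⟨_, hmem⟩
  rw [← hs] at h1
  have h2 : ((g₀⁻¹ * iota a u ^ n * g₀ : ↥(Cen a)) : Equiv.Perm X) x₀ = rAct a s x₀ := h1
  rw [Subgroup.coe_mul, Subgroup.coe_mul, Subgroup.coe_inv, Equiv.Perm.mul_apply,
    Equiv.Perm.mul_apply, Equiv.Perm.inv_eq_iff_eq, ← Cen_comm, ← map_pow, coe_iota] at h2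
  have h3 : mkH S (u ^ n, s⁻¹) ∈ stab a ((g₀ : Equiv.Perm X) x₀) := by
    rw [mem_stab, ← rAct_mul_lAct, Equiv.Perm.mul_apply, h2, ← Equiv.Perm.mul_apply, ← map_mul,
      inv_mul_cancel, map_one]
    rfl
  obtain ⟨Q, ψ, hψ, hall⟩ := hTD ((g₀ : Equiv.Perm X) x₀)
  obtain ⟨hq, he⟩ := hall _ h3
  -- `he : ψ ⟨u^n, hq⟩ = s⁻¹` in `Ω`
  have hq' : ((u ^ n : ↥S) : Ω) ∈ Q := hq
  have he' : ψ ⟨((u ^ n : ↥S) : Ω), hq'⟩ = ((s⁻¹ : ↥S) : Ω) := he
  have hf : (((u ^ n : ↥S) : Ω))⁻¹ * ψ ⟨((u ^ n : ↥S) : Ω), hq'⟩ ∈ F.focalSubgroup := by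
    apply Subgroup.subset_closure
    exact ⟨Q, ψ, ⟨((u ^ n : ↥S) : Ω), hq'⟩, hψ, rfl⟩
  rw [he'] at hf
  have hT : (((u ^ n)⁻¹ * s⁻¹ : ↥S) : Ω) ∈ T := by
    have := hfoc hf
    simpa using this
  have hTA := of_mem_TA (S := S) hT
  -- rewrite the goal as the inverse of `hTA`
  have hgoal : ((Abelianization.of s)⁻¹)⁻¹ * Abelianization.of u ^ n =
      (Abelianization.of ((u ^ n)⁻¹ * s⁻¹))⁻¹ := by
    rw [map_mul, map_inv, map_inv, map_pow, mul_inv_rev, inv_inv, inv_inv]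
  rw [hgoal]
  exact (TA S T).inv_mem hTA

/-- R3: the transfer of `iota u` is the `index`-th power of the class of `u`, modulo the image
of the focal subgroup. -/
theorem R3 [Finite X] (a : ↥(S.prod S) →* Equiv.Perm X) (x₀ : X) (F : FusionSystem S)
    (hTD : ∀ x, TD F (stab a x)) {T : Subgroup Ω} (hfoc : F.focalSubgroup ≤ T) (u : ↥S) :
    (trf a x₀ F hTD (iota a u))⁻¹ * Abelianization.of u ^ (H0 a x₀).index ∈ TA S T := by
  classical
  let _ : Fintype (Quotient (MulAction.orbitRel (Subgroup.zpowers (iota a u))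
    (↥(Cen a) ⧸ H0 a x₀))) := Fintype.ofFinite _
  unfold trf
  rw [MonoidHom.transfer_eq_prod_quotient_orbitRel_zpowers_quot]
  rw [Subgroup.index_eq_sum_minimalPeriod (H0 a x₀) (iota a u), ← Finset.prod_pow_eq_pow_sum,
    ← Finset.prod_inv_distrib, ← Finset.prod_mul_distrib]
  apply Subgroup.prod_mem
  intro q _
  exact R3.aux_phi a x₀ F hTD hfoc u q.out.out _ _

end Cfsg.Agent.S5113P
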