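import Mathlib
import Cfsg.Agent.Helper25.PSLFusionA

/-!
# S5323 piece GEN: a criterion for the simplicity of a 2-fusion system

One class of involutions, a Sylow 2-subgroup generated by its involutions and equal to its normaliser.
-/

set_option autoImplicit false

namespace Cfsg.Agent.S5323P

open Cfsg Cfsg.FusionSystem

/-- Hypotheses on a 2-subgroup `P` of `G`: one class of involutions in `G`, `P` is generated by its involutions,
`P` is not trivial and contains its normaliser. -/
def SelfNormHyp (G : Type*) [Group G] (P : Subgroup G) : Prop :=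
  (∀ x y : G, orderOf x = 2 → orderOf y = 2 → IsConj x y) ∧
  P ≤ Subgroup.closure {x : G | x ∈ P ∧ orderOf x = 2} ∧
  P ≠ ⊥ ∧
  Subgroup.normalizer (P : Set G) ≤ P

theorem GEN.isSimple {G : Type*} [Group G] [Finite G] (S : Sylow 2 G)
    (h : SelfNormHyp G (S : Subgroup G)) : (groupFusionSystem (S : Subgroup G)).IsSimple 2 := by
  have : Fact (Nat.Prime 2) := ⟨Nat.prime_two⟩
  obtain ⟨hconj, hgen, hne, hnorm⟩ := h
  apply Cfsg.Agent.Helper25.groupFusionSystem_isSimple_of_centric_gen 2 S
  · exact hne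
  · intro T hTS hT
    by_cases hTb : T = ⊥
    · exact Or.inl hTb
    · right
      apply le_antisymm hTS
      have hTp : IsPGroup 2 T := S.isPGroup'.to_le hTS
      obtain ⟨n, hn⟩ := hTp.exists_card_eq
      have hn0 : n ≠ 0 := by
        intro h0
        rw [h0, pow_zero] at hn
        exact hTb (Subgroup.card_eq_one.1 hn)
      have hdvd : 2 ∣ Nat.card T := by
        rw [hn]; exact dvd_pow_self 2 hn0
      obtain ⟨u, hu⟩ := exists_prime_orderOf_dvd_card' 2 hdvd
      have hu' : orderOf (u : G) = 2 := by rw [Subgroup.orderOf_coe]; exact hu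
      refine hgen.trans ?_
      rw [Subgroup.closure_le]
      rintro s ⟨hsS, hs2⟩
      obtain ⟨g, hg⟩ := isConj_iff.1 (hconj (u : G) s hu' hs2)
      rw [SetLike.mem_coe, ← hg]
      apply hT _ u.2
      rw [hg]; exact hsS
  · intro g hg
    apply Subgroup.subset_closure
    refine ⟨hg, (S : Subgroup G), Cfsg.Agent.Helper25.isCentric_self, ?_⟩
    apply Subgroup.subset_closure
    refine ⟨hg, ?_⟩
    have hgS : g ∈ (S : Subgroup G) := hnorm hg
    obtain ⟨k, hk⟩ := (S.isPGroup'.to_le le_rfl) ⟨g, hgS⟩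
    have hk' : g ^ 2 ^ k = 1 := congrArg Subtype.val hk
    have hd : orderOf g ∣ 2 ^ k := orderOf_dvd_of_pow_eq_one hk'
    obtain ⟨j, -, hj⟩ := (Nat.dvd_prime_pow Nat.prime_two).1 hd
    exact ⟨j, hj⟩

/-- the hypotheses are transported by isomorphisms -/
theorem SelfNormHyp.map {J G : Type*} [Group J] [Group G] {P : Subgroup J}
    (h : SelfNormHyp J P) (ψ : J ≃* G) : SelfNormHyp G (P.map ψ.toMonoidHom) := by
  obtain ⟨hconj, hgen, hne, hnorm⟩ := h
  have hord : ∀ x : J, orderOf (ψ x) = orderOf x := fun x => MulEquiv.orderOf_eq ψ x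
  refine ⟨?_, ?_, ?_, ?_⟩
  · intro x y hx hy
    have hx' : orderOf (ψ.symm x) = 2 := by rw [MulEquiv.orderOf_eq]; exact hx
    have hy' : orderOf (ψ.symm y) = 2 := by rw [MulEquiv.orderOf_eq]; exact hy
    have h2 := MonoidHom.map_isConj ψ.toMonoidHom (hconj _ _ hx' hy')
    simpa using h2
  · have h1 : P.map ψ.toMonoidHom ≤
        (Subgroup.closure {x : J | x ∈ P ∧ orderOf x = 2}).map ψ.toMonoidHom :=
      Subgroup.map_mono hgen
    refine h1.trans ?_
    rw [MonoidHom.map_closure, Subgroup.closure_le]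
    rintro _ ⟨x, ⟨hxP, hx2⟩, rfl⟩
    apply Subgroup.subset_closure
    refine ⟨Subgroup.mem_map_of_mem _ hxP, ?_⟩
    show orderOf (ψ x) = 2
    rw [hord]; exact hx2
  · intro hbot
    apply hne
    rw [eq_bot_iff]
    intro x hx
    have : ψ x ∈ P.map ψ.toMonoidHom := Subgroup.mem_map_of_mem _ hx
    rw [hbot, Subgroup.mem_bot] at this
    rw [Subgroup.mem_bot]
    apply ψ.injective
    rw [this, map_one]
  · intro g' hg'
    obtain ⟨g, rfl⟩ := ψ.surjective g'
    refine ⟨g, ?_, rfl⟩
    apply hnorm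
    rw [Subgroup.mem_normalizer_iff] at hg' ⊢
    intro x
    have hx := hg' (ψ x)
    have e1 : ∀ y : J, ψ y ∈ P.map ψ.toMonoidHom ↔ y ∈ P := by
      intro y
      constructor
      · rintro ⟨z, hz, hzy⟩
        have : z = y := ψ.injective hzy
        rwa [← this]
      · intro hy
        exact Subgroup.mem_map_of_mem _ hy
    rw [← e1 x, ← e1 (g * x * g⁻¹)]
    have e2 : ψ (g * x * g⁻¹) = ψ g * ψ x * (ψ g)⁻¹ := by rw [map_mul, map_mul, map_inv]
    rw [e2]
    exact hx

end Cfsg.Agent.S5323P
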