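import Mathlib
import Cfsg.Agent.Helper22.McLInv
import Cfsg.Agent.Helper23.S5323A8SN

/-!
# S5323 piece SPNORM: the Sylow 2-subgroup `Sp` of the group `K` of order 898128000 is its own normaliser
-/

set_option autoImplicit false
set_option maxRecDepth 8000

namespace Cfsg.Agent.S5323P

open Cfsg Cfsg.Agent.Helper22.PermPack Cfsg.Agent.Helper22.McLK Cfsg.Agent.Helper22.McLInv

namespace SPNORM

theorem aux1 {G : Type*} [Group G] (g t z : G) (h : (g⁻¹ * t * g) * z = z * (g⁻¹ * t * g)) :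
    t * (g * z * g⁻¹) = g * z * g⁻¹ * t := by
  calc t * (g * z * g⁻¹) = g * ((g⁻¹ * t * g) * z) * g⁻¹ := by group
    _ = g * (z * (g⁻¹ * t * g)) * g⁻¹ := by rw [h]
    _ = g * z * g⁻¹ * t := by group

theorem aux2 {G : Type*} [Group G] (g z : G) (h : g * z * g⁻¹ = 1) : z = 1 := by
  have h2 : g⁻¹ * (g * z * g⁻¹) * g = g⁻¹ * 1 * g := by rw [h]
  have e1 : g⁻¹ * (g * z * g⁻¹) * g = z := by group
  have e2 : g⁻¹ * 1 * g = 1 := by group
  rw [e1, e2] at h2
  exact h2

theorem aux3 {G : Type*} [Group G] (g z : G) (h : g * z * g⁻¹ = z) : z * g = g * z := by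
  calc z * g = (g * z * g⁻¹) * g := by rw [h]
    _ = g * z := by group

theorem aux4 {G : Type*} [Group G] (s z : G) (h : s * z = z * s) : s * z * s⁻¹ = z := by
  calc s * z * s⁻¹ = (z * s) * s⁻¹ := by rw [h]
    _ = z := by group

theorem aux5 {G : Type*} [Group G] (c s z : G) (h : c * s⁻¹ = z) : c = z * s := by
  have : c * s⁻¹ * s = z * s := by rw [h]
  simpa using this

/-- conjugation by the inverse also preserves `Sp` -/
theorem inv_conj_mem (g : Pm 275) (hn : ∀ s ∈ Sp, g * s * g⁻¹ ∈ Sp) : ∀ s ∈ Sp, g⁻¹ * s * g ∈ Sp := by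
  have hfin : Finite ↥Sp := Nat.finite_of_card_ne_zero (by rw [card_Sp]; norm_num)
  intro s hs
  let φ : ↥Sp → ↥Sp := fun x => ⟨g * x.1 * g⁻¹, hn x.1 x.2⟩
  have hinj : Function.Injective φ := by
    intro x y hxy
    have h1 : g * x.1 * g⁻¹ = g * y.1 * g⁻¹ := congrArg Subtype.val hxy
    apply Subtype.ext
    have h2 : g⁻¹ * (g * x.1 * g⁻¹) * g = g⁻¹ * (g * y.1 * g⁻¹) * g := by rw [h1]
    have e1 : g⁻¹ * (g * x.1 * g⁻¹) * g = x.1 := by group
    have e2 : g⁻¹ * (g * y.1 * g⁻¹) * g = y.1 := by group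
    rw [e1, e2] at h2
    exact h2
  obtain ⟨x, hx⟩ := Finite.surjective_of_injective hinj ⟨s, hs⟩
  have h1 : g * x.1 * g⁻¹ = s := congrArg Subtype.val hx
  have e : g⁻¹ * s * g = x.1 := by rw [← h1]; group
  rw [e]
  exact x.2

/-- an element normalising `Sp` centralises the involution -/
theorem conj_zP (g : Pm 275) (hn : ∀ s ∈ Sp, g * s * g⁻¹ ∈ Sp) : g * zP * g⁻¹ = zP := by
  have hn' := inv_conj_mem g hn
  have h1 := hn zP zP_mem_Sp
  have hc : ∀ t ∈ Sp, t * (g * zP * g⁻¹) = g * zP * g⁻¹ * t := by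
    intro t ht
    exact aux1 g t zP (zP_comm_Sp _ (hn' t ht))
  rcases Sp_center _ h1 hc with h | h
  · exfalso
    exact zP_ne (aux2 g zP h)
  · exact h

/-- elements of `K` commuting with the involution lie in `D2` -/
theorem mem_D2_of_comm (g : Pm 275) (hg : g ∈ K) (hz : g * zP * g⁻¹ = zP) : g ∈ D2 := by
  have h1 : (⟨g, hg⟩ : ↥K) ∈ Subgroup.centralizer ({zK} : Set ↥K) := by
    rw [Subgroup.mem_centralizer_iff]
    intro x hx
    rw [Set.mem_singleton_iff] at hx
    subst hx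
    apply Subtype.ext
    show zP * g = g * zP
    exact aux3 g zP hz
  rw [centralizer_eq, Subgroup.mem_subgroupOf] at h1
  exact h1

theorem Sp_le_D2 : Sp ≤ D2 := by
  intro s hs
  apply mem_D2_of_comm s (Sp_le hs)
  exact aux4 s zP (zP_comm_Sp s hs)

/-- the Sylow subgroup inside the centraliser -/
noncomputable def H : Subgroup ↥D2 := Sp.subgroupOf D2

theorem card_H : Nat.card H = 128 := by
  unfold H
  rw [Nat.card_congr (Subgroup.subgroupOfEquivOfLe Sp_le_D2).toEquiv, card_Sp]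

theorem zD_mem_H : zD ∈ H := by
  unfold H
  rw [Subgroup.mem_subgroupOf]
  exact zP_mem_Sp

/-- the restriction of the map onto the alternating group -/
noncomputable def phi : ↥H →* ↥(alternatingGroup (Fin 8)) := eta8.comp H.subtype

theorem eta8_eq_one_iff (c : ↥D2) : eta8 c = 1 ↔ c = 1 ∨ c = zD := by
  rw [← eta_eq_one_iff]
  constructor
  · intro h
    exact congrArg Subtype.val h
  · intro h
    exact Subtype.ext h

theorem card_ker_phi : Nat.card phi.ker = 2 := by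
  rw [Nat.card_eq_two_iff]
  refine ⟨⟨1, one_mem _⟩, ⟨⟨zD, zD_mem_H⟩, ?_⟩, ?_, ?_⟩
  · rw [MonoidHom.mem_ker]
    show eta8 zD = 1
    exact (eta8_eq_one_iff zD).mpr (Or.inr rfl)
  · intro h
    have h1 : (1 : ↥H) = ⟨zD, zD_mem_H⟩ := congrArg Subtype.val h
    have h2 : (1 : ↥D2) = zD := congrArg Subtype.val h1
    exact zD_ne h2.symm
  · apply Set.eq_univ_of_forall
    rintro ⟨c, hc⟩
    have h1 : eta8 c.1 = 1 := MonoidHom.mem_ker.mp hc
    rcases (eta8_eq_one_iff c.1).mp h1 with h | h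
    · left
      apply Subtype.ext
      apply Subtype.ext
      exact h
    · right
      rw [Set.mem_singleton_iff]
      apply Subtype.ext
      apply Subtype.ext
      exact h

theorem card_range_phi : Nat.card phi.range = 64 := by
  have hfin : Finite ↥H := Nat.finite_of_card_ne_zero (by rw [card_H]; norm_num)
  have h1 := Subgroup.card_eq_card_quotient_mul_card_subgroup phi.ker
  rw [Nat.card_congr (QuotientGroup.quotientKerEquivRange phi).toEquiv, card_ker_phi, card_H] at h1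
  omega

theorem mem_range_phi (a : ↥(alternatingGroup (Fin 8))) :
    a ∈ phi.range ↔ ∃ c : ↥D2, c.1 ∈ Sp ∧ eta8 c = a := by
  constructor
  · rintro ⟨x, rfl⟩
    exact ⟨x.1, x.2, rfl⟩
  · rintro ⟨c, hc, rfl⟩
    exact ⟨⟨c, hc⟩, rfl⟩

end SPNORM

open SPNORM in
theorem SPNORM.mem (g : Pm 275) (hg : g ∈ K) (hn : ∀ s ∈ Sp, g * s * g⁻¹ ∈ Sp) : g ∈ Sp := by
  have hn' := inv_conj_mem g hn
  have hgD : g ∈ D2 := mem_D2_of_comm g hg (conj_zP g hn)
  obtain ⟨c, hc⟩ : ∃ c : ↥D2, c = ⟨g, hgD⟩ := ⟨_, rfl⟩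
  have hc1 : c.1 = g := by rw [hc]
  have hnorm : eta8 c ∈ Subgroup.normalizer ((phi.range : Subgroup _) : Set ↥(alternatingGroup (Fin 8))) := by
    rw [Subgroup.mem_normalizer_iff]
    intro a
    constructor
    · intro ha
      obtain ⟨s, hs, rfl⟩ := (mem_range_phi a).mp ha
      rw [mem_range_phi]
      refine ⟨c * s * c⁻¹, ?_, by rw [map_mul, map_mul, map_inv]⟩
      show c.1 * s.1 * (c.1)⁻¹ ∈ Sp
      rw [hc1]
      exact hn _ hs
    · intro ha
      obtain ⟨s, hs, hsa⟩ := (mem_range_phi _).mp ha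
      rw [mem_range_phi]
      refine ⟨c⁻¹ * s * c, ?_, ?_⟩
      · show (c.1)⁻¹ * s.1 * c.1 ∈ Sp
        rw [hc1]
        exact hn' _ hs
      · rw [map_mul, map_mul, map_inv, hsa]
        group
  have hmem := A8SN.normalizer_le phi.range card_range_phi hnorm
  obtain ⟨s, hs, hsc⟩ := (mem_range_phi _).mp hmem
  have h1 : eta8 (c * s⁻¹) = 1 := by rw [map_mul, map_inv, hsc]; group
  rcases (eta8_eq_one_iff _).mp h1 with h | h
  · have h2 : c = s := by
      have := aux5 c s 1 h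
      rwa [one_mul] at this
    rw [← hc1, h2]
    exact hs
  · have h2 : c = zD * s := aux5 c s zD h
    rw [← hc1, h2]
    show zP * s.1 ∈ Sp
    exact mul_mem zP_mem_Sp hs

end Cfsg.Agent.S5323P
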