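import Mathlib
import Cfsg.Agent.Helper22.McLInv
import Cfsg.Agent.Helper1.S5323GEN
import Cfsg.Agent.Helper1.S5323SPNORM
import Cfsg.Agent.Helper23.S5323SPINV

/-!
# S5323: the hypotheses of the criterion for the group `K` of order 898128000 on 275 points
-/

set_option autoImplicit false
set_option maxRecDepth 8000

namespace Cfsg.Agent.S5323P

open Cfsg Cfsg.Agent.Helper22.PermPack Cfsg.Agent.Helper22.McLK Cfsg.Agent.Helper22.McLInv

namespace HYPK

theorem closure_lift (T : Set (Pm 275)) (hT : ∀ x ∈ T, x ∈ K) (x : Pm 275) (hx : x ∈ Subgroup.closure T) :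
    ∃ hxK : x ∈ K, (⟨x, hxK⟩ : ↥K) ∈ Subgroup.closure {y : ↥K | y.1 ∈ T} := by
  induction hx using Subgroup.closure_induction with
  | mem y hy => exact ⟨hT y hy, Subgroup.subset_closure hy⟩
  | one => exact ⟨one_mem _, one_mem _⟩
  | mul a b _ _ iha ihb =>
    obtain ⟨ha, ha'⟩ := iha
    obtain ⟨hb, hb'⟩ := ihb
    exact ⟨mul_mem ha hb, mul_mem ha' hb'⟩
  | inv a _ iha =>
    obtain ⟨ha, ha'⟩ := iha
    exact ⟨inv_mem ha, inv_mem ha'⟩

theorem hypK : SelfNormHyp ↥K (Sp.subgroupOf K) := by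
  refine ⟨isConj_of_orderOf_two, ?_, ?_, ?_⟩
  · intro s hs
    rw [Subgroup.mem_subgroupOf] at hs
    have h1 := SPINV.le_closure hs
    obtain ⟨hsK, h2⟩ := closure_lift _ (fun x hx => Sp_le hx.1) s.1 h1
    have e : (⟨s.1, hsK⟩ : ↥K) = s := Subtype.ext rfl
    rw [e] at h2
    refine (Subgroup.closure_mono ?_) h2
    rintro y ⟨hy, hyy, hy1⟩
    refine ⟨by rw [Subgroup.mem_subgroupOf]; exact hy, ?_⟩
    have : Fact (Nat.Prime 2) := ⟨Nat.prime_two⟩
    apply orderOf_eq_prime
    · rw [pow_two]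
      exact Subtype.ext hyy
    · intro h
      exact hy1 (congrArg Subtype.val h)
  · intro hbot
    have h1 : Nat.card (Sp.subgroupOf K) = 128 := by
      rw [Nat.card_congr (Subgroup.subgroupOfEquivOfLe Sp_le).toEquiv, card_Sp]
    rw [hbot, Subgroup.card_bot] at h1
    norm_num at h1
  · intro g hg
    rw [Subgroup.mem_subgroupOf]
    apply SPNORM.mem g.1 g.2
    intro s hs
    have h1 := (Subgroup.mem_normalizer_iff.mp hg ⟨s, Sp_le hs⟩).mp (by rw [Subgroup.mem_subgroupOf]; exact hs)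
    rw [Subgroup.mem_subgroupOf] at h1
    exact h1

end HYPK

/-- the 2-fusion system of a group isomorphic to `K` is simple -/
theorem isSimple_fusion_of_iso {G : Type*} [Group G] [Finite G] (e : G ≃* ↥K)
    (S : Sylow 2 G) : (groupFusionSystem (S : Subgroup G)).IsSimple 2 := by
  have : Fact (Nat.Prime 2) := ⟨Nat.prime_two⟩
  obtain ⟨P', hP'⟩ : ∃ P' : Subgroup G, P' = (Sp.subgroupOf K).map e.symm.toMonoidHom := ⟨_, rfl⟩
  have hcardP' : Nat.card P' = 128 := by
    rw [hP', Subgroup.card_map_of_injective e.symm.injective,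
      Nat.card_congr (Subgroup.subgroupOfEquivOfLe Sp_le).toEquiv, card_Sp]
  have hcardG : Nat.card G = 898128000 := by
    rw [Nat.card_congr e.toEquiv, card_K]
  have hP'p : IsPGroup 2 P' := IsPGroup.of_card (n := 7) (by rw [hcardP']; norm_num)
  have hidx : ¬ 2 ∣ P'.index := by
    have h := P'.card_mul_index
    rw [hcardP', hcardG] at h
    rintro ⟨m, hm⟩
    rw [hm] at h
    omega
  obtain ⟨g, hg⟩ := MulAction.exists_smul_eq G (hP'p.toSylow hidx) S
  let ψ : ↥K ≃* G := e.symm.trans (MulAut.conj g)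
  have hS : (Sp.subgroupOf K).map ψ.toMonoidHom = (S : Subgroup G) := by
    rw [← hg, Sylow.coe_subgroup_smul, IsPGroup.toSylow_coe, hP']
    ext x
    simp only [Subgroup.mem_map, Subgroup.mem_pointwise_smul_iff_inv_smul_mem]
    constructor
    · rintro ⟨y, hy, rfl⟩
      refine ⟨y, hy, ?_⟩
      show e.symm y = (MulAut.conj g)⁻¹ • (MulAut.conj g (e.symm y))
      rw [MulAut.smul_def, MulAut.inv_apply_self]
    · rintro ⟨y, hy, hyx⟩
      refine ⟨y, hy, ?_⟩
      show MulAut.conj g (e.symm y) = x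
      have : e.symm y = (MulAut.conj g)⁻¹ • x := hyx
      rw [this, MulAut.smul_def, MulAut.apply_inv_self]
  have h := HYPK.hypK.map ψ
  rw [hS] at h
  exact GEN.isSimple S h

end Cfsg.Agent.S5323P
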