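import Mathlib
import Cfsg.Prelude.Def_GeometricClasses
import Cfsg.Agent.Helper28.SimMax

set_option autoImplicit false

/-! # S5639 (subfield subgroups are maximal in `SL_n(F)`): definitions

`F₀ : Subfield F`, vectors and covectors are both `Fin n → F`; `E v φ = 1 + v φᵀ` and `MS M` (the set
of matrices of a subgroup `M ≤ GL_n(F)`) come from `Cfsg.Agent.Helper28.SLMax / SimMax`. -/

namespace Cfsg.Agent.S5639P

open Matrix
open Cfsg.Agent.Helper28.SLMax Cfsg.Agent.Helper28.SimMax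

variable {F : Type*} [Field F] {n : ℕ}

/-- a rational (co)vector: all entries in `F₀` -/
def Rat (F₀ : Subfield F) (u : Fin n → F) : Prop := ∀ i, u i ∈ F₀

/-- a rational matrix: all entries in `F₀` -/
def RatM (F₀ : Subfield F) (A : Matrix (Fin n) (Fin n) F) : Prop := ∀ i j, A i j ∈ F₀

/-- proportional to a rational vector -/
def PRat (F₀ : Subfield F) (v : Fin n → F) : Prop := ∃ z : F, z ≠ 0 ∧ Rat F₀ (z • v)

/-- a non-zero scalar multiple of a rational matrix (membership in `F^* GL_n(F₀)`) -/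
def InN (F₀ : Subfield F) (A : Matrix (Fin n) (Fin n) F) : Prop := ∃ z : F, z ≠ 0 ∧ RatM F₀ (z • A)

/-- `M` contains the rational transvections `1 + u ψᵀ` -/
def HasRat (F₀ : Subfield F) (M : Subgroup (Matrix.GeneralLinearGroup (Fin n) F)) : Prop :=
  ∀ u ψ : Fin n → F, Rat F₀ u → Rat F₀ ψ → ψ ⬝ᵥ u = 0 → E u ψ ∈ MS M

/-- the parameters `c` with `x_{ij}(c) = 1 + c e_{ij} ∈ M` -/
def Kij (M : Subgroup (Matrix.GeneralLinearGroup (Fin n) F)) (i j : Fin n) : Set F :=
  {c | E (Pi.single i c) (Pi.single j 1) ∈ MS M}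

/-- "`K = F₀`", coordinate free: a transvection `1 + c u ψᵀ` of `M` with rational centre `u` and rational
axis `ψ` has `c ∈ F₀` -/
def RootRat (F₀ : Subfield F) (M : Subgroup (Matrix.GeneralLinearGroup (Fin n) F)) : Prop :=
  ∀ (u ψ : Fin n → F) (c : F), Rat F₀ u → Rat F₀ ψ → u ≠ 0 → ψ ≠ 0 → ψ ⬝ᵥ u = 0 →
    E (c • u) ψ ∈ MS M → c ∈ F₀

/-- `v` has full `F₀`-rank: no non-zero rational covector kills it -/
def FullRk (F₀ : Subfield F) (v : Fin n → F) : Prop :=
  ∀ ψ : Fin n → F, Rat F₀ ψ → ψ ≠ 0 → ψ ⬝ᵥ v ≠ 0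

/-- the group `R` of rational transvections with centre `u₀`, as a set of matrices -/
def RSet (F₀ : Subfield F) (u₀ : Fin n → F) : Set (Matrix (Fin n) (Fin n) F) :=
  {A | ∃ ψ : Fin n → F, Rat F₀ ψ ∧ ψ ⬝ᵥ u₀ = 0 ∧ A = E u₀ ψ}

/-- the group `R` of rational transvections with centre `u₀` (generated by them; in fact equal to that set,
see `RGRP.mem_Rgrp_iff`) -/
def Rgrp (F₀ : Subfield F) (u₀ : Fin n → F) : Subgroup (Matrix.GeneralLinearGroup (Fin n) F) :=
  Subgroup.closure {g | ((g : Matrix.GeneralLinearGroup (Fin n) F) : Matrix (Fin n) (Fin n) F) ∈ RSet F₀ u₀}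

/-- the group generated by `R` and `h R h⁻¹` -/
def Dgrp (F₀ : Subfield F) (h : Matrix.GeneralLinearGroup (Fin n) F) (u₀ : Fin n → F) :
    Subgroup (Matrix.GeneralLinearGroup (Fin n) F) :=
  Rgrp F₀ u₀ ⊔ (Rgrp F₀ u₀).map (MulAut.conj h).toMonoidHom

end Cfsg.Agent.S5639P
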