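import Cfsg.Agent.Helper1.S5639Main
import Cfsg.Agent.Helper28.USub3

set_option autoImplicit false

/-! # S5639: from the main theorem to the maximality statement -/

namespace Cfsg.Agent.S5639P

open Matrix
open Cfsg.Agent.Helper28.SLMax Cfsg.Agent.Helper28.SimMax

variable {F : Type*} [Field F] {n : ℕ}

local notation "GLn" => Matrix.GeneralLinearGroup (Fin n) F
local notation "Mat" => Matrix (Fin n) (Fin n) F

namespace FINAL

theorem mem_subf_iff (F₀ : Subfield F) (P g : GLn) :
    g ∈ Cfsg.Geo.subfieldSubgroup F₀ P ↔ InN F₀ (((P⁻¹ * g * P : GLn) : GLn) : Mat) := by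
  constructor
  · intro hg
    obtain ⟨A₀, μ, hμ, h⟩ := Cfsg.Agent.Helper28.USub.exists_of_mem_subf F₀ P g hg
    refine ⟨μ⁻¹, inv_ne_zero hμ, ?_⟩
    have h1 : ((P⁻¹ * g * P : GLn) : Mat) = μ • A₀.map F₀.subtype := by
      rw [mul_assoc, Units.val_mul, Units.val_mul, h, Matrix.mul_smul, ← mul_assoc,
        ← Units.val_mul, inv_mul_cancel, Units.val_one, one_mul]
    rw [h1, smul_smul, inv_mul_cancel₀ hμ, one_smul]
    intro i j
    exact (A₀ i j).2
  · rintro ⟨z, hz, hrat⟩
    set A₀ : Matrix (Fin n) (Fin n) F₀ := fun i j => ⟨_, hrat i j⟩ with hA₀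
    have hA : A₀.map F₀.subtype = z • ((P⁻¹ * g * P : GLn) : Mat) := by
      ext i j
      rfl
    refine Cfsg.Agent.Helper28.USub.mem_subf_of F₀ P g A₀ z⁻¹ (inv_ne_zero hz) ?_
    rw [hA, Matrix.mul_smul, smul_smul, inv_mul_cancel₀ hz, one_smul, ← Units.val_mul,
      ← Units.val_mul]
    congr 1
    group

theorem det_conj (P g : GLn) : ((P⁻¹ * g * P : GLn) : Mat).det = (g : Mat).det := by
  rw [Units.val_mul, Units.val_mul, Matrix.det_mul, Matrix.det_mul, mul_comm, ← mul_assoc,
    ← Matrix.det_mul, ← Units.val_mul, mul_inv_cancel, Units.val_one, Matrix.det_one, one_mul]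

/-- there is an element of `F` outside `F₀` -/
theorem exists_not_mem [Fintype F] (F₀ : Subfield F) (r : ℕ) (hr : r.Prime)
    (hcard : Fintype.card F = Nat.card F₀ ^ r) : ∃ θ : F, θ ∉ F₀ := by
  by_contra hcon
  push Not at hcon
  have htop : F₀ = ⊤ := by
    ext x
    simp [hcon x]
  have h1 : Nat.card F₀ = Fintype.card F := by
    rw [htop, ← Nat.card_eq_fintype_card]
    exact Nat.card_congr (Subfield.topEquiv (K := F)).toEquiv
  rw [h1] at hcard
  have h2 : 1 < Fintype.card F := Fintype.one_lt_card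
  have h3 : Fintype.card F ^ 1 < Fintype.card F ^ r := Nat.pow_lt_pow_right h2 hr.one_lt
  rw [pow_one] at h3
  omega

/-- **maximality of the subfield subgroup** -/
theorem maximal [Fintype F] (hn : 4 ≤ n) (F₀ : Subfield F) (r : ℕ) (hr : r.Prime)
    (hcard : Fintype.card F = Nat.card F₀ ^ r) (P : GLn) :
    Cfsg.Geo.IsMaximalIn (Cfsg.Geo.specialLinear (Fin n) F)
      (Cfsg.Geo.subfieldSubgroup F₀ P ⊓ Cfsg.Geo.specialLinear (Fin n) F) := by
  classical
  refine ⟨lt_of_le_of_ne inf_le_right ?_, ?_⟩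
  · -- proper
    intro heq
    obtain ⟨θ, hθ⟩ := exists_not_mem F₀ r hr hcard
    set i0 : Fin n := ⟨0, by omega⟩ with hi0
    set i1 : Fin n := ⟨1, by omega⟩ with hi1
    have h01 : i0 ≠ i1 := by
      intro h
      have := congrArg Fin.val h
      simp [hi0, hi1] at this
    have hdot : (Pi.single i1 (1 : F) : Fin n → F) ⬝ᵥ (Pi.single i0 θ : Fin n → F) = 0 := by
      rw [single_dotProduct, Pi.single_apply, if_neg h01.symm, mul_zero]
    have hne : (1 : F) + (Pi.single i1 (1 : F) : Fin n → F) ⬝ᵥ (Pi.single i0 θ : Fin n → F) ≠ 0 := by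
      rw [hdot, add_zero]; exact one_ne_zero
    set t : GLn := Eg (Pi.single i0 θ) (Pi.single i1 1) hne with ht
    have htS : P * t * P⁻¹ ∈ Cfsg.Geo.specialLinear (Fin n) F := by
      rw [mem_SL_iff]
      have := det_conj (P⁻¹) t
      rw [inv_inv] at this
      rw [this, ht, Eg_val, E_det, hdot, add_zero]
    have : P * t * P⁻¹ ∈ Cfsg.Geo.subfieldSubgroup F₀ P := by
      have h2 : P * t * P⁻¹ ∈
          Cfsg.Geo.subfieldSubgroup F₀ P ⊓ Cfsg.Geo.specialLinear (Fin n) F := by
        rw [heq]; exact htS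
      exact h2.1
    rw [mem_subf_iff] at this
    have hconj : P⁻¹ * (P * t * P⁻¹) * P = t := by group
    rw [hconj] at this
    obtain ⟨z, hz, hrat⟩ := this
    have h00 := hrat i0 i0
    have h01' := hrat i0 i1
    rw [ht, Eg_val] at h00 h01'
    unfold Cfsg.Agent.Helper28.SLMax.E at h00 h01'
    simp only [Matrix.smul_apply, Matrix.add_apply, Matrix.vecMulVec_apply, Matrix.one_apply_eq,
      Matrix.one_apply_ne h01, Pi.single_eq_same, Pi.single_eq_of_ne h01, smul_eq_mul, mul_zero,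
      add_zero, zero_add, mul_one] at h00 h01'
    apply hθ
    have : θ = z⁻¹ * (z * θ) := by rw [← mul_assoc, inv_mul_cancel₀ hz, one_mul]
    rw [this]
    exact F₀.mul_mem (F₀.inv_mem h00) h01'
  · -- no intermediate subgroup
    intro M hHM hMS
    set M' : Subgroup GLn := M.map (MulAut.conj P⁻¹).toMonoidHom with hM'
    have hmemM' : ∀ g : GLn, g ∈ M' ↔ P * g * P⁻¹ ∈ M := by
      intro g
      constructor
      · rintro ⟨x, hx, rfl⟩
        show P * (P⁻¹ * x * P⁻¹⁻¹) * P⁻¹ ∈ M
        have : P * (P⁻¹ * x * P⁻¹⁻¹) * P⁻¹ = x := by group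
        rw [this]; exact hx
      · intro hg
        refine ⟨P * g * P⁻¹, hg, ?_⟩
        show P⁻¹ * (P * g * P⁻¹) * P⁻¹⁻¹ = g
        group
    have hSL' : M' ≤ SL n F := by
      intro g hg
      rw [hmemM'] at hg
      have := hMS hg
      rw [mem_SL_iff] at this ⊢
      have h2 := det_conj (P⁻¹) g
      rw [inv_inv] at h2
      rw [← h2]; exact this
    have hRat : HasRat F₀ M' := by
      intro u ψ hu hψ hψu
      have hne : (1 : F) + ψ ⬝ᵥ u ≠ 0 := by rw [hψu, add_zero]; exact one_ne_zero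
      refine ⟨Eg u ψ hne, ?_, Eg_val _ _ _⟩
      rw [hmemM']
      apply hHM
      refine Subgroup.mem_inf.2 ⟨?_, ?_⟩
      · rw [mem_subf_iff]
        have hconj : P⁻¹ * (P * Eg u ψ hne * P⁻¹) * P = Eg u ψ hne := by group
        rw [hconj, Eg_val]
        exact ⟨1, one_ne_zero, by rw [one_smul]; exact RatM.E hu hψ⟩
      · rw [mem_SL_iff]
        have h2 := det_conj (P⁻¹) (Eg u ψ hne)
        rw [inv_inv] at h2
        rw [h2, Eg_val, E_det, hψu, add_zero]
    rcases MAIN.main hn F₀ r hr hcard M' hRat hSL' with hall | hall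
    · left
      apply le_antisymm _ hHM
      intro g hg
      refine Subgroup.mem_inf.2 ⟨?_, hMS hg⟩
      rw [mem_subf_iff]
      apply hall
      rw [hmemM']
      have : P * (P⁻¹ * g * P) * P⁻¹ = g := by group
      rw [this]; exact hg
    · right
      apply le_antisymm hMS
      intro g hg
      have h1 : P⁻¹ * g * P ∈ SL n F := by
        rw [mem_SL_iff] at hg ⊢
        rw [det_conj]; exact hg
      have h2 := hall h1
      rw [hmemM'] at h2
      have : P * (P⁻¹ * g * P) * P⁻¹ = g := by group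
      rw [this] at h2; exact h2

end FINAL

end Cfsg.Agent.S5639P
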