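import Cfsg.Agent.Helper1.S5639Lib
import Cfsg.Agent.Lead.S5639AXRAT
import Cfsg.Agent.Lead.S5639RFIXVEC
import Cfsg.Agent.Helper19.S5639EXPERP

set_option autoImplicit false

/-! # S5639 piece LOWRANK: the image `h u₀` of a rational vector under `h ∈ M`, if killed by a non-zero
rational covector, is proportional to a rational vector -/

namespace Cfsg.Agent.S5639P

open Matrix
open Cfsg.Agent.Helper28.SLMax Cfsg.Agent.Helper28.SimMax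

variable {F : Type*} [Field F] {n : ℕ}

local notation "GLn" => Matrix.GeneralLinearGroup (Fin n) F
local notation "Mat" => Matrix (Fin n) (Fin n) F

namespace LOWRANK

theorem inv_mulVec_mulVec (g : GLn) (x : Fin n → F) :
    ((g⁻¹ : GLn) : Mat) *ᵥ ((g : Mat) *ᵥ x) = x := by
  rw [Matrix.mulVec_mulVec, ← Units.val_mul, inv_mul_cancel, Units.val_one, Matrix.one_mulVec]

theorem mulVec_inv_mulVec (g : GLn) (x : Fin n → F) :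
    (g : Mat) *ᵥ (((g⁻¹ : GLn) : Mat) *ᵥ x) = x := by
  rw [Matrix.mulVec_mulVec, ← Units.val_mul, mul_inv_cancel, Units.val_one, Matrix.one_mulVec]

end LOWRANK

/-- LOWRANK: the image `h u₀` of a rational vector under `h ∈ M`, if killed by some non-zero rational
covector, is proportional to a rational vector. -/
theorem LOWRANK.prat_of_perp (F₀ : Subfield F) (hn : 3 ≤ n) (M : Subgroup GLn) (hM : HasRat F₀ M)
    (hR : RootRat F₀ M) (h : GLn) (hh : h ∈ M) (u₀ : Fin n → F) (hu : Rat F₀ u₀) (hu0 : u₀ ≠ 0)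
    (ψ₁ : Fin n → F) (hψ₁ : Rat F₀ ψ₁) (hψ₁0 : ψ₁ ≠ 0) (hperp : ψ₁ ⬝ᵥ ((h : Mat) *ᵥ u₀) = 0) :
    PRat F₀ ((h : Mat) *ᵥ u₀) := by
  by_cases hA : ∃ ψ u' : Fin n → F, Rat F₀ ψ ∧ ψ ⬝ᵥ u₀ = 0 ∧ Rat F₀ u' ∧ ψ₁ ⬝ᵥ u' = 0 ∧
      (ψ ᵥ* ((h⁻¹ : GLn) : Mat)) ⬝ᵥ u' ≠ 0
  · obtain ⟨ψ, u', hψ, hψu, hu', hψ₁u', hne⟩ := hA
    have hτ : E ((h : Mat) *ᵥ u₀) (ψ ᵥ* ((h⁻¹ : GLn) : Mat)) ∈ MS M :=
      MS_conj_E h hh u₀ ψ (hM u₀ ψ hu hψ hψu)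
    have ht : E u' ψ₁ ∈ MS M := hM u' ψ₁ hu' hψ₁ hψ₁u'
    have h2 : (ψ ᵥ* ((h⁻¹ : GLn) : Mat)) ⬝ᵥ ((h : Mat) *ᵥ u₀) = 0 := by
      rw [← Matrix.dotProduct_mulVec, LOWRANK.inv_mulVec_mulVec, hψu]
    have h3 := MS_comm_E u' ψ₁ ((h : Mat) *ᵥ u₀) (ψ ᵥ* ((h⁻¹ : GLn) : Mat)) hψ₁u' h2 hperp ht hτ
    have hrat := AXRAT.rat_of_axis F₀ hn M hM hR _ ψ₁ hψ₁ hψ₁0
      (by rw [dotProduct_smul, hperp, smul_zero]) h3
    exact ⟨_, hne, hrat⟩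
  · push Not at hA
    obtain ⟨u', hu', hu'0, hu'ψ⟩ := EXPERP.exists_rat_perp F₀ [ψ₁] (by simpa using hψ₁)
      (by simp; omega)
    have hψ₁u' : ψ₁ ⬝ᵥ u' = 0 := by
      rw [dotProduct_comm]
      exact hu'ψ ψ₁ (by simp)
    obtain ⟨c, hc⟩ := RFIXVEC.eq_smul_of_perp F₀ (by omega) u₀ hu hu0
      (((h⁻¹ : GLn) : Mat) *ᵥ u') (fun ψ hψ hψu => by
        rw [Matrix.dotProduct_mulVec]
        exact hA ψ u' hψ hψu hu' hψ₁u')
    have hu'v : u' = c • ((h : Mat) *ᵥ u₀) := by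
      have := congrArg (fun z => (h : Mat) *ᵥ z) hc
      simp only [LOWRANK.mulVec_inv_mulVec, Matrix.mulVec_smul] at this
      exact this
    have hc0 : c ≠ 0 := by
      intro h0
      rw [h0, zero_smul] at hu'v
      exact hu'0 hu'v
    exact ⟨c, hc0, by rw [← hu'v]; exact hu'⟩

end Cfsg.Agent.S5639P
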