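import Cfsg.Agent.Helper1.S5639Defs

set_option autoImplicit false

/-! # S5639: basic library (rational vectors, the calculus of `E v φ = 1 + v φᵀ`) -/

namespace Cfsg.Agent.S5639P

open Matrix
open Cfsg.Agent.Helper28.SLMax Cfsg.Agent.Helper28.SimMax

variable {F : Type*} [Field F] {n : ℕ}

local notation "GLn" => Matrix.GeneralLinearGroup (Fin n) F
local notation "Mat" => Matrix (Fin n) (Fin n) F

/-! ### rational vectors -/

section rat

variable {F₀ : Subfield F}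

theorem Rat.zero : Rat F₀ (0 : Fin n → F) := fun _ => F₀.zero_mem

theorem Rat.add {u v : Fin n → F} (hu : Rat F₀ u) (hv : Rat F₀ v) : Rat F₀ (u + v) :=
  fun i => F₀.add_mem (hu i) (hv i)

theorem Rat.neg {u : Fin n → F} (hu : Rat F₀ u) : Rat F₀ (-u) := fun i => F₀.neg_mem (hu i)

theorem Rat.sub {u v : Fin n → F} (hu : Rat F₀ u) (hv : Rat F₀ v) : Rat F₀ (u - v) :=
  fun i => F₀.sub_mem (hu i) (hv i)

theorem Rat.smul {c : F} (hc : c ∈ F₀) {u : Fin n → F} (hu : Rat F₀ u) : Rat F₀ (c • u) :=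
  fun i => F₀.mul_mem hc (hu i)

theorem Rat.single (i : Fin n) {c : F} (hc : c ∈ F₀) : Rat F₀ (Pi.single i c : Fin n → F) := by
  intro k
  by_cases hk : k = i
  · subst hk; rw [Pi.single_eq_same]; exact hc
  · rw [Pi.single_eq_of_ne hk]; exact F₀.zero_mem

theorem Rat.dot {u ψ : Fin n → F} (hψ : Rat F₀ ψ) (hu : Rat F₀ u) : ψ ⬝ᵥ u ∈ F₀ := by
  unfold dotProduct
  exact F₀.sum_mem (fun i _ => F₀.mul_mem (hψ i) (hu i))

theorem RatM.mulVec {A : Mat} (hA : RatM F₀ A) {u : Fin n → F} (hu : Rat F₀ u) :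
    Rat F₀ (A *ᵥ u) := fun i => Rat.dot (fun j => hA i j) hu

theorem RatM.vecMul {A : Mat} (hA : RatM F₀ A) {ψ : Fin n → F} (hψ : Rat F₀ ψ) :
    Rat F₀ (ψ ᵥ* A) := fun j => Rat.dot hψ (fun i => hA i j)

theorem RatM.mul {A B : Mat} (hA : RatM F₀ A) (hB : RatM F₀ B) : RatM F₀ (A * B) :=
  fun i j => Rat.dot (fun k => hA i k) (fun k => hB k j)

theorem RatM.one : RatM F₀ (1 : Mat) := by
  intro i j
  by_cases hij : i = j
  · subst hij; rw [Matrix.one_apply_eq]; exact F₀.one_mem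
  · rw [Matrix.one_apply_ne hij]; exact F₀.zero_mem

theorem RatM.E {u ψ : Fin n → F} (hu : Rat F₀ u) (hψ : Rat F₀ ψ) : RatM F₀ (E u ψ) := by
  intro i j
  unfold Cfsg.Agent.Helper28.SLMax.E
  rw [Matrix.add_apply, Matrix.vecMulVec_apply]
  exact F₀.add_mem (RatM.one i j) (F₀.mul_mem (hu i) (hψ j))

/-- a rational vector which is proportional to a rational vector with a non-zero... : entries of a
`PRat` vector are pairwise `F₀`-proportional. -/
theorem PRat.of_rat {u : Fin n → F} (hu : Rat F₀ u) : PRat F₀ u :=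
  ⟨1, one_ne_zero, by rw [one_smul]; exact hu⟩

theorem PRat.smul {v : Fin n → F} (hv : PRat F₀ v) {c : F} (hc : c ≠ 0) : PRat F₀ (c • v) := by
  obtain ⟨z, hz, h⟩ := hv
  refine ⟨z * c⁻¹, mul_ne_zero hz (inv_ne_zero hc), ?_⟩
  rw [smul_smul, mul_assoc, inv_mul_cancel₀ hc, mul_one]
  exact h

end rat

/-! ### the calculus of `E` -/

theorem E_smul_left (c : F) (u ψ : Fin n → F) : E (c • u) ψ = E u (c • ψ) := by
  apply Cfsg.Agent.Helper28.Spin.matrix_ext_mulVec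
  intro x
  rw [E_mulVec, E_mulVec, smul_dotProduct, smul_smul, smul_eq_mul, mul_comm]

/-- same axis, the centres add -/
theorem E_mul_E_axis (u u' ψ : Fin n → F) (h : ψ ⬝ᵥ u' = 0) :
    E u ψ * E u' ψ = E (u + u') ψ := by
  apply Cfsg.Agent.Helper28.Spin.matrix_ext_mulVec
  intro x
  rw [← Matrix.mulVec_mulVec, E_mulVec, E_mulVec, E_mulVec, dotProduct_add, dotProduct_smul, h,
    smul_zero, add_zero, smul_add]
  abel

theorem E_mul_neg (v φ : Fin n → F) (h : φ ⬝ᵥ v = 0) : E v φ * E v (-φ) = 1 := by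
  rw [E_mul_E v φ (-φ) h, add_neg_cancel, E_zero_right]

theorem E_neg_mul (v φ : Fin n → F) (h : φ ⬝ᵥ v = 0) : E v (-φ) * E v φ = 1 := by
  have h' : (-φ) ⬝ᵥ v = 0 := by rw [neg_dotProduct, h, neg_zero]
  rw [E_mul_E v (-φ) φ h', neg_add_cancel, E_zero_right]

/-- commutator formula: `a = 1 + v φᵀ`, `b = 1 + u ψᵀ` transvections with `φ u = 0`; then
`b a b⁻¹ a⁻¹ = 1 + (ψ v) u φᵀ`. -/
theorem comm_E (v φ u ψ : Fin n → F) (h1 : φ ⬝ᵥ v = 0) (h2 : ψ ⬝ᵥ u = 0) (h3 : φ ⬝ᵥ u = 0) :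
    E u ψ * E v φ * E u (-ψ) * E v (-φ) = E ((ψ ⬝ᵥ v) • u) φ := by
  apply Cfsg.Agent.Helper28.Spin.matrix_ext_mulVec
  intro x
  simp only [← Matrix.mulVec_mulVec, E_mulVec, dotProduct_add, dotProduct_smul, neg_dotProduct,
    smul_eq_mul, h1, h2, h3, smul_smul, mul_zero, mul_neg, neg_zero, add_zero, neg_smul,
    dotProduct_neg, neg_neg]
  module

/-! ### the set of matrices of a subgroup -/

theorem MS_inv_of_mul_eq_one {M : Subgroup GLn} {A B : Mat} (hA : A ∈ MS M) (hAB : A * B = 1) :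
    B ∈ MS M := by
  obtain ⟨g, hg, rfl⟩ := hA
  refine ⟨g⁻¹, M.inv_mem hg, ?_⟩
  have : ((g⁻¹ : GLn) : Mat) = ((g⁻¹ : GLn) : Mat) * ((g : Mat) * B) := by rw [hAB, mul_one]
  rw [this, ← mul_assoc, ← Units.val_mul, inv_mul_cancel, Units.val_one, one_mul]

theorem MS_E_neg {M : Subgroup GLn} {v φ : Fin n → F} (h : φ ⬝ᵥ v = 0) (hE : E v φ ∈ MS M) :
    E v (-φ) ∈ MS M := MS_inv_of_mul_eq_one hE (E_mul_neg v φ h)

/-- the commutator formula inside `MS M` -/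
theorem MS_comm_E {M : Subgroup GLn} (v φ u ψ : Fin n → F) (h1 : φ ⬝ᵥ v = 0) (h2 : ψ ⬝ᵥ u = 0)
    (h3 : φ ⬝ᵥ u = 0) (ha : E v φ ∈ MS M) (hb : E u ψ ∈ MS M) :
    E ((ψ ⬝ᵥ v) • u) φ ∈ MS M := by
  rw [← comm_E v φ u ψ h1 h2 h3]
  exact MS_mul (MS_mul (MS_mul hb ha) (MS_E_neg h2 hb)) (MS_E_neg h1 ha)

theorem mem_MS_iff {M : Subgroup GLn} (g : GLn) : (g : Mat) ∈ MS M ↔ g ∈ M := by
  constructor
  · rintro ⟨g', hg', h⟩
    have : g' = g := Units.ext h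
    rw [← this]; exact hg'
  · intro hg
    exact ⟨g, hg, rfl⟩

/-- conjugation of `E` by an element of `M` stays in `MS M` -/
theorem MS_conj_E {M : Subgroup GLn} (g : GLn) (hg : g ∈ M) (w φ : Fin n → F) (hE : E w φ ∈ MS M) :
    E ((g : Mat) *ᵥ w) (φ ᵥ* ((g⁻¹ : GLn) : Mat)) ∈ MS M := by
  rw [← conj_E]
  exact MS_conj g hg hE

end Cfsg.Agent.S5639P
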