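import Cfsg.Agent.Helper1.S5639Lib
import Cfsg.Agent.Lead.S5639CENTRAT
import Cfsg.Agent.Helper19.S5639EXPERP

set_option autoImplicit false

/-! # S5639 piece NLINE -/

namespace Cfsg.Agent.S5639P

open Matrix
open Cfsg.Agent.Helper28.SLMax Cfsg.Agent.Helper28.SimMax

variable {F : Type*} [Field F] {n : ℕ}

local notation "GLn" => Matrix.GeneralLinearGroup (Fin n) F
local notation "Mat" => Matrix (Fin n) (Fin n) F

namespace NLINE

/-- for a rational `x` the vector `g x - x` is a multiple of `u₀` -/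
theorem sub_eq_smul (F₀ : Subfield F) (hn : 4 ≤ n) (g : GLn) (hN : InN F₀ (g : Mat))
    (u₀ v : Fin n → F) (hu : Rat F₀ u₀) (hv : FullRk F₀ v)
    (hline : ∀ x, (g : Mat) *ᵥ x - x ∈ Submodule.span F {u₀, v}) (x : Fin n → F) (hx : Rat F₀ x) :
    ∃ α : F, (g : Mat) *ᵥ x - x = α • u₀ := by
  obtain ⟨z, hz, hrat⟩ := hN
  obtain ⟨α, β, hαβ⟩ := Submodule.mem_span_pair.1 (hline x)
  by_cases hβ : β = 0
  · refine ⟨α, ?_⟩
    rw [← hαβ, hβ, zero_smul, add_zero]
  · exfalso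
    have hgx : Rat F₀ ((z • (g : Mat)) *ᵥ x) := RatM.mulVec hrat hx
    obtain ⟨χ, hχ, hχ0, hχl⟩ := EXPERP.exists_rat_perp F₀ [u₀, (z • (g : Mat)) *ᵥ x, x]
      (by
        intro y hy
        simp only [List.mem_cons, List.not_mem_nil, or_false] at hy
        rcases hy with rfl | rfl | rfl
        · exact hu
        · exact hgx
        · exact hx)
      (by simp; omega)
    have h1 : χ ⬝ᵥ u₀ = 0 := hχl u₀ (by simp)
    have h2 : χ ⬝ᵥ ((z • (g : Mat)) *ᵥ x) = 0 := hχl _ (by simp)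
    have h3 : χ ⬝ᵥ x = 0 := hχl x (by simp)
    rw [Matrix.smul_mulVec, dotProduct_smul, smul_eq_mul] at h2
    have h4 : χ ⬝ᵥ ((g : Mat) *ᵥ x) = 0 := by
      rcases mul_eq_zero.1 h2 with h | h
      · exact absurd h hz
      · exact h
    have h5 : χ ⬝ᵥ ((g : Mat) *ᵥ x - x) = 0 := by rw [dotProduct_sub, h4, h3, sub_zero]
    rw [← hαβ, dotProduct_add, dotProduct_smul, dotProduct_smul, h1, smul_zero, zero_add,
      smul_eq_mul] at h5
    rcases mul_eq_zero.1 h5 with h | h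
    · exact hβ h
    · exact hv χ hχ hχ0 h

end NLINE

/-- NLINE: an element of `M ∩ F^* GL_n(F₀)` of determinant one fixing the rational point `⟨u₀⟩` and
acting trivially modulo `⟨u₀, v⟩`, `v` of full rank, is a rational transvection with centre `u₀`. -/
theorem NLINE.mem_RSet_of_line (F₀ : Subfield F) (hn : 4 ≤ n) (M : Subgroup GLn) (hM : HasRat F₀ M)
    (hR : RootRat F₀ M) (g : GLn) (hgM : g ∈ M) (hdet : (g : Mat).det = 1) (hN : InN F₀ (g : Mat))
    (u₀ v : Fin n → F) (hu : Rat F₀ u₀) (hu0 : u₀ ≠ 0) (hv : FullRk F₀ v) (a : F)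
    (hga : (g : Mat) *ᵥ u₀ = a • u₀)
    (hline : ∀ x, (g : Mat) *ᵥ x - x ∈ Submodule.span F {u₀, v}) : (g : Mat) ∈ RSet F₀ u₀ := by
  classical
  have hcol : ∀ k : Fin n, ∃ α : F, (g : Mat) *ᵥ (Pi.single k 1) - Pi.single k 1 = α • u₀ :=
    fun k => NLINE.sub_eq_smul F₀ hn g hN u₀ v hu hv hline _ (Rat.single k F₀.one_mem)
  choose φ hφ using hcol
  have hgE : (g : Mat) = E u₀ φ := by
    ext i k
    have h1 := congrFun (hφ k) i
    rw [Pi.sub_apply, Matrix.mulVec_single_one, Pi.smul_apply, smul_eq_mul] at h1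
    unfold Cfsg.Agent.Helper28.SLMax.E
    rw [Matrix.add_apply, Matrix.vecMulVec_apply, Matrix.one_apply]
    have h2 : (g : Mat) i k = (Pi.single k (1 : F) : Fin n → F) i + φ k * u₀ i := by
      rw [← h1]; simp
    rw [h2, Pi.single_apply, mul_comm]
  have hφu : φ ⬝ᵥ u₀ = 0 := by
    have := hdet
    rw [hgE, E_det] at this
    exact add_eq_left.1 this
  have hEM : E u₀ φ ∈ MS M := by
    rw [← hgE, mem_MS_iff]
    exact hgM
  exact ⟨φ, CENTRAT.rat_of_centre F₀ (by omega) M hM hR u₀ φ hu hu0 hφu hEM, hφu, hgE⟩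

end Cfsg.Agent.S5639P
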