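import Cfsg.Agent.Helper1.S5639Lib
import Cfsg.Agent.Helper27.S5639RGRP
import Cfsg.Agent.Helper27.S5639RP
import Cfsg.Agent.Helper19.S5639TWOPERP

set_option autoImplicit false

/-! # S5639 piece RNCYC (helper1; helper27's copy was removed from main): `R` is not cyclic -/

namespace Cfsg.Agent.S5639P

open Matrix
open Cfsg.Agent.Helper28.SLMax Cfsg.Agent.Helper28.SimMax

variable {F : Type*} [Field F] {n : ℕ}

local notation "GLn" => Matrix.GeneralLinearGroup (Fin n) F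
local notation "Mat" => Matrix (Fin n) (Fin n) F

namespace RNCYC

/-- `E u₀ ψ = E u₀ ψ'` forces `ψ = ψ'` when `u₀ ≠ 0` -/
theorem E_inj {u₀ : Fin n → F} (hu0 : u₀ ≠ 0) {ψ ψ' : Fin n → F} (h : E u₀ ψ = E u₀ ψ') :
    ψ = ψ' := by
  obtain ⟨i, hi⟩ : ∃ i, u₀ i ≠ 0 := by
    by_contra hcon
    push Not at hcon
    exact hu0 (funext hcon)
  funext j
  have h3 := congrFun (congrFun h i) j
  unfold Cfsg.Agent.Helper28.SLMax.E at h3
  rw [Matrix.add_apply, Matrix.add_apply, Matrix.vecMulVec_apply, Matrix.vecMulVec_apply,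
    add_right_inj] at h3
  exact mul_left_cancel₀ hi h3

/-- integer powers of a transvection -/
theorem val_zpow_of_E (g : GLn) (u ψ : Fin n → F) (h : ψ ⬝ᵥ u = 0) (hg : (g : Mat) = E u ψ)
    (k : ℤ) : ∃ c : F, ((g ^ k : GLn) : Mat) = E u (c • ψ) := by
  cases k with
  | ofNat k =>
    refine ⟨(k : F), ?_⟩
    rw [Int.ofNat_eq_natCast, zpow_natCast]
    exact RP.val_pow_of_E g u ψ h hg k
  | negSucc k =>
    refine ⟨-((k + 1 : ℕ) : F), ?_⟩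
    rw [zpow_negSucc]
    have h1 := RP.val_pow_of_E g u ψ h hg (k + 1)
    have h2 : (((k + 1 : ℕ) : F) • ψ) ⬝ᵥ u = 0 := by rw [smul_dotProduct, h, smul_zero]
    rw [RGRP.inv_val_of_E (g ^ (k + 1)) u _ h2 h1, neg_smul]

end RNCYC

/-- RNCYC: `R` is not cyclic (`n ≥ 3`). -/
theorem RNCYC.not_isCyclic [Finite F] (F₀ : Subfield F) (hn : 3 ≤ n) (u₀ : Fin n → F)
    (hu : Rat F₀ u₀) (hu0 : u₀ ≠ 0) : ¬ IsCyclic (Rgrp F₀ u₀) := by
  intro hcyc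
  obtain ⟨⟨g, hgR⟩, hgen⟩ := hcyc.exists_generator
  obtain ⟨ψ₀, _, hψ₀u, hgE⟩ := (RGRP.mem_Rgrp_iff F₀ u₀ g).1 hgR
  obtain ⟨χ₁, χ₂, hχ₁, hχ₂, h1u, h2u, hind⟩ := TWOPERP.exists_two_perp F₀ hn u₀ hu
  have key : ∀ χ : Fin n → F, Rat F₀ χ → χ ⬝ᵥ u₀ = 0 → ∃ c : F, χ = c • ψ₀ := by
    intro χ hχ hχu
    have hne : (1 : F) + χ ⬝ᵥ u₀ ≠ 0 := by rw [hχu, add_zero]; exact one_ne_zero
    have hmem : Eg u₀ χ hne ∈ Rgrp F₀ u₀ := by
      rw [RGRP.mem_Rgrp_iff]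
      exact ⟨χ, hχ, hχu, Eg_val _ _ _⟩
    obtain ⟨k, hk⟩ := Subgroup.mem_zpowers_iff.1 (hgen ⟨_, hmem⟩)
    have hk' : g ^ k = Eg u₀ χ hne := by
      have := congrArg Subtype.val hk
      simpa using this
    obtain ⟨c, hc⟩ := RNCYC.val_zpow_of_E g u₀ ψ₀ hψ₀u hgE k
    rw [hk', Eg_val] at hc
    exact ⟨c, RNCYC.E_inj hu0 hc⟩
  obtain ⟨c₁, hc₁⟩ := key χ₁ hχ₁ h1u
  obtain ⟨c₂, hc₂⟩ := key χ₂ hχ₂ h2u
  by_cases h0 : c₁ = 0
  · have := hind 1 0 (by rw [hc₁, h0]; simp)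
    exact one_ne_zero this.1
  · have := hind c₂ (-c₁) (by rw [hc₁, hc₂, smul_smul, smul_smul, mul_comm, neg_mul, neg_smul,
      add_neg_cancel])
    exact h0 (neg_eq_zero.1 this.2)

end Cfsg.Agent.S5639P
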