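import Cfsg.Agent.Helper1.S5639Lib
import Cfsg.Agent.Lead.S5639CENTRAT
import Cfsg.Agent.Lead.S5639INNINV
import Cfsg.Agent.Helper19.S5639TWOPERP
import Cfsg.Agent.Helper13.S5639ALLPRAT
import Cfsg.Agent.Helper1.S5639LOWRANK

set_option autoImplicit false

/-! # S5639 piece STABPT: the stabiliser in `M` of a rational point lies in `F^* GL_n(F₀)` -/

namespace Cfsg.Agent.S5639P

open Matrix
open Cfsg.Agent.Helper28.SLMax Cfsg.Agent.Helper28.SimMax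

variable {F : Type*} [Field F] {n : ℕ}

local notation "GLn" => Matrix.GeneralLinearGroup (Fin n) F
local notation "Mat" => Matrix (Fin n) (Fin n) F

namespace STABPT

theorem inv_mulVec_mulVec (g : GLn) (x : Fin n → F) :
    ((g⁻¹ : GLn) : Mat) *ᵥ ((g : Mat) *ᵥ x) = x := by
  rw [Matrix.mulVec_mulVec, ← Units.val_mul, inv_mul_cancel, Units.val_one, Matrix.one_mulVec]

/-- `a • (ψ g⁻¹)` is rational for every rational `ψ ⊥ u₀` -/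
theorem rat_twist (F₀ : Subfield F) (hn : 3 ≤ n) (M : Subgroup GLn) (hM : HasRat F₀ M)
    (hR : RootRat F₀ M) (g : GLn) (hg : g ∈ M) (u₀ : Fin n → F) (hu : Rat F₀ u₀) (hu0 : u₀ ≠ 0)
    (a : F) (hga : (g : Mat) *ᵥ u₀ = a • u₀) (ψ : Fin n → F) (hψ : Rat F₀ ψ)
    (hψu : ψ ⬝ᵥ u₀ = 0) : Rat F₀ (a • (ψ ᵥ* ((g⁻¹ : GLn) : Mat))) := by
  have ha0 : a ≠ 0 := by
    intro h0
    rw [h0, zero_smul] at hga
    have := inv_mulVec_mulVec g u₀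
    rw [hga, Matrix.mulVec_zero] at this
    exact hu0 this.symm
  have h1 : E ((g : Mat) *ᵥ u₀) (ψ ᵥ* ((g⁻¹ : GLn) : Mat)) ∈ MS M :=
    MS_conj_E g hg u₀ ψ (hM u₀ ψ hu hψ hψu)
  rw [hga, E_smul_left] at h1
  have hinv : ((g⁻¹ : GLn) : Mat) *ᵥ u₀ = a⁻¹ • u₀ := by
    have := inv_mulVec_mulVec g u₀
    rw [hga, Matrix.mulVec_smul] at this
    have h2 := congrArg (fun z => a⁻¹ • z) this
    simp only [smul_smul, inv_mul_cancel₀ ha0, one_smul] at h2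
    exact h2
  refine CENTRAT.rat_of_centre F₀ hn M hM hR u₀ _ hu hu0 ?_ h1
  rw [smul_dotProduct, ← Matrix.dotProduct_mulVec, hinv, dotProduct_smul, hψu, smul_zero, smul_zero]

end STABPT

/-- STABPT: the stabiliser in `M` of a rational point lies in `F^* GL_n(F₀)`. -/
theorem STABPT.inN_of_fix (F₀ : Subfield F) (hn : 3 ≤ n) (M : Subgroup GLn) (hM : HasRat F₀ M)
    (hR : RootRat F₀ M) (g : GLn) (hg : g ∈ M) (u₀ : Fin n → F) (hu : Rat F₀ u₀) (hu0 : u₀ ≠ 0)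
    (a : F) (hga : (g : Mat) *ᵥ u₀ = a • u₀) : InN F₀ (g : Mat) := by
  have ha0 : a ≠ 0 := by
    intro h0
    rw [h0, zero_smul] at hga
    have := STABPT.inv_mulVec_mulVec g u₀
    rw [hga, Matrix.mulVec_zero] at this
    exact hu0 this.symm
  apply INNINV.inN_inv F₀ g
  apply ALLPRAT.inN_of_all F₀ (by omega) g⁻¹
  intro w hw hw0
  obtain ⟨χ₁, χ₂, hχ₁, hχ₂, h1u, h2u, hind⟩ := TWOPERP.exists_two_perp F₀ hn u₀ hu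
  have r1 := STABPT.rat_twist F₀ hn M hM hR g hg u₀ hu hu0 a hga χ₁ hχ₁ h1u
  have r2 := STABPT.rat_twist F₀ hn M hM hR g hg u₀ hu hu0 a hga χ₂ hχ₂ h2u
  obtain ⟨s, hs⟩ : ∃ s : F, s = (a • (χ₁ ᵥ* ((g⁻¹ : GLn) : Mat))) ⬝ᵥ w := ⟨_, rfl⟩
  obtain ⟨t, ht⟩ : ∃ t : F, t = (a • (χ₂ ᵥ* ((g⁻¹ : GLn) : Mat))) ⬝ᵥ w := ⟨_, rfl⟩
  have hsF : s ∈ F₀ := by rw [hs]; exact Rat.dot r1 hw
  have htF : t ∈ F₀ := by rw [ht]; exact Rat.dot r2 hw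
  have key : ∀ ψ : Fin n → F, ψ ⬝ᵥ (((g⁻¹ : GLn) : Mat) *ᵥ w) =
      a⁻¹ * ((a • (ψ ᵥ* ((g⁻¹ : GLn) : Mat))) ⬝ᵥ w) := by
    intro ψ
    rw [smul_dotProduct, smul_eq_mul, ← mul_assoc, inv_mul_cancel₀ ha0, one_mul,
      Matrix.dotProduct_mulVec]
  have k1 : χ₁ ⬝ᵥ (((g⁻¹ : GLn) : Mat) *ᵥ w) = a⁻¹ * s := by rw [key, hs]
  have k2 : χ₂ ⬝ᵥ (((g⁻¹ : GLn) : Mat) *ᵥ w) = a⁻¹ * t := by rw [key, ht]
  -- the rational covector `ψ₁ ⊥ u₀` with `ψ₁ (g⁻¹ w) = 0`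
  obtain ⟨ψ₁, hψ₁, hψ₁0, hψ₁w⟩ : ∃ ψ₁ : Fin n → F, Rat F₀ ψ₁ ∧ ψ₁ ≠ 0 ∧
      ψ₁ ⬝ᵥ (((g⁻¹ : GLn) : Mat) *ᵥ w) = 0 := by
    by_cases hst : s = 0 ∧ t = 0
    · refine ⟨χ₁, hχ₁, ?_, ?_⟩
      · intro h0
        have := hind 1 0 (by rw [h0]; simp)
        exact one_ne_zero this.1
      · rw [k1, hst.1, mul_zero]
    · refine ⟨t • χ₁ - s • χ₂, (Rat.smul htF hχ₁).sub (Rat.smul hsF hχ₂), ?_, ?_⟩
      · intro h0
        have := hind t (-s) (by rw [neg_smul, ← sub_eq_add_neg]; exact h0)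
        exact hst ⟨neg_eq_zero.1 this.2, this.1⟩
      · rw [sub_dotProduct, smul_dotProduct, smul_dotProduct, k1, k2, smul_eq_mul, smul_eq_mul]
        ring
  exact LOWRANK.prat_of_perp F₀ hn M hM hR g⁻¹ (M.inv_mem hg) w hw hw0 ψ₁ hψ₁ hψ₁0 hψ₁w

end Cfsg.Agent.S5639P
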