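import Cfsg.Agent.Helper1.S5639Lib
import Cfsg.Agent.Helper19.S5639EXPERP
import Cfsg.Agent.Lead.S5639RFIXVEC
import Cfsg.Agent.Helper13.S5639ALLPRAT
import Cfsg.Agent.Helper7.S5639KFIELD
import Cfsg.Agent.Helper25.S5639SUBPRIME
import Cfsg.Agent.Helper25.S5639GENSL
import Cfsg.Agent.Helper12.S5639ROOTRAT
import Cfsg.Agent.Helper1.S5639LOWRANK
import Cfsg.Agent.Helper1.S5639STABPT
import Cfsg.Agent.Helper27.S5639RGRP
import Cfsg.Agent.Helper12.S5639DLINE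
import Cfsg.Agent.Helper1.S5639NLINE
import Cfsg.Agent.Helper25.S5639PFIX
import Cfsg.Agent.Helper13.S5639BURN
import Cfsg.Agent.Helper27.S5639RP
import Cfsg.Agent.Helper27.S5639RCOMM
import Cfsg.Agent.Helper1.S5639RNCYC
import Cfsg.Agent.Helper12.S5639RCENT

set_option autoImplicit false

/-! # S5639: assembly of the pieces -/

namespace Cfsg.Agent.S5639P

open Matrix
open Cfsg.Agent.Helper28.SLMax Cfsg.Agent.Helper28.SimMax

variable {F : Type*} [Field F] {n : ℕ}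

local notation "GLn" => Matrix.GeneralLinearGroup (Fin n) F
local notation "Mat" => Matrix (Fin n) (Fin n) F

namespace MAIN

/-- the dichotomy `K = F₀` or `K = F` -/
theorem kdich [Fintype F] (F₀ : Subfield F) (hn : 3 ≤ n) (M : Subgroup GLn) (hM : HasRat F₀ M)
    (r : ℕ) (hr : r.Prime) (hcard : Fintype.card F = Nat.card F₀ ^ r) :
    (∀ i j : Fin n, i ≠ j → ∀ c ∈ Kij M i j, c ∈ F₀) ∨
      (∀ i j : Fin n, i ≠ j → ∀ c : F, c ∈ Kij M i j) := by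
  obtain ⟨K, hle, hK⟩ := KFIELD.exists_subfield F₀ hn M hM
  rcases SUBPRIME.eq_or_top F₀ K hle r hr hcard with h | h
  · left
    intro i j hij c hc
    rw [hK i j hij, h] at hc
    exact hc
  · right
    intro i j hij c
    rw [hK i j hij, h]
    trivial

theorem Rgrp_le (F₀ : Subfield F) (M : Subgroup GLn) (hM : HasRat F₀ M) (u₀ : Fin n → F)
    (hu : Rat F₀ u₀) : Rgrp F₀ u₀ ≤ M := by
  unfold Rgrp
  rw [Subgroup.closure_le]
  rintro g ⟨ψ, hψ, hψu, hg⟩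
  have := hM u₀ ψ hu hψ hψu
  rw [← hg, mem_MS_iff] at this
  exact this

theorem Dgrp_le (F₀ : Subfield F) (M : Subgroup GLn) (hM : HasRat F₀ M) (h : GLn) (hh : h ∈ M)
    (u₀ : Fin n → F) (hu : Rat F₀ u₀) : Dgrp F₀ h u₀ ≤ M := by
  unfold Dgrp
  refine sup_le (Rgrp_le F₀ M hM u₀ hu) ?_
  rintro x ⟨y, hy, rfl⟩
  have hyM := Rgrp_le F₀ M hM u₀ hu hy
  show h * y * h⁻¹ ∈ M
  exact M.mul_mem (M.mul_mem hh hyM) (M.inv_mem hh)

theorem Rgrp_le_Dgrp (F₀ : Subfield F) (h : GLn) (u₀ : Fin n → F) : Rgrp F₀ u₀ ≤ Dgrp F₀ h u₀ :=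
  le_sup_left

/-- the stabiliser of the point `⟨u₀⟩` in `D` is `R` -/
theorem dstab (F₀ : Subfield F) (hn : 4 ≤ n) (M : Subgroup GLn) (hM : HasRat F₀ M)
    (hR : RootRat F₀ M) (hSL : M ≤ SL n F) (h : GLn) (hh : h ∈ M) (u₀ : Fin n → F)
    (hu : Rat F₀ u₀) (hu0 : u₀ ≠ 0) (hv : FullRk F₀ ((h : Mat) *ᵥ u₀)) (g : GLn)
    (hg : g ∈ Dgrp F₀ h u₀) (a : F) (hga : (g : Mat) *ᵥ u₀ = a • u₀) : g ∈ Rgrp F₀ u₀ := by
  have hgM : g ∈ M := Dgrp_le F₀ M hM h hh u₀ hu hg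
  have hdet : (g : Mat).det = 1 := (mem_SL_iff g).1 (hSL hgM)
  have hN := STABPT.inN_of_fix F₀ (by omega) M hM hR g hgM u₀ hu hu0 a hga
  rw [RGRP.mem_Rgrp_iff]
  exact NLINE.mem_RSet_of_line F₀ hn M hM hR g hgM hdet hN u₀ _ hu hu0 hv a hga
    (fun x => DLINE.sub_mem_span F₀ h u₀ g hg x)

/-- a non-identity element of `R` -/
theorem exists_nontrivial (F₀ : Subfield F) (hn : 2 ≤ n) (u₀ : Fin n → F) (hu : Rat F₀ u₀)
    (hu0 : u₀ ≠ 0) :
    ∃ (a : GLn) (ψ : Fin n → F), a ∈ Rgrp F₀ u₀ ∧ a ≠ 1 ∧ Rat F₀ ψ ∧ ψ ≠ 0 ∧ ψ ⬝ᵥ u₀ = 0 ∧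
      (a : Mat) = E u₀ ψ := by
  obtain ⟨ψ, hψ, hψ0, hψu⟩ := EXPERP.exists_rat_perp F₀ [u₀] (by simpa using hu) (by simp; omega)
  have hψu0 : ψ ⬝ᵥ u₀ = 0 := hψu u₀ (by simp)
  have hne : (1 : F) + ψ ⬝ᵥ u₀ ≠ 0 := by rw [hψu0, add_zero]; exact one_ne_zero
  refine ⟨Eg u₀ ψ hne, ψ, ?_, ?_, hψ, hψ0, hψu0, Eg_val _ _ _⟩
  · rw [RGRP.mem_Rgrp_iff]
    exact ⟨ψ, hψ, hψu0, Eg_val _ _ _⟩
  · intro h1
    have h2 : E u₀ ψ = 1 := by rw [← Eg_val u₀ ψ hne, h1]; rfl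
    -- `E u₀ ψ = 1` forces `ψ = 0`
    obtain ⟨i, hi⟩ : ∃ i, u₀ i ≠ 0 := by
      by_contra hcon
      push Not at hcon
      exact hu0 (funext hcon)
    apply hψ0
    funext j
    have h3 := congrFun (congrFun h2 i) j
    unfold Cfsg.Agent.Helper28.SLMax.E at h3
    rw [Matrix.add_apply, Matrix.vecMulVec_apply, add_eq_left] at h3
    rcases mul_eq_zero.1 h3 with h4 | h4
    · exact absurd h4 hi
    · exact h4

/-- **the full rank case is impossible** -/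
theorem fullrank_false [Fintype F] (p : ℕ) [Fact p.Prime] [CharP F p] (F₀ : Subfield F) (hn : 4 ≤ n)
    (M : Subgroup GLn) (hM : HasRat F₀ M) (hR : RootRat F₀ M) (hSL : M ≤ SL n F) (h : GLn)
    (hh : h ∈ M) (u₀ : Fin n → F) (hu : Rat F₀ u₀) (hu0 : u₀ ≠ 0)
    (hv : FullRk F₀ ((h : Mat) *ᵥ u₀)) : False := by
  classical
  set D := Dgrp F₀ h u₀ with hD
  have hRD : Rgrp F₀ u₀ ≤ D := Rgrp_le_Dgrp F₀ h u₀
  have hstab : ∀ g ∈ D, ∀ a : F, (g : Mat) *ᵥ u₀ = a • u₀ → g ∈ Rgrp F₀ u₀ :=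
    fun g hg a hga => dstab F₀ hn M hM hR hSL h hh u₀ hu hu0 hv g hg a hga
  obtain ⟨a₀, ψ₀, ha₀R, ha₀1, hψ₀, hψ₀0, hψ₀u, ha₀E⟩ := exists_nontrivial F₀ (by omega) u₀ hu hu0
  set R : Subgroup D := (Rgrp F₀ u₀).subgroupOf D with hRdef
  have hfin : Finite D := inferInstance
  have hRtop : R = ⊤ := by
    refine BURN.eq_top p R ?_ ?_ ?_ ?_ ?_ ?_
    · -- p-group
      exact (RP.isPGroup p F₀ u₀).comap_subtype
    · -- commutative
      intro a ha b hb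
      apply Subtype.ext
      exact RCOMM.comm F₀ u₀ a b ha hb
    · -- not cyclic
      intro hcyc
      apply RNCYC.not_isCyclic F₀ (by omega) u₀ hu hu0
      have e : R ≃* Rgrp F₀ u₀ := Subgroup.subgroupOfEquivOfLe hRD
      exact isCyclic_of_surjective e e.surjective
    · -- maximal p-subgroup
      intro Q hQ hRQ
      apply le_antisymm _ hRQ
      have hQ' : IsPGroup p (Q.map D.subtype) := hQ.map _
      obtain ⟨w, hw0, hw⟩ := PFIX.exists_fixed p (by omega) (Q.map D.subtype) hQ'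
      have hRQ' : Rgrp F₀ u₀ ≤ Q.map D.subtype := by
        intro x hx
        exact ⟨⟨x, hRD hx⟩, hRQ (Subgroup.mem_subgroupOf.2 hx), rfl⟩
      obtain ⟨c, hc⟩ := RFIXVEC.eq_smul_of_perp F₀ (by omega) u₀ hu hu0 w (by
        intro ψ hψ hψu
        have hne : (1 : F) + ψ ⬝ᵥ u₀ ≠ 0 := by rw [hψu, add_zero]; exact one_ne_zero
        have hmem : Eg u₀ ψ hne ∈ Rgrp F₀ u₀ := by
          rw [RGRP.mem_Rgrp_iff]
          exact ⟨ψ, hψ, hψu, Eg_val _ _ _⟩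
        have := hw _ (hRQ' hmem)
        rw [Eg_val, E_mulVec, add_eq_left] at this
        rcases smul_eq_zero.1 this with h1 | h1
        · exact h1
        · exact absurd h1 hu0)
      have hc0 : c ≠ 0 := by
        intro h0
        rw [h0, zero_smul] at hc
        exact hw0 hc
      intro g hg
      rw [Subgroup.mem_subgroupOf]
      have hgw := hw (g : GLn) ⟨g, hg, rfl⟩
      refine hstab g g.2 1 ?_
      rw [hc, Matrix.mulVec_smul] at hgw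
      rw [one_smul]
      have := congrArg (fun z => c⁻¹ • z) hgw
      simpa [smul_smul, inv_mul_cancel₀ hc0] using this
    · -- normaliser
      intro g hg
      rw [Subgroup.mem_subgroupOf]
      have ha₀D : a₀ ∈ D := hRD ha₀R
      have h1 : (⟨a₀, ha₀D⟩ : D) ∈ R := Subgroup.mem_subgroupOf.2 ha₀R
      have h2 := (Subgroup.mem_normalizer_iff.1 hg ⟨a₀, ha₀D⟩).1 h1
      rw [Subgroup.mem_subgroupOf] at h2
      obtain ⟨c, hc⟩ := RCENT.fix_of_conj F₀ u₀ hu0 (g : GLn) a₀ ha₀R ha₀1 h2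
      exact hstab g g.2 c hc
    · -- centralisers
      intro a ha ha1 g hg
      rw [Subgroup.mem_subgroupOf]
      rw [Subgroup.mem_subgroupOf] at ha
      have hcomm : g * a = a * g := by
        have := Subgroup.mem_centralizer_iff.1 hg a (Set.mem_singleton a)
        exact this.symm
      have ha1' : (a : GLn) ≠ 1 := fun h1 => ha1 (Subtype.ext h1)
      have hconj : (g : GLn) * (a : GLn) * (g : GLn)⁻¹ ∈ Rgrp F₀ u₀ := by
        have h3 : (g : GLn) * (a : GLn) = (a : GLn) * (g : GLn) := congrArg Subtype.val hcomm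
        rw [h3, mul_inv_cancel_right]
        exact ha
      obtain ⟨c, hc⟩ := RCENT.fix_of_conj F₀ u₀ hu0 (g : GLn) a ha ha1' hconj
      exact hstab g g.2 c hc
  -- now `D = R`, so `h a₀ h⁻¹ ∈ R`
  have hDR : D ≤ Rgrp F₀ u₀ := by
    intro x hx
    have : (⟨x, hx⟩ : D) ∈ R := by rw [hRtop]; trivial
    exact Subgroup.mem_subgroupOf.1 this
  have hconj : h * a₀ * h⁻¹ ∈ D := by
    rw [hD]
    unfold Dgrp
    exact Subgroup.mem_sup_right ⟨a₀, ha₀R, rfl⟩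
  obtain ⟨c, hc⟩ := RCENT.fix_of_conj F₀ u₀ hu0 h a₀ ha₀R ha₀1 (hDR hconj)
  apply hv ψ₀ hψ₀ hψ₀0
  rw [hc, dotProduct_smul, hψ₀u, smul_zero]

/-- **Main theorem**: a subgroup of `SL_n(F)` containing the rational transvections either lies in
`F^* GL_n(F₀)` or is `SL_n(F)`. -/
theorem main [Fintype F] (hn : 4 ≤ n) (F₀ : Subfield F) (r : ℕ) (hr : r.Prime)
    (hcard : Fintype.card F = Nat.card F₀ ^ r) (M : Subgroup GLn) (hM : HasRat F₀ M)
    (hSL : M ≤ SL n F) : (∀ g ∈ M, InN F₀ (g : Mat)) ∨ SL n F ≤ M := by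
  classical
  rcases kdich F₀ (by omega) M hM r hr hcard with hK | hK
  · left
    have hR : RootRat F₀ M := ROOTRAT.rootRat F₀ (by omega) M hM hK
    obtain ⟨p, hp⟩ := CharP.exists F
    have hpp : Fact p.Prime := ⟨CharP.char_is_prime F p⟩
    intro g hg
    apply ALLPRAT.inN_of_all F₀ (by omega) g
    intro u hu hu0
    by_cases hfull : FullRk F₀ ((g : Mat) *ᵥ u)
    · exact (fullrank_false p F₀ hn M hM hR hSL g hg u hu hu0 hfull).elim
    · unfold FullRk at hfull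
      push Not at hfull
      obtain ⟨ψ₁, hψ₁, hψ₁0, hperp⟩ := hfull
      exact LOWRANK.prat_of_perp F₀ (by omega) M hM hR g hg u hu hu0 ψ₁ hψ₁ hψ₁0 hperp
  · right
    exact GENSL.sl_le (by omega) M hK

end MAIN

end Cfsg.Agent.S5639P
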