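import Mathlib
import Cfsg.Agent.Helper9.S5650.Defs
import Cfsg.Agent.Helper9.S5650.Lib
import Cfsg.Agent.Helper20.S5650TRANSF

set_option autoImplicit false

/-! # S5650 piece QRAT (Lemma A): the unipotent radical of a rational point meets `M` in rational
elements (helper1, for driver helper9). -/

namespace Cfsg.Agent.S5650P

open Matrix Cfsg.Agent.Helper28

variable {F : Type*} [Field F] {m : ℕ}

namespace QRAT

theorem conj_mul {g g' A B : Mat m F} (h : g' * g = 1) :
    g * (A * B) * g' = (g * A * g') * (g * B * g') := by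
  have : (g * A * g') * (g * B * g') = g * A * (g' * g) * B * g' := by
    simp only [mul_assoc]
  rw [this, h, mul_one]
  simp only [mul_assoc]

theorem om_zero_symm {u b : Vec m F} (h : om u b = 0) : om b u = 0 := by
  rw [om_swap, h, neg_zero]

/-- `S w b (-c) = S (-w) b c` -/
theorem S_neg_param (w b : Vec m F) (c : F) : S w b (-c) = S (-w) b c := by
  have := S_smul_left (-1 : F) w b c
  rw [neg_one_smul, neg_one_mul] at this
  exact this.symm

/-- the product of two elements of the radical of `b` with inverse parameters -/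
theorem S_mul_S_neg {w w' b : Vec m F} (h : om w b = 0) (h' : om w' b = 0) :
    S w b 1 * S w' b (-1) = S (w - w') b 1 * T b (- om w' w) := by
  have h2 : om (-w') b = 0 := by
    have e : Cfsg.sympForm m F w' b = 0 := h'
    simp only [om, sympForm_neg_left, e, neg_zero]
  rw [S_neg_param, S_mul_S_right h h2, one_mul, one_mul]
  congr 2
  · abel
  · simp only [om, sympForm_neg_left]

/-- the first commutator: with `g = T u 1`, `q = S w b 1 * T b t`:
`g q g⁻¹ q⁻¹ = S u b δ * T b (-δ²)`, `δ = om w u` -/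
theorem comm1 {u w b : Vec m F} (hwb : om w b = 0) (hub : om u b = 0) (t : F) :
    T u 1 * (S w b 1 * T b t) * T u (-1) * (T b (-t) * S w b (-1))
      = S u b (om w u) * T b (-(om w u * om w u)) := by
  have hbu : om b u = 0 := om_zero_symm hub
  have A : T u 1 * S w b 1 * T u (-1) = S (w + om w u • u) b 1 := by
    rw [conj_S (pres_T u 1) (T_neg_mul u 1), T_mulVec, T_mulVec, hbu, mul_zero, zero_smul,
      add_zero, one_mul]
  have B : T u 1 * T b t * T u (-1) = T b t := by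
    rw [conj_T (pres_T u 1) (T_neg_mul u 1), T_mulVec, hbu, mul_zero, zero_smul, add_zero]
  rw [conj_mul (T_neg_mul u 1), A, B]
  have h1 : om (w + om w u • u) b = 0 := by
    have e1 : Cfsg.sympForm m F w b = 0 := hwb
    have e2 : Cfsg.sympForm m F u b = 0 := hub
    simp only [om, sympForm_add_left, sympForm_smul_left, e1, e2, mul_zero, add_zero]
  have h3 : S (w + om w u • u) b 1 * T b t * (T b (-t) * S w b (-1))
      = S (w + om w u • u) b 1 * S w b (-1) := by
    rw [mul_assoc, ← mul_assoc (T b t), T_mul_neg, one_mul]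
  rw [h3, S_mul_S_neg h1 hwb]
  have h4 : w + om w u • u - w = om w u • u := by abel
  rw [h4, S_smul_left, mul_one]
  congr 2
  simp only [om, sympForm_add_right, sympForm_smul_right, sympForm_self, zero_add]

/-- the second commutator: `Y` fixes `b` and maps `u` to `u + d` -/
theorem comm2 {Y Y' : Mat m F} (hY : Pres Y) (hYY : Y' * Y = 1) {u d b : Vec m F}
    (hYb : Y *ᵥ b = b) (hYu : Y *ᵥ u = u + d) (hub : om u b = 0) (hdb : om d b = 0)
    (hud : om u d = 0) (δ s : F) :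
    Y * (S u b δ * T b s) * Y' * (T b (-s) * S u b (-δ)) = S d b δ := by
  have A : Y * S u b δ * Y' = S (u + d) b δ := by
    rw [conj_S hY hYY, hYb, hYu]
  have B : Y * T b s * Y' = T b s := by
    rw [conj_T hY hYY, hYb]
  rw [conj_mul hYY, A, B]
  have h3 : S (u + d) b δ * T b s * (T b (-s) * S u b (-δ)) = S (u + d) b δ * S u b (-δ) := by
    rw [mul_assoc, ← mul_assoc (T b s), T_mul_neg, one_mul]
  rw [h3]
  have e1 : S (u + d) b δ = S (δ • (u + d)) b 1 := by rw [S_smul_left, mul_one]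
  have e2 : S u b (-δ) = S (δ • u) b (-1) := by rw [S_smul_left, mul_neg, mul_one]
  have h1 : om (δ • (u + d)) b = 0 := by
    have e1 : Cfsg.sympForm m F u b = 0 := hub
    have e2 : Cfsg.sympForm m F d b = 0 := hdb
    simp only [om, sympForm_add_left, sympForm_smul_left, e1, e2, mul_zero, add_zero]
  have h2 : om (δ • u) b = 0 := by
    have e1 : Cfsg.sympForm m F u b = 0 := hub
    simp only [om, sympForm_smul_left, e1, mul_zero]
  rw [e1, e2, S_mul_S_neg h1 h2]
  have h4 : δ • (u + d) - δ • u = δ • d := by module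
  have h5 : om (δ • u) (δ • (u + d)) = 0 := by
    have e1 : Cfsg.sympForm m F u d = 0 := hud
    simp only [om, sympForm_add_right, sympForm_smul_left, sympForm_smul_right, sympForm_self, e1,
      mul_zero, add_zero]
  rw [h4, h5, neg_zero, T_zero, mul_one, S_smul_left, mul_one]


theorem mul_inv_coe (g : GLm m F) : (g : Mat m F) * ((g⁻¹ : GLm m F) : Mat m F) = 1 := by
  rw [← Units.val_mul, mul_inv_cancel]; rfl

/-- `q⁻¹` is in `M` -/
theorem inv_mem {M : Subgroup (GLm m F)} {u b : Vec m F} (hub : om u b = 0) {δ s : F}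
    (h : S u b δ * T b s ∈ MS M) : T b (-s) * S u b (-δ) ∈ MS M := by
  refine MS_inv_of_mul_eq_one h ?_
  rw [mul_assoc, ← mul_assoc (T b s), T_mul_neg, one_mul, S_mul_neg hub]

/-- step 1: the commutator with a rational transvection fixing `b` -/
theorem step1 (F₀ : Subfield F) {M : Subgroup (GLm m F)} (hM : HasRatSp F₀ M)
    {u w b : Vec m F} {t : F} (hu : Rat F₀ u) (hwb : om w b = 0) (hub : om u b = 0)
    (h : S w b 1 * T b t ∈ MS M) :
    S u b (om w u) * T b (-(om w u * om w u)) ∈ MS M := by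
  rw [← comm1 hwb hub t]
  have h1 : T u 1 ∈ MS M := T_mem_of_hasRatSp hM hu F₀.one_mem
  have h2 : T u (-1) ∈ MS M := T_mem_of_hasRatSp hM hu (F₀.neg_mem F₀.one_mem)
  exact MS_mul (MS_mul (MS_mul h1 h) h2) (inv_mem hwb h)

/-- step 2: isolate the parameter by a rational short root element `Y = S y₁ y₂ 1` fixing `b` -/
theorem step2 (F₀ : Subfield F) {M : Subgroup (GLm m F)} (hM : HasRatSp F₀ M)
    {y₁ y₂ u d b : Vec m F} {δ s : F} (hy₁ : Rat F₀ y₁) (hy₂ : Rat F₀ y₂) (hy : om y₁ y₂ = 0)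
    (hYb : S y₁ y₂ 1 *ᵥ b = b) (hYu : S y₁ y₂ 1 *ᵥ u = u + d) (hub : om u b = 0)
    (hdb : om d b = 0) (hud : om u d = 0) (h : S u b δ * T b s ∈ MS M) :
    S d b δ ∈ MS M := by
  rw [← comm2 (pres_S hy 1) (S_neg_mul hy 1) hYb hYu hub hdb hud δ s]
  have h1 : S y₁ y₂ 1 ∈ MS M := S_mem_of_hasRatSp hM hy₁ hy₂ hy F₀.one_mem
  have h2 : S y₁ y₂ (-1) ∈ MS M := S_mem_of_hasRatSp hM hy₁ hy₂ hy (F₀.neg_mem F₀.one_mem)
  exact MS_mul (MS_mul (MS_mul h1 h) h2) (inv_mem hub h)

theorem li_e_e {k i : Fin m} (hki : k ≠ i) : LinearIndependent F ![(e k : Vec m F), e i] := by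
  rw [LinearIndependent.pair_iff]
  intro s t h
  have h1 := congrFun h (Sum.inl k)
  have h2 := congrFun h (Sum.inl i)
  have hik : i ≠ k := fun h => hki h.symm
  simp [e, hki, hik] at h1 h2
  exact ⟨h1, h2⟩

theorem exists_third (hm : 3 ≤ m) (i j : Fin m) : ∃ k : Fin m, k ≠ i ∧ k ≠ j := by
  by_contra hcon
  push Not at hcon
  have hsub : (Finset.univ : Finset (Fin m)) ⊆ {i, j} := by
    intro k _
    by_cases hk : k = i
    · simp [hk]
    · simp [hcon k hk]
  have := Finset.card_le_card hsub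
  have h2 : ({i, j} : Finset (Fin m)).card ≤ 2 := Finset.card_le_two
  rw [Finset.card_univ, Fintype.card_fin] at this
  omega

/-- the `inr j` coordinate, `j ≠ i` -/
theorem coord_inr (hm : 3 ≤ m) (F₀ : Subfield F) {M : Subgroup (GLm m F)}
    (hM : HasRatSp F₀ M) (hS : RootRatS F₀ M) (i : Fin m) {w : Vec m F} {t : F}
    (hwb : om w (e i) = 0) (h : S w (e i) 1 * T (e i) t ∈ MS M) {j : Fin m} (hj : j ≠ i) :
    w (Sum.inr j) ∈ F₀ := by
  obtain ⟨k, hki, hkj⟩ := exists_third hm i j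
  have hij : i ≠ j := fun h => hj h.symm
  have hjk : j ≠ k := fun h => hkj h.symm
  have hik : i ≠ k := fun h => hki h.symm
  have hub : om (e j : Vec m F) (e i) = 0 := om_e_e j i
  have h1 := step1 F₀ hM (Rat.basis_e F₀ j) hwb hub h
  have hy : om (f j : Vec m F) (e k) = 0 := by rw [om_f_e, if_neg hjk]
  have hYb : S (f j) (e k) (1 : F) *ᵥ (e i) = e i := by
    rw [S_mulVec, om_e_f, if_neg hij, om_e_e, mul_zero, zero_smul, zero_smul, add_zero, add_zero]
  have hYu : S (f j) (e k) (1 : F) *ᵥ (e j) = e j + (-(e k)) := by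
    rw [S_mulVec, om_e_f, if_pos rfl, om_e_e, mul_zero, zero_smul, add_zero, one_mul, neg_one_smul]
  have hdb : om (-(e k) : Vec m F) (e i) = 0 := by
    have := om_e_e (F := F) k i
    simp only [om, sympForm_neg_left] at this ⊢
    rw [this, neg_zero]
  have hud : om (e j : Vec m F) (-(e k)) = 0 := by
    have := om_e_e (F := F) j k
    simp only [om, sympForm_neg_right] at this ⊢
    rw [this, neg_zero]
  have h2 := step2 F₀ hM (Rat.basis_f F₀ j) (Rat.basis_e F₀ k) hy hYb hYu hub hdb hud h1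
  have h3 : S (-(e k) : Vec m F) (e i) (om w (e j)) = S (e k) (e i) (-(om w (e j))) := by
    have := S_smul_left (-1 : F) (e k : Vec m F) (e i) (om w (e j))
    rw [neg_one_smul, neg_one_mul] at this
    exact this
  rw [h3] at h2
  have h4 := hS (e k) (e i) _ (Rat.basis_e F₀ k) (Rat.basis_e F₀ i) (li_e_e hki) (om_e_e k i) h2
  rw [om_e_right] at h4
  have := F₀.neg_mem h4
  rwa [neg_neg] at this

/-- the `inl j` coordinate, `j ≠ i` -/
theorem coord_inl (hm : 3 ≤ m) (F₀ : Subfield F) {M : Subgroup (GLm m F)}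
    (hM : HasRatSp F₀ M) (hS : RootRatS F₀ M) (i : Fin m) {w : Vec m F} {t : F}
    (hwb : om w (e i) = 0) (h : S w (e i) 1 * T (e i) t ∈ MS M) {j : Fin m} (hj : j ≠ i) :
    w (Sum.inl j) ∈ F₀ := by
  obtain ⟨k, hki, hkj⟩ := exists_third hm i j
  have hij : i ≠ j := fun h => hj h.symm
  have hjk : j ≠ k := fun h => hkj h.symm
  have hik : i ≠ k := fun h => hki h.symm
  have hub : om (f j : Vec m F) (e i) = 0 := by rw [om_f_e, if_neg hj]
  have h1 := step1 F₀ hM (Rat.basis_f F₀ j) hwb hub h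
  have hy : om (e j : Vec m F) (e k) = 0 := om_e_e j k
  have hYb : S (e j) (e k) (1 : F) *ᵥ (e i) = e i := by
    rw [S_mulVec, om_e_e, om_e_e, mul_zero, zero_smul, zero_smul, add_zero, add_zero]
  have hYu : S (e j) (e k) (1 : F) *ᵥ (f j) = f j + e k := by
    rw [S_mulVec, om_f_e, if_pos rfl, om_f_e, if_neg hjk, mul_zero, zero_smul, add_zero, one_mul,
      one_smul]
  have hdb : om (e k : Vec m F) (e i) = 0 := om_e_e k i
  have hud : om (f j : Vec m F) (e k) = 0 := by rw [om_f_e, if_neg hjk]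
  have h2 := step2 F₀ hM (Rat.basis_e F₀ j) (Rat.basis_e F₀ k) hy hYb hYu hub hdb hud h1
  have h4 := hS (e k) (e i) _ (Rat.basis_e F₀ k) (Rat.basis_e F₀ i) (li_e_e hki) (om_e_e k i) h2
  rw [om_f_right] at h4
  have := F₀.neg_mem h4
  rwa [neg_neg] at this

/-- Lemma A at `b = e i` -/
theorem core (hm : 3 ≤ m) (F₀ : Subfield F) {M : Subgroup (GLm m F)}
    (hM : HasRatSp F₀ M) (hS : RootRatS F₀ M) (i : Fin m) {w : Vec m F} {t : F}
    (hwb : om w (e i) = 0) (h : S w (e i) 1 * T (e i) t ∈ MS M) :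
    ∃ (w₀ : Vec m F) (s : F), Rat F₀ w₀ ∧ w = w₀ + s • e i := by
  refine ⟨w - w (Sum.inl i) • e i, w (Sum.inl i), ?_, by abel⟩
  intro x
  rcases x with j | j
  · by_cases hj : j = i
    · subst hj
      have : (w - w (Sum.inl j) • (e j : Vec m F)) (Sum.inl j) = 0 := by
        simp [e]
      rw [this]
      exact F₀.zero_mem
    · have : (w - w (Sum.inl i) • (e i : Vec m F)) (Sum.inl j) = w (Sum.inl j) := by
        simp [e, hj]
      rw [this]
      exact coord_inl hm F₀ hM hS i hwb h hj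
  · have : (w - w (Sum.inl i) • (e i : Vec m F)) (Sum.inr j) = w (Sum.inr j) := by
      simp [e]
    rw [this]
    by_cases hj : j = i
    · subst hj
      rw [← om_e_right w j, hwb]
      exact F₀.zero_mem
    · exact coord_inr hm F₀ hM hS i hwb h hj


theorem e_ne_zero (i : Fin m) : (e i : Vec m F) ≠ 0 := by
  intro h
  have := congrFun h (Sum.inl i)
  simp [e] at this

/-- a rational symplectic matrix moving `e i` to `b` -/
theorem exists_move (F₀ : Subfield F) (i : Fin m) {b : Vec m F} (hb : Rat F₀ b) (hb0 : b ≠ 0) :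
    ∃ g : GLm m F, RatM F₀ (g : Mat m F) ∧ g ∈ Cfsg.spGL m F ∧ (g : Mat m F) *ᵥ e i = b := by
  obtain ⟨g, hg1, hg2, hg3⟩ := TRANSF.exists_rat_sp F₀ (k := 1) ![e i] ![b]
    (by intro j; rw [Fin.fin_one_eq_zero j]; exact Rat.basis_e F₀ i)
    (by intro j; rw [Fin.fin_one_eq_zero j]; exact hb)
    (by rw [linearIndependent_unique_iff]; exact e_ne_zero i)
    (by rw [linearIndependent_unique_iff]; exact hb0)
    (by intro j k; rw [Fin.fin_one_eq_zero j, Fin.fin_one_eq_zero k]; exact om_self _)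
    (by intro j k; rw [Fin.fin_one_eq_zero j, Fin.fin_one_eq_zero k]; exact om_self _)
  exact ⟨g, hg1, hg2, hg3 0⟩

/-- conjugating an element `S w b c * T b t` of `M` by the inverse of `g ∈ M` -/
theorem conj_inv_mem {M : Subgroup (GLm m F)} (hMsp : M ≤ Cfsg.spGL m F) {g : GLm m F}
    (hg : g ∈ M) {w b : Vec m F} {c t : F} (h : S w b c * T b t ∈ MS M) :
    S (((g⁻¹ : GLm m F) : Mat m F) *ᵥ w) (((g⁻¹ : GLm m F) : Mat m F) *ᵥ b) c *
      T (((g⁻¹ : GLm m F) : Mat m F) *ᵥ b) t ∈ MS M := by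
  have hg' : g⁻¹ ∈ M := M.inv_mem hg
  have hp : Pres ((g⁻¹ : GLm m F) : Mat m F) := pres_of_mem_spGL (hMsp hg')
  have h1 := MS_conj h hg'
  rw [conj_mul (inv_mul_coe g⁻¹), conj_S hp (inv_mul_coe g⁻¹), conj_T hp (inv_mul_coe g⁻¹)] at h1
  exact h1

theorem inv_mulVec_mulVec (g : GLm m F) (x : Vec m F) :
    ((g⁻¹ : GLm m F) : Mat m F) *ᵥ ((g : Mat m F) *ᵥ x) = x := by
  rw [Matrix.mulVec_mulVec, inv_mul_coe, Matrix.one_mulVec]

theorem mulVec_inv_mulVec (g : GLm m F) (x : Vec m F) :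
    (g : Mat m F) *ᵥ (((g⁻¹ : GLm m F) : Mat m F) *ᵥ x) = x := by
  rw [Matrix.mulVec_mulVec, mul_inv_coe, Matrix.one_mulVec]

end QRAT

/-- QRAT (Lemma A): the unipotent radical of a rational point meets `M` in rational elements. -/
theorem QRAT.rat_of_mem (hm : 3 ≤ m) (F₀ : Subfield F) (M : Subgroup (GLm m F))
    (hMsp : M ≤ Cfsg.spGL m F) (hM : HasRatSp F₀ M) (hS : RootRatS F₀ M)
    {b w : Vec m F} {t : F} (hb : Rat F₀ b) (hb0 : b ≠ 0) (hwb : om w b = 0)
    (h : S w b 1 * T b t ∈ MS M) : ∃ (w₀ : Vec m F) (s : F), Rat F₀ w₀ ∧ w = w₀ + s • b := by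
  have hm0 : 0 < m := by omega
  obtain ⟨g, hg1, hg2, hg3⟩ := QRAT.exists_move F₀ (⟨0, hm0⟩ : Fin m) hb hb0
  have hgM : g ∈ M := hM g hg1 hg2
  have h1 := QRAT.conj_inv_mem hMsp hgM h
  have hb' : ((g⁻¹ : GLm m F) : Mat m F) *ᵥ b = e ⟨0, hm0⟩ := by
    rw [← hg3, QRAT.inv_mulVec_mulVec]
  rw [hb'] at h1
  have hp : Pres ((g⁻¹ : GLm m F) : Mat m F) := pres_of_mem_spGL (hMsp (M.inv_mem hgM))
  have hwb' : om (((g⁻¹ : GLm m F) : Mat m F) *ᵥ w) (e ⟨0, hm0⟩) = 0 := by
    rw [← hb', hp, hwb]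
  obtain ⟨w₀, s, hw₀, hw⟩ := QRAT.core hm F₀ hM hS ⟨0, hm0⟩ hwb' h1
  refine ⟨(g : Mat m F) *ᵥ w₀, s, RatM.mulVec hg1 hw₀, ?_⟩
  have := congrArg (fun x => (g : Mat m F) *ᵥ x) hw
  simp only [QRAT.mulVec_inv_mulVec, Matrix.mulVec_add, Matrix.mulVec_smul, hg3] at this
  exact this

end Cfsg.Agent.S5650P
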