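import Mathlib
import Cfsg.Agent.Helper9.S5650.Defs
import Cfsg.Agent.Helper9.S5650.Lib
import Cfsg.Agent.Helper20.S5650TRANSF
import Cfsg.Agent.Helper1.S5650QRAT

set_option autoImplicit false

/-! # S5650 piece LOWRANK (Lemma B): a root point of `M` orthogonal to a rational point is rational
(helper1, for driver helper9). -/

namespace Cfsg.Agent.S5650P

open Matrix Cfsg.Agent.Helper28

variable {F : Type*} [Field F] {m : ℕ}

namespace LOWRANK

/-- moving the centre of a transvection of `M` by a rational short root element and cancelling: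
if `Y = S y₁ y₂ 1` maps `v` to `v + d` with `d ⊥ v` then `S v d c * T d c ∈ M` -/
theorem shift (F₀ : Subfield F) {M : Subgroup (GLm m F)} (hMsp : M ≤ Cfsg.spGL m F)
    (hM : HasRatSp F₀ M) {y₁ y₂ v d : Vec m F} {c : F} (hy₁ : Rat F₀ y₁) (hy₂ : Rat F₀ y₂)
    (hy : om y₁ y₂ = 0) (hYv : S y₁ y₂ 1 *ᵥ v = v + d) (hdv : om d v = 0)
    (hT : T v c ∈ MS M) : S v d c * T d c ∈ MS M := by
  have hg : Sg hy (1 : F) ∈ M := hM _ (RatM.ofS hy₁ hy₂ F₀.one_mem) (Sg_mem_spGL hy 1)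
  have h1 := MS_conj_T hMsp hg hT
  rw [Sg_val, hYv, add_comm, T_add_vec hdv, S_comm] at h1
  exact MS_of_mul_right hT h1

theorem exists_third' (hm : 3 ≤ m) (i j : Fin m) : ∃ k : Fin m, k ≠ i ∧ k ≠ j :=
  QRAT.exists_third hm i j

/-- Step 2 in coordinates: `T (e i₁ + s • e i₀) c ∈ M`, `c ≠ 0` forces `s ∈ F₀` -/
theorem core2 (hm : 3 ≤ m) (F₀ : Subfield F) {M : Subgroup (GLm m F)}
    (hMsp : M ≤ Cfsg.spGL m F) (hM : HasRatSp F₀ M) (hS : RootRatS F₀ M)
    {i₀ i₁ : Fin m} (h01 : i₀ ≠ i₁) {s c : F} (hc : c ≠ 0)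
    (hT : T (e i₁ + s • e i₀ : Vec m F) c ∈ MS M) : s ∈ F₀ := by
  obtain ⟨i₂, h20, h21⟩ := QRAT.exists_third hm i₀ i₁
  have h12 : i₁ ≠ i₂ := fun h => h21 h.symm
  have h02 : i₀ ≠ i₂ := fun h => h20 h.symm
  have h10 : i₁ ≠ i₀ := fun h => h01 h.symm
  obtain ⟨v, hv⟩ : ∃ v : Vec m F, v = e i₁ + s • e i₀ := ⟨_, rfl⟩
  rw [← hv] at hT
  have hv1 : v (Sum.inl i₁) = 1 := by
    rw [hv]; simp [e, h10]
  have hv0 : v (Sum.inl i₀) = s := by
    rw [hv]; simp [e, h01]
  have hvr : ∀ j, v (Sum.inr j) = 0 := by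
    intro j; rw [hv]; simp [e]
  have hy : om (f i₁ : Vec m F) (e i₂) = 0 := by rw [om_f_e, if_neg h12]
  have hYv : S (f i₁) (e i₂) (1 : F) *ᵥ v = v + (-1 : F) • e i₂ := by
    rw [S_mulVec, om_f_right, om_e_right, hv1, hvr, mul_zero, zero_smul, add_zero, one_mul]
  have hdv : om ((-1 : F) • (e i₂ : Vec m F)) v = 0 := by
    have h1 : om v (e i₂) = 0 := by rw [om_e_right, hvr]
    have h2 : Cfsg.sympForm m F (e i₂) v = 0 := by
      have := om_swap (e i₂) v
      rw [h1, neg_zero] at this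
      exact this
    simp only [om, sympForm_smul_left, h2, mul_zero]
  have h1 := shift F₀ hMsp hM (Rat.basis_f F₀ i₁) (Rat.basis_e F₀ i₂) hy hYv hdv hT
  -- rewrite into the form `S w (e i₂) 1 * T (e i₂) t`
  have e1 : S v ((-1 : F) • (e i₂ : Vec m F)) c = S ((-c) • v) (e i₂) 1 := by
    rw [S_smul_right, S_smul_left, mul_one, neg_one_mul]
  have e2 : T ((-1 : F) • (e i₂ : Vec m F)) c = T (e i₂) c := by
    rw [T_smul]; congr 1; ring
  rw [e1, e2] at h1
  have hwb : om ((-c) • v) (e i₂) = 0 := by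
    rw [om_e_right]
    simp [hvr]
  obtain ⟨w₁, s₁, hw₁, hw⟩ := QRAT.rat_of_mem hm F₀ M hMsp hM hS (Rat.basis_e F₀ i₂)
    (QRAT.e_ne_zero i₂) hwb h1
  have k1 := congrFun hw (Sum.inl i₁)
  have k0 := congrFun hw (Sum.inl i₀)
  simp [e, h12.symm, hv1] at k1
  simp [e, h02.symm, hv0] at k0
  have hc0 : c ∈ F₀ := by
    have := F₀.neg_mem (hw₁ (Sum.inl i₁))
    rw [← k1, neg_neg] at this
    exact this
  have hcs : c * s ∈ F₀ := by
    have := F₀.neg_mem (hw₁ (Sum.inl i₀))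
    rw [← k0] at this
    simpa using this
  have : s = c⁻¹ * (c * s) := by field_simp
  rw [this]
  exact F₀.mul_mem (F₀.inv_mem hc0) hcs


/-- Step 1: for rational `a ⊥ b`: `S ((β c) • v) b 1 * T b (β² c) ∈ M`, `β = om v a` -/
theorem step1 (F₀ : Subfield F) {M : Subgroup (GLm m F)} (hMsp : M ≤ Cfsg.spGL m F)
    (hM : HasRatSp F₀ M) {a b v : Vec m F} {c : F} (ha : Rat F₀ a) (hb : Rat F₀ b)
    (hab : om a b = 0) (hvb : om v b = 0) (hT : T v c ∈ MS M) :
    S ((om v a * c) • v) b 1 * T b (om v a * om v a * c) ∈ MS M := by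
  have hYv : S a b (1 : F) *ᵥ v = v + om v a • b := by
    rw [S_mulVec, hvb, mul_zero, zero_smul, add_zero, one_mul]
  have hdv : om (om v a • b) v = 0 := by
    have h2 : Cfsg.sympForm m F b v = 0 := by
      have := om_swap b v
      rw [hvb, neg_zero] at this
      exact this
    simp only [om, sympForm_smul_left, h2, mul_zero]
  have h1 := shift F₀ hMsp hM ha hb hab hYv hdv hT
  rw [S_smul_right, T_smul] at h1
  rwa [S_smul_left, mul_one]

theorem prat_of_smul_e (F₀ : Subfield F) {v : Vec m F} {t : F} (i : Fin m) (h : v = t • e i) :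
    PRat F₀ v := by
  by_cases ht : t = 0
  · refine ⟨1, one_ne_zero, ?_⟩
    rw [h, ht, zero_smul, smul_zero]
    exact Rat.zero F₀
  · refine ⟨t⁻¹, inv_ne_zero ht, ?_⟩
    rw [h, smul_smul, inv_mul_cancel₀ ht, one_smul]
    exact Rat.basis_e F₀ i

/-- Lemma B at `b = e i` -/
theorem core1 (hm : 3 ≤ m) (F₀ : Subfield F) (M : Subgroup (GLm m F))
    (hMsp : M ≤ Cfsg.spGL m F) (hM : HasRatSp F₀ M) (hS : RootRatS F₀ M) (i : Fin m)
    {v : Vec m F} {c : F} (hc : c ≠ 0) (hT : T v c ∈ MS M) (hvb : om v (e i) = 0) :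
    PRat F₀ v := by
  by_cases hex : ∃ a : Vec m F, Rat F₀ a ∧ om a (e i) = 0 ∧ om v a ≠ 0
  · obtain ⟨a, ha, hab, hβ⟩ := hex
    obtain ⟨κ, hκ⟩ : ∃ κ : F, κ = om v a * c := ⟨_, rfl⟩
    have hκ0 : κ ≠ 0 := by rw [hκ]; exact mul_ne_zero hβ hc
    have h1 := step1 F₀ hMsp hM ha (Rat.basis_e F₀ i) hab hvb hT
    rw [← hκ] at h1
    have hwb : om (κ • v) (e i) = 0 := by
      have e1 : Cfsg.sympForm m F v (e i) = 0 := hvb
      simp only [om, sympForm_smul_left, e1, mul_zero]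
    obtain ⟨w₀, s, hw₀, hw⟩ := QRAT.rat_of_mem hm F₀ M hMsp hM hS (Rat.basis_e F₀ i)
      (QRAT.e_ne_zero i) hwb h1
    by_cases hli : LinearIndependent F ![(e i : Vec m F), w₀]
    · obtain ⟨i₁, hi₁, -⟩ := QRAT.exists_third hm i i
      have hw₀b : om w₀ (e i) = 0 := by
        have : w₀ = κ • v - s • e i := by rw [hw]; abel
        rw [this]
        have e1 : Cfsg.sympForm m F v (e i) = 0 := hvb
        simp only [om, sympForm_sub_left, sympForm_smul_left, e1, sympForm_self, mul_zero,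
          sub_zero]
      have hbw₀ : om (e i) w₀ = 0 := by rw [om_swap, hw₀b, neg_zero]
      obtain ⟨g, hg1, hg2, hg3⟩ := TRANSF.exists_rat_sp F₀ (k := 2) ![e i, e i₁] ![e i, w₀]
        (by
          intro j
          fin_cases j
          · exact Rat.basis_e F₀ i
          · exact Rat.basis_e F₀ i₁)
        (by
          intro j
          fin_cases j
          · exact Rat.basis_e F₀ i
          · exact hw₀)
        (QRAT.li_e_e hi₁.symm) hli
        (by
          intro j k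
          fin_cases j <;> fin_cases k <;> exact om_e_e _ _)
        (by
          intro j k
          fin_cases j <;> fin_cases k
          · exact om_self _
          · exact hbw₀
          · exact hw₀b
          · exact om_self _)
      have hg30 : (g : Mat m F) *ᵥ e i = e i := hg3 0
      have hg31 : (g : Mat m F) *ᵥ e i₁ = w₀ := hg3 1
      have hgM : g ∈ M := hM g hg1 hg2
      -- the transvection with centre `κ • v`
      have hT' : T (κ • v) ((κ * κ)⁻¹ * c) ∈ MS M := by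
        rw [T_smul]
        have : κ * κ * ((κ * κ)⁻¹ * c) = c := by field_simp
        rw [this]
        exact hT
      have h2 := MS_conj_T hMsp (M.inv_mem hgM) hT'
      have h3 : ((g⁻¹ : GLm m F) : Mat m F) *ᵥ (κ • v) = e i₁ + s • e i := by
        rw [hw, ← hg31, Matrix.mulVec_add, Matrix.mulVec_smul, QRAT.inv_mulVec_mulVec]
        congr 2
        conv_lhs => rw [← hg30]
        rw [QRAT.inv_mulVec_mulVec]
      rw [h3] at h2
      have hc' : (κ * κ)⁻¹ * c ≠ 0 := mul_ne_zero (inv_ne_zero (mul_ne_zero hκ0 hκ0)) hc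
      have hs : s ∈ F₀ := core2 hm F₀ hMsp hM hS hi₁.symm hc' h2
      refine ⟨κ, hκ0, ?_⟩
      rw [hw]
      exact Rat.add hw₀ (Rat.smul hs (Rat.basis_e F₀ i))
    · rw [LinearIndependent.pair_iff' (QRAT.e_ne_zero i)] at hli
      push Not at hli
      obtain ⟨l, hl⟩ := hli
      apply prat_of_smul_e F₀ (t := κ⁻¹ * (l + s)) i
      have : κ • v = (l + s) • e i := by rw [hw, ← hl, add_smul]
      rw [← smul_smul, ← this, smul_smul, inv_mul_cancel₀ hκ0, one_smul]
  · push Not at hex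
    apply prat_of_smul_e F₀ (t := v (Sum.inl i)) i
    funext x
    rcases x with j | j
    · by_cases hj : j = i
      · subst hj
        simp [e]
      · have h1 := hex (f j) (Rat.basis_f F₀ j) (by rw [om_f_e, if_neg hj])
        rw [om_f_right] at h1
        have h2 : v (Sum.inl j) = 0 := by
          rw [← neg_neg (v (Sum.inl j)), h1, neg_zero]
        simp [e, h2, hj]
    · have h1 := hex (e j) (Rat.basis_e F₀ j) (om_e_e j i)
      rw [om_e_right] at h1
      simp [e, h1]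

end LOWRANK

/-- LOWRANK (Lemma B): a root point of `M` orthogonal to a rational point is rational. -/
theorem LOWRANK.prat (hm : 3 ≤ m) (F₀ : Subfield F) (M : Subgroup (GLm m F))
    (hMsp : M ≤ Cfsg.spGL m F) (hM : HasRatSp F₀ M) (hS : RootRatS F₀ M)
    {v b : Vec m F} {c : F} (hc : c ≠ 0) (hT : T v c ∈ MS M) (hb : Rat F₀ b) (hb0 : b ≠ 0)
    (hvb : om v b = 0) : PRat F₀ v := by
  have hm0 : 0 < m := by omega
  obtain ⟨g, hg1, hg2, hg3⟩ := QRAT.exists_move F₀ (⟨0, hm0⟩ : Fin m) hb hb0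
  have hgM : g ∈ M := hM g hg1 hg2
  have h1 := MS_conj_T hMsp (M.inv_mem hgM) hT
  have hb' : ((g⁻¹ : GLm m F) : Mat m F) *ᵥ b = e ⟨0, hm0⟩ := by
    rw [← hg3, QRAT.inv_mulVec_mulVec]
  have hp : Pres ((g⁻¹ : GLm m F) : Mat m F) := pres_of_mem_spGL (hMsp (M.inv_mem hgM))
  have hvb' : om (((g⁻¹ : GLm m F) : Mat m F) *ᵥ v) (e ⟨0, hm0⟩) = 0 := by
    rw [← hb', hp, hvb]
  obtain ⟨z, hz0, hz⟩ := LOWRANK.core1 hm F₀ M hMsp hM hS ⟨0, hm0⟩ hc h1 hvb'
  refine ⟨z, hz0, ?_⟩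
  have := RatM.mulVec hg1 hz
  rwa [Matrix.mulVec_smul, QRAT.mulVec_inv_mulVec] at this

end Cfsg.Agent.S5650P
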