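import Mathlib
import Cfsg.Prelude.Def_GeometricClasses
import Cfsg.Agent.Helper2.S5886.Defs

/-! # S5886, piece SPECIAL: a semilinear `p`-element with prescribed small fixed space (`r = p`). -/

set_option autoImplicit false

namespace Cfsg.Agent.S5886P

namespace SPECIAL

open Module

universe u v w

section good

variable {F : Type u} {K : Type v} [Field F] [Field K] [Algebra F K]

/-- a field automorphism which is unipotent as an `F`-linear map and has fixed field `F`. -/
structure Good (p : ℕ) (σ : K ≃ₐ[F] K) : Prop where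
  nil : ((σ.toLinearMap : K →ₗ[F] K) - 1) ^ p = 0
  fix : ∀ x : K, σ x = x → x ∈ Set.range (algebraMap F K)

theorem toLinearMap_pow (σ : K ≃ₐ[F] K) (n : ℕ) (x : K) :
    ((σ.toLinearMap : K →ₗ[F] K) ^ n) x = (σ ^ n) x := by
  induction n generalizing x with
  | zero => simp
  | succ n ih =>
    rw [pow_succ, pow_succ, Module.End.mul_apply, ih]
    rfl

theorem exists_good [Finite F] [Finite K] (p : ℕ) [Fact p.Prime] [CharP F p]
    (hrp : Module.finrank F K = p) : ∃ σ : K ≃ₐ[F] K, Good p σ := by
  have hcard : Nat.card (K ≃ₐ[F] K) = p := by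
    rw [IsGalois.card_aut_eq_finrank, hrp]
  have hp2 : 2 ≤ p := (Fact.out : p.Prime).two_le
  have : Finite (K ≃ₐ[F] K) := Nat.finite_of_card_ne_zero (by omega)
  obtain ⟨σ, hσ⟩ : ∃ σ : K ≃ₐ[F] K, σ ≠ 1 := by
    by_contra hcon
    push Not at hcon
    have : Nat.card (K ≃ₐ[F] K) ≤ 1 := by
      rw [Finite.card_le_one_iff_subsingleton]
      exact ⟨fun a b => by rw [hcon a, hcon b]⟩
    omega
  have htop : Subgroup.zpowers σ = ⊤ := zpowers_eq_top_of_prime_card hcard hσ
  have hpow : σ ^ p = 1 := by
    have := pow_card_eq_one' (G := K ≃ₐ[F] K) (x := σ)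
    rwa [hcard] at this
  have : CharP (Module.End F K) p :=
    charP_of_injective_algebraMap (algebraMap F (Module.End F K)).injective p
  refine ⟨σ, ?_, ?_⟩
  · have hc : Commute (σ.toLinearMap : Module.End F K) 1 := Commute.one_right _
    rw [sub_pow_char_of_commute p hc, one_pow, sub_eq_zero]
    apply LinearMap.ext
    intro x
    rw [toLinearMap_pow, hpow]
    rfl
  · intro x hx
    have hall : ∀ f : K ≃ₐ[F] K, f x = x := by
      intro f
      have hf : f ∈ Subgroup.zpowers σ := by rw [htop]; trivial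
      obtain ⟨n, rfl⟩ := Subgroup.mem_zpowers_iff.mp hf
      have hfix : ∀ m : ℕ, (σ ^ m) x = x := by
        intro m
        induction m with
        | zero => simp
        | succ m ih => rw [pow_succ, AlgEquiv.mul_apply, hx, ih]
      have hfixinv : ∀ m : ℕ, ((σ ^ m)⁻¹) x = x := by
        intro m
        have h1 := hfix m
        have h2 : ((σ ^ m)⁻¹) ((σ ^ m) x) = x := by
          rw [← AlgEquiv.mul_apply, inv_mul_cancel]; rfl
        rw [h1] at h2
        exact h2
      cases n with
      | ofNat m => simpa using hfix m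
      | negSucc m => simpa [zpow_negSucc] using hfixinv (m + 1)
    have hb : x ∈ (⊥ : IntermediateField F K) := (IsGalois.mem_bot_iff_fixed x).mpr hall
    rw [IntermediateField.mem_bot] at hb
    exact hb

end good

section base

variable {F : Type u} {K : Type v} [Field F] [Field K] [Algebra F K]
variable {V : Type w} [AddCommGroup V] [Module F V] [Module K V] [IsScalarTower F K V]

/-- base case: `e` is a `K`-basis; the coordinatewise `σ`. -/
theorem base [Finite V] (p : ℕ) (σ : K ≃ₐ[F] K) (hσ : Good p σ) (d : ℕ) (hd : 1 ≤ d)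
    (e : Fin d → V) (he : LinearIndependent K e) (hk : Module.finrank K V = d) :
    ∃ g : V ≃ₗ[F] V, IsSemi σ (g : V →ₗ[F] V) ∧ (∀ i, g (e i) = e i) ∧
      (∃ N : ℕ, ((g : V →ₗ[F] V) - 1) ^ N = 0) ∧
      ∀ x, g x = x → x ∈ Submodule.span F (Set.range e) := by
  have : Nonempty (Fin d) := ⟨⟨0, hd⟩⟩
  let b : Basis (Fin d) K V := basisOfLinearIndependentOfCardEqFinrank he (by simp [hk])
  have hb : ∀ i, b i = e i := fun i => by
    simp [b, coe_basisOfLinearIndependentOfCardEqFinrank]
  let E : V ≃ₗ[F] (Fin d → K) := b.equivFun.restrictScalars F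
  let S : (Fin d → K) ≃ₗ[F] (Fin d → K) := LinearEquiv.piCongrRight (fun _ => σ.toLinearEquiv)
  let g : V ≃ₗ[F] V := E.trans (S.trans E.symm)
  have hg : ∀ x, g x = b.equivFun.symm (fun i => σ (b.equivFun x i)) := fun x => rfl
  have hE : ∀ x, b.equivFun (g x) = fun i => σ (b.equivFun x i) := by
    intro x; rw [hg, LinearEquiv.apply_symm_apply]
  refine ⟨g, ?_, ?_, ⟨p, ?_⟩, ?_⟩
  · intro k x
    show g (k • x) = σ k • g x
    rw [hg, hg, ← map_smul]
    congr 1
    funext i
    simp [map_smul, smul_eq_mul]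
  · intro i
    rw [hg, ← hb i]
    apply b.equivFun.injective
    rw [LinearEquiv.apply_symm_apply]
    funext j
    rw [Basis.equivFun_self]
    split_ifs <;> simp
  · -- nilpotency
    have key : ∀ (j : ℕ) (x : V), b.equivFun ((((g : V →ₗ[F] V) - 1) ^ j) x) =
        fun i => ((((σ.toLinearMap : K →ₗ[F] K) - 1) ^ j)) (b.equivFun x i) := by
      intro j
      induction j with
      | zero => intro x; simp
      | succ j ih =>
        intro x
        rw [pow_succ, Module.End.mul_apply, ih]
        funext i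
        rw [pow_succ, Module.End.mul_apply]
        congr 1
        have : (((g : V →ₗ[F] V) - 1) x) = g x - x := by simp
        rw [this, map_sub, hE]
        simp
    apply LinearMap.ext
    intro x
    apply b.equivFun.injective
    rw [key, hσ.nil]
    simp only [LinearMap.zero_apply, map_zero]
    rfl
  · intro x hx
    have h1 : ∀ i, σ (b.equivFun x i) = b.equivFun x i := by
      intro i
      have := congrFun (hE x) i
      rw [hx] at this
      exact this.symm
    rw [← b.sum_equivFun x]
    refine Submodule.sum_mem _ (fun i _ => ?_)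
    obtain ⟨a, ha⟩ := hσ.fix _ (h1 i)
    rw [← ha, algebraMap_smul, hb]
    exact Submodule.smul_mem _ _ (Submodule.subset_span ⟨i, rfl⟩)

end base

section step

variable {F : Type u} {K : Type v} [Field F] [Field K] [Algebra F K]
variable {V : Type w} [AddCommGroup V] [Module F V] [Module K V] [IsScalarTower F K V]

/-- inductive step: from the `K`-hyperplane `ker ψ` to `V`. -/
theorem step [Finite V] (p : ℕ) (σ : K ≃ₐ[F] K) (hσ : Good p σ) (d : ℕ) (hd : 1 ≤ d)
    (e : Fin d → V) (he : LinearIndependent K e) (ψ : V →ₗ[K] K) (f : V) (hψf : ψ f = 1)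
    (hψe : ∀ i, e i ∈ LinearMap.ker ψ)
    (ih : ∃ g' : (LinearMap.ker ψ) ≃ₗ[F] (LinearMap.ker ψ),
      IsSemi σ (g' : (LinearMap.ker ψ) →ₗ[F] (LinearMap.ker ψ)) ∧
      (∀ i, g' ⟨e i, hψe i⟩ = ⟨e i, hψe i⟩) ∧
      (∃ N : ℕ, ((g' : (LinearMap.ker ψ) →ₗ[F] (LinearMap.ker ψ)) - 1) ^ N = 0) ∧
      ∀ y, g' y = y → y ∈ Submodule.span F
        (Set.range (fun i => (⟨e i, hψe i⟩ : LinearMap.ker ψ)))) :
    ∃ g : V ≃ₗ[F] V, IsSemi σ (g : V →ₗ[F] V) ∧ (∀ i, g (e i) = e i) ∧
      (∃ N : ℕ, ((g : V →ₗ[F] V) - 1) ^ N = 0) ∧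
      ∀ x, g x = x → x ∈ Submodule.span F (Set.range e) := by
  obtain ⟨g', hsemi', hfix', ⟨N', hN'⟩, hfixsp'⟩ := ih
  -- the projection onto the hyperplane
  have hPmem : ∀ x : V, x - ψ x • f ∈ LinearMap.ker ψ := by
    intro x
    rw [LinearMap.mem_ker, map_sub, map_smul, hψf, smul_eq_mul, mul_one, sub_self]
  -- a vector outside the range of g' - 1
  have he0 : (⟨e ⟨0, hd⟩, hψe _⟩ : LinearMap.ker ψ) ≠ 0 := by
    intro h
    exact he.ne_zero ⟨0, hd⟩ (congrArg Subtype.val h)
  obtain ⟨z, hz⟩ : ∃ z : LinearMap.ker ψ,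
      z ∉ LinearMap.range ((g' : (LinearMap.ker ψ) →ₗ[F] (LinearMap.ker ψ)) - 1) := by
    by_contra hcon
    push Not at hcon
    set D' : Module.End F (LinearMap.ker ψ) :=
      (g' : (LinearMap.ker ψ) →ₗ[F] (LinearMap.ker ψ)) - 1 with hD'
    have hsurj : Function.Surjective D' := by
      intro z
      exact LinearMap.mem_range.mp (hcon z)
    have hinj : Function.Injective D' := LinearMap.injective_iff_surjective.mpr hsurj
    have h0 : D' (⟨e ⟨0, hd⟩, hψe _⟩ : LinearMap.ker ψ) = 0 := by
      rw [hD']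
      simp [hfix']
    exact he0 (hinj (by rw [h0, map_zero]))
  have hψz : ψ (z : V) = 0 := LinearMap.mem_ker.mp z.2
  -- the map
  let G : V →ₗ[F] V :=
    { toFun := fun x => ((g' ⟨x - ψ x • f, hPmem x⟩ : LinearMap.ker ψ) : V) + σ (ψ x) • (f + (z : V))
      map_add' := by
        intro x y
        have : (⟨x + y - ψ (x + y) • f, hPmem (x + y)⟩ : LinearMap.ker ψ) =
            ⟨x - ψ x • f, hPmem x⟩ + ⟨y - ψ y • f, hPmem y⟩ := by
          apply Subtype.ext
          simp only [map_add, add_smul, Submodule.coe_add]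
          abel
        rw [this, map_add, map_add, map_add, add_smul, Submodule.coe_add]
        abel
      map_smul' := by
        intro c x
        have : (⟨c • x - ψ (c • x) • f, hPmem (c • x)⟩ : LinearMap.ker ψ) =
            c • ⟨x - ψ x • f, hPmem x⟩ := by
          apply Subtype.ext
          simp only [LinearMap.map_smul_of_tower, smul_assoc, Submodule.coe_smul_of_tower, smul_sub]
        rw [this, map_smul, LinearMap.map_smul_of_tower, map_smul, smul_assoc,
          Submodule.coe_smul_of_tower, RingHom.id_apply]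
        simp only [smul_add] }
  have hG : ∀ x, G x = ((g' ⟨x - ψ x • f, hPmem x⟩ : LinearMap.ker ψ) : V) + σ (ψ x) • (f + (z : V)) :=
    fun x => rfl
  -- (A) ψ ∘ G = σ ∘ ψ
  have hA : ∀ x, ψ (G x) = σ (ψ x) := by
    intro x
    rw [hG, map_add, map_smul, map_add, hψf, hψz, LinearMap.mem_ker.mp (Subtype.mem _)]
    simp
  -- (B) G = g' on the hyperplane
  have hB : ∀ y : LinearMap.ker ψ, G (y : V) = ((g' y : LinearMap.ker ψ) : V) := by
    intro y
    have hy : ψ (y : V) = 0 := LinearMap.mem_ker.mp y.2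
    have : (⟨(y : V) - ψ (y : V) • f, hPmem y⟩ : LinearMap.ker ψ) = y := by
      apply Subtype.ext
      simp [hy]
    rw [hG, this, hy]
    simp
  have hinj : Function.Injective G := by
    rw [← LinearMap.ker_eq_bot, LinearMap.ker_eq_bot']
    intro x hx
    have h1 : ψ x = 0 := by
      have := hA x
      rw [hx, map_zero] at this
      exact (map_eq_zero_iff σ σ.injective).mp this.symm
    have h2 := hB ⟨x, LinearMap.mem_ker.mpr h1⟩
    rw [hx] at h2
    have h3 : g' ⟨x, LinearMap.mem_ker.mpr h1⟩ = 0 := by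
      apply Subtype.ext
      exact h2.symm
    have h4 := (map_eq_zero_iff g' g'.injective).mp h3
    exact congrArg Subtype.val h4
  let g : V ≃ₗ[F] V := LinearEquiv.ofBijective G (Finite.injective_iff_bijective.mp hinj)
  have hgG : ∀ x, g x = G x := fun x => rfl
  have hgG' : (g : V →ₗ[F] V) = G := LinearMap.ext hgG
  refine ⟨g, ?_, ?_, ⟨N' + p, ?_⟩, ?_⟩
  · intro k x
    show g (k • x) = σ k • g x
    rw [hgG, hgG, hG, hG]
    have : (⟨k • x - ψ (k • x) • f, hPmem (k • x)⟩ : LinearMap.ker ψ) =
        k • ⟨x - ψ x • f, hPmem x⟩ := by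
      apply Subtype.ext
      simp only [map_smul, smul_eq_mul, mul_smul, Submodule.coe_smul, smul_sub]
    rw [this]
    have h2 := hsemi' k ⟨x - ψ x • f, hPmem x⟩
    simp only [LinearEquiv.coe_coe] at h2
    rw [h2, map_smul, smul_eq_mul, map_mul, mul_smul, Submodule.coe_smul, smul_add (σ k)]
  · intro i
    have := hB ⟨e i, hψe i⟩
    rw [hgG]
    simp only at this
    rw [this, hfix' i]
  · rw [hgG']
    -- Claim 1
    have c1 : ∀ (j : ℕ) (x : V), ψ (((G - 1) ^ j) x) =
        ((((σ.toLinearMap : K →ₗ[F] K) - 1) ^ j)) (ψ x) := by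
      intro j
      induction j with
      | zero => intro x; simp
      | succ j ih =>
        intro x
        rw [pow_succ, Module.End.mul_apply, ih, pow_succ, Module.End.mul_apply]
        congr 1
        simp [hA]
    -- Claim 2
    have c2 : ∀ (j : ℕ) (y : LinearMap.ker ψ), ((G - 1) ^ j) (y : V) =
        (((((g' : (LinearMap.ker ψ) →ₗ[F] (LinearMap.ker ψ)) - 1) ^ j) y : LinearMap.ker ψ) : V) := by
      intro j
      induction j with
      | zero => intro y; simp
      | succ j ih =>
        intro y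
        rw [pow_succ, Module.End.mul_apply, pow_succ, Module.End.mul_apply]
        have : (G - 1) (y : V) =
            ((((g' : (LinearMap.ker ψ) →ₗ[F] (LinearMap.ker ψ)) - 1) y : LinearMap.ker ψ) : V) := by
          simp [hB]
        rw [this, ih]
    apply LinearMap.ext
    intro x
    rw [pow_add, Module.End.mul_apply]
    have hmem : ((G - 1) ^ p) x ∈ LinearMap.ker ψ := by
      rw [LinearMap.mem_ker, c1, hσ.nil]
      simp
    have := c2 N' ⟨_, hmem⟩
    simp only at this
    rw [this, hN']
    simp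
  · intro x hx
    rw [hgG] at hx
    have h1 : σ (ψ x) = ψ x := by
      rw [← hA, hx]
    obtain ⟨a, ha⟩ := hσ.fix _ h1
    set y : LinearMap.ker ψ := ⟨x - ψ x • f, hPmem x⟩ with hy
    have h2 : ((g' y : LinearMap.ker ψ) : V) + ψ x • (z : V) = (y : V) := by
      have h3 := hG x
      rw [hx, h1, smul_add] at h3
      have : (y : V) = x - ψ x • f := rfl
      rw [this]
      rw [← hy] at h3
      have h4 : x - ψ x • f = ((g' y : LinearMap.ker ψ) : V) + ψ x • (z : V) := by
        rw [sub_eq_iff_eq_add]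
        calc x = ((g' y : LinearMap.ker ψ) : V) + (ψ x • f + ψ x • (z : V)) := h3
          _ = _ := by abel
      exact h4.symm
    have ha0 : a = 0 := by
      by_contra hane
      apply hz
      refine LinearMap.mem_range.mpr ⟨-(a⁻¹ • y), ?_⟩
      have h5 : g' y + a • z = y := by
        apply Subtype.ext
        rw [Submodule.coe_add, Submodule.coe_smul_of_tower, ← algebraMap_smul K a (z : V), ha]
        exact h2
      have h6 : g' y - y = -(a • z) := by
        have h7 : g' y - (g' y + a • z) = -(a • z) := by abel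
        rw [h5] at h7
        exact h7
      simp only [LinearMap.sub_apply, LinearEquiv.coe_coe, Module.End.one_apply, map_neg, map_smul]
      rw [h6, smul_neg, neg_neg, smul_smul, inv_mul_cancel₀ hane, one_smul]
    have hψx : ψ x = 0 := by rw [← ha, ha0, map_zero]
    have hyx : (y : V) = x := by
      show x - ψ x • f = x
      rw [hψx, zero_smul, sub_zero]
    have h7 : g' y = y := by
      apply Subtype.ext
      rw [hψx, zero_smul, add_zero] at h2
      exact h2
    have h8 := hfixsp' y h7
    have h9 : (y : V) ∈ Submodule.map ((LinearMap.ker ψ).subtype.restrictScalars F)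
        (Submodule.span F (Set.range (fun i => (⟨e i, hψe i⟩ : LinearMap.ker ψ)))) :=
      Submodule.mem_map.mpr ⟨y, h8, rfl⟩
    rw [Submodule.map_span, ← Set.range_comp] at h9
    rw [← hyx]
    exact h9

end step

section aux

variable {F : Type u} {K : Type v} [Field F] [Field K] [Algebra F K]

/-- induction on the `K`-codimension of the span of `e`. -/
theorem aux (p : ℕ) (σ : K ≃ₐ[F] K) (hσ : Good p σ) :
    ∀ (k : ℕ) (V : Type w) [AddCommGroup V] [Module F V] [Module K V] [IsScalarTower F K V]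
      [Finite V] (d : ℕ) (_ : 1 ≤ d) (e : Fin d → V) (_ : LinearIndependent K e)
      (_ : Module.finrank K V = d + k),
      ∃ g : V ≃ₗ[F] V, IsSemi σ (g : V →ₗ[F] V) ∧ (∀ i, g (e i) = e i) ∧
        (∃ N : ℕ, ((g : V →ₗ[F] V) - 1) ^ N = 0) ∧
        ∀ x, g x = x → x ∈ Submodule.span F (Set.range e) := by
  intro k
  induction k with
  | zero =>
    intro V _ _ _ _ _ d hd e he hk
    exact base p σ hσ d hd e he (by simpa using hk)
  | succ k ih =>
    intro V _ _ _ _ _ d hd e he hk
    have hfin : FiniteDimensional K V := Module.Finite.of_finite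
    have hlt : Submodule.span K (Set.range e) < ⊤ := by
      rw [lt_top_iff_ne_top]
      intro htop
      have h1 := finrank_span_eq_card he
      rw [htop, finrank_top, hk] at h1
      simp at h1
    obtain ⟨ψ, hψ0, hψle⟩ := Submodule.exists_le_ker_of_lt_top _ hlt
    obtain ⟨f0, hf0⟩ : ∃ f0, ψ f0 ≠ 0 := by
      by_contra hcon
      push Not at hcon
      exact hψ0 (LinearMap.ext hcon)
    have hψf : ψ ((ψ f0)⁻¹ • f0) = 1 := by
      rw [map_smul, smul_eq_mul, inv_mul_cancel₀ hf0]
    have hψe : ∀ i, e i ∈ LinearMap.ker ψ := fun i => hψle (Submodule.subset_span ⟨i, rfl⟩)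
    have hrank : Module.finrank K (LinearMap.ker ψ) = d + k := by
      have h1 := LinearMap.finrank_range_add_finrank_ker ψ
      have h2 : Module.finrank K (LinearMap.range ψ) = 1 := by
        have h3 : LinearMap.range ψ = ⊤ := by
          rw [LinearMap.range_eq_top]
          intro c
          exact ⟨c • ((ψ f0)⁻¹ • f0), by rw [map_smul, hψf, smul_eq_mul, mul_one]⟩
        rw [h3, finrank_top, Module.finrank_self]
      omega
    have he' : LinearIndependent K (fun i => (⟨e i, hψe i⟩ : LinearMap.ker ψ)) := by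
      apply LinearIndependent.of_comp (LinearMap.ker ψ).subtype
      exact he
    exact step p σ hσ d hd e he ψ _ hψf hψe (ih (LinearMap.ker ψ) d hd _ he' hrank)

end aux

end SPECIAL

variable {F K V : Type*} [Field F] [Field K] [Algebra F K]
  [AddCommGroup V] [Module F V] [Module K V] [IsScalarTower F K V]

theorem SPECIAL [Finite F] [Finite K] [Finite V] (p : ℕ) [Fact p.Prime] [CharP F p]
    (hrp : Module.finrank F K = p) (d : ℕ) (hd : 1 ≤ d) (e : Fin d → V) (he : LinearIndependent K e) :
    ∃ g ∈ Nrm F K V ⊓ DetIn (⊥ : Subgroup Fˣ), (∀ i, g (e i) = e i) ∧ (∃ N : ℕ, g ^ (p ^ N) = 1) ∧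
      ∀ x, g x = x → x ∈ Submodule.span F (Set.range e) := by
  obtain ⟨σ, hσ⟩ := SPECIAL.exists_good (F := F) (K := K) p hrp
  have hfin : FiniteDimensional K V := Module.Finite.of_finite
  have hle : d ≤ Module.finrank K V := by
    simpa using he.fintype_card_le_finrank
  obtain ⟨g, hsemi, hfix, ⟨N, hN⟩, hfixsp⟩ :=
    SPECIAL.aux p σ hσ (Module.finrank K V - d) V d hd e he (by omega)
  have hp : p.Prime := Fact.out
  have hV : Nontrivial V := ⟨⟨e ⟨0, hd⟩, 0, he.ne_zero _⟩⟩
  have hchar : CharP (Module.End F V) p :=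
    charP_of_injective_algebraMap (algebraMap F (Module.End F V)).injective p
  -- `g ^ (p ^ N) = 1`
  have hNle : N ≤ p ^ N := (Nat.lt_pow_self hp.one_lt).le
  have hpow0 : ((g : V →ₗ[F] V) - 1) ^ (p ^ N) = 0 := by
    rw [← Nat.sub_add_cancel hNle, pow_add, hN, mul_zero]
  have hpow1 : (g : V →ₗ[F] V) ^ (p ^ N) = 1 := by
    have hc : Commute (g : Module.End F V) 1 := Commute.one_right _
    have := sub_pow_char_pow_of_commute p N hc
    rw [one_pow] at this
    rw [this] at hpow0
    exact sub_eq_zero.mp hpow0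
  have hgpow : g ^ (p ^ N) = 1 := by
    apply LinearEquiv.toLinearMap_injective
    have h1 : ∀ n : ℕ, ((g ^ n : V ≃ₗ[F] V) : V →ₗ[F] V) = (g : V →ₗ[F] V) ^ n := by
      intro n
      induction n with
      | zero => rfl
      | succ n ih =>
        rw [pow_succ, pow_succ, ← ih]
        rfl
    rw [h1, hpow1]
    rfl
  refine ⟨g, ⟨⟨σ, hsemi⟩, ?_⟩, hfix, ⟨N, hgpow⟩, hfixsp⟩
  -- determinant one
  show g ∈ (⊥ : Subgroup Fˣ).comap LinearEquiv.det
  rw [Subgroup.mem_comap, Subgroup.mem_bot]
  have h2 : (LinearEquiv.det g) ^ (p ^ N) = 1 := by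
    rw [← map_pow, hgpow, map_one]
  have h3 : ((LinearEquiv.det g : Fˣ) : F) ^ (p ^ N) = 1 := by
    have := congrArg (fun u : Fˣ => (u : F)) h2
    simpa using this
  have h4 : (((LinearEquiv.det g : Fˣ) : F) - 1) ^ (p ^ N) = 0 := by
    rw [sub_pow_char_pow, h3, one_pow, sub_self]
  have h5 : ((LinearEquiv.det g : Fˣ) : F) = 1 := by
    have := pow_eq_zero_iff (n := p ^ N) (pow_ne_zero N hp.ne_zero) |>.mp h4
    exact sub_eq_zero.mp this
  exact Units.ext h5

end Cfsg.Agent.S5886P
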