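import Mathlib
import Cfsg.Prelude.Def_ClassicalGeometry
import Cfsg.Agent.Helper23.S5961Defs
import Cfsg.Agent.Helper16.S5955Defs

/-! S5956 (driver helper1): shared definitions.

* `mult a` : `1` for `a` even, `2` for `a` odd: the number of Jordan blocks of size `a` in an
  indecomposable orthogonal summand of a unipotent symplectic isometry (odd characteristic).
* `blockMS a` : the multiset of Jordan block sizes of a family of summands with tags `a j`.
* `kdim μ i = ∑_{b ∈ μ} min i b` : the dimension of `ker (y - 1) ^ i` for Jordan type `μ`.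
* `HFr B s` : hyperbolic `s`-frames `(e_j, f_j)_{j < s}` of `(V, B)`; `frSpan g` their span.
-/

set_option autoImplicit false

namespace Cfsg.Agent.S5956P

open Cfsg.Agent.Helper2.SympInvol Cfsg.Agent.Helper2.SympUnits

/-- the number of Jordan blocks of size `a` in an indecomposable orthogonal summand -/
def mult (a : ℕ) : ℕ := if Even a then 1 else 2

theorem mult_even {a : ℕ} (h : Even a) : mult a = 1 := if_pos h

theorem mult_odd {a : ℕ} (h : Odd a) : mult a = 2 := if_neg (Nat.not_even_iff_odd.mpr h)

theorem mult_pos (a : ℕ) : 0 < mult a := by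
  unfold mult; split_ifs <;> norm_num

/-- the multiset of Jordan block sizes of a family of summands with tags `a j` -/
def blockMS {k : ℕ} (a : Fin k → ℕ) : Multiset ℕ :=
  ∑ j, Multiset.replicate (mult (a j)) (a j)

/-- `∑_{b ∈ μ} min i b` -/
def kdim (μ : Multiset ℕ) (i : ℕ) : ℕ := (μ.map (fun b => min i b)).sum

theorem kdim_add (μ ν : Multiset ℕ) (i : ℕ) : kdim (μ + ν) i = kdim μ i + kdim ν i := by
  unfold kdim; rw [Multiset.map_add, Multiset.sum_add]

theorem kdim_zero (i : ℕ) : kdim 0 i = 0 := rfl

theorem kdim_replicate (n a i : ℕ) : kdim (Multiset.replicate n a) i = n * min i a := by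
  unfold kdim; rw [Multiset.map_replicate, Multiset.sum_replicate, smul_eq_mul]

section Frames

variable {F V : Type*} [Field F] [AddCommGroup V] [Module F V]

/-- hyperbolic `s`-frames: `g j = (e_j, f_j)` with `B e_i e_j = 0 = B f_i f_j`, `B e_i f_j = δ_ij` -/
def HFr (B : LinearMap.BilinForm F V) (s : ℕ) : Type _ :=
  {g : Fin s → V × V // ∀ i j, B (g i).1 (g j).1 = 0 ∧ B (g i).2 (g j).2 = 0 ∧
    B (g i).1 (g j).2 = if i = j then 1 else 0}

variable (F) in
/-- the span of a family of pairs -/
def frSpan {s : ℕ} (g : Fin s → V × V) : Submodule F V :=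
  Submodule.span F (Set.range (fun i => (g i).1) ∪ Set.range (fun i => (g i).2))

end Frames

end Cfsg.Agent.S5956P
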