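import Mathlib
import Cfsg.Prelude.Def_ClassicalGeometry
import Cfsg.Agent.Helper1.S5956Defs
import Cfsg.Agent.Helper3.S5956STEPEVEN
import Cfsg.Agent.Helper26.S5956STEPODD

set_option autoImplicit false
open scoped MatrixGroups

/-! S5956 piece DSTEP: a nondegenerate (bi)cyclic block of a unipotent isometry. -/

namespace Cfsg.Agent.S5956P

open Polynomial Cfsg.Agent.Helper2.SympInvol Cfsg.Agent.Helper2.SympUnits Cfsg.Agent.S5961P
  Cfsg.Agent.S5955P Cfsg.Agent.Helper2.InvolComb

/-- DSTEP (uses STEPEVEN, STEPODD) -/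
theorem exists_unip_block {F V : Type*} [Field F] [AddCommGroup V] [Module F V]
    [FiniteDimensional F V] (h2 : (2 : F) ≠ 0) (B : LinearMap.BilinForm F V)
    (halt : ∀ v, B v v = 0) (hnd : Nondeg B ⊤) (y : Module.End F V)
    (hy : ∀ u v, B (y u) (y v) = B u v) (hunip : ∃ e : ℕ, (y - 1) ^ e = 0)
    (hV : 0 < Module.finrank F V) :
    ∃ (E : Submodule F V) (a : ℕ), 0 < a ∧ E.map y ≤ E ∧ Nondeg B E ∧
      ∀ i : ℕ, Module.finrank F ↥(E ⊓ LinearMap.ker ((y - 1) ^ i)) = mult a * min i a := by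
  classical
  have : Nontrivial V := Module.finrank_pos_iff.mp hV
  have h10 : (1 : Module.End F V) ≠ 0 := by
    intro h
    obtain ⟨v, hv⟩ := exists_ne (0 : V)
    apply hv
    have := congrArg (fun f : Module.End F V => f v) h
    simpa using this
  set e := Nat.find hunip with he
  have hnil : (y - 1) ^ e = 0 := Nat.find_spec hunip
  have he0 : 0 < e := by
    rcases Nat.eq_zero_or_pos e with h0 | h0
    · rw [h0, pow_zero] at hnil
      exact absurd hnil h10
    · exact h0
  have hne : (y - 1) ^ (e - 1) ≠ 0 := by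
    intro h
    have := Nat.find_min' hunip h
    omega
  rcases Nat.even_or_odd e with hev | hodd
  · obtain ⟨E, h1, h2', h3⟩ := exists_cyclic_block h2 B halt hnd y hy e hev hnil hne
    refine ⟨E, e, he0, h1, h2', fun i => ?_⟩
    rw [h3 i, mult_even hev, one_mul]
  · obtain ⟨E, h1, h2', h3⟩ := exists_bicyclic_block h2 B halt hnd y hy e hodd hnil hne
    refine ⟨E, e, he0, h1, h2', fun i => ?_⟩
    rw [h3 i, mult_odd hodd]

end Cfsg.Agent.S5956P
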