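import Mathlib
import Cfsg.Prelude.Def_GeometricClasses
import Cfsg.Prelude.Def_ClassicalGeometry
import Cfsg.Agent.Helper23.S5961Defs
import Cfsg.Agent.Helper21.S5949Basic
import Cfsg.Agent.Helper12.SpPrimeD
import Cfsg.Agent.Helper3.S5949NTS

/-! S5961 piece EVENA (driver helper23): for `i = ord_r(q)` even, the characteristic polynomial
of `y` on an invariant `U` also kills a subspace `U'` paired with `U`. -/

set_option autoImplicit false
open scoped MatrixGroups

namespace Cfsg.Agent.S5961P

open Polynomial Cfsg.Agent.Helper2.SympInvol Cfsg.Agent.Helper2.SympUnits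

namespace EVENA

section Adj

variable {F V : Type*} [Field F] [AddCommGroup V] [Module F V]

theorem adj_one (B : LinearMap.BilinForm F V) (y y' : Module.End F V)
    (hyB : ∀ u v, B (y u) (y v) = B u v) (hyy' : y * y' = 1) (u v : V) :
    B (y u) v = B u (y' v) := by
  have h : y (y' v) = v := by
    rw [← Module.End.mul_apply, hyy', Module.End.one_apply]
  rw [← hyB u (y' v), h]

theorem adj_pow (B : LinearMap.BilinForm F V) (y y' : Module.End F V)
    (hyB : ∀ u v, B (y u) (y v) = B u v) (hyy' : y * y' = 1) (k : ℕ) (u v : V) :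
    B ((y ^ k) u) v = B u ((y' ^ k) v) := by
  induction k generalizing u v with
  | zero => simp
  | succ k ih =>
    rw [pow_succ', pow_succ, Module.End.mul_apply, Module.End.mul_apply,
      adj_one B y y' hyB hyy', ih]

theorem adj_aeval (B : LinearMap.BilinForm F V) (y y' : Module.End F V)
    (hyB : ∀ u v, B (y u) (y v) = B u v) (hyy' : y * y' = 1) (P : F[X]) (u v : V) :
    B (aeval y P u) v = B u (aeval y' P v) := by
  induction P using Polynomial.induction_on' with
  | add p q hp hq =>
    rw [map_add, map_add, LinearMap.add_apply, LinearMap.add_apply, map_add,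
      LinearMap.add_apply, map_add, hp, hq]
  | monomial k a =>
    rw [aeval_monomial, aeval_monomial, Module.End.mul_apply, Module.End.mul_apply,
      Module.algebraMap_end_apply, Module.algebraMap_end_apply, map_smul, map_smul,
      LinearMap.smul_apply, adj_pow B y y' hyB hyy']

end Adj

section Frob

variable {F : Type*} [Field F] [Fintype F] {A : Type*} [Semiring A] [Algebra F A]

theorem aeval_pow_card (a : A) (P : F[X]) :
    aeval (a ^ Fintype.card F) P = (aeval a P) ^ Fintype.card F := by
  rw [← expand_aeval, FiniteField.expand_card, map_pow]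

theorem aeval_pow_card_pow (a : A) (P : F[X]) (k : ℕ) :
    aeval (a ^ (Fintype.card F ^ k)) P = (aeval a P) ^ (Fintype.card F ^ k) := by
  induction k with
  | zero => simp
  | succ k ih =>
    rw [pow_succ, pow_mul, aeval_pow_card, ih, ← pow_mul]

end Frob

end EVENA

/-- EVENA: for `i` even the annihilating polynomial of `y` on `U` also kills the dual `U'` -/
theorem exists_poly_kills_pair {F V : Type*} [Field F] [Fintype F] [AddCommGroup V] [Module F V]
    [FiniteDimensional F V] {p : ℕ} [Fact p.Prime] [CharP F p] (r : ℕ) [Fact r.Prime]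
    (hr2 : r ≠ 2) (hrp : r ≠ p) (B : LinearMap.BilinForm F V)
    (y : Module.End F V) (hyB : ∀ u v, B (y u) (y v) = B u v) (hy : y ^ r = 1)
    (hev : Even (orderOf ((Fintype.card F : ℕ) : ZMod r)))
    (U U' : Submodule F V) (hU : U.map y ≤ U) (hU' : U'.map y ≤ U')
    (hpair : ∀ u' ∈ U', (∀ u ∈ U, B u u' = 0) → u' = 0) :
    ∃ g : F[X], g.Monic ∧ g.natDegree = Module.finrank F U ∧
      ∀ v ∈ U ⊔ U', aeval y g v = 0 := by
  have hr : r.Prime := Fact.out
  have hUm : ∀ v ∈ U, y v ∈ U := fun v hv => hU ⟨v, hv, rfl⟩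
  have hU'm : ∀ v ∈ U', y v ∈ U' := fun v hv => hU' ⟨v, hv, rfl⟩
  set g : F[X] := (y.restrict hUm).charpoly with hg
  have hgU : ∀ u ∈ U, aeval y g u = 0 := by
    intro u hu
    have h1 := S5949P.Basic.aeval_restrict_apply y U hUm g ⟨u, hu⟩
    rw [← h1, hg, LinearMap.aeval_self_charpoly]
    rfl
  -- the inverse
  set y' : Module.End F V := y ^ (r - 1) with hy'
  have hyy' : y * y' = 1 := by
    rw [hy', ← pow_succ', Nat.sub_add_cancel hr.one_lt.le, hy]
  have hy'y : y' * y = 1 := by
    rw [hy', ← pow_succ, Nat.sub_add_cancel hr.one_lt.le, hy]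
  have hy'r : y' ^ r = 1 := by
    rw [hy', ← pow_mul, mul_comm, pow_mul, hy, one_pow]
  have hpos := S5949P.orderOf_card_pos (F := F) (p := p) r hrp
  obtain ⟨c, hc⟩ := Helper12.SpPrime.dvd_pow_half_add_one (Fintype.card F) r hr hev hpos
  set k := orderOf ((Fintype.card F : ℕ) : ZMod r) / 2 with hk
  have hQ : y' ^ (Fintype.card F ^ k) = y := by
    have h1 : y' ^ (Fintype.card F ^ k) * y' = 1 := by
      rw [← pow_succ, hc, pow_mul, hy'r, one_pow]
    calc y' ^ (Fintype.card F ^ k) = y' ^ (Fintype.card F ^ k) * (y' * y) := by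
          rw [hy'y, mul_one]
      _ = y := by rw [← mul_assoc, h1, one_mul]
  have hU'm' : U'.map y' ≤ U' := by
    rintro _ ⟨v, hv, rfl⟩
    rw [hy']
    have : ∀ j : ℕ, ∀ v ∈ U', (y ^ j) v ∈ U' := by
      intro j
      induction j with
      | zero => intro v hv; simpa using hv
      | succ j ih =>
        intro v hv
        rw [pow_succ', Module.End.mul_apply]
        exact hU'm _ (ih v hv)
    exact this _ v hv
  have hgU' : ∀ u' ∈ U', aeval y' g u' = 0 := by
    intro u' hu'
    apply hpair _ (S5949P.Basic.aeval_mem_of_invariant y' U' hU'm' g u' hu')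
    intro u hu
    rw [← EVENA.adj_aeval B y y' hyB hyy', hgU u hu, map_zero, LinearMap.zero_apply]
  have hQpos : 0 < Fintype.card F ^ k := pow_pos Fintype.card_pos k
  have hgU'2 : ∀ u' ∈ U', aeval y g u' = 0 := by
    intro u' hu'
    rw [← hQ, EVENA.aeval_pow_card_pow]
    obtain ⟨m, hm⟩ := Nat.exists_eq_succ_of_ne_zero hQpos.ne'
    rw [hm, pow_succ, Module.End.mul_apply, hgU' u' hu', map_zero]
  refine ⟨g, LinearMap.charpoly_monic _, ?_, ?_⟩
  · rw [hg, LinearMap.charpoly_natDegree]
  · intro v hv
    obtain ⟨u, hu, u', hu', rfl⟩ := Submodule.mem_sup.mp hv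
    rw [map_add, hgU u hu, hgU'2 u' hu', add_zero]

end Cfsg.Agent.S5961P
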