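import Mathlib
import Cfsg.Prelude.Def_GeometricClasses
import Cfsg.Prelude.Def_ClassicalGeometry
import Cfsg.Agent.Helper23.S5961Defs
import Cfsg.Agent.Helper21.S5949Basic
import Cfsg.Agent.Helper1.S5961EVENA

/-! S5961 piece EVENB (driver helper23): a nondegenerate cyclic submodule inside a hyperbolic
pair of isomorphic modules. -/

set_option autoImplicit false
open scoped MatrixGroups

namespace Cfsg.Agent.S5961P

open Polynomial Cfsg.Agent.Helper2.SympInvol Cfsg.Agent.Helper2.SympUnits

namespace EVENB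

variable {F V : Type*} [Field F] [AddCommGroup V] [Module F V]

theorem skew (B : LinearMap.BilinForm F V) (halt : ∀ v, B v v = 0) (a b : V) :
    B a b = - B b a := by
  have h := halt (a + b)
  simp only [map_add, LinearMap.add_apply, halt a, halt b] at h
  linear_combination h

theorem pow_mem (y : Module.End F V) (W : Submodule F V) (hW : W.map y ≤ W) (k : ℕ) (v : V)
    (hv : v ∈ W) : (y ^ k) v ∈ W := by
  have := S5949P.Basic.aeval_mem_of_invariant y W hW (X ^ k) v hv
  rwa [map_pow, aeval_X] at this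

/-- the evaluation map `P ↦ P(y) v` -/
noncomputable def ev (y : Module.End F V) (v : V) : F[X] →ₗ[F] V :=
  (LinearMap.applyₗ v).comp (aeval y).toLinearMap

theorem ev_apply (y : Module.End F V) (v : V) (P : F[X]) : ev y v P = aeval y P v := rfl

theorem ev_range_invariant (y : Module.End F V) (v : V) :
    (LinearMap.range (ev y v)).map y ≤ LinearMap.range (ev y v) := by
  rintro _ ⟨_, ⟨P, rfl⟩, rfl⟩
  refine ⟨X * P, ?_⟩
  rw [ev_apply, ev_apply, map_mul, aeval_X, Module.End.mul_apply]

theorem ev_range_finrank_le [FiniteDimensional F V] (y : Module.End F V) (v : V) (g : F[X])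
    (hg : g.Monic) (hgv : aeval y g v = 0) :
    Module.finrank F (LinearMap.range (ev y v)) ≤ g.natDegree := by
  have h1 : LinearMap.range (ev y v) ≤ (Polynomial.degreeLT F g.natDegree).map (ev y v) := by
    rintro _ ⟨P, rfl⟩
    refine ⟨P %ₘ g, ?_, ?_⟩
    · rw [SetLike.mem_coe, Polynomial.mem_degreeLT]
      calc (P %ₘ g).degree < g.degree := Polynomial.degree_modByMonic_lt P hg
        _ = g.natDegree := Polynomial.degree_eq_natDegree hg.ne_zero
    · have := Polynomial.modByMonic_add_div P g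
      conv_rhs => rw [← this]
      rw [map_add, ev_apply, ev_apply, mul_comm, map_mul, Module.End.mul_apply, hgv,
        map_zero, add_zero]
  calc Module.finrank F (LinearMap.range (ev y v))
      ≤ Module.finrank F ((Polynomial.degreeLT F g.natDegree).map (ev y v)) :=
        Submodule.finrank_mono h1
    _ ≤ Module.finrank F (Polynomial.degreeLT F g.natDegree) := by
        have : Module.Finite F (Polynomial.degreeLT F g.natDegree) :=
          Module.Finite.equiv (Polynomial.degreeLTEquiv F g.natDegree).symm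
        exact Submodule.finrank_map_le _ _
    _ = g.natDegree := by
        rw [LinearEquiv.finrank_eq (Polynomial.degreeLTEquiv F g.natDegree),
          Module.finrank_fin_fun]

theorem exists_ne (r : ℕ) [Fact r.Prime] (hr2 : r ≠ 2)
    (B : LinearMap.BilinForm F V) (halt : ∀ v, B v v = 0)
    (y : Module.End F V) (hyB : ∀ u v, B (y u) (y v) = B u v) (hy : y ^ r = 1)
    (hfix : LinearMap.ker (y - 1) = ⊥)
    (U U' : Submodule F V) (hU : U.map y ≤ U) (hU' : U'.map y ≤ U')
    (hUU : Orth B U U) (hUU' : Orth B U' U') (hU'0 : U' ≠ ⊥)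
    (hpair : ∀ u' ∈ U', (∀ u ∈ U, B u u' = 0) → u' = 0) :
    ∃ v ∈ U ⊔ U', B v (y v) ≠ 0 := by
  have hr : r.Prime := Fact.out
  have hUm : ∀ v ∈ U, y v ∈ U := fun v hv => hU ⟨v, hv, rfl⟩
  have hU'm : ∀ v ∈ U', y v ∈ U' := fun v hv => hU' ⟨v, hv, rfl⟩
  have hyy' : y * y ^ (r - 1) = 1 := by
    rw [← pow_succ', Nat.sub_add_cancel hr.one_lt.le, hy]
  by_contra hcon
  push Not at hcon
  apply hU'0
  rw [eq_bot_iff]
  intro u' hu'
  have key : ∀ w ∈ U', y (y w) = w := by
    intro w hw
    have h1 : y w - (y ^ (r - 1)) w = 0 := by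
      apply hpair _ (U'.sub_mem (hU'm w hw) (pow_mem y U' hU' (r - 1) w hw))
      intro u hu
      have h2 := hcon (u + w) (Submodule.add_mem_sup hu hw)
      simp only [map_add, LinearMap.add_apply,
        hUU u hu (y u) (hUm u hu), hUU' w hw (y w) (hU'm w hw)] at h2
      rw [map_sub, ← EVENA.adj_one B y (y ^ (r - 1)) hyB hyy', skew B halt (y u) w]
      linear_combination h2
    have h3 : y w = (y ^ (r - 1)) w := sub_eq_zero.mp h1
    rw [h3, ← Module.End.mul_apply, hyy', Module.End.one_apply]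
  have hk : ∀ k : ℕ, (y ^ (2 * k)) u' = u' := by
    intro k
    induction k with
    | zero => simp
    | succ k ih =>
      rw [show 2 * (k + 1) = 2 * k + 1 + 1 by ring, pow_succ, pow_succ, mul_assoc,
        Module.End.mul_apply, Module.End.mul_apply, key u' hu', ih]
  obtain ⟨m, hm⟩ := hr.eq_two_or_odd'.resolve_left hr2
  have h4 : y u' = u' := by
    have h5 : (y ^ (r + 1)) u' = y u' := by
      rw [pow_succ, hy, one_mul]
    rw [← h5, show r + 1 = 2 * (m + 1) by omega]
    exact hk (m + 1)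
  have h6 : u' ∈ LinearMap.ker (y - 1) := by
    rw [LinearMap.mem_ker, LinearMap.sub_apply, h4, Module.End.one_apply, sub_self]
  rwa [hfix] at h6

end EVENB

/-- EVENB: a nondegenerate cyclic submodule inside a hyperbolic pair of isomorphic modules -/
theorem exists_nondeg_cyclic {F V : Type*} [Field F] [AddCommGroup V] [Module F V]
    [FiniteDimensional F V] (r : ℕ) [Fact r.Prime] (hr2 : r ≠ 2)
    (B : LinearMap.BilinForm F V) (halt : ∀ v, B v v = 0)
    (y : Module.End F V) (hyB : ∀ u v, B (y u) (y v) = B u v) (hy : y ^ r = 1)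
    (hfix : LinearMap.ker (y - 1) = ⊥) (i : ℕ) (hi : 0 < i)
    (hdiv : ∀ W : Submodule F V, W.map y ≤ W → i ∣ Module.finrank F W)
    (U U' : Submodule F V) (hU : U.map y ≤ U) (hU' : U'.map y ≤ U')
    (hUU : Orth B U U) (hUU' : Orth B U' U') (hU'0 : U' ≠ ⊥)
    (hpair : ∀ u' ∈ U', (∀ u ∈ U, B u u' = 0) → u' = 0)
    (g : F[X]) (hg : g.Monic) (hgd : g.natDegree = i) (hgk : ∀ v ∈ U ⊔ U', aeval y g v = 0) :
    ∃ Y : Submodule F V, Y ≤ U ⊔ U' ∧ Y.map y ≤ Y ∧ Nondeg B Y ∧ Module.finrank F Y = i := by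
  have hr : r.Prime := Fact.out
  have hyy' : y * y ^ (r - 1) = 1 := by
    rw [← pow_succ', Nat.sub_add_cancel hr.one_lt.le, hy]
  have hy'y : y ^ (r - 1) * y = 1 := by
    rw [← pow_succ, Nat.sub_add_cancel hr.one_lt.le, hy]
  obtain ⟨v, hv, hBv⟩ := EVENB.exists_ne r hr2 B halt y hyB hy hfix U U' hU hU' hUU hUU' hU'0 hpair
  have hsup : (U ⊔ U').map y ≤ U ⊔ U' := by
    rw [Submodule.map_sup]
    exact sup_le_sup hU hU'
  set Y : Submodule F V := LinearMap.range (EVENB.ev y v) with hY
  have hYinv : Y.map y ≤ Y := EVENB.ev_range_invariant y v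
  have hvY : v ∈ Y := ⟨1, by rw [EVENB.ev_apply, map_one, Module.End.one_apply]⟩
  have hv0 : v ≠ 0 := by
    rintro rfl
    apply hBv
    rw [map_zero, LinearMap.zero_apply]
  have hYle : Y ≤ U ⊔ U' := by
    rintro _ ⟨P, rfl⟩
    exact S5949P.Basic.aeval_mem_of_invariant y _ hsup P v hv
  have hle : Module.finrank F Y ≤ i := by
    rw [← hgd]
    exact EVENB.ev_range_finrank_le y v g hg (hgk v hv)
  have hpos : 0 < Module.finrank F Y := by
    rw [Module.finrank_pos_iff]
    exact (Submodule.nontrivial_iff_ne_bot).mpr (fun h => hv0 (by rw [h] at hvY; simpa using hvY))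
  have hfin : Module.finrank F Y = i :=
    le_antisymm hle (Nat.le_of_dvd hpos (hdiv Y hYinv))
  refine ⟨Y, hYle, hYinv, ?_, hfin⟩
  -- the radical
  set R : Submodule F V := Y ⊓ B.orthogonal Y with hR
  have hRinv : R.map y ≤ R := by
    rintro _ ⟨m, hm, rfl⟩
    refine ⟨hYinv ⟨m, hm.1, rfl⟩, ?_⟩
    rw [SetLike.mem_coe, LinearMap.BilinForm.mem_orthogonal_iff]
    intro n hn
    have h1 : n = y ((y ^ (r - 1)) n) := by
      rw [← Module.End.mul_apply, hyy', Module.End.one_apply]
    rw [h1, hyB]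
    have h2 := (LinearMap.BilinForm.mem_orthogonal_iff.mp hm.2) _
      (EVENB.pow_mem y Y hYinv (r - 1) n hn)
    exact h2
  have hRY : R ≤ Y := inf_le_left
  have hRne : R ≠ Y := by
    intro h
    have hvR : v ∈ R := by rw [h]; exact hvY
    have := (LinearMap.BilinForm.mem_orthogonal_iff.mp hvR.2) (y v) (hYinv ⟨v, hvY, rfl⟩)
    apply hBv
    rw [EVENB.skew B halt, this, neg_zero]
  have hRlt : Module.finrank F R < Module.finrank F Y :=
    Submodule.finrank_lt_finrank_of_lt (lt_of_le_of_ne hRY hRne)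
  have hR0 : Module.finrank F R = 0 := by
    obtain ⟨c, hc⟩ := hdiv R hRinv
    rw [hfin, hc] at hRlt
    have : c = 0 := by
      by_contra hc0
      have : i * 1 ≤ i * c := Nat.mul_le_mul_left i (Nat.one_le_iff_ne_zero.mpr hc0)
      omega
    rw [hc, this, mul_zero]
  have hRbot : R = ⊥ := Submodule.finrank_eq_zero.mp hR0
  intro m hm hm0
  by_contra hcon
  push Not at hcon
  apply hm0
  have : m ∈ R := by
    refine ⟨hm, ?_⟩
    rw [SetLike.mem_coe, LinearMap.BilinForm.mem_orthogonal_iff]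
    intro n hn
    rw [EVENB.skew B halt, hcon n hn, neg_zero]
  rw [hRbot] at this
  simpa using this

end Cfsg.Agent.S5961P
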