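import Mathlib
import Cfsg.Prelude.Def_ClassicalGeometry
import Cfsg.Agent.Helper1.S5956Defs
import Cfsg.Agent.Helper23.S5961RESTR
import Cfsg.Agent.Helper24.S5956KERSUM
import Cfsg.Agent.Helper15.S5956RESTRKER
import Cfsg.Agent.Helper8.S5956DECOMP

set_option autoImplicit false
open scoped MatrixGroups

/-! S5956 pieces JTYPE, JTYPESUB: the Jordan type of a unipotent isometry. -/

namespace Cfsg.Agent.S5956P

open Polynomial Cfsg.Agent.Helper2.SympInvol Cfsg.Agent.Helper2.SympUnits Cfsg.Agent.S5961P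
  Cfsg.Agent.S5955P Cfsg.Agent.Helper2.InvolComb

namespace JTYPE

theorem mem_blockMS {k : ℕ} (a : Fin k → ℕ) (b : ℕ) : b ∈ blockMS a ↔ ∃ j, a j = b := by
  unfold blockMS
  rw [Multiset.mem_sum]
  constructor
  · rintro ⟨j, -, hj⟩
    exact ⟨j, (Multiset.eq_of_mem_replicate hj).symm⟩
  · rintro ⟨j, rfl⟩
    refine ⟨j, Finset.mem_univ _, ?_⟩
    rw [Multiset.mem_replicate]
    exact ⟨(mult_pos _).ne', rfl⟩

theorem count_blockMS {k : ℕ} (a : Fin k → ℕ) (b : ℕ) :
    (blockMS a).count b = ∑ j, if a j = b then mult b else 0 := by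
  unfold blockMS
  rw [Multiset.count_sum']
  refine Finset.sum_congr rfl fun j _ => ?_
  rw [Multiset.count_replicate]
  by_cases h : a j = b
  · rw [if_pos h, if_pos h, h]
  · rw [if_neg h, if_neg h]

theorem even_count_blockMS {k : ℕ} (a : Fin k → ℕ) (b : ℕ) (hb : Odd b) :
    Even ((blockMS a).count b) := by
  rw [count_blockMS]
  refine Finset.even_sum _ fun j _ => ?_
  split_ifs
  · rw [mult_odd hb]; exact even_two
  · exact Even.zero

theorem kdim_blockMS {k : ℕ} (a : Fin k → ℕ) (i : ℕ) :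
    kdim (blockMS a) i = ∑ j, mult (a j) * min i (a j) := by
  unfold blockMS
  have h : ∀ s : Finset (Fin k), kdim (∑ j ∈ s, Multiset.replicate (mult (a j)) (a j)) i =
      ∑ j ∈ s, mult (a j) * min i (a j) := by
    intro s
    induction s using Finset.induction_on with
    | empty => simp [kdim_zero]
    | insert j s hj ih =>
      rw [Finset.sum_insert hj, Finset.sum_insert hj, kdim_add, ih, kdim_replicate]
  exact h Finset.univ

/-- a subspace invariant under `y` is invariant under `(y - 1) ^ i` -/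
theorem map_sub_one_pow_le {F V : Type*} [Field F] [AddCommGroup V] [Module F V]
    (y : Module.End F V) (W : Submodule F V) (hW : W.map y ≤ W) (i : ℕ) :
    W.map ((y - 1) ^ i) ≤ W := by
  have h1 : ∀ v ∈ W, (y - 1) v ∈ W := by
    intro v hv
    rw [LinearMap.sub_apply]
    exact W.sub_mem (hW ⟨v, hv, rfl⟩) hv
  induction i with
  | zero =>
    rintro _ ⟨v, hv, rfl⟩
    simpa using hv
  | succ i ih =>
    rintro _ ⟨v, hv, rfl⟩
    rw [pow_succ, Module.End.mul_apply]
    exact ih ⟨_, h1 v hv, rfl⟩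

end JTYPE

/-- JTYPE (uses DECOMP, KERSUM): the Jordan type of a unipotent isometry -/
theorem exists_jtype {F V : Type*} [Field F] [AddCommGroup V] [Module F V]
    [FiniteDimensional F V] (h2 : (2 : F) ≠ 0) (B : LinearMap.BilinForm F V)
    (halt : ∀ v, B v v = 0) (hnd : Nondeg B ⊤) (y : Module.End F V)
    (hy : ∀ u v, B (y u) (y v) = B u v) (hunip : ∃ e : ℕ, (y - 1) ^ e = 0) :
    ∃ ν : Multiset ℕ, (∀ b ∈ ν, 0 < b) ∧ (∀ b : ℕ, Odd b → Even (ν.count b)) ∧
      ∀ i : ℕ, Module.finrank F (LinearMap.ker ((y - 1) ^ i)) = kdim ν i := by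
  obtain ⟨k, E, a, ha0, hinv, hndE, horth, hind, hsup, hker⟩ :=
    exists_unip_decomp h2 B halt hnd y hy hunip
  refine ⟨blockMS a, ?_, JTYPE.even_count_blockMS a, ?_⟩
  · intro b hb
    obtain ⟨j, rfl⟩ := (JTYPE.mem_blockMS a b).mp hb
    exact ha0 j
  · intro i
    rw [finrank_ker_eq_sum E hind hsup ((y - 1) ^ i)
      (fun j => JTYPE.map_sub_one_pow_le y (E j) (hinv j) i), JTYPE.kdim_blockMS]
    exact Finset.sum_congr rfl fun j _ => hker j i

/-- JTYPESUB (uses JTYPE, RESTRKER, S5961 `restr_transport`) -/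
theorem exists_jtype_sub {F V : Type*} [Field F] [AddCommGroup V] [Module F V]
    [FiniteDimensional F V] (h2 : (2 : F) ≠ 0) (B : LinearMap.BilinForm F V)
    (halt : ∀ v, B v v = 0) (y : Module.End F V)
    (hy : ∀ u v, B (y u) (y v) = B u v) (hunip : ∃ e : ℕ, (y - 1) ^ e = 0)
    (W : Submodule F V) (hW : W.map y ≤ W) (hWnd : Nondeg B W) :
    ∃ ν : Multiset ℕ, (∀ b ∈ ν, 0 < b) ∧ (∀ b : ℕ, Odd b → Even (ν.count b)) ∧
      ∀ i : ℕ, Module.finrank F ↥(W ⊓ LinearMap.ker ((y - 1) ^ i)) = kdim ν i := by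
  have hW' : ∀ v ∈ W, y v ∈ W := fun v hv => hW ⟨v, hv, rfl⟩
  obtain ⟨-, halt', hisom', hnd', -, -, -, -⟩ := restr_transport B y W hW'
  obtain ⟨e, he⟩ := hunip
  have hunip' : ∃ e : ℕ, (y.restrict hW' - 1) ^ e = 0 := by
    refine ⟨e, ?_⟩
    have h1 := finrank_ker_restrict_pow y W hW' e
    rw [he, LinearMap.ker_zero, inf_top_eq] at h1
    have h3 : LinearMap.ker ((y.restrict hW' - 1) ^ e) = ⊤ :=
      Submodule.eq_top_of_finrank_eq (by rw [h1])
    exact LinearMap.ker_eq_top.mp h3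
  obtain ⟨ν, hν0, hνpar, hνk⟩ := exists_jtype h2 (B.restrict W) (halt' halt) (hnd'.mpr hWnd)
    (y.restrict hW') (hisom' hy) hunip'
  refine ⟨ν, hν0, hνpar, fun i => ?_⟩
  rw [← hνk i, finrank_ker_restrict_pow y W hW' i]

end Cfsg.Agent.S5956P
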