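import Mathlib
import Cfsg.Prelude.Def_ClassicalGeometry
import Cfsg.Agent.Helper1.S5956Defs
import Cfsg.Agent.Helper10.S5961ORTHC
import Cfsg.Agent.Helper15.S5956MODELIND
import Cfsg.Agent.Helper15.S5956TRANSPORTK
import Cfsg.Agent.Helper15.S5956UNIQ
import Cfsg.Agent.Helper1.S5956JTYPE

set_option autoImplicit false
open scoped MatrixGroups

/-! S5956 piece NECP: necessity of the partition condition for `r = p` odd. -/

namespace Cfsg.Agent.S5956P

open Polynomial Cfsg.Agent.Helper2.SympInvol Cfsg.Agent.Helper2.SympUnits Cfsg.Agent.S5961P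
  Cfsg.Agent.S5955P Cfsg.Agent.Helper2.InvolComb

namespace NECP

/-- `(y - 1) ^ p = y ^ p - 1` in characteristic `p` -/
theorem sub_one_pow_char {F V : Type*} [Field F] [AddCommGroup V] [Module F V] {p : ℕ}
    [Fact p.Prime] [CharP F p] (y : Module.End F V) : (y - 1) ^ p = y ^ p - 1 := by
  have h : ((X : F[X]) - 1) ^ p = X ^ p - 1 := by
    rw [sub_pow_char, one_pow]
  have h2 := congrArg (aeval y) h
  simpa using h2

theorem two_ne_zero_of_char {F : Type*} [Field F] {p : ℕ} [Fact p.Prime] [CharP F p]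
    (hp2 : p ≠ 2) : (2 : F) ≠ 0 := by
  intro h
  have h2' : ((2 : ℕ) : F) = 0 := by exact_mod_cast h
  rw [CharP.cast_eq_zero_iff F p] at h2'
  exact hp2 ((Nat.prime_dvd_prime_iff_eq Fact.out Nat.prime_two).mp h2')

theorem kdim_eq_sum (μ : Multiset ℕ) (i : ℕ) (h : ∀ b ∈ μ, b ≤ i) : kdim μ i = μ.sum := by
  unfold kdim
  have : μ.map (fun b => min i b) = μ.map id :=
    Multiset.map_congr rfl fun b hb => min_eq_right (h b hb)
  rw [this, Multiset.map_id]

theorem kdim_one (μ : Multiset ℕ) (h : ∀ b ∈ μ, 0 < b) : kdim μ 1 = Multiset.card μ := by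
  unfold kdim
  have : μ.map (fun b => min 1 b) = μ.map (fun _ => 1) :=
    Multiset.map_congr rfl fun b hb => min_eq_left (h b hb)
  rw [this, Multiset.map_const', Multiset.sum_replicate, smul_eq_mul, mul_one]

theorem card_lt_sum (μ : Multiset ℕ) (h : ∀ b ∈ μ, 0 < b) (a₀ : ℕ) (ha₀ : a₀ ∈ μ)
    (ha₀1 : a₀ ≠ 1) : Multiset.card μ < μ.sum := by
  obtain ⟨μ', rfl⟩ := Multiset.exists_cons_of_mem ha₀
  rw [Multiset.card_cons, Multiset.sum_cons]
  have h1 : Multiset.card μ' • 1 ≤ μ'.sum :=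
    Multiset.card_nsmul_le_sum fun b hb => h b (Multiset.mem_cons_of_mem hb)
  rw [smul_eq_mul, mul_one] at h1
  have h2 : 0 < a₀ := h a₀ (Multiset.mem_cons_self _ _)
  omega

/-- the kernel of an endomorphism preserving two complementary subspaces -/
theorem finrank_ker_of_isCompl {F V : Type*} [Field F] [AddCommGroup V] [Module F V]
    [FiniteDimensional F V] (W W' : Submodule F V) (h : IsCompl W W') (f : Module.End F V)
    (hW : W.map f ≤ W) (hW' : W'.map f ≤ W') :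
    Module.finrank F (LinearMap.ker f) =
      Module.finrank F ↥(W ⊓ LinearMap.ker f) + Module.finrank F ↥(W' ⊓ LinearMap.ker f) := by
  have hsup : (W ⊓ LinearMap.ker f) ⊔ (W' ⊓ LinearMap.ker f) = LinearMap.ker f := by
    apply le_antisymm
    · exact sup_le inf_le_right inf_le_right
    · intro v hv
      have hv' : v ∈ W ⊔ W' := by rw [h.sup_eq_top]; trivial
      obtain ⟨w, hw, w', hw', rfl⟩ := Submodule.mem_sup.mp hv'
      have h1 : f w ∈ W := hW ⟨w, hw, rfl⟩
      have h2 : f w' ∈ W' := hW' ⟨w', hw', rfl⟩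
      rw [LinearMap.mem_ker, map_add] at hv
      have h3 : f w = -f w' := eq_neg_of_add_eq_zero_left hv
      have h4 : f w ∈ W ⊓ W' := ⟨h1, by rw [h3]; exact W'.neg_mem h2⟩
      rw [h.inf_eq_bot, Submodule.mem_bot] at h4
      have h5 : f w' = 0 := by rw [h4, zero_add] at hv; exact hv
      exact Submodule.add_mem_sup ⟨hw, LinearMap.mem_ker.mpr h4⟩ ⟨hw', LinearMap.mem_ker.mpr h5⟩
  have hinf : (W ⊓ LinearMap.ker f) ⊓ (W' ⊓ LinearMap.ker f) = ⊥ := by
    apply le_bot_iff.mp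
    rw [← h.inf_eq_bot]
    exact inf_le_inf inf_le_left inf_le_left
  have := Submodule.finrank_sup_add_finrank_inf_eq (W ⊓ LinearMap.ker f) (W' ⊓ LinearMap.ker f)
  rw [hsup, hinf, finrank_bot, add_zero] at this
  exact this

/-- a subspace invariant under `y` is invariant under `(y - 1) ^ i` -/
theorem map_sub_one_pow_le {F V : Type*} [Field F] [AddCommGroup V] [Module F V]
    (y : Module.End F V) (W : Submodule F V) (hW : W.map y ≤ W) (i : ℕ) :
    W.map ((y - 1) ^ i) ≤ W := by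
  have h1 : ∀ v ∈ W, (y - 1) v ∈ W := by
    intro v hv
    rw [LinearMap.sub_apply]
    exact W.sub_mem (hW ⟨v, hv, rfl⟩) hv
  induction i with
  | zero =>
    rintro _ ⟨v, hv, rfl⟩
    simpa using hv
  | succ i ih =>
    rintro _ ⟨v, hv, rfl⟩
    rw [pow_succ, Module.End.mul_apply]
    exact ih ⟨_, h1 v hv, rfl⟩

end NECP

/-- NECP (uses MODELIND, TRANSPORTK, JTYPESUB, UNIQ, S5961 `orth_compl`) -/
theorem nec_unipotent {F : Type*} [Field F] {p : ℕ} [Fact p.Prime] [CharP F p] (hp2 : p ≠ 2)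
    (d m : ℕ) (hm : m ≤ 2 * d) (hme : Even m)
    (hall : ∀ x : Matrix.symplecticGroup (Fin d) F,
      (x : Matrix (Fin d ⊕ Fin d) (Fin d ⊕ Fin d) F) ^ p = 1 →
      (x : Matrix (Fin d ⊕ Fin d) (Fin d ⊕ Fin d) F) ≠ 1 →
      ∃ W : Submodule F (Fin d ⊕ Fin d → F), Module.finrank F ↥W = m ∧
        (∀ u ∈ W, u ≠ 0 → ∃ v ∈ W, Cfsg.sympForm d F u v ≠ 0) ∧
        W.map (Matrix.toLin' (x : Matrix (Fin d ⊕ Fin d) (Fin d ⊕ Fin d) F)) ≤ W)
    (μ : Multiset ℕ) (hμ : ∀ a ∈ μ, 0 < a ∧ a ≤ p) (hpar : ∀ a : ℕ, Odd a → Even (μ.count a))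
    (hsum : μ.sum = 2 * d) :
    ∃ ν : Multiset ℕ, ν ≤ μ ∧ ν.sum = m ∧ ∀ a : ℕ, Odd a → Even (ν.count a) := by
  classical
  have h2 : (2 : F) ≠ 0 := NECP.two_ne_zero_of_char hp2
  by_cases hall1 : ∀ a ∈ μ, a = 1
  · have hμ' : μ = Multiset.replicate (Multiset.card μ) 1 := Multiset.eq_replicate_card.mpr hall1
    have hcard : Multiset.card μ = 2 * d := by
      rw [hμ', Multiset.sum_replicate, smul_eq_mul, mul_one] at hsum
      exact hsum
    refine ⟨Multiset.replicate m 1, ?_, ?_, ?_⟩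
    · rw [hμ', hcard]
      exact (Multiset.replicate_le_replicate 1).mpr hm
    · rw [Multiset.sum_replicate, smul_eq_mul, mul_one]
    · intro a _
      rw [Multiset.count_replicate]
      split_ifs
      · exact hme
      · exact Even.zero
  · push Not at hall1
    obtain ⟨a₀, ha₀, ha₀1⟩ := hall1
    have hμ0 : ∀ b ∈ μ, 0 < b := fun b hb => (hμ b hb).1
    have hμp : ∀ b ∈ μ, b ≤ p := fun b hb => (hμ b hb).2
    obtain ⟨V, _, _, _, B, y, hY, hk⟩ := exists_model_of_multiset (F := F) hp2 μ hμ hpar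
    have hup : (y - 1) ^ p = 0 := by rw [NECP.sub_one_pow_char, hY.pow, sub_self]
    have hVd : Module.finrank F V = 2 * d := by
      have h1 := hk p
      rw [hup, LinearMap.ker_zero, finrank_top, NECP.kdim_eq_sum μ p hμp, hsum] at h1
      exact h1
    obtain ⟨x, hxp, hxk⟩ := exists_sp_of_model B y p hY d hVd
    have hVdim : Module.finrank F (Fin d ⊕ Fin d → F) = 2 * d := by
      rw [Module.finrank_fintype_fun_eq_card, Fintype.card_sum, Fintype.card_fin]; ring
    have hx1 : (x : Matrix (Fin d ⊕ Fin d) (Fin d ⊕ Fin d) F) ≠ 1 := by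
      intro h1
      have h3 := hxk 1
      rw [h1, Matrix.toLin'_one, hk 1, NECP.kdim_one μ hμ0] at h3
      have h4 : ((LinearMap.id : (Fin d ⊕ Fin d → F) →ₗ[F] (Fin d ⊕ Fin d → F)) - 1) ^ 1 = 0 := by
        rw [pow_one]; exact sub_self _
      rw [h4, LinearMap.ker_zero, finrank_top, hVdim] at h3
      have := NECP.card_lt_sum μ hμ0 a₀ ha₀ ha₀1
      omega
    obtain ⟨W, hWm, hWnd, hWinv⟩ := hall x hxp hx1
    obtain ⟨Xl, hXl⟩ : ∃ Xl : Module.End F (Fin d ⊕ Fin d → F),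
      Xl = Matrix.toLin' (x : Matrix (Fin d ⊕ Fin d) (Fin d ⊕ Fin d) F) := ⟨_, rfl⟩
    rw [← hXl] at hWinv
    have hXiso : ∀ u v, sB d F (Xl u) (Xl v) = sB d F u v := by
      rw [hXl]; exact sB_isometry d F x
    have hXp : Xl ^ p = 1 := by
      rw [hXl, ← Matrix.toLin'_pow, hxp, Matrix.toLin'_one]; rfl
    have hXu : (Xl - 1) ^ p = 0 := by rw [NECP.sub_one_pow_char, hXp, sub_self]
    have hXk : ∀ i, Module.finrank F (LinearMap.ker ((Xl - 1) ^ i)) = kdim μ i := by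
      intro i
      rw [hXl, hxk i, hk i]
    have hXinj : Function.Injective Xl := by
      intro u v huv
      have hp0 : p ≠ 0 := (Fact.out : p.Prime).ne_zero
      have h1 : (Xl ^ p) u = (Xl ^ p) v := by
        obtain ⟨t, ht⟩ := Nat.exists_eq_succ_of_ne_zero hp0
        rw [ht, pow_succ, Module.End.mul_apply, Module.End.mul_apply, huv]
      rwa [hXp] at h1
    have hWnd' : Nondeg (sB d F) W := hWnd
    obtain ⟨hcompl, -, -, hndc, hinvc, -⟩ := orth_compl (sB d F) (sB_alt d F) W hWnd'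
    have hW'nd := hndc (sB_nondeg d F)
    have hW'inv := hinvc Xl hXiso hXinj hWinv
    obtain ⟨ν, hν0, hνpar, hνk⟩ := exists_jtype_sub h2 (sB d F) (sB_alt d F) Xl hXiso ⟨p, hXu⟩
      W hWinv hWnd'
    obtain ⟨ν', hν'0, -, hν'k⟩ := exists_jtype_sub h2 (sB d F) (sB_alt d F) Xl hXiso ⟨p, hXu⟩
      ((sB d F).orthogonal W) hW'inv hW'nd
    have hkd : ∀ i, kdim μ i = kdim (ν + ν') i := by
      intro i
      rw [kdim_add, ← hXk i, ← hνk i, ← hν'k i]
      exact NECP.finrank_ker_of_isCompl W _ hcompl _ (NECP.map_sub_one_pow_le Xl W hWinv i)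
        (NECP.map_sub_one_pow_le Xl _ hW'inv i)
    have hμeq : μ = ν + ν' := by
      refine multiset_eq_of_kdim hμ0 ?_ hkd
      intro b hb
      rcases Multiset.mem_add.mp hb with h | h
      · exact hν0 b h
      · exact hν'0 b h
    have hνle : ν ≤ μ := by rw [hμeq]; exact Multiset.le_add_right _ _
    refine ⟨ν, hνle, ?_, hνpar⟩
    have hνp : ∀ b ∈ ν, b ≤ p := fun b hb => hμp b (Multiset.mem_of_le hνle hb)
    have h1 := hνk p
    rw [hXu, LinearMap.ker_zero, inf_top_eq, hWm, NECP.kdim_eq_sum ν p hνp] at h1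
    exact h1.symm

end Cfsg.Agent.S5956P
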