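import Mathlib
import Cfsg.Prelude.Def_ClassicalGeometry
import Cfsg.Agent.Helper1.S5956Defs
import Cfsg.Agent.Helper8.S5956DECOMP
import Cfsg.Agent.Helper15.S5956COMB

set_option autoImplicit false
open scoped MatrixGroups

/-! S5956 piece SUFFP: a unipotent isometry of order `p` fixes a nondegenerate `m`-space if the
partition condition holds. -/

namespace Cfsg.Agent.S5956P

open Polynomial Cfsg.Agent.Helper2.SympInvol Cfsg.Agent.Helper2.SympUnits Cfsg.Agent.S5961P
  Cfsg.Agent.S5955P Cfsg.Agent.Helper2.InvolComb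

namespace SUFFP

/-- `(y - 1) ^ p = y ^ p - 1` in characteristic `p` -/
theorem sub_one_pow_char {F V : Type*} [Field F] [AddCommGroup V] [Module F V] {p : ℕ}
    [Fact p.Prime] [CharP F p] (y : Module.End F V) : (y - 1) ^ p = y ^ p - 1 := by
  have h : ((X : F[X]) - 1) ^ p = X ^ p - 1 := by
    rw [sub_pow_char, one_pow]
  have h2 := congrArg (aeval y) h
  simpa using h2

theorem two_ne_zero_of_char {F : Type*} [Field F] {p : ℕ} [Fact p.Prime] [CharP F p]
    (hp2 : p ≠ 2) : (2 : F) ≠ 0 := by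
  intro h
  have h2' : ((2 : ℕ) : F) = 0 := by exact_mod_cast h
  rw [CharP.cast_eq_zero_iff F p] at h2'
  exact hp2 ((Nat.prime_dvd_prime_iff_eq Fact.out Nat.prime_two).mp h2')

theorem mem_blockMS {k : ℕ} (a : Fin k → ℕ) (b : ℕ) : b ∈ blockMS a ↔ ∃ j, a j = b := by
  unfold blockMS
  rw [Multiset.mem_sum]
  constructor
  · rintro ⟨j, -, hj⟩
    exact ⟨j, (Multiset.eq_of_mem_replicate hj).symm⟩
  · rintro ⟨j, rfl⟩
    refine ⟨j, Finset.mem_univ _, ?_⟩
    rw [Multiset.mem_replicate]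
    exact ⟨(mult_pos _).ne', rfl⟩

theorem count_blockMS {k : ℕ} (a : Fin k → ℕ) (b : ℕ) :
    (blockMS a).count b = ∑ j, if a j = b then mult b else 0 := by
  unfold blockMS
  rw [Multiset.count_sum']
  refine Finset.sum_congr rfl fun j _ => ?_
  rw [Multiset.count_replicate]
  by_cases h : a j = b
  · rw [if_pos h, if_pos h, h]
  · rw [if_neg h, if_neg h]

theorem even_count_blockMS {k : ℕ} (a : Fin k → ℕ) (b : ℕ) (hb : Odd b) :
    Even ((blockMS a).count b) := by
  rw [count_blockMS]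
  refine Finset.even_sum _ fun j _ => ?_
  split_ifs
  · rw [mult_odd hb]; exact even_two
  · exact Even.zero

theorem sum_blockMS {k : ℕ} (a : Fin k → ℕ) : (blockMS a).sum = ∑ j, mult (a j) * a j := by
  unfold blockMS
  have h := map_sum (Multiset.sumAddMonoidHom (M := ℕ))
    (fun j : Fin k => Multiset.replicate (mult (a j)) (a j)) Finset.univ
  rw [Multiset.coe_sumAddMonoidHom] at h
  rw [h]
  refine Finset.sum_congr rfl fun j _ => ?_
  rw [Multiset.sum_replicate, smul_eq_mul]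

end SUFFP

/-- SUFFP (uses DECOMP, COMB, helper2 `nondeg_biSup`, `finrank_biSup`) -/
theorem exists_nd_of_unipotent {F V : Type*} [Field F] [AddCommGroup V] [Module F V]
    [FiniteDimensional F V] {p : ℕ} [Fact p.Prime] [CharP F p] (hp2 : p ≠ 2)
    (B : LinearMap.BilinForm F V) (y : Module.End F V) (hY : IsYSp B y p) (d m : ℕ)
    (hV : Module.finrank F V = 2 * d)
    (HP : ∀ μ : Multiset ℕ, (∀ a ∈ μ, 0 < a ∧ a ≤ p) → (∀ a : ℕ, Odd a → Even (μ.count a)) →
      μ.sum = 2 * d → ∃ ν : Multiset ℕ, ν ≤ μ ∧ ν.sum = m ∧ ∀ a : ℕ, Odd a → Even (ν.count a)) :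
    ∃ W : Submodule F V, Module.finrank F ↥W = m ∧ Nondeg B W ∧ W.map y ≤ W := by
  classical
  have h2 : (2 : F) ≠ 0 := SUFFP.two_ne_zero_of_char hp2
  obtain ⟨halt, hnd, hisom, hpow⟩ := hY
  have hup : (y - 1) ^ p = 0 := by rw [SUFFP.sub_one_pow_char, hpow, sub_self]
  obtain ⟨k, E, a, ha0, hinv, hndE, horth, hind, hsup, hker⟩ :=
    exists_unip_decomp h2 B halt hnd y hisom ⟨p, hup⟩
  -- finrank of the blocks
  have hkertop : ∀ i, p ≤ i → LinearMap.ker ((y - 1) ^ i) = ⊤ := by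
    intro i hi
    obtain ⟨t, rfl⟩ := Nat.exists_eq_add_of_le hi
    rw [pow_add, hup, zero_mul, LinearMap.ker_zero]
  have hfr : ∀ j, Module.finrank F ↥(E j) = mult (a j) * a j := by
    intro j
    have h1 := hker j (p + a j)
    rw [hkertop _ (Nat.le_add_right _ _), inf_top_eq] at h1
    rw [h1, min_eq_right (Nat.le_add_left _ _)]
  have hap : ∀ j, a j ≤ p := by
    intro j
    have h1 := hker j p
    rw [hkertop _ le_rfl, inf_top_eq, hfr j] at h1
    have h3 := Nat.eq_of_mul_eq_mul_left (mult_pos (a j)) h1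
    rw [h3]
    exact min_le_left _ _
  -- the partition
  have hμ1 : ∀ b ∈ blockMS a, 0 < b ∧ b ≤ p := by
    intro b hb
    obtain ⟨j, rfl⟩ := (SUFFP.mem_blockMS a b).mp hb
    exact ⟨ha0 j, hap j⟩
  have hμsum : (blockMS a).sum = 2 * d := by
    rw [SUFFP.sum_blockMS, ← hV]
    have h1 := finrank_biSup E hind Finset.univ
    have h2' : (⨆ i ∈ (Finset.univ : Finset (Fin k)), E i) = ⊤ := by
      rw [← hsup]; simp
    rw [h2', finrank_top] at h1
    rw [h1]
    exact Finset.sum_congr rfl fun j _ => (hfr j).symm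
  obtain ⟨ν, hνle, hνsum, hνpar⟩ := HP (blockMS a) hμ1 (SUFFP.even_count_blockMS a) hμsum
  obtain ⟨s, hs⟩ := exists_subfamily a ν hνle hνpar
  refine ⟨⨆ j ∈ s, E j, ?_, ?_, ?_⟩
  · rw [finrank_biSup E hind s, ← hνsum, ← hs]
    exact Finset.sum_congr rfl fun j _ => hfr j
  · exact nondeg_biSup E s (fun i _ => hndE i) (fun i _ j _ hij => horth i j hij)
  · rw [Submodule.map_le_iff_le_comap]
    refine iSup₂_le fun j hj => ?_
    intro v hv
    rw [Submodule.mem_comap]
    have h1 : y v ∈ E j := hinv j ⟨v, hv, rfl⟩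
    exact (le_iSup₂ (f := fun j (_ : j ∈ s) => E j) j hj) h1

end Cfsg.Agent.S5956P
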