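import Mathlib
import Cfsg.Agent.Helper21.S5958FREE
import Cfsg.Agent.Helper21.S5949CYCMAIN

set_option autoImplicit false
set_option linter.style.haveILetI false

/-! S5958 piece PERM: if `ord_r(q) = r - 1` and `y ^ r = 1` on `V` of dimension `n ≤ r * dim ker (y - 1)`,
then `V` has a basis permuted by `y`. -/

namespace Cfsg.Agent.S5958P

open Polynomial Cfsg.Agent.S5949P

namespace PERM

theorem cyclotomic_irreducible {F : Type*} [Field F] [Fintype F] {p : ℕ} [Fact p.Prime]
    [CharP F p] (r : ℕ) [hr : Fact r.Prime] (hrp : r ≠ p)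
    (hc : orderOf ((Fintype.card F : ℕ) : ZMod r) = r - 1) : Irreducible (cyclotomic r F) := by
  have hdeg : (cyclotomic r F).natDegree = r - 1 := by
    rw [natDegree_cyclotomic, Nat.totient_prime hr.out]
  have hpos : 0 < (cyclotomic r F).natDegree := by
    rw [hdeg]; have := hr.out.two_le; omega
  have hne : cyclotomic r F ≠ 0 := cyclotomic_ne_zero r F
  have hnu : ¬ IsUnit (cyclotomic r F) := by
    intro hu
    have := natDegree_eq_zero_of_isUnit hu
    omega
  obtain ⟨μ, hμ, hdvd⟩ := WfDvdMonoid.exists_irreducible_factor hnu hne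
  have hμdeg := natDegree_of_dvd_cyclotomic r hrp μ hμ hdvd
  have hass : Associated μ (cyclotomic r F) :=
    associated_of_dvd_of_natDegree_le hdvd hne (by rw [hdeg, hμdeg, hc])
  exact hass.irreducible hμ

theorem pow_mod {V F : Type*} [Field F] [AddCommGroup V] [Module F V] (y : Module.End F V) (r : ℕ)
    (hy : y ^ r = 1) (k : ℕ) : y ^ k = y ^ (k % r) := by
  conv_lhs => rw [← Nat.div_add_mod k r, pow_add, pow_mul, hy, one_pow, one_mul]

end PERM

/-- PERM (uses FREE) -/
theorem perm_basis {F V : Type*} [Field F] [Fintype F] [AddCommGroup V] [Module F V]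
    [FiniteDimensional F V] {p : ℕ} [Fact p.Prime] [CharP F p] (r : ℕ) [Fact r.Prime] (hrp : r ≠ p)
    (hc : orderOf ((Fintype.card F : ℕ) : ZMod r) = r - 1)
    (y : Module.End F V) (hy : y ^ r = 1) (n : ℕ) (hV : Module.finrank F V = n)
    (hle : n ≤ r * Module.finrank F (LinearMap.ker (y - 1))) :
    ∃ (b : Module.Basis (Fin n) F V) (σ : Equiv.Perm (Fin n)), ∀ i, y (b i) = b (σ i) := by
  have hr : r.Prime := Fact.out
  have hr2 := hr.two_le
  haveI : NeZero r := ⟨by omega⟩
  have hirr := PERM.cyclotomic_irreducible (F := F) r hrp hc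
  have hdeg : (cyclotomic r F).natDegree = r - 1 := by
    rw [natDegree_cyclotomic, Nat.totient_prime hr]
  have hrF : (r : F) ≠ 0 := by
    intro h0
    have hdvd : p ∣ r := (CharP.cast_eq_zero_iff F p r).1 h0
    exact hrp ((Nat.prime_dvd_prime_iff_eq (Fact.out : p.Prime) hr).1 hdvd).symm
  -- the two summands
  set Cs := LinearMap.ker (y - 1) with hCs
  set N := LinearMap.ker (aeval y (cyclotomic r F)) with hN
  have hcompl : IsCompl Cs N := CYC.decomp r hrp y hy
  have hNinv := CYC.ker_invariant y (cyclotomic r F)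
  set yN := y.restrict hNinv with hyN
  have h0 : aeval yN (cyclotomic r F) = 0 :=
    Basic.aeval_restrict_eq_zero y _ _ _ (fun v hv => LinearMap.mem_ker.1 hv)
  obtain ⟨s, bN, w, hbN⟩ := free_of_irreducible yN (cyclotomic r F) hirr h0
  set a0 := Module.finrank F Cs with ha0
  have hNdim : Module.finrank F N = (r - 1) * s := by
    rw [Module.finrank_eq_card_basis bN, Fintype.card_prod, Fintype.card_fin, Fintype.card_fin, hdeg]
  have hadd : a0 + (r - 1) * s = n := by
    rw [← hV, ← hNdim]; exact Submodule.finrank_add_eq_of_isCompl hcompl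
  have hsa : s ≤ a0 := by
    obtain ⟨r', rfl⟩ : ∃ r', r = r' + 2 := ⟨r - 2, by omega⟩
    simp only [Nat.add_sub_cancel, show r' + 2 - 1 = r' + 1 by omega] at hadd
    by_contra hlt
    push Not at hlt
    have h1 : (r' + 1) * a0 < (r' + 1) * s := Nat.mul_lt_mul_of_pos_left hlt (by omega)
    nlinarith
  let u := Module.finBasis F Cs
  -- fixed vectors
  have hfix : ∀ (x : V), x ∈ Cs → ∀ i : ℕ, (y ^ i) x = x := by
    intro x hx i
    have hx' : y x = x := by
      rw [hCs, LinearMap.mem_ker, LinearMap.sub_apply, sub_eq_zero] at hx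
      exact hx
    induction i with
    | zero => simp
    | succ i ih => rw [pow_succ, Module.End.mul_apply, hx', ih]
  have hsum : ∀ (x : V), x ∈ N → ∑ i ∈ Finset.range r, (y ^ i) x = 0 := by
    intro x hx
    rw [hN, LinearMap.mem_ker, cyclotomic_prime, map_sum] at hx
    simpa [LinearMap.sum_apply] using hx
  have hpowN : ∀ (i : ℕ) (x : N), (((yN ^ i) x : N) : V) = (y ^ i) (x : V) := fun i x =>
    Basic.pow_intertwine N.subtype yN y (fun _ => rfl) i x
  -- the index type and the family
  let ι := (Fin r × Fin s) ⊕ Fin (a0 - s)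
  let v : ι → V := fun k => match k with
    | Sum.inl (i, j) => (y ^ (i : ℕ)) ((u ⟨j, lt_of_lt_of_le j.2 hsa⟩ : V) + (w j : V))
    | Sum.inr k => (u ⟨s + k, by have := k.2; omega⟩ : V)
  have hcard : Fintype.card ι = Module.finrank F V := by
    simp only [ι, Fintype.card_sum, Fintype.card_prod, Fintype.card_fin]
    rw [hV, ← hadd]
    obtain ⟨r', rfl⟩ : ∃ r', r = r' + 1 := ⟨r - 1, by omega⟩
    simp only [Nat.add_sub_cancel]
    have : (r' + 1) * s = r' * s + s := by ring
    omega
  -- spanning
  have hspan : ⊤ ≤ Submodule.span F (Set.range v) := by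
    set S := Submodule.span F (Set.range v) with hS
    have hmem : ∀ k, v k ∈ S := fun k => Submodule.subset_span ⟨k, rfl⟩
    have hu_small : ∀ j : Fin s, (u ⟨j, lt_of_lt_of_le j.2 hsa⟩ : V) ∈ S := by
      intro j
      have h1 : ∑ i ∈ Finset.range r,
          (y ^ i) ((u ⟨j, lt_of_lt_of_le j.2 hsa⟩ : V) + (w j : V)) ∈ S := by
        refine Submodule.sum_mem _ (fun i hi => ?_)
        have := hmem (Sum.inl (⟨i, Finset.mem_range.1 hi⟩, j))
        exact this
      have h2 : ∑ i ∈ Finset.range r,
          (y ^ i) ((u ⟨j, lt_of_lt_of_le j.2 hsa⟩ : V) + (w j : V)) =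
          (r : F) • (u ⟨j, lt_of_lt_of_le j.2 hsa⟩ : V) := by
        simp only [map_add, Finset.sum_add_distrib]
        rw [hsum _ (w j).2, add_zero]
        rw [Finset.sum_congr rfl (fun i _ => hfix _ (u ⟨j, lt_of_lt_of_le j.2 hsa⟩).2 i)]
        rw [Finset.sum_const, Finset.card_range, Nat.cast_smul_eq_nsmul]
      rw [h2] at h1
      have := S.smul_mem ((r : F)⁻¹) h1
      rwa [smul_smul, inv_mul_cancel₀ hrF, one_smul] at this
    have hu_all : ∀ k : Fin a0, (u k : V) ∈ S := by
      intro k
      by_cases hk : (k : ℕ) < s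
      · exact hu_small ⟨k, hk⟩
      · push Not at hk
        have := hmem (Sum.inr ⟨k - s, by have := k.2; omega⟩)
        have hk' : (⟨s + (k - s), by have := k.2; omega⟩ : Fin a0) = k := by
          apply Fin.ext; simp; omega
        simp only [v] at this
        rw [hk'] at this
        exact this
    have hCS : Cs ≤ S := by
      intro x hx
      have hx' : (⟨x, hx⟩ : Cs) ∈ Submodule.span F (Set.range u) := by
        rw [u.span_eq]; trivial
      have := Submodule.apply_mem_span_image_of_mem_span Cs.subtype hx'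
      rw [← Set.range_comp] at this
      refine (Submodule.span_le.2 ?_) this
      rintro _ ⟨k, rfl⟩
      exact hu_all k
    have hw_pow : ∀ (i : Fin (cyclotomic r F).natDegree) (j : Fin s), ((bN (i, j) : N) : V) ∈ S := by
      intro i j
      rw [hbN, hpowN]
      have hi : (i : ℕ) < r := by have := i.2; omega
      have h1 := hmem (Sum.inl (⟨i, hi⟩, j))
      simp only [v] at h1
      rw [map_add, hfix _ (u ⟨j, lt_of_lt_of_le j.2 hsa⟩).2] at h1
      have h2 := S.sub_mem h1 (hu_small j)
      rwa [add_sub_cancel_left] at h2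
    have hNS : N ≤ S := by
      intro x hx
      have hx' : (⟨x, hx⟩ : N) ∈ Submodule.span F (Set.range bN) := by
        rw [bN.span_eq]; trivial
      have := Submodule.apply_mem_span_image_of_mem_span N.subtype hx'
      rw [← Set.range_comp] at this
      refine (Submodule.span_le.2 ?_) this
      rintro _ ⟨⟨i, j⟩, rfl⟩
      exact hw_pow i j
    rw [← hcompl.sup_eq_top]
    exact sup_le hCS hNS
  let b' : Module.Basis ι F V := basisOfTopLeSpanOfCardEqFinrank v hspan hcard
  have hb' : ∀ k, b' k = v k := fun k => by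
    simp [b']
  -- the permutation
  let σ : Equiv.Perm ι :=
    Equiv.sumCongr (Equiv.prodCongr (Equiv.addRight (1 : Fin r)) (Equiv.refl _)) (Equiv.refl _)
  have hσ : ∀ k, y (b' k) = b' (σ k) := by
    intro k
    rw [hb', hb']
    rcases k with ⟨i, j⟩ | k
    · simp only [v, σ, Equiv.sumCongr_apply, Sum.map_inl, Equiv.prodCongr_apply, Prod.map_apply,
        Equiv.refl_apply, Equiv.coe_addRight]
      rw [← Module.End.mul_apply, ← pow_succ', PERM.pow_mod y r hy ((i : ℕ) + 1)]
      congr 2
      rw [Equiv.coe_addRight, Fin.val_add, Fin.val_one', Nat.add_mod_mod]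
    · simp only [v, σ, Equiv.sumCongr_apply, Sum.map_inr, Equiv.refl_apply]
      have := hfix _ (u ⟨s + k, by have := k.2; omega⟩).2 1
      rwa [pow_one] at this
  have hcard' : Fintype.card ι = n := by rw [hcard, hV]
  let e : ι ≃ Fin n := Fintype.equivFinOfCardEq hcard'
  refine ⟨b'.reindex e, e.symm.trans (σ.trans e), ?_⟩
  intro i
  rw [Module.Basis.reindex_apply, hσ, Module.Basis.reindex_apply]
  simp

end Cfsg.Agent.S5958P
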