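import Mathlib
import Cfsg.Prelude.Def_Classical
import Cfsg.Prelude.Def_GeometricClasses
import Cfsg.Agent.Helper5.S5973Defs
import Cfsg.Agent.Helper13.QuadWitt
import Cfsg.Agent.Helper28.Spin6
import Cfsg.Agent.Helper28.LocBal23
import Cfsg.Agent.Helper21.OCa

set_option autoImplicit false

/-! S5973 + S5987 pieces STDPLUS, STDMINUS, EXISTSQ, COUNTSING (driver helper5), from helper21's `OCa`. -/

universe u

namespace Cfsg.Agent.S5973P

open Module Cfsg.Agent.S5955P

namespace STD

variable {F : Type*} [Field F] {V : Type*} [AddCommGroup V] [Module F V]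

theorem isHyp_iff_plus (Q : QuadraticForm F V) : IsHyp Q ↔ Cfsg.Agent.Helper21.OC.Plus Q := Iff.rfl

open Cfsg.Agent.Helper28.Spin in
theorem polarBilin_QfMinus' (m : ℕ) (a c : F) :
    QuadraticMap.polarBilin (QfMinus m F a c) = Matrix.toBilin' (Matrix.fromBlocks
        (Matrix.fromBlocks (0 : Matrix (Fin m) (Fin m) F) (1 : Matrix (Fin m) (Fin m) F)
          (1 : Matrix (Fin m) (Fin m) F) (0 : Matrix (Fin m) (Fin m) F))
        (0 : Matrix (Fin m ⊕ Fin m) (Fin 2) F) (0 : Matrix (Fin 2) (Fin m ⊕ Fin m) F)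
        (!![2, a; a, 2 * c] : Matrix (Fin 2) (Fin 2) F)) := by
  apply LinearMap.ext
  intro x
  apply LinearMap.ext
  intro y
  rw [QuadraticMap.polarBilin_apply_apply, Matrix.toBilin'_apply', QfMinus_coe,
    Cfsg.Agent.S2621.polar_minus]

open Cfsg.Agent.Helper28.Spin in
theorem QfMinus_nondeg_of' (m : ℕ) (a c : F) (h : 4 * c - a ^ 2 ≠ 0) :
    (QuadraticMap.polarBilin (QfMinus m F a c)).Nondegenerate := by
  rw [polarBilin_QfMinus']
  apply LinearMap.BilinForm.nondegenerate_toBilin'_of_det_ne_zero'
  rw [Matrix.det_fromBlocks_zero₁₂, Cfsg.Agent.Helper13.det_fromBlocks_zero_one_one_zero,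
    Matrix.det_fin_two_of]
  apply mul_ne_zero
  · exact pow_ne_zero _ (by simp)
  · intro h'
    apply h
    linear_combination h'

/-- an anisotropic binary form over a finite field has nonzero discriminant -/
theorem aniso_disc_ne_zero' [Fintype F] {a c : F}
    (hac : ∀ x y : F, x ^ 2 + a * x * y + c * y ^ 2 = 0 → x = 0 ∧ y = 0) :
    4 * c - a ^ 2 ≠ 0 := by
  intro h
  by_cases h2 : (2 : F) = 0
  · have h4 : (4 : F) = 0 := by
      have : (4 : F) = 2 * 2 := by norm_num
      rw [this, h2, mul_zero]
    rw [h4, zero_mul, zero_sub, neg_eq_zero] at h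
    have ha : a = 0 := pow_eq_zero_iff (two_ne_zero) |>.1 h
    have hchar : CharP F 2 := CharTwo.of_one_ne_zero_of_two_eq_zero one_ne_zero h2
    obtain ⟨γ, hγ⟩ := FiniteField.isSquare_of_char_two (ringChar.eq F 2) c
    have h1 := hac γ 1 (by
      rw [ha, hγ]
      linear_combination (γ * γ) * h2)
    exact one_ne_zero h1.2
  · have h1 := hac (-a / 2) 1 (by
      field_simp
      linear_combination h)
    exact one_ne_zero h1.2

end STD

/-! ## standard forms -/

section Std

variable {F : Type*} [Field F] [Fintype F]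

open Cfsg.Agent.Helper28.Spin

/-- STDPLUS: the standard plus form is nondegenerate and hyperbolic -/
theorem std_plus (d : ℕ) : ND (QfPlus d F) ∧ IsHyp (QfPlus d F) :=
  ⟨QfPlus_nondeg d, Cfsg.Agent.Helper21.OC.plus_QfPlus d⟩

/-- STDMINUS: the standard minus form is nondegenerate and not hyperbolic -/
theorem std_minus (d : ℕ) (a b : F)
    (hab : ∀ x y : F, x ^ 2 + a * x * y + b * y ^ 2 = 0 → x = 0 ∧ y = 0) :
    ND (QfMinus d F a b) ∧ ¬ IsHyp (QfMinus d F a b) := by
  have hnd : ND (QfMinus d F a b) := STD.QfMinus_nondeg_of' d a b (STD.aniso_disc_ne_zero' hab)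
  exact ⟨hnd, Cfsg.Agent.Helper21.OC.not_plus_QfMinus d hab hnd⟩

/-- EXISTSQ: a nondegenerate quadratic space of prescribed even dimension and type -/
theorem exists_space_of_type (κ : ℕ) (hκ : Even κ) (hypC : Bool) (h0 : κ = 0 → hypC = true) :
    ∃ (ι : Type) (_ : Fintype ι) (_ : DecidableEq ι) (Q : QuadraticForm F (ι → F)),
      ND Q ∧ Fintype.card ι = κ ∧ (IsHyp Q ↔ hypC = true) := by
  classical
  obtain ⟨k, hk⟩ := hκ
  cases hypC with
  | true =>
    refine ⟨Fin k ⊕ Fin k, inferInstance, inferInstance, QfPlus k F, (std_plus k).1, ?_, ?_⟩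
    · rw [Fintype.card_sum, Fintype.card_fin, hk]
    · simp only [iff_true]
      exact (std_plus k).2
  | false =>
    have hk1 : 1 ≤ k := by
      rcases Nat.eq_zero_or_pos k with h | h
      · have := h0 (by omega)
        exact absurd this (by simp)
      · exact h
    obtain ⟨a, b, hab⟩ := Cfsg.Agent.Helper28.LB.exists_aniso_binary (K := F)
    refine ⟨(Fin (k - 1) ⊕ Fin (k - 1)) ⊕ Fin 2, inferInstance, inferInstance,
      QfMinus (k - 1) F a b, (std_minus (k - 1) a b hab).1, ?_, ?_⟩
    · rw [Fintype.card_sum, Fintype.card_sum, Fintype.card_fin, Fintype.card_fin, hk]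
      omega
    · simp only [Bool.false_eq_true, iff_false]
      exact (std_minus (k - 1) a b hab).2

end Std

section Types

variable {F : Type*} [Field F] [Fintype F] {V : Type*} [AddCommGroup V] [Module F V]
  [FiniteDimensional F V]

/-- COUNTSING: the number of nonzero singular vectors -/
theorem card_singular (Q : QuadraticForm F V) (hQ : ND Q) (e : ℕ) (he : finrank F V = 2 * e)
    (hyp : Bool) (hhyp : IsHyp Q ↔ hyp = true) :
    Nat.card {v : V // v ≠ 0 ∧ Q v = 0} = nsing hyp (Fintype.card F) e := by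
  classical
  have hfin : Finite V := Module.finite_of_finite F
  have hq : 1 < Fintype.card F := Fintype.one_lt_card
  -- nonzero singular vectors = singular vectors minus one
  have hcount : Nat.card {v : V // v ≠ 0 ∧ Q v = 0} + 1 = Cfsg.Agent.Helper21.OC.nsing Q := by
    unfold Cfsg.Agent.Helper21.OC.nsing
    have := Fintype.ofFinite V
    rw [Nat.card_eq_fintype_card, Nat.card_eq_fintype_card, Fintype.card_subtype,
      Fintype.card_subtype]
    have hsplit : (Finset.univ.filter fun v : V => Q v = 0) =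
        insert 0 (Finset.univ.filter fun v : V => v ≠ 0 ∧ Q v = 0) := by
      ext v
      simp only [Finset.mem_filter, Finset.mem_univ, true_and, Finset.mem_insert]
      constructor
      · intro h
        by_cases hv : v = 0
        · exact Or.inl hv
        · exact Or.inr ⟨hv, h⟩
      · rintro (h | h)
        · rw [h, map_zero]
        · exact h.2
    rw [hsplit, Finset.card_insert_of_notMem (by simp)]
  generalize hN : Nat.card {v : V // v ≠ 0 ∧ Q v = 0} = N at hcount ⊢
  cases hyp with
  | true =>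
    have hp : Cfsg.Agent.Helper21.OC.Plus Q := hhyp.2 rfl
    have h1 := Cfsg.Agent.Helper21.OC.nsing_of_plus he Q hQ hp
    rw [← hcount] at h1
    generalize Fintype.card F = q at h1 hq ⊢
    simp only [nsing, if_true]
    rcases Nat.eq_zero_or_pos e with h0 | h0
    · subst h0
      simp at h1 ⊢
      nlinarith
    · obtain ⟨e', rfl⟩ : ∃ e', e = e' + 1 := ⟨e - 1, by omega⟩
      simp only [Nat.add_sub_cancel]
      have hq1 : 1 ≤ q ^ (e' + 1) := Nat.one_le_pow _ _ (by omega)
      have e1 : q ^ (2 * (e' + 1)) = q * (q ^ (e' + 1) * q ^ e') := by ring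
      have e2 : q ^ (e' + 1 + 1) = q * q ^ (e' + 1) := by ring
      rw [e1, e2] at h1
      have hqpos : 0 < q := by omega
      have h2 : (N + 1) + q ^ e' = q ^ (e' + 1) * q ^ e' + q ^ (e' + 1) := by
        have e3 : q ^ (e' + 1) = q * q ^ e' := by ring
        apply Nat.eq_of_mul_eq_mul_left hqpos
        rw [mul_add, mul_add, ← e3]
        linarith
      zify [hq1] at h2 ⊢
      linear_combination h2
  | false =>
    have hp : ¬ Cfsg.Agent.Helper21.OC.Plus Q := fun h => by
      have := hhyp.1 h
      exact absurd this (by simp)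
    have he1 : 1 ≤ e := by
      rcases Nat.eq_zero_or_pos e with h0 | h0
      · exfalso
        apply hp
        refine ⟨⊥, fun v hv => ?_, ?_⟩
        · rw [(Submodule.mem_bot F).1 hv, map_zero]
        · rw [finrank_bot, he, h0]
      · exact h0
    have h1 := Cfsg.Agent.Helper21.OC.nsing_of_not_plus he1 he Q hQ hp
    rw [← hcount] at h1
    generalize Fintype.card F = q at h1 hq ⊢
    simp only [nsing, Bool.false_eq_true, if_false]
    obtain ⟨e', rfl⟩ : ∃ e', e = e' + 1 := ⟨e - 1, by omega⟩
    simp only [Nat.add_sub_cancel] at h1 ⊢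
    have hq1 : 1 ≤ q ^ e' := Nat.one_le_pow _ _ (by omega)
    have e1 : q ^ (2 * (e' + 1) - 1) = q ^ (e' + 1) * q ^ e' := by
      rw [← pow_add]
      congr 1
      omega
    rw [e1] at h1
    zify [hq1] at h1 ⊢
    linear_combination h1

end Types

end Cfsg.Agent.S5973P
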