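import Mathlib
import Cfsg.Prelude.Def_GeometricClasses
import Cfsg.Agent.Helper20.S6000Defs

set_option autoImplicit false
open scoped MatrixGroups Matrix

/-! S6000 piece CDIMCONJ (driver helper20): the dimension of the commutant is a conjugacy invariant. -/

namespace Cfsg.Agent.S6000P

namespace CDIMCONJ

variable {F : Type*} [Field F]

theorem key1 (G Gi X M : M4 F) (h1 : G * Gi = 1)
    (hM : M * (Gi * X * G) = (Gi * X * G) * M) : (G * M * Gi) * X = X * (G * M * Gi) := by
  calc G * M * Gi * X = G * (M * (Gi * X * G)) * Gi := by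
        simp only [mul_assoc]
        rw [h1, mul_one]
    _ = G * ((Gi * X * G) * M) * Gi := by rw [hM]
    _ = X * (G * M * Gi) := by
        simp only [← mul_assoc]
        rw [h1, one_mul]

theorem key2 (G Gi X M : M4 F) (h1 : G * Gi = 1)
    (hM : M * X = X * M) : (Gi * M * G) * (Gi * X * G) = (Gi * X * G) * (Gi * M * G) := by
  calc Gi * M * G * (Gi * X * G) = Gi * (M * X) * G := by
        simp only [mul_assoc]
        rw [← mul_assoc G, h1, one_mul]
    _ = Gi * (X * M) * G := by rw [hM]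
    _ = Gi * X * G * (Gi * M * G) := by
        simp only [mul_assoc]
        rw [← mul_assoc G, h1, one_mul]

theorem val_conj (g x : GL (Fin 4) F) : ((g⁻¹ * x * g : GL (Fin 4) F) : M4 F) =
    ((g⁻¹ : GL (Fin 4) F) : M4 F) * (x : M4 F) * (g : M4 F) := by
  rw [Units.val_mul, Units.val_mul]

theorem val_mul_inv (g : GL (Fin 4) F) : (g : M4 F) * ((g⁻¹ : GL (Fin 4) F) : M4 F) = 1 := by
  rw [← Units.val_mul, mul_inv_cancel, Units.val_one]

theorem val_inv_mul (g : GL (Fin 4) F) : ((g⁻¹ : GL (Fin 4) F) : M4 F) * (g : M4 F) = 1 := by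
  rw [← Units.val_mul, inv_mul_cancel, Units.val_one]

/-- conjugation by `g` maps the commutant of `Gi X G` onto the commutant of `X` -/
def conjEquiv' (G Gi X : M4 F) (h1 : G * Gi = 1) (h2 : Gi * G = 1) :
    commSub (Gi * X * G) ≃ₗ[F] commSub X where
  toFun m := ⟨G * m.1 * Gi, key1 G Gi X m.1 h1 m.2⟩
  map_add' m m' := by
    apply Subtype.ext
    simp only [Submodule.coe_add, mul_add, add_mul]
  map_smul' c m := by
    apply Subtype.ext
    simp only [Submodule.coe_smul, Matrix.mul_smul, Matrix.smul_mul, RingHom.id_apply]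
  invFun m := ⟨Gi * m.1 * G, key2 G Gi X m.1 h1 m.2⟩
  left_inv m := by
    apply Subtype.ext
    show Gi * (G * m.1 * Gi) * G = m.1
    simp only [mul_assoc]
    rw [h2, mul_one, ← mul_assoc, h2, one_mul]
  right_inv m := by
    apply Subtype.ext
    show G * (Gi * m.1 * G) * Gi = m.1
    simp only [mul_assoc]
    rw [h1, mul_one, ← mul_assoc, h1, one_mul]

end CDIMCONJ

/-- CDIMCONJ -/
theorem cdim_conj {F : Type*} [Field F] (g x : GL (Fin 4) F) :
    cdim ((g⁻¹ * x * g : GL (Fin 4) F) : M4 F) = cdim (x : M4 F) := by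
  rw [CDIMCONJ.val_conj]
  exact LinearEquiv.finrank_eq
    (CDIMCONJ.conjEquiv' (g : M4 F) ((g⁻¹ : GL (Fin 4) F) : M4 F) (x : M4 F)
      (CDIMCONJ.val_mul_inv g) (CDIMCONJ.val_inv_mul g))

end Cfsg.Agent.S6000P
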