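import Mathlib
import Cfsg.Prelude.Def_GeometricClasses
import Cfsg.Agent.Helper20.S6000Defs
import Cfsg.Agent.Helper17.S6000LI64

set_option autoImplicit false
open scoped MatrixGroups Matrix

/-! S6000 piece GEN (driver helper20): a matrix commuting with four pairwise anticommuting elements of
`R` is scalar (the sixteen products of the four elements are a basis of the matrix algebra). -/

namespace Cfsg.Agent.S6000P

namespace GEN

variable {F : Type*} [Field F]

/-- the sign `±1` -/
def sg (c : Bool) : F := if c then -1 else 1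

theorem sg_mul (a b : Bool) : (sg a : F) * sg b = sg (xor a b) := by
  cases a <;> cases b <;> simp [sg]

theorem sg_ne {a b : Bool} (hab : a ≠ b) : (sg a : F) = -sg b := by
  cases a <;> cases b <;> simp [sg] at hab ⊢

theorem sg_ne_zero (a : Bool) : (sg a : F) ≠ 0 := by
  cases a <;> simp [sg]

/-- `U` commutes with `A` up to the scalar `s` -/
def Q (U A : M4 F) (s : F) : Prop := U * A = s • (A * U)

theorem Q.mul {U A B : M4 F} {s s' : F} (hA : Q U A s) (hB : Q U B s') : Q U (A * B) (s * s') := by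
  unfold Q at *
  calc U * (A * B) = (U * A) * B := by rw [mul_assoc]
    _ = s • (A * (U * B)) := by rw [hA, Matrix.smul_mul, mul_assoc]
    _ = (s * s') • (A * B * U) := by
        rw [hB, Matrix.mul_smul, smul_smul, mul_assoc]

/-- the combinatorial parity -/
def X4 (j : Fin 4) (e : Fin 4 → Bool) : Bool :=
  xor (xor (xor (decide ((0 : Fin 4) ≠ j) && e 0) (decide ((1 : Fin 4) ≠ j) && e 1))
    (decide ((2 : Fin 4) ≠ j) && e 2)) (decide ((3 : Fin 4) ≠ j) && e 3)

theorem exists_parity : ∀ e e' : Fin 4 → Bool, e ≠ e' → ∃ j : Fin 4, X4 j e ≠ X4 j e' := by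
  decide

variable (t : Fin 4 → GL (Fin 4) F)

/-- the sixteen products -/
def prodB (e : Fin 4 → Bool) : GL (Fin 4) F :=
  t 0 ^ (e 0).toNat * t 1 ^ (e 1).toNat * t 2 ^ (e 2).toNat * t 3 ^ (e 3).toNat

variable {t}

theorem Q_factor (hanti : ∀ i j, i ≠ j → t i * t j = -(t j * t i)) (j i : Fin 4) (c : Bool) :
    Q ((t j : GL (Fin 4) F) : M4 F) (((t i ^ c.toNat : GL (Fin 4) F)) : M4 F)
      (sg (decide (i ≠ j) && c)) := by
  unfold Q
  cases c with
  | false =>
    simp [sg]
  | true =>
    by_cases hij : i = j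
    · subst hij
      simp [sg]
    · have h := hanti j i (fun h => hij h.symm)
      have h' : ((t j * t i : GL (Fin 4) F) : M4 F) = -((t i * t j : GL (Fin 4) F) : M4 F) := by
        rw [h]; rfl
      simp only [Units.val_mul] at h'
      simp [sg, hij, h']

theorem Q_prodB (hanti : ∀ i j, i ≠ j → t i * t j = -(t j * t i)) (j : Fin 4) (e : Fin 4 → Bool) :
    Q ((t j : GL (Fin 4) F) : M4 F) ((prodB t e : GL (Fin 4) F) : M4 F) (sg (X4 j e)) := by
  have h := (((Q_factor hanti j 0 (e 0)).mul (Q_factor hanti j 1 (e 1))).mul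
    (Q_factor hanti j 2 (e 2))).mul (Q_factor hanti j 3 (e 3))
  rw [sg_mul, sg_mul, sg_mul] at h
  unfold prodB X4
  simpa only [Units.val_mul] using h

theorem prodB_mem {R : Subgroup (GL (Fin 4) F)} (ht : ∀ i, t i ∈ R) (e : Fin 4 → Bool) :
    prodB t e ∈ R := by
  unfold prodB
  exact R.mul_mem (R.mul_mem (R.mul_mem (R.pow_mem (ht 0) _) (R.pow_mem (ht 1) _))
    (R.pow_mem (ht 2) _)) (R.pow_mem (ht 3) _)

theorem prodB_ne (h2 : (2 : F) ≠ 0) (hanti : ∀ i j, i ≠ j → t i * t j = -(t j * t i))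
    (e e' : Fin 4 → Bool) (hee : e ≠ e') (z : F) :
    ((prodB t e : GL (Fin 4) F) : M4 F) ≠ z • ((prodB t e' : GL (Fin 4) F) : M4 F) := by
  intro hz
  obtain ⟨j, hj⟩ := exists_parity e e' hee
  have h1 := Q_prodB hanti j e
  have h2' := Q_prodB hanti j e'
  unfold Q at h1 h2'
  have hs : (sg (X4 j e) : F) = -sg (X4 j e') := sg_ne hj
  -- compare
  have h3 : ((t j : GL (Fin 4) F) : M4 F) * ((prodB t e : GL (Fin 4) F) : M4 F) =
      (sg (X4 j e') : F) • (((prodB t e : GL (Fin 4) F) : M4 F) * ((t j : GL (Fin 4) F) : M4 F)) := by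
    rw [hz, Matrix.mul_smul, h2', Matrix.smul_mul, smul_comm]
  rw [h1, hs] at h3
  set W : M4 F := ((prodB t e : GL (Fin 4) F) : M4 F) * ((t j : GL (Fin 4) F) : M4 F) with hW
  have hW0 : W = 0 := by
    have h4 : ((2 : F) * sg (X4 j e')) • W = 0 := by
      rw [mul_smul, two_smul]
      have h5 : (-sg (X4 j e') : F) • W = -((sg (X4 j e') : F) • W) := neg_smul _ _
      rw [h5] at h3
      nth_rewrite 1 [← h3]
      exact neg_add_cancel ((sg (X4 j e') : F) • W)
    rcases smul_eq_zero.1 h4 with h5 | h5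
    · exact absurd h5 (mul_ne_zero h2 (sg_ne_zero _))
    · exact h5
  have hunit : W = ((prodB t e * t j : GL (Fin 4) F) : M4 F) := by
    rw [hW, Units.val_mul]
  rw [hunit] at hW0
  exact Units.ne_zero _ hW0

end GEN

open GEN in
/-- GEN -/
theorem scalar_of_commute_four {F : Type*} [Field F] {R : Subgroup (GL (Fin 4) F)} {ι : F}
    (h : Hyp64 R ι) (t : Fin 4 → GL (Fin 4) F) (ht : ∀ i, t i ∈ R)
    (hanti : ∀ i j, i ≠ j → t i * t j = -(t j * t i)) (m : M4 F)
    (hm : ∀ i, m * (t i : M4 F) = (t i : M4 F) * m) : ∃ c : F, m = c • (1 : M4 F) := by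
  classical
  have hli := linearIndependent_of_cosets h (prodB t) (prodB_mem ht)
    (fun e e' hee z => prodB_ne h.two_ne hanti e e' hee z)
  have hcard : Fintype.card (Fin 4 → Bool) = Module.finrank F (M4 F) := by
    rw [Module.finrank_matrix, Module.finrank_self]
    simp
  have hspan := hli.span_eq_top_of_card_eq_finrank' hcard
  -- `m` commutes with the products
  have hpow : ∀ (i : Fin 4) (k : ℕ), m * ((t i ^ k : GL (Fin 4) F) : M4 F) =
      ((t i ^ k : GL (Fin 4) F) : M4 F) * m := by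
    intro i k
    rw [Units.val_pow_eq_pow_val]
    exact ((show Commute m (t i : M4 F) from hm i).pow_right k)
  have hprod : ∀ e : Fin 4 → Bool, m * ((prodB t e : GL (Fin 4) F) : M4 F) =
      ((prodB t e : GL (Fin 4) F) : M4 F) * m := by
    intro e
    unfold prodB
    simp only [Units.val_mul]
    have c0 : Commute m ((t 0 ^ (e 0).toNat : GL (Fin 4) F) : M4 F) := hpow 0 _
    have c1 : Commute m ((t 1 ^ (e 1).toNat : GL (Fin 4) F) : M4 F) := hpow 1 _
    have c2 : Commute m ((t 2 ^ (e 2).toNat : GL (Fin 4) F) : M4 F) := hpow 2 _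
    have c3 : Commute m ((t 3 ^ (e 3).toNat : GL (Fin 4) F) : M4 F) := hpow 3 _
    exact (((c0.mul_right c1).mul_right c2).mul_right c3)
  have hall : ∀ X : M4 F, m * X = X * m := by
    intro X
    have hX : X ∈ Submodule.span F (Set.range fun e => ((prodB t e : GL (Fin 4) F) : M4 F)) := by
      rw [hspan]; trivial
    induction hX using Submodule.span_induction with
    | mem x hx =>
      obtain ⟨e, rfl⟩ := hx
      exact hprod e
    | zero => simp
    | add x y _ _ hx hy => rw [mul_add, add_mul, hx, hy]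
    | smul c x _ hx => rw [Matrix.mul_smul, Matrix.smul_mul, hx]
  obtain ⟨c, hc⟩ := Matrix.mem_range_scalar_of_commute_single (M := m) (fun i j _ => (hall _).symm)
  refine ⟨c, ?_⟩
  rw [← hc, Matrix.scalar_apply]
  ext a b
  simp [Matrix.diagonal_apply, Matrix.one_apply]
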