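import Mathlib
import Cfsg.Prelude.Def_GeometricClasses
import Cfsg.Agent.Helper20.S6000Defs

set_option autoImplicit false
open scoped MatrixGroups Matrix

/-! S6000 piece SCAL4 (driver helper20): the scalars of `R` are `±1, ±ι`. -/

namespace Cfsg.Agent.S6000P

/-- SCAL4 -/
theorem scalar_cases {F : Type*} [Field F] {R : Subgroup (GL (Fin 4) F)} {ι : F} (h : Hyp64 R ι)
    (a : GL (Fin 4) F) (ha : a ∈ R) (z : F) (hz : (a : M4 F) = z • (1 : M4 F)) :
    z = 1 ∨ z = -1 ∨ z = ι ∨ z = -ι := by
  have hsq : ((a * a : GL (Fin 4) F) : M4 F) = (z * z) • (1 : M4 F) := by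
    rw [Units.val_mul, hz, Matrix.smul_mul, Matrix.mul_smul, Matrix.one_mul, smul_smul]
  rcases h.sq a ha with h1 | h1
  · rw [h1] at hsq
    have e : (1 : F) = z * z := by
      have := congrFun (congrFun hsq 0) 0
      simpa using this
    have : (z - 1) * (z + 1) = 0 := by linear_combination -e
    rcases mul_eq_zero.1 this with h' | h'
    · exact Or.inl (by linear_combination h')
    · exact Or.inr (Or.inl (by linear_combination h'))
  · rw [h1, coe_neg_one] at hsq
    have e : (-1 : F) = z * z := by
      have := congrFun (congrFun hsq 0) 0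
      simpa using this
    have : (z - ι) * (z + ι) = 0 := by linear_combination -e - h.iota_sq
    rcases mul_eq_zero.1 this with h' | h'
    · exact Or.inr (Or.inr (Or.inl (by linear_combination h')))
    · exact Or.inr (Or.inr (Or.inr (by linear_combination h')))

end Cfsg.Agent.S6000P
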