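import Mathlib
import Cfsg.Prelude.Def_GeometricClasses
import Cfsg.Agent.Helper20.S6000Defs
import Cfsg.Agent.Helper21.S5949IRR

set_option autoImplicit false
open scoped MatrixGroups Matrix

/-! S6000 piece SQRT2 (driver helper20): if `x ∈ SL_4` has scalar square `z` and `-1` is a square, then
`z` is a square. -/

namespace Cfsg.Agent.S6000P

open Polynomial in
/-- SQRT2 -/
theorem exists_sqrt_of_sq_scalar {F : Type*} [Field F] (i : F) (hi : i * i = -1)
    (x : GL (Fin 4) F) (hx : x ∈ Cfsg.Geo.specialLinear (Fin 4) F) (z : F)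
    (hz : ((x ^ 2 : GL (Fin 4) F) : M4 F) = z • (1 : M4 F)) : ∃ w : F, w * w = z := by
  by_contra hcon
  push Not at hcon
  have hirr : Irreducible (X ^ 2 - C z : F[X]) := by
    apply X_pow_sub_C_irreducible_of_prime Nat.prime_two
    intro b hb
    exact hcon b (by rw [← hb]; ring)
  have hmon : (X ^ 2 - C z : F[X]).Monic := monic_X_pow_sub_C z (by norm_num)
  have hdet : (x : M4 F).det = 1 := (mem_specialLinear_iff x).1 hx
  have hf : aeval (Matrix.toLin' (x : M4 F)) (X ^ 2 - C z : F[X]) = 0 := by
    rw [map_sub, map_pow, aeval_X, aeval_C]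
    have e : (Matrix.toLin' (x : M4 F)) ^ 2 = Matrix.toLin' ((x : M4 F) ^ 2) := by
      rw [pow_two, pow_two, Matrix.toLin'_mul]
      rfl
    rw [e, ← Units.val_pow_eq_pow_val, hz]
    apply LinearMap.ext
    intro v
    simp [Algebra.algebraMap_eq_smul_one]
  have h := (Cfsg.Agent.S5949P.irr_module (Matrix.toLin' (x : M4 F)) _ hirr hmon hf).2.2.2
  rw [LinearMap.det_toLin', hdet, natDegree_X_pow_sub_C, Module.finrank_fintype_fun_eq_card,
    Fintype.card_fin] at h
  have hc0 : (X ^ 2 - C z : F[X]).coeff 0 = -z := by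
    simp
  rw [hc0] at h
  norm_num at h
  have hz2 : (z - 1) * (z + 1) = 0 := by linear_combination -h
  rcases mul_eq_zero.1 hz2 with h' | h'
  · exact hcon 1 (by linear_combination -h')
  · exact hcon i (by linear_combination hi - h')

end Cfsg.Agent.S6000P
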