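import Mathlib
import Cfsg.Prelude.Def_GeometricClasses
import Cfsg.Prelude.Def_Classical
import Cfsg.Prelude.Def_LieClassical
import Cfsg.Agent.Helper20.S6000Defs
import Cfsg.Agent.Helper28.S6001Defs

set_option autoImplicit false
open scoped MatrixGroups Matrix

/-! S6001 piece HILB90 (driver helper28): Hilbert 90 for the norm-one group of `F_{p²}/F_p`. -/

namespace Cfsg.Agent.S6001P

open Cfsg.Agent.S6000P

/-- HILB90 -/
theorem exists_hilbert90 {F : Type*} [Field F] [Fintype F] {p : ℕ} [Fact p.Prime] [CharP F p]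
    (hF : Fintype.card F = p ^ 2) (hp4 : p % 4 = 3) (δ : F) (hδ : δ ^ (p + 1) = 1) :
    ∃ α : F, α ≠ 0 ∧ α = δ * α ^ p := by
  have key : ∀ c : F, c + δ * c ^ p = δ * (c + δ * c ^ p) ^ p := by
    intro c
    rw [add_pow_char, mul_pow, pow_p_pow_p p hF]
    have : δ * δ ^ p = 1 := by rw [← pow_succ']; exact hδ
    linear_combination (-c) * this
  by_cases h1 : (1 : F) + δ * 1 ^ p = 0
  · -- `δ = -1`
    have hd : δ = -1 := by
      rw [one_pow, mul_one] at h1
      linear_combination h1
    have hne := frob_ne_id p hF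
    have : ∃ c : F, c ^ p ≠ c := by
      by_contra hcon
      push Not at hcon
      apply hne
      ext a
      simpa [frobenius_def] using hcon a
    obtain ⟨c, hc⟩ := this
    refine ⟨c + δ * c ^ p, ?_, key c⟩
    rw [hd]
    intro h0
    apply hc
    linear_combination -h0
  · exact ⟨1 + δ * 1 ^ p, h1, key 1⟩

end Cfsg.Agent.S6001P
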