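import Mathlib
import Cfsg.Prelude.Def_GeometricClasses
import Cfsg.Prelude.Def_Classical
import Cfsg.Prelude.Def_LieClassical
import Cfsg.Agent.Helper20.S6000Defs
import Cfsg.Agent.Helper28.S6001Defs

set_option autoImplicit false
open scoped MatrixGroups Matrix

/-! S6001 piece NT5T (driver helper28): when `ord_5(p) = 4`, the roots of `t² + t - 1` in `F_{p²}` are
swapped by the Frobenius. -/

namespace Cfsg.Agent.S6001P

open Cfsg.Agent.S6000P

namespace NT5T

theorem not_sq_two : ¬ IsSquare (2 : ZMod 5) := by decide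

theorem not_sq_three : ¬ IsSquare (3 : ZMod 5) := by decide

theorem orderOf_four : orderOf (4 : ZMod 5) = 2 := by
  rw [orderOf_eq_iff (by norm_num)]
  refine ⟨by decide, ?_⟩
  intro m hm hm0
  interval_cases m; decide

theorem five_cast : ((5 : ℕ) : ZMod 5) = 0 := by decide

theorem five_pow_half {p : ℕ} [Fact p.Prime] (hp2 : p ≠ 2)
    (hord : orderOf (p : ZMod 5) = 4) : (5 : ZMod p) ^ (p / 2) = -1 := by
  have : Fact (Nat.Prime 5) := ⟨by norm_num⟩
  have hqr := legendreSym.quadratic_reciprocity_one_mod_four (p := 5) (q := p) (by norm_num) hp2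
  have hns : ¬ IsSquare (((p : ℕ) : ℤ) : ZMod 5) := by
    have hcast : ((((p : ℕ) : ℤ)) : ZMod 5) = (p : ZMod 5) := by push_cast; rfl
    rw [hcast]
    have hcast2 : ((p % 5 : ℕ) : ZMod 5) = (p : ZMod 5) := ZMod.natCast_mod p 5
    have hlt : p % 5 < 5 := Nat.mod_lt _ (by norm_num)
    rw [← hcast2] at hord ⊢
    interval_cases hm : p % 5
    · simp at hord
    · simp at hord
    · exact_mod_cast not_sq_two
    · exact_mod_cast not_sq_three
    · exfalso
      have h4 : orderOf ((4 : ℕ) : ZMod 5) = 2 := by exact_mod_cast orderOf_four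
      omega
  have h1 : legendreSym 5 ((p : ℕ) : ℤ) = -1 := (legendreSym.eq_neg_one_iff 5).2 hns
  have h2 : legendreSym p ((5 : ℕ) : ℤ) = -1 := by rw [hqr, h1]
  have h3 := legendreSym.eq_pow p ((5 : ℕ) : ℤ)
  rw [h2] at h3
  push_cast at h3
  exact h3.symm

end NT5T

/-- NT5T -/
theorem exists_t_nonsplit {F : Type*} [Field F] [Fintype F] {p : ℕ} [Fact p.Prime] [CharP F p]
    (hF : Fintype.card F = p ^ 2) (hp4 : p % 4 = 3) (hord : orderOf (p : ZMod 5) = 4) :
    (5 : F) ≠ 0 ∧ ∃ t : F, t * t + t - 1 = 0 ∧ t ^ p = -1 - t := by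
  have hp : p.Prime := Fact.out
  have hp2 : p ≠ 2 := by
    rintro rfl
    omega
  have hp5 : p ≠ 5 := by
    rintro rfl
    rw [NT5T.five_cast, orderOf_zero] at hord
    omega
  have h5 : (5 : F) ≠ 0 := by
    intro h
    have h' : ((5 : ℕ) : F) = 0 := by exact_mod_cast h
    rw [CharP.cast_eq_zero_iff F p] at h'
    exact hp5 ((Nat.prime_dvd_prime_iff_eq hp (by norm_num)).mp h')
  have h2 : (2 : F) ≠ 0 := by
    intro h
    have h' : ((2 : ℕ) : F) = 0 := by exact_mod_cast h
    rw [CharP.cast_eq_zero_iff F p] at h'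
    exact hp2 ((Nat.prime_dvd_prime_iff_eq hp Nat.prime_two).mp h')
  have hchar : ringChar F ≠ 2 := by
    rw [ringChar.eq F p]
    exact hp2
  refine ⟨h5, ?_⟩
  -- `5 ^ (p / 2) = -1` in `F`
  have hpow : (5 : F) ^ (p / 2) = -1 := by
    have h := congrArg (ZMod.castHom (dvd_refl p) F) (NT5T.five_pow_half hp2 hord)
    rw [map_pow, map_neg, map_one] at h
    have h5' : (ZMod.castHom (dvd_refl p) F) (5 : ZMod p) = 5 := by
      have := map_natCast (ZMod.castHom (dvd_refl p) F) 5
      exact_mod_cast this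
    rw [h5'] at h
    exact h
  obtain ⟨k, hk⟩ : ∃ k, p = 2 * k + 1 := ⟨p / 2, by omega⟩
  have hk2 : p / 2 = k := by omega
  rw [hk2] at hpow
  have hkodd : Odd k := by
    rw [Nat.odd_iff]
    omega
  have hhalf : Fintype.card F / 2 = k * (2 * k + 2) := by
    rw [hF, hk]
    have : (2 * k + 1) ^ 2 = 2 * (k * (2 * k + 2)) + 1 := by ring
    rw [this]
    omega
  have hsq : IsSquare (5 : F) := by
    rw [FiniteField.isSquare_iff hchar h5, hhalf, pow_mul, hpow]
    exact Even.neg_one_pow ⟨k + 1, by ring⟩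
  obtain ⟨s, hs⟩ := hsq
  have hsp : s ^ p = -s := by
    rw [hk, pow_succ, pow_mul, pow_two, ← hs, hpow]
    ring
  have h2p : (2 : F) ^ p = 2 := by
    have := map_natCast (frobenius F p) 2
    rw [frobenius_def] at this
    exact_mod_cast this
  refine ⟨(s - 1) / 2, ?_, ?_⟩
  · field_simp
    linear_combination -hs
  · rw [div_pow, sub_pow_char, one_pow, hsp, h2p]
    field_simp
    ring

end Cfsg.Agent.S6001P
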