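import Mathlib
import Cfsg.Prelude.Def_GeometricClasses
import Cfsg.Prelude.Def_Classical
import Cfsg.Prelude.Def_LieClassical
import Cfsg.Agent.Helper20.S6000Defs
import Cfsg.Agent.Helper28.S6001Defs

set_option autoImplicit false
open scoped MatrixGroups Matrix

/-! S6001 piece SQRT2U (driver helper28): a fourth root of unity of `F_{p²}`, `p ≡ 3 mod 4`, is the square
of an element whose norm is `±1`. -/

namespace Cfsg.Agent.S6001P

open Cfsg.Agent.S6000P

/-- SQRT2U -/
theorem exists_sqrt_of_pow_four {F : Type*} [Field F] [Fintype F] {p : ℕ} [Fact p.Prime] [CharP F p]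
    (hF : Fintype.card F = p ^ 2) (hp4 : p % 4 = 3) (z : F) (hz : z ^ 4 = 1) :
    ∃ w : F, w * w = z ∧ (w ^ (p + 1) = 1 ∨ w ^ (p + 1) = -1) := by
  have hp : p.Prime := Fact.out
  have hp2 : p ≠ 2 := by
    rintro rfl
    omega
  have hchar : ringChar F ≠ 2 := by
    rw [ringChar.eq F p]
    exact hp2
  have hz0 : z ≠ 0 := by
    rintro rfl
    norm_num at hz
  -- write `p = 4 m + 3`
  obtain ⟨m, hm⟩ : ∃ m, p = 4 * m + 3 := ⟨p / 4, by omega⟩
  have hhalf : Fintype.card F / 2 = 4 * ((2 * m + 1) * (m + 1)) := by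
    rw [hF, hm]
    have : (4 * m + 3) ^ 2 = 2 * (4 * ((2 * m + 1) * (m + 1))) + 1 := by ring
    rw [this]
    omega
  have hsq : IsSquare z := by
    rw [FiniteField.isSquare_iff hchar hz0, hhalf, pow_mul, hz, one_pow]
  obtain ⟨w, hw⟩ := hsq
  refine ⟨w, hw.symm, ?_⟩
  have h1 : (w ^ (p + 1)) ^ 2 = 1 := by
    rw [← pow_mul, mul_comm, pow_mul, pow_two, ← hw, hm]
    have : 4 * m + 3 + 1 = 4 * (m + 1) := by ring
    rw [this, pow_mul, hz, one_pow]
  have h2 : (w ^ (p + 1) - 1) * (w ^ (p + 1) + 1) = 0 := by linear_combination h1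
  rcases mul_eq_zero.1 h2 with h | h
  · left; linear_combination h
  · right; linear_combination h

end Cfsg.Agent.S6001P
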