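import Mathlib
import Cfsg.Prelude.Def_GeometricClasses
import Cfsg.Prelude.Def_Classical
import Cfsg.Prelude.Def_LieClassical
import Cfsg.Agent.Helper20.S6000Defs
import Cfsg.Agent.Helper28.S6001Defs
import Cfsg.Agent.Helper28.HermFrame

set_option autoImplicit false
set_option linter.unusedSectionVars false
open scoped MatrixGroups Matrix

/-! S6001 piece STRUCT5 (driver helper28): for a unitary `z` of order 5 in `GU_4(p)` with `ord_5(p) = 4`, the
kernel of `z² - tz + 1` is a totally isotropic plane. -/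

namespace Cfsg.Agent.S6001P

open Cfsg.Agent.S6000P

namespace STRUCT5

/-- `X² - tX + 1` has no root in `F_{p²}` when the Frobenius swaps the roots of `t² + t - 1`. -/
theorem no_root {F : Type*} [Field F] [Fintype F] {p : ℕ} [Fact p.Prime] [CharP F p]
    (hF : Fintype.card F = p ^ 2) (t : F) (ht : t * t + t - 1 = 0) (htp : t ^ p = -1 - t)
    (h5 : (5 : F) ≠ 0) (l : F) (hl : l * l - t * l + 1 = 0) : False := by
  have hl0 : l ≠ 0 := by
    rintro rfl
    simp at hl
  have hμ : l ^ p * l ^ p - (-1 - t) * l ^ p + 1 = 0 := by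
    have : (l * l - t * l + 1) ^ p = 0 ^ p := by rw [hl]
    rw [add_pow_char, sub_pow_char, mul_pow, mul_pow, one_pow, htp,
      zero_pow (Fact.out : p.Prime).ne_zero] at this
    exact this
  have hμp : (l ^ p) ^ p = l := pow_p_pow_p p hF l
  have key : (l * l * l ^ p - 1) * (l ^ p - l * l) = 0 := by
    linear_combination (l * l) * hμ - l ^ p * (l * l + t * l + 1) * hl - l ^ p * (l * l) * ht
  have h4 : l ^ 4 = l := by
    rcases mul_eq_zero.1 key with h | h
    · have h' : l * l * l ^ p = 1 := by linear_combination h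
      have h'' : (l * l * l ^ p) ^ p = 1 ^ p := by rw [h']
      rw [mul_pow, mul_pow, hμp, one_pow] at h''
      linear_combination (-(l ^ 4)) * h'' + l * (l * l * l ^ p + 1) * h'
    · have h' : l ^ p = l * l := by linear_combination h
      have h'' : (l ^ p) ^ p = (l * l) ^ p := by rw [h']
      rw [mul_pow, hμp, h'] at h''
      linear_combination -h''
  have h3 : (l - 1) * (l * l + l + 1) = 0 := by
    have : l * ((l - 1) * (l * l + l + 1)) = 0 := by linear_combination h4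
    exact (mul_eq_zero.1 this).resolve_left hl0
  rcases mul_eq_zero.1 h3 with h | h
  · have h1 : l = 1 := by linear_combination h
    rw [h1] at hl
    have ht2 : t = 2 := by linear_combination -hl
    rw [ht2] at ht
    apply h5
    linear_combination ht
  · have h1 : (1 + t) * l = 0 := by linear_combination h - hl
    rcases mul_eq_zero.1 h1 with h1 | h1
    · have ht2 : t = -1 := by linear_combination h1
      rw [ht2] at ht
      have : (1 : F) = 0 := by linear_combination -ht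
      exact one_ne_zero this
    · exact hl0 h1

section mat

variable {F : Type*} [Field F] [Fintype F] {p : ℕ} [Fact p.Prime] [CharP F p]

/-- the quadratic `Z² - sZ + 1` -/
def NN (Z : M4 F) (s : F) : M4 F := Z * Z - s • Z + 1

theorem NN_comm (Z : M4 F) (s : F) : Commute Z (NN Z s) := by
  unfold NN
  exact Commute.add_right (Commute.sub_right (Commute.mul_right rfl rfl)
    (Commute.smul_right rfl s)) (Commute.one_right Z)

theorem NN_mulVec (Z : M4 F) (s : F) (v : Fin 4 → F) :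
    NN Z s *ᵥ v = Z *ᵥ (Z *ᵥ v) - s • (Z *ᵥ v) + v := by
  unfold NN
  rw [Matrix.add_mulVec, Matrix.sub_mulVec, Matrix.smul_mulVec, Matrix.one_mulVec,
    Matrix.mulVec_mulVec]

theorem herm_zero_left (v : Fin 4 → F) : Cfsg.hermForm 4 F p 0 v = 0 := by
  unfold Cfsg.hermForm
  simp

variable (hF : Fintype.card F = p ^ 2) (t : F) (ht : t * t + t - 1 = 0) (htp : t ^ p = -1 - t)
  (Z : M4 F) (hZ5 : Z ^ 5 = 1) (hU : dag p Z * Z = 1)

include hZ5 hU in
theorem dag_Z : dag p Z = Z ^ 4 := by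
  calc dag p Z = dag p Z * (Z * Z ^ 4) := by rw [← pow_succ', hZ5, mul_one]
    _ = Z ^ 4 := by rw [← mul_assoc, hU, one_mul]

include hZ5 hU in
theorem dag_NN (s s' : F) (hs : s ^ p = s') : dag p (NN Z s) = Z ^ 3 * NN Z s' := by
  have e8 : Z ^ 4 * Z ^ 4 = Z ^ 3 := by
    rw [← pow_add, show 4 + 4 = 5 + 3 from rfl, pow_add, hZ5, one_mul]
  have e5 : Z ^ 3 * (Z * Z) = 1 := by
    rw [← pow_two, ← pow_add]
    exact hZ5
  have e4 : Z ^ 3 * Z = Z ^ 4 := by rw [← pow_succ]
  unfold NN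
  rw [dag_add, dag_sub, dag_mul, dag_smul, dag_one, dag_Z Z hZ5 hU, hs, e8, mul_add, mul_sub, e5,
    mul_smul_comm, e4, mul_one]
  abel

include hF ht htp hZ5 hU in
theorem ti (h5 : (5 : F) ≠ 0) (u v : Fin 4 → F) (hu : NN Z t *ᵥ u = 0) (hv : NN Z t *ᵥ v = 0) :
    Cfsg.hermForm 4 F p u v = 0 := by
  have ht'p : (-1 - t) ^ p = t := by rw [← htp, pow_p_pow_p p hF]
  have hd : (t - (-1 - t)) * (t - (-1 - t)) = 5 := by linear_combination 4 * ht
  -- `v = N₂ v'`
  have hv2 : NN Z (-1 - t) *ᵥ v = (t - (-1 - t)) • (Z *ᵥ v) := by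
    have h1 : NN Z (-1 - t) *ᵥ v = NN Z (-1 - t) *ᵥ v - NN Z t *ᵥ v := by rw [hv, sub_zero]
    rw [h1, NN_mulVec, NN_mulVec]
    module
  have hd0 : t - (-1 - t) ≠ 0 := by
    intro h0
    rw [h0, mul_zero] at hd
    exact h5 hd.symm
  have hvv : v = NN Z (-1 - t) *ᵥ ((t - (-1 - t))⁻¹ • (Z ^ 4 *ᵥ v)) := by
    rw [Matrix.mulVec_smul, Matrix.mulVec_mulVec, ← ((NN_comm Z (-1 - t)).pow_left 4).eq,
      ← Matrix.mulVec_mulVec, hv2, Matrix.mulVec_smul, smul_smul, inv_mul_cancel₀ hd0, one_smul,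
      Matrix.mulVec_mulVec, ← pow_succ, hZ5, Matrix.one_mulVec]
  rw [hvv]
  have h1 := herm_mulVec_left p (dag p (NN Z (-1 - t))) u ((t - (-1 - t))⁻¹ • (Z ^ 4 *ᵥ v)) hF
  rw [dag_dag p hF] at h1
  rw [← h1, dag_NN Z hZ5 hU (-1 - t) t ht'p, ← Matrix.mulVec_mulVec, hu, Matrix.mulVec_zero]
  exact herm_zero_left _

open Polynomial in
omit [Fintype F] in
theorem NN_eq_aeval (Z : M4 F) (s : F) : NN Z s = aeval Z (X ^ 2 - C s * X + 1 : F[X]) := by
  unfold NN
  rw [map_add, map_sub, map_pow, map_mul, aeval_X, aeval_C, map_one, pow_two,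
    Algebra.algebraMap_eq_smul_one, smul_mul_assoc, one_mul]

open Polynomial in
omit [Fintype F] in
include ht in
theorem prod_eq : NN Z t * NN Z (-1 - t) * (Z - 1) = Z ^ 5 - 1 := by
  have hpoly : (X ^ 2 - C t * X + 1 : F[X]) * (X ^ 2 - C (-1 - t) * X + 1) * (X - 1) = X ^ 5 - 1 := by
    have hC : (C t : F[X]) * C t + C t - 1 = 0 := by
      rw [← C_mul, ← C_add, ← C_1, ← C_sub, ht, C_0]
    rw [C_sub, C_neg, C_1]
    linear_combination (-(X ^ 2 * (X - 1))) * hC
  have h := congrArg (aeval Z) hpoly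
  rw [map_mul, map_mul, ← NN_eq_aeval, ← NN_eq_aeval] at h
  simpa using h

include hF ht htp hZ5 hU in
theorem finrank_eq (h5 : (5 : F) ≠ 0) (hZ1 : Z ≠ 1) :
    Module.finrank F (LinearMap.ker (Matrix.toLin' (NN Z t))) = 2 := by
  classical
  have hp : p.Prime := Fact.out
  generalize hW : LinearMap.ker (Matrix.toLin' (NN Z t)) = W
  have hmem : ∀ v, v ∈ W ↔ NN Z t *ᵥ v = 0 := by
    intro v
    rw [← hW, LinearMap.mem_ker, Matrix.toLin'_apply]
  have hσ2 : ∀ a : F, frobenius F p (frobenius F p a) = a := fun a => by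
    rw [frobenius_def, frobenius_def]
    exact pow_p_pow_p p hF a
  have hle : W ≤ Cfsg.Agent.Helper28.HW.perp (Cfsg.Agent.Helper28.HermFrame.hB (frobenius F p) 4) W := by
    intro y hy x hx
    rw [Cfsg.Agent.Helper28.HermFrame.hB_eq_herm (frobenius F p) (fun x => frobenius_def p x)]
    exact ti hF t ht htp Z hZ5 hU h5 y x ((hmem y).1 hy) ((hmem x).1 hx)
  have hfr := Cfsg.Agent.Helper28.HW.finrank_perp
    hσ2 (Cfsg.Agent.Helper28.HermFrame.hB_nondeg (frobenius F p) hσ2 4) W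
  have hmono := Submodule.finrank_mono hle
  rw [Module.finrank_fin_fun] at hfr
  have h0 : Module.finrank F W ≠ 0 := by
    intro h0
    rw [Submodule.finrank_eq_zero] at h0
    have hdet1 : (NN Z t).det ≠ 0 := by
      intro hd
      obtain ⟨v, hv0, hv⟩ := Matrix.exists_mulVec_eq_zero_iff.2 hd
      have : v ∈ W := (hmem v).2 hv
      rw [h0, Submodule.mem_bot] at this
      exact hv0 this
    have hdet2 : (NN Z (-1 - t)).det ≠ 0 := by
      have := congrArg Matrix.det (dag_NN Z hZ5 hU t (-1 - t) htp)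
      rw [det_dag, Matrix.det_mul] at this
      intro hd
      rw [hd, mul_zero] at this
      exact hdet1 ((pow_eq_zero_iff hp.ne_zero).1 this)
    have hprod : NN Z t * NN Z (-1 - t) * (Z - 1) = 0 := by
      rw [prod_eq t ht Z, hZ5, sub_self]
    have hu : IsUnit (NN Z t * NN Z (-1 - t)).det := by
      rw [Matrix.det_mul]
      exact (mul_ne_zero hdet1 hdet2).isUnit
    have : Z - 1 = 0 := by
      calc Z - 1 = ((NN Z t * NN Z (-1 - t))⁻¹ * (NN Z t * NN Z (-1 - t))) * (Z - 1) := by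
            rw [Matrix.nonsing_inv_mul _ hu, one_mul]
        _ = 0 := by rw [mul_assoc, hprod, mul_zero]
    exact hZ1 (sub_eq_zero.1 this)
  have h1 : Module.finrank F W ≠ 1 := by
    intro h1
    obtain ⟨w0, hw0, hall⟩ := finrank_eq_one_iff'.1 h1
    have hw0mem : NN Z t *ᵥ (w0 : Fin 4 → F) = 0 := (hmem _).1 w0.2
    have hZw : Z *ᵥ (w0 : Fin 4 → F) ∈ W := by
      rw [hmem, Matrix.mulVec_mulVec, ← (NN_comm Z t).eq, ← Matrix.mulVec_mulVec, hw0mem,
        Matrix.mulVec_zero]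
    obtain ⟨c, hc⟩ := hall ⟨_, hZw⟩
    have hc' : Z *ᵥ (w0 : Fin 4 → F) = c • (w0 : Fin 4 → F) := by
      have := congrArg Subtype.val hc
      simpa using this.symm
    have : (c * c - t * c + 1) • (w0 : Fin 4 → F) = 0 := by
      rw [← hw0mem, NN_mulVec, hc', Matrix.mulVec_smul, hc']
      module
    rcases smul_eq_zero.1 this with h | h
    · exact no_root hF t ht htp h5 c h
    · exact hw0 (Subtype.ext h)
  omega

end mat

end STRUCT5

/-- STRUCT5 -/
theorem ker_quadratic_ti {F : Type*} [Field F] [Fintype F] {p : ℕ} [Fact p.Prime] [CharP F p]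
    (hF : Fintype.card F = p ^ 2) (t : F) (ht : t * t + t - 1 = 0) (htp : t ^ p = -1 - t)
    (h5 : (5 : F) ≠ 0) (h2 : (2 : F) ≠ 0) (z : GL (Fin 4) F) (hz : z ∈ Cfsg.GU 4 F p)
    (hz5 : z ^ 5 = 1) (hz1 : z ≠ 1) :
    Module.finrank F (LinearMap.ker (Matrix.toLin'
      ((z : M4 F) * (z : M4 F) - t • (z : M4 F) + 1))) = 2 ∧
    ∀ u ∈ LinearMap.ker (Matrix.toLin' ((z : M4 F) * (z : M4 F) - t • (z : M4 F) + 1)),
      ∀ v ∈ LinearMap.ker (Matrix.toLin' ((z : M4 F) * (z : M4 F) - t • (z : M4 F) + 1)),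
        Cfsg.hermForm 4 F p u v = 0 := by
  have hZ5 : (z : M4 F) ^ 5 = 1 := by
    rw [← Units.val_pow_eq_pow_val, hz5, Units.val_one]
  have hU : dag p (z : M4 F) * (z : M4 F) = 1 := (mem_GU_iff_dag p z).1 hz
  have hZ1 : (z : M4 F) ≠ 1 := by
    intro h
    apply hz1
    apply Units.ext
    rw [h, Units.val_one]
  refine ⟨STRUCT5.finrank_eq hF t ht htp (z : M4 F) hZ5 hU h5 hZ1, ?_⟩
  intro u hu v hv
  rw [LinearMap.mem_ker, Matrix.toLin'_apply] at hu hv
  exact STRUCT5.ti hF t ht htp (z : M4 F) hZ5 hU h5 u v hu hv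

end Cfsg.Agent.S6001P
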