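import Cfsg.Agent.Helper12.SzTDefs

set_option autoImplicit false

/-! SZT piece ELEM (driver helper12): elementary subgroups lie in conjugates of `U`, `A0`, `A1`, `A2`. -/

namespace Cfsg.Agent.SZT

open Cfsg Cfsg.Agent.Helper11.SCTI Cfsg.Agent.Helper24
open scoped Classical ComplexConjugate

universe u

variable {G : Type u} [Group G] [Fintype G]

namespace Cfg

variable (C : Cfg G)

theorem elementary_le (E : Subgroup G) (p : ℕ) (hp : p.Prime) (hE : IsElementary p E) :
    (∃ h, E ≤ cj h C.U) ∨ (∃ h, E ≤ cj h C.A0) ∨ (∃ h, E ≤ cj h C.A1) ∨ (∃ h, E ≤ cj h C.A2) := by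
  by_cases hbot : E = ⊥
  · left
    exact ⟨1, by rw [hbot]; exact bot_le⟩
  obtain ⟨x, hxc, hcop, k, hk⟩ := hE
  have hz : ∃ z : E, z ≠ 1 ∧ z ∈ Subgroup.center E := by
    by_cases hx1 : x = 1
    · subst hx1
      rw [Subgroup.zpowers_one_eq_bot, Subgroup.index_bot] at hk
      have : Fact p.Prime := ⟨hp⟩
      have hpg : IsPGroup p E := IsPGroup.of_card hk
      have : Nontrivial E := (Subgroup.nontrivial_iff_ne_bot E).2 hbot
      have := hpg.center_nontrivial
      obtain ⟨z, hz⟩ := exists_ne (1 : Subgroup.center E)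
      exact ⟨z, fun h => hz (Subtype.ext h), z.2⟩
    · exact ⟨x, hx1, hxc⟩
  obtain ⟨z, hz1, hzc⟩ := hz
  have hEC : E ≤ Subgroup.centralizer ({(z : G)} : Set G) := by
    intro e he
    rw [mem_centralizer_singleton]
    have h1 := Subgroup.mem_center_iff.1 hzc ⟨e, he⟩
    have h2 := congrArg Subtype.val h1
    simpa using h2.symm
  have hzG : (z : G) ≠ 1 := fun h => hz1 (Subtype.ext h)
  rcases C.classify z hzG with h2 | h4 | ⟨a, ha, ha1, hconj⟩ | ⟨a, ha, ha1, hconj⟩ |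
    ⟨a, ha, ha1, hconj⟩
  · left
    obtain ⟨h, hh⟩ := C.cent_two z h2
    exact ⟨h, hEC.trans hh⟩
  · left
    have h2 : orderOf ((z : G) ^ 2) = 2 := by
      rw [orderOf_pow' _ (by norm_num), h4]
      rfl
    obtain ⟨h, hh⟩ := C.cent_two _ h2
    refine ⟨h, hEC.trans (le_trans ?_ hh)⟩
    intro c hc
    rw [mem_centralizer_singleton] at hc ⊢
    rw [pow_two, mul_assoc, hc, ← mul_assoc, hc, mul_assoc]
  · right; left
    obtain ⟨c, hc⟩ := isConj_iff.1 hconj
    refine ⟨c, ?_⟩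
    rw [← C.sc_A0 a ha ha1, ← centralizer_conj, hc]
    exact hEC
  · right; right; left
    obtain ⟨c, hc⟩ := isConj_iff.1 hconj
    refine ⟨c, ?_⟩
    rw [← C.sc_A1 a ha ha1, ← centralizer_conj, hc]
    exact hEC
  · right; right; right
    obtain ⟨c, hc⟩ := isConj_iff.1 hconj
    refine ⟨c, ?_⟩
    rw [← C.sc_A2 a ha ha1, ← centralizer_conj, hc]
    exact hEC

end Cfg

end Cfsg.Agent.SZT
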