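import Cfsg.Agent.Helper12.SzTDefs

set_option autoImplicit false

/-! SZT piece IRRCASES (driver helper12): every irreducible character is in the list. -/

namespace Cfsg.Agent.SZT

open Cfsg Cfsg.Agent.Helper11.SCTI Cfsg.Agent.Helper24
open scoped Classical ComplexConjugate

universe u

variable {G : Type u} [Group G] [Fintype G]

namespace Cfg

variable (C : Cfg G)

/-- every irreducible character is in the list -/
theorem irr_cases {W₁ W₂ : G → ℂ} (h : C.IsRest W₁ W₂) (ψ : IrrCharacter G) :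
    (ψ : G → ℂ) = (fun _ => 1) ∨ (ψ : G → ℂ) = C.cX ∨
      (∃ θ : C.A0 →* ℂˣ, θ ≠ 1 ∧ (ψ : G → ℂ) = C.cF0 θ) ∨
      (∃ θ : C.A1 →* ℂˣ, θ ≠ 1 ∧ (ψ : G → ℂ) = C.cF1 θ) ∨
      (∃ θ : C.A2 →* ℂˣ, θ ≠ 1 ∧ (ψ : G → ℂ) = C.cF2 θ) ∨
      (ψ : G → ℂ) = W₁ ∨ (ψ : G → ℂ) = W₂ := by
  by_contra hcon
  push Not at hcon
  obtain ⟨h1, hX, h0, hA1, hA2, hW1, hW2⟩ := hcon
  have key := h (fun φ => if (ψ : G → ℂ) = φ then 1 else 0)
  beta_reduce at key
  rw [if_neg h1, if_neg hX, if_neg hW1, if_neg hW2] at key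
  have e0 : ∀ θ : C.A0 →* ℂˣ,
      (if θ = 1 then (0 : ℂ) else if (ψ : G → ℂ) = C.cF0 θ then 1 else 0) = 0 := by
    intro θ
    by_cases hθ : θ = 1
    · rw [if_pos hθ]
    · rw [if_neg hθ, if_neg (h0 θ hθ)]
  have e1 : ∀ θ : C.A1 →* ℂˣ,
      (if θ = 1 then (0 : ℂ) else if (ψ : G → ℂ) = C.cF1 θ then 1 else 0) = 0 := by
    intro θ
    by_cases hθ : θ = 1
    · rw [if_pos hθ]
    · rw [if_neg hθ, if_neg (hA1 θ hθ)]
  have e2 : ∀ θ : C.A2 →* ℂˣ,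
      (if θ = 1 then (0 : ℂ) else if (ψ : G → ℂ) = C.cF2 θ then 1 else 0) = 0 := by
    intro θ
    by_cases hθ : θ = 1
    · rw [if_pos hθ]
    · rw [if_neg hθ, if_neg (hA2 θ hθ)]
  simp only [e0, e1, e2, Finset.sum_const_zero, mul_zero, add_zero] at key
  have hsum : ∑ φ : IrrCharacter G, (if (ψ : G → ℂ) = (φ : G → ℂ) then (1 : ℂ) else 0) = 1 := by
    rw [Finset.sum_eq_single ψ]
    · rw [if_pos rfl]
    · intro b _ hb
      rw [if_neg]
      intro hbe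
      exact hb (Subtype.ext hbe.symm)
    · intro hn
      exact absurd (Finset.mem_univ ψ) hn
  rw [hsum] at key
  exact one_ne_zero key

end Cfg

end Cfsg.Agent.SZT
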