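import Cfsg.Agent.Helper12.SzTDefs

set_option autoImplicit false

/-! SZT piece REM (driver helper12): the remainder of the column orthogonality relations. -/

namespace Cfsg.Agent.SZT

open Cfsg Cfsg.Agent.Helper11.SCTI Cfsg.Agent.Helper24
open scoped Classical ComplexConjugate

universe u

variable {G : Type u} [Group G] [Fintype G]

namespace Cfg

variable (C : Cfg G)

/-- the remainder of the column orthogonality relations -/
theorem rem_eq {W₁ W₂ : G → ℂ} (h : C.IsRest W₁ W₂) (g k : G) :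
    W₁ g * conj (W₁ k) + W₂ g * conj (W₂ k) =
      (if IsConj g k then (Nat.card (Subgroup.centralizer ({g} : Set G)) : ℂ) else 0) - 1 -
        C.cX g * conj (C.cX k) -
        2⁻¹ * ∑ θ : C.A0 →* ℂˣ, (if θ = 1 then 0 else C.cF0 θ g * conj (C.cF0 θ k)) -
        4⁻¹ * ∑ θ : C.A1 →* ℂˣ, (if θ = 1 then 0 else C.cF1 θ g * conj (C.cF1 θ k)) -
        4⁻¹ * ∑ θ : C.A2 →* ℂˣ, (if θ = 1 then 0 else C.cF2 θ g * conj (C.cF2 θ k)) := by
  have key := h (fun φ => φ g * conj (φ k))
  beta_reduce at key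
  have hso := sum_irr_mul_conj g k
  rw [hso] at key
  rw [map_one, mul_one] at key
  rw [key]
  ring

end Cfg

end Cfsg.Agent.SZT
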