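import Mathlib
import Cfsg.Prelude.Def_PLocal
import Cfsg.Prelude.Def_Transfer
import Cfsg.Agent.Helper1.NormalAbelianCyclic
import Cfsg.Agent.Helper1.CyclicMaxOdd
import Cfsg.Agent.Helper23.Cyclic

/-!
# `p`-groups with a self-centralizing cyclic normal subgroup

For `U = ⟨a⟩` normal with `C_G(U) = U` and `M = C_G(a ^ p)`: `|M : U| = p` and `Ω₁(M)` is
elementary abelian of order `p ^ 2`, characteristic in `G` (in the odd case, and in the
"modular" case for `p = 2`).
-/

set_option autoImplicit false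
set_option linter.unusedSectionVars false

namespace Cfsg.Agent.Helper1.SCC

open Cfsg.Agent.Helper1.CyclicMax2 Cfsg.Agent.Helper1.CyclicMaxOdd Cfsg.Agent.Helper1.NAC

variable {G : Type*} [Group G]

theorem closure_pow_eq_one_characteristic (n : ℕ) :
    (Subgroup.closure {x : G | x ^ n = 1}).Characteristic := by
  rw [Subgroup.characteristic_iff_map_le]
  intro φ
  rw [MonoidHom.map_closure, Subgroup.closure_le]
  rintro _ ⟨x, hx, rfl⟩
  apply Subgroup.subset_closure
  show (φ x) ^ n = 1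
  rw [← map_pow, show x ^ n = 1 from hx, map_one]

section odd

variable [Finite G] {p : ℕ} [hp : Fact p.Prime] (hp2 : p ≠ 2) (hG : IsPGroup p G)
  (a : G) (m : ℕ) (ha : orderOf a = p ^ (m + 1)) (hm : 1 ≤ m)
  (hAn : (Subgroup.zpowers a).Normal)
  (hcent : ∀ g : G, g * a = a * g → g ∈ Subgroup.zpowers a)
  (M : Subgroup G) (hM : ∀ g : G, g ∈ M ↔ g * a ^ p = a ^ p * g)

include hp2 ha hAn hM in
/-- elements whose `p`-th power centralizes `a` lie in `M` -/
theorem mem_M_of_pow (g : G) (hg : g ^ p * a = a * g ^ p) : g ∈ M := by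
  have hnorm : g * a * g⁻¹ ∈ Subgroup.zpowers a := hAn.conj_mem a (Subgroup.mem_zpowers a) g
  obtain ⟨s, hs, -⟩ := conj_eq_mul_central hp2 a g m ha hnorm hg
  rw [hM]
  have hzp : (a ^ p ^ m) ^ p = 1 := by rw [← pow_mul, ← pow_succ, ← ha, pow_orderOf_eq_one]
  have hcomm : Commute a ((a ^ p ^ m) ^ s) := ((Commute.refl a).pow_right _).zpow_right s
  have h1 : g * a ^ p * g⁻¹ = a ^ p := by
    rw [← conj_pow, hs, hcomm.mul_pow, ← zpow_natCast ((a ^ p ^ m) ^ s) p, ← zpow_mul, mul_comm s,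
      zpow_mul, zpow_natCast, hzp, one_zpow, mul_one]
  calc g * a ^ p = (g * a ^ p * g⁻¹) * g := by group
    _ = a ^ p * g := by rw [h1]

include ha hAn hM hm in
/-- elements of `M` act on `a` by multiplication with a power of `z` -/
theorem conj_of_mem_M (g : G) (hg : g ∈ M) :
    ∃ s : ℤ, g * a * g⁻¹ = a * (a ^ p ^ m) ^ s ∧ g * a ^ p ^ m * g⁻¹ = a ^ p ^ m := by
  have hnorm : g * a * g⁻¹ ∈ Subgroup.zpowers a := hAn.conj_mem a (Subgroup.mem_zpowers a) g
  obtain ⟨u, hu⟩ := Subgroup.mem_zpowers_iff.mp hnorm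
  have hgp : g * a ^ p * g⁻¹ = a ^ p := by
    rw [(hM g).mp hg]; group
  have hord : ((orderOf a : ℕ) : ℤ) = (p : ℤ) ^ (m + 1) := by rw [ha]; push_cast; rfl
  have h1 : a ^ (u * (p : ℤ)) = a ^ ((p : ℤ)) := by
    rw [zpow_mul, hu, zpow_natCast, conj_pow, hgp, zpow_natCast]
  rw [zpow_eq_zpow_iff_modEq, hord] at h1
  have hpz : (p : ℤ) ≠ 0 := by exact_mod_cast hp.out.ne_zero
  have h2 : (p : ℤ) ^ m ∣ u - 1 := by
    have h3 : (p : ℤ) ^ (m + 1) ∣ u * p - p := by
      have := Int.modEq_iff_dvd.mp h1.symm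
      exact this
    have h4 : u * (p : ℤ) - p = p * (u - 1) := by ring
    rw [h4, pow_succ, mul_comm ((p : ℤ) ^ m) p] at h3
    exact (mul_dvd_mul_iff_left hpz).mp h3
  obtain ⟨s, hs⟩ := h2
  refine ⟨s, ?_, ?_⟩
  · rw [← hu, show u = 1 + (p : ℤ) ^ m * s by linarith, zpow_add, zpow_one, zpow_mul]
    congr 2
    rw [← zpow_natCast]; push_cast; rfl
  · obtain ⟨m', rfl⟩ : ∃ m', m = m' + 1 := ⟨m - 1, by omega⟩
    rw [pow_succ', pow_mul, ← conj_pow, hgp]

include hp2 hG ha hm hAn hcent hM in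
theorem odd_main (x : G) (hx : x ∉ Subgroup.zpowers a) :
    (Subgroup.zpowers a).relIndex M = p ∧
      Cfsg.IsElementaryAbelian p (Cfsg.omegaOne p M) ∧
      Nat.card (Cfsg.omegaOne p M) = p ^ 2 ∧ (Cfsg.omegaOne p M).Characteristic := by
  classical
  set z : G := a ^ p ^ m with hz
  have hzp : z ^ p = 1 := by rw [hz, ← pow_mul, ← pow_succ, ← ha, pow_orderOf_eq_one]
  have hz1 : z ≠ 1 := by
    intro h
    have h1 : orderOf a ∣ p ^ m := orderOf_dvd_of_pow_eq_one h
    rw [ha] at h1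
    have := Nat.le_of_dvd (pow_pos hp.out.pos m) h1
    exact absurd this (not_le.mpr (Nat.pow_lt_pow_right hp.out.one_lt (Nat.lt_succ_self m)))
  have hzord : orderOf z = p := orderOf_eq_prime hzp hz1
  have haz : Commute a z := (Commute.refl a).pow_right _
  have haM : a ∈ M := (hM a).mpr ((Commute.refl a).pow_right p).eq
  have hUM : Subgroup.zpowers a ≤ M := Subgroup.zpowers_le.mpr haM
  -- an element of `M` outside `U`
  obtain ⟨y, hyM, hyU⟩ : ∃ y : G, y ∈ M ∧ y ∉ Subgroup.zpowers a := by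
    have hex : ∃ k : ℕ, x ^ p ^ k ∈ Subgroup.zpowers a := by
      obtain ⟨k, hk⟩ := hG x
      exact ⟨k, by rw [hk]; exact one_mem _⟩
    have hj₀spec := Nat.find_spec hex
    have hj₀pos : Nat.find hex ≠ 0 := by
      intro h
      rw [h, pow_zero, pow_one] at hj₀spec
      exact hx hj₀spec
    obtain ⟨j, hj⟩ : ∃ j, Nat.find hex = j + 1 := ⟨Nat.find hex - 1, by omega⟩
    refine ⟨x ^ p ^ j, ?_, Nat.find_min hex (by omega : j < Nat.find hex)⟩
    apply mem_M_of_pow hp2 a m ha hAn M hM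
    have h1 : (x ^ p ^ j) ^ p ∈ Subgroup.zpowers a := by
      rw [← pow_mul, ← pow_succ, ← hj]; exact hj₀spec
    obtain ⟨t, ht⟩ := Subgroup.mem_zpowers_iff.mp h1
    rw [← ht]
    exact ((Commute.refl a).zpow_left t).eq
  -- the commutator homomorphism
  have hMz : ∀ g : G, g ∈ M → g * z * g⁻¹ = z := fun g hg =>
    (conj_of_mem_M a m ha hm hAn M hM g hg).choose_spec.2
  have hmul : ∀ g h : M, ((g * h : M) : G) * a * ((g * h : M) : G)⁻¹ * a⁻¹ =
      ((g : G) * a * (g : G)⁻¹ * a⁻¹) * ((h : G) * a * (h : G)⁻¹ * a⁻¹) := by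
    intro g h
    obtain ⟨s, hs, -⟩ := conj_of_mem_M a m ha hm hAn M hM g g.2
    obtain ⟨t, ht, -⟩ := conj_of_mem_M a m ha hm hAn M hM h h.2
    have hgz : (g : G) * z ^ t * (g : G)⁻¹ = z ^ t := by
      rw [← conj_zpow, hMz g g.2]
    have e1 : ((g * h : M) : G) * a * ((g * h : M) : G)⁻¹ * a⁻¹ =
        (g : G) * ((h : G) * a * (h : G)⁻¹) * (g : G)⁻¹ * a⁻¹ := by
      rw [Subgroup.coe_mul]; group
    have hazs : Commute a (z ^ s) := haz.zpow_right s
    have hazt : Commute a (z ^ t) := haz.zpow_right t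
    rw [e1, ht, hs]
    calc (g : G) * (a * z ^ t) * (g : G)⁻¹ * a⁻¹
        = ((g : G) * a * (g : G)⁻¹) * ((g : G) * z ^ t * (g : G)⁻¹) * a⁻¹ := by group
      _ = a * z ^ s * z ^ t * a⁻¹ := by rw [hs, hgz]
      _ = (a * z ^ s * a⁻¹) * (a * z ^ t * a⁻¹) := by group
  let φ : M →* G := MonoidHom.mk' (fun g => (g : G) * a * (g : G)⁻¹ * a⁻¹) hmul
  have hφ : ∀ g : M, φ g = (g : G) * a * (g : G)⁻¹ * a⁻¹ := fun g => rfl
  have hker : φ.ker = (Subgroup.zpowers a).subgroupOf M := by
    ext g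
    rw [MonoidHom.mem_ker, hφ, Subgroup.mem_subgroupOf]
    constructor
    · intro h
      apply hcent
      calc (g : G) * a = ((g : G) * a * (g : G)⁻¹ * a⁻¹) * a * g := by group
        _ = a * g := by rw [h, one_mul]
    · intro h
      obtain ⟨t, ht⟩ := Subgroup.mem_zpowers_iff.mp h
      have hc : Commute (g : G) a := by rw [← ht]; exact (Commute.refl a).zpow_left t
      rw [hc.eq]; group
  have hrange : φ.range ≤ Subgroup.zpowers z := by
    rintro _ ⟨g, rfl⟩
    obtain ⟨s, hs, -⟩ := conj_of_mem_M a m ha hm hAn M hM g g.2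
    rw [hφ, hs]
    have : a * z ^ s * a⁻¹ = z ^ s := by rw [(haz.zpow_right s).eq]; group
    rw [this]
    exact (Subgroup.zpowers z).zpow_mem (Subgroup.mem_zpowers z) s
  have hidx : ((Subgroup.zpowers a).subgroupOf M).index = p := by
    rw [← hker, Subgroup.index_ker]
    have h1 : Nat.card φ.range ∣ p := by
      have := Subgroup.card_dvd_of_le hrange
      rwa [Nat.card_zpowers, hzord] at this
    rcases (Nat.dvd_prime hp.out).mp h1 with h | h
    · exfalso
      have hbot : φ.range = ⊥ := Subgroup.card_eq_one.mp h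
      have : φ ⟨y, hyM⟩ = 1 := by
        have hmem : φ ⟨y, hyM⟩ ∈ φ.range := ⟨_, rfl⟩
        rw [hbot, Subgroup.mem_bot] at hmem
        exact hmem
      have hyk : (⟨y, hyM⟩ : M) ∈ φ.ker := this
      rw [hker, Subgroup.mem_subgroupOf] at hyk
      exact hyU hyk
    · exact h
  refine ⟨hidx, ?_⟩
  -- apply the cyclic-maximal-subgroup theorem to `M`
  have hMp : IsPGroup p M := hG.to_subgroup M
  have hMnc : ¬ IsCyclic M := by
    intro hcyc
    have := hcyc.isMulCommutative
    have h1 : (⟨y, hyM⟩ : M) * ⟨a, haM⟩ = ⟨a, haM⟩ * ⟨y, hyM⟩ := mul_comm' _ _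
    exact hyU (hcent y (congrArg Subtype.val h1))
  have e : (Subgroup.zpowers a).subgroupOf M ≃* Subgroup.zpowers a :=
    Subgroup.subgroupOfEquivOfLe hUM
  have hCcyc : IsCyclic ((Subgroup.zpowers a).subgroupOf M) :=
    isCyclic_of_surjective e.symm e.symm.surjective
  obtain ⟨K, hK, hKc, -⟩ := exists_omega hp2 hMp hMnc _ hCcyc hidx
  have hmemM : ∀ g : G, g ^ p = 1 → g ∈ M := by
    intro g hg
    apply mem_M_of_pow hp2 a m ha hAn M hM
    rw [hg, one_mul, mul_one]
  have hmem : ∀ g : G, g ∈ K.map M.subtype ↔ g ^ p = 1 := by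
    intro g
    constructor
    · rintro ⟨k, hk, rfl⟩
      have := (hK k).mp hk
      have h2 := congrArg Subtype.val this
      simpa using h2
    · intro hgp
      refine ⟨⟨g, hmemM g hgp⟩, (hK _).mpr ?_, rfl⟩
      apply Subtype.ext
      simpa using hgp
  have hΩ : Cfsg.omegaOne p M = K.map M.subtype := by
    unfold Cfsg.omegaOne
    apply le_antisymm
    · rw [Subgroup.closure_le]
      intro g hg
      exact (hmem g).mpr hg.2
    · intro g hg
      exact Subgroup.subset_closure ⟨hmemM g ((hmem g).mp hg), (hmem g).mp hg⟩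
  have hΩ' : Cfsg.omegaOne p M = Subgroup.closure {x : G | x ^ p = 1} := by
    unfold Cfsg.omegaOne
    congr 1
    ext g
    exact ⟨fun h => h.2, fun h => ⟨hmemM g h, h⟩⟩
  have hAc : Nat.card (K.map M.subtype) = p ^ 2 := by
    rw [Subgroup.card_map_of_injective M.subtype_injective, hKc]
  refine ⟨?_, ?_, ?_⟩
  · rw [hΩ]
    exact ⟨IsPGroup.isMulCommutative_of_card_eq_prime_sq hAc, fun g hg => (hmem g).mp hg⟩
  · rw [hΩ]; exact hAc
  · rw [hΩ']; exact closure_pow_eq_one_characteristic p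

end odd

section two

variable [Finite G] (a : G) (m : ℕ) (ha : orderOf a = 2 ^ (m + 1)) (hm : 2 ≤ m)
  (hAn : (Subgroup.zpowers a).Normal)
  (hcent : ∀ g : G, g * a = a * g → g ∈ Subgroup.zpowers a)
  (b : G) (hb2 : b * b = 1) (hba : b * a * b⁻¹ = a ^ (1 + 2 ^ m))
  (M : Subgroup G) (hM : ∀ g : G, g ∈ M ↔ g * a ^ 2 = a ^ 2 * g)

include ha hm hAn hcent hb2 hba hM in
theorem two_main :
    (Subgroup.zpowers a).relIndex M = 2 ∧
      Cfsg.IsElementaryAbelian 2 (Cfsg.omegaOne 2 M) ∧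
      Nat.card (Cfsg.omegaOne 2 M) = 2 ^ 2 ∧ (Cfsg.omegaOne 2 M).Characteristic := by
  set z : G := a ^ 2 ^ m with hz
  have hz2 : z * z = 1 := z_mul_self a m ha
  have hz1 : z ≠ 1 := z_ne_one a m ha
  have hbaz : b * a * b⁻¹ = a * z := by rw [hba, pow_add, pow_one]
  have haz : Commute a z := (Commute.refl a).pow_right _
  have hzconj : ∀ g : G, g * z * g⁻¹ = z := z_conj a m ha hAn
  have hzc : ∀ g : G, Commute g z := by
    intro g
    show g * z = z * g
    calc g * z = (g * z * g⁻¹) * g := by group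
      _ = z * g := by rw [hzconj g]
  have hbz : b * z = z * b := (hzc b).eq
  have hconjb : ∀ g : G, g * b * g⁻¹ = b ∨ g * b * g⁻¹ = b * z :=
    b_conj a m ha hAn hm b hb2 hba hcent
  have hbinv : b⁻¹ = b := inv_eq_of_mul_eq_one_right hb2
  have hb1 : b ≠ 1 := by
    intro h
    rw [h] at hbaz
    apply hz1
    have : a = a * z := by simpa using hbaz
    exact (mul_eq_left.mp this.symm)
  have hbU : b ∉ Subgroup.zpowers a := by
    intro h
    obtain ⟨t, ht⟩ := Subgroup.mem_zpowers_iff.mp h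
    have hc : Commute b a := by rw [← ht]; exact (Commute.refl a).zpow_left t
    apply hz1
    have : b * a * b⁻¹ = a := by rw [hc.eq]; group
    rw [this] at hbaz
    exact mul_eq_left.mp hbaz.symm
  have hzU : z ∈ Subgroup.zpowers a := (Subgroup.zpowers a).pow_mem (Subgroup.mem_zpowers a) _
  have hzb : z ≠ b := fun h => hbU (h ▸ hzU)
  have haM : a ∈ M := (hM a).mpr ((Commute.refl a).pow_right 2).eq
  have hUM : Subgroup.zpowers a ≤ M := Subgroup.zpowers_le.mpr haM
  have hzM : z ∈ M := hUM hzU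
  have hbM : b ∈ M := by
    rw [hM]
    have h1 : b * a ^ 2 * b⁻¹ = a ^ 2 := by
      rw [← conj_pow, hbaz, haz.mul_pow, pow_two z, hz2, mul_one]
    calc b * a ^ 2 = (b * a ^ 2 * b⁻¹) * b := by group
      _ = a ^ 2 * b := by rw [h1]
  have hord : ((orderOf a : ℕ) : ℤ) = 2 ^ (m + 1) := by rw [ha]; push_cast; rfl
  -- the two cosets of `U` in `M`
  have hMform : ∀ g : G, g ∈ M → g ∈ Subgroup.zpowers a ∨ b⁻¹ * g ∈ Subgroup.zpowers a := by
    intro g hg
    have hnorm : g * a * g⁻¹ ∈ Subgroup.zpowers a := hAn.conj_mem a (Subgroup.mem_zpowers a) g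
    obtain ⟨v, hv⟩ := Subgroup.mem_zpowers_iff.mp hnorm
    have hg2 : g * a ^ 2 * g⁻¹ = a ^ 2 := by rw [(hM g).mp hg]; group
    have h1 : a ^ (v * 2) = a ^ (2 : ℤ) := by
      rw [zpow_mul, hv, zpow_ofNat, conj_pow, hg2, zpow_ofNat]
    rw [zpow_eq_zpow_iff_modEq, hord] at h1
    have h2 : (2 : ℤ) ^ m ∣ v - 1 := by
      have h3 : (2 : ℤ) ^ (m + 1) ∣ v * 2 - 2 := Int.modEq_iff_dvd.mp h1.symm
      have h4 : v * 2 - 2 = 2 * (v - 1) := by ring
      rw [h4, pow_succ, mul_comm ((2 : ℤ) ^ m) 2] at h3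
      exact (mul_dvd_mul_iff_left (by norm_num : (2 : ℤ) ≠ 0)).mp h3
    obtain ⟨k, hk⟩ := h2
    have h5 : g * a * g⁻¹ = a * z ^ k := by
      rw [← hv, show v = 1 + 2 ^ m * k by linarith, zpow_add, zpow_one, zpow_mul]
      congr 2
      rw [hz, ← zpow_natCast]; push_cast; rfl
    rcases zpow_of_mul_self_eq_one hz2 k with h | h
    · left
      apply hcent
      rw [h, mul_one] at h5
      calc g * a = (g * a * g⁻¹) * g := by group
        _ = a * g := by rw [h5]
    · right
      apply hcent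
      rw [h, ← hbaz] at h5
      calc b⁻¹ * g * a = b⁻¹ * (g * a * g⁻¹) * g := by group
        _ = b⁻¹ * (b * a * b⁻¹) * g := by rw [h5]
        _ = a * (b⁻¹ * g) := by group
  -- index two
  have hidx : ((Subgroup.zpowers a).subgroupOf M).index = 2 := by
    rw [Subgroup.index_eq_two_iff_exists_notMem_and]
    refine ⟨⟨b, hbM⟩, ?_, fun g => ?_⟩
    · rw [Subgroup.mem_subgroupOf]; exact hbU
    · rw [Subgroup.mem_subgroupOf, Subgroup.mem_subgroupOf]
      rcases hMform g g.2 with h | h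
      · exact Or.inr h
      · left
        have : ((g * ⟨b, hbM⟩ : M) : G) = b * (b⁻¹ * (g : G)) * b⁻¹ := by
          rw [Subgroup.coe_mul, hbinv]
          show (g : G) * b = b * (b * (g : G)) * b
          calc (g : G) * b = (b * b) * (g : G) * b := by rw [hb2, one_mul]
            _ = b * (b * (g : G)) * b := by group
        rw [this]
        exact hAn.conj_mem _ h b
  -- involutions of `M`
  have hT : ∀ g : G, g ∈ M → g * g = 1 → g = 1 ∨ g = z ∨ g = b ∨ g = b * z := by
    intro g hg hgg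
    rcases hMform g hg with h | h
    · obtain ⟨i, hi⟩ := Subgroup.mem_zpowers_iff.mp h
      have h1 : a ^ (i * 2) = 1 := by rw [zpow_mul, hi, zpow_ofNat, pow_two, hgg]
      rw [← orderOf_dvd_iff_zpow_eq_one, hord] at h1
      have h2 : (2 : ℤ) ^ m ∣ i := by
        rw [pow_succ, mul_comm i 2, mul_comm ((2 : ℤ) ^ m) 2] at h1
        exact (mul_dvd_mul_iff_left (by norm_num : (2 : ℤ) ≠ 0)).mp h1
      obtain ⟨k, hk⟩ := h2
      have h3 : g = z ^ k := by
        rw [← hi, hk, zpow_mul, hz, ← zpow_natCast a (2 ^ m)]; push_cast; rfl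
      rcases zpow_of_mul_self_eq_one hz2 k with h' | h'
      · left; rw [h3, h']
      · right; left; rw [h3, h']
    · obtain ⟨i, hi⟩ := Subgroup.mem_zpowers_iff.mp h
      have h1 : g = b * a ^ i := by rw [hi]; group
      rw [h1] at hgg
      rcases modular_sq a m ha hm b hb2 hba i hgg with h' | h'
      · right; right; left; rw [h1, h', mul_one]
      · right; right; right; rw [h1, h']
  -- the four-group
  set W : Subgroup G := Subgroup.closure {z, b} with hW
  have hzW : z ∈ W := Subgroup.subset_closure (by simp)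
  have hbW : b ∈ W := Subgroup.subset_closure (by simp)
  have hWc : IsMulCommutative W := by
    apply Subgroup.isMulCommutative_closure
    rintro x (rfl | rfl) y (rfl | rfl)
    · rfl
    · exact hbz.symm
    · exact hbz
    · rfl
  have hWM : W ≤ M := by
    rw [hW, Subgroup.closure_le]
    rintro x (rfl | rfl)
    · exact hzM
    · exact hbM
  have hWexp : ∀ w ∈ W, w ^ 2 = 1 := by
    intro w hw
    induction hw using Subgroup.closure_induction with
    | mem x hx =>
      rcases hx with rfl | rfl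
      · rw [pow_two]; exact hz2
      · rw [pow_two]; exact hb2
    | one => exact one_pow 2
    | mul x y hx hy ihx ihy =>
      have h1 : (⟨x, hx⟩ : W) * ⟨y, hy⟩ = ⟨y, hy⟩ * ⟨x, hx⟩ := mul_comm' _ _
      have h2 : Commute x y := congrArg Subtype.val h1
      rw [h2.mul_pow, ihx, ihy, one_mul]
    | inv x _ ihx => rw [inv_pow, ihx, inv_one]
  have hWelts : ∀ w ∈ W, w = 1 ∨ w = z ∨ w = b ∨ w = b * z := by
    intro w hw
    exact hT w (hWM hw) (by rw [← pow_two]; exact hWexp w hw)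
  have hΩ : Cfsg.omegaOne 2 M = W := by
    unfold Cfsg.omegaOne
    apply le_antisymm
    · rw [Subgroup.closure_le]
      rintro g ⟨hgM, hg2⟩
      rcases hT g hgM (by rw [← pow_two]; exact hg2) with rfl | rfl | rfl | rfl
      · exact W.one_mem
      · exact hzW
      · exact hbW
      · exact W.mul_mem hbW hzW
    · rw [hW, Subgroup.closure_le]
      rintro x (rfl | rfl)
      · exact Subgroup.subset_closure ⟨hzM, by rw [pow_two]; exact hz2⟩
      · exact Subgroup.subset_closure ⟨hbM, by rw [pow_two]; exact hb2⟩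
  have hWcard : Nat.card W = 2 ^ 2 := by
    have hsup : W = Subgroup.zpowers z ⊔ Subgroup.zpowers b := by
      apply le_antisymm
      · rw [hW, Subgroup.closure_le]
        rintro x (h | h)
        · rw [h]
          exact (le_sup_left : Subgroup.zpowers z ≤ Subgroup.zpowers z ⊔ Subgroup.zpowers b)
            (Subgroup.mem_zpowers z)
        · rw [h]
          exact (le_sup_right : Subgroup.zpowers b ≤ Subgroup.zpowers z ⊔ Subgroup.zpowers b)
            (Subgroup.mem_zpowers b)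
      · exact sup_le (Subgroup.zpowers_le.mpr hzW) (Subgroup.zpowers_le.mpr hbW)
    have hcomm : ∀ x ∈ Subgroup.zpowers z, ∀ y ∈ Subgroup.zpowers b, x * y = y * x := by
      intro x hx y _
      obtain ⟨i, rfl⟩ := Subgroup.mem_zpowers_iff.mp hx
      exact ((hzc y).symm.zpow_left i).eq
    have hdisj : Subgroup.zpowers z ⊓ Subgroup.zpowers b = ⊥ := by
      rw [eq_bot_iff]
      rintro x ⟨hx1, hx2⟩
      rw [Subgroup.mem_bot]
      obtain ⟨i, hi⟩ := Subgroup.mem_zpowers_iff.mp hx1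
      obtain ⟨j, hj⟩ := Subgroup.mem_zpowers_iff.mp hx2
      rcases zpow_of_mul_self_eq_one hz2 i with h | h
      · rw [← hi, h]
      · exfalso
        rcases zpow_of_mul_self_eq_one hb2 j with h' | h'
        · exact hz1 (by rw [← h, hi, ← hj, h'])
        · exact hzb (by rw [← h, hi, ← hj, h'])
    have hzo : orderOf z = 2 := orderOf_eq_prime (by rw [pow_two, hz2]) hz1
    have hbo : orderOf b = 2 := orderOf_eq_prime (by rw [pow_two, hb2]) hb1
    rw [hsup, Cfsg.Agent.Helper23.card_sup_of_commute_of_disjoint _ _ hcomm hdisj,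
      Nat.card_zpowers, Nat.card_zpowers, hzo, hbo]
    norm_num
  -- conjugation on `W`
  have hWconj : ∀ (g : G) (w : G), w ∈ W → g * w * g⁻¹ = w ∨ g * w * g⁻¹ = w * z := by
    intro g w hw
    rcases hWelts w hw with rfl | rfl | rfl | rfl
    · left; group
    · left; exact hzconj g
    · exact hconjb g
    · have h1 : g * (b * z) * g⁻¹ = (g * b * g⁻¹) * (g * z * g⁻¹) := by group
      rw [h1, hzconj g]
      rcases hconjb g with h | h
      · left; rw [h]
      · right; rw [h]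
  have hsq : ∀ (g : G) (w : G), w ∈ W → (g ^ 2) * w = w * (g ^ 2) := by
    intro g w hw
    have h1 : g ^ 2 * w * (g ^ 2)⁻¹ = w := by
      have e : g ^ 2 * w * (g ^ 2)⁻¹ = g * (g * w * g⁻¹) * g⁻¹ := by rw [pow_two]; group
      rw [e]
      rcases hWconj g w hw with h | h
      · rw [h, h]
      · rw [h]
        have e2 : g * (w * z) * g⁻¹ = (g * w * g⁻¹) * (g * z * g⁻¹) := by group
        rw [e2, h, hzconj g, mul_assoc, hz2, mul_one]
    calc g ^ 2 * w = (g ^ 2 * w * (g ^ 2)⁻¹) * g ^ 2 := by group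
      _ = w * g ^ 2 := by rw [h1]
  have hchar : W.Characteristic := by
    rw [Subgroup.characteristic_iff_map_le]
    intro φ
    rintro _ ⟨w, hw, rfl⟩
    have hw2 : (φ w) * (φ w) = 1 := by
      rw [← map_mul, ← pow_two, hWexp w hw, map_one]
    have hφM : φ w ∈ M := by
      rw [hM]
      have h1 := hsq (φ.symm a) w hw
      have h2 := congrArg φ h1
      rw [map_mul, map_mul, map_pow, MulEquiv.apply_symm_apply] at h2
      exact h2.symm
    show φ w ∈ W
    rcases hT (φ w) hφM hw2 with h | h | h | h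
    · rw [h]; exact W.one_mem
    · rw [h]; exact hzW
    · rw [h]; exact hbW
    · rw [h]; exact W.mul_mem hbW hzW
  refine ⟨hidx, ?_, ?_, ?_⟩
  · rw [hΩ]; exact ⟨hWc, hWexp⟩
  · rw [hΩ]; exact hWcard
  · rw [hΩ]; exact hchar

end two

end Cfsg.Agent.Helper1.SCC
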