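import Mathlib

/-!
Soft subgroups of `p`-groups (Héthelyi): the chain of iterated normalizers and its basic
properties.
-/

set_option autoImplicit false
set_option linter.style.haveILetI false

namespace Cfsg.Agent.Helper1.Soft

open Subgroup

variable {P : Type*} [Group P]

/-- In a finite group, an element conjugating `H` into itself normalizes `H`. -/
theorem mem_normalizer_of_conj_mem [Finite P] (H : Subgroup P) (g : P)
    (h : ∀ x ∈ H, g * x * g⁻¹ ∈ H) : g ∈ normalizer (H : Set P) := by
  rw [mem_normalizer_iff_map_conj_eq]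
  have hle : H.map (MulAut.conj g).toMonoidHom ≤ H := by
    rintro _ ⟨x, hx, rfl⟩
    exact h x hx
  apply Subgroup.eq_of_le_of_card_ge hle
  rw [Subgroup.card_map_of_injective (MulAut.conj g).injective]

/-- The chain of iterated normalizers of `E`. -/
def Nch (E : Subgroup P) : ℕ → Subgroup P
  | 0 => E
  | i + 1 => normalizer (Nch E i : Set P)

@[simp] theorem Nch_zero (E : Subgroup P) : Nch E 0 = E := rfl

theorem Nch_succ (E : Subgroup P) (i : ℕ) : Nch E (i + 1) = normalizer (Nch E i : Set P) := rfl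

theorem Nch_le_succ (E : Subgroup P) (i : ℕ) : Nch E i ≤ Nch E (i + 1) := le_normalizer

theorem Nch_mono (E : Subgroup P) : Monotone (Nch E) :=
  monotone_nat_of_le_succ (Nch_le_succ E)

theorem le_Nch (E : Subgroup P) (i : ℕ) : E ≤ Nch E i := Nch_mono E (Nat.zero_le i)

theorem Nch_lt_succ [Finite P] {p : ℕ} [Fact p.Prime] (hP : IsPGroup p P) (E : Subgroup P) (i : ℕ)
    (h : Nch E i ≠ ⊤) : Nch E i < Nch E (i + 1) := by
  haveI := hP.isNilpotent
  exact Group.normalizerCondition_of_isNilpotent (Nch E i) (lt_top_iff_ne_top.mpr h)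

/-- Normalizers grow inside any overgroup (of a `p`-group). -/
theorem exists_normalizing_of_lt [Finite P] {p : ℕ} [Fact p.Prime] (hP : IsPGroup p P)
    {H K : Subgroup P} (hHK : H < K) : ∃ k ∈ K, k ∈ normalizer (H : Set P) ∧ k ∉ H := by
  haveI : Group.IsNilpotent K := (hP.to_subgroup K).isNilpotent
  have hlt : H.subgroupOf K < ⊤ := by
    rw [lt_top_iff_ne_top]
    intro h0
    rw [Subgroup.subgroupOf_eq_top] at h0
    exact absurd (le_antisymm hHK.le h0) hHK.ne
  have h1 := Group.normalizerCondition_of_isNilpotent (H.subgroupOf K) hlt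
  obtain ⟨k, hkN, hkH⟩ := SetLike.exists_of_lt h1
  rw [← subgroupOf_normalizer_eq hHK.le] at hkN
  exact ⟨k, k.2, hkN, hkH⟩

/-- The step condition: the first `i` steps of the chain have index `p`. -/
def Step (p : ℕ) (E : Subgroup P) (i : ℕ) : Prop :=
  ∀ j < i, Nch E j ≠ ⊤ → (Nch E j).index = p * (Nch E (j + 1)).index

theorem Step.mono {p : ℕ} {E : Subgroup P} {i j : ℕ} (h : Step p E i) (hji : j ≤ i) :
    Step p E j := fun l hl => h l (lt_of_lt_of_le hl hji)

theorem relIndex_of_step [Finite P] {p : ℕ} {E : Subgroup P} {i : ℕ}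
    (h : (Nch E i).index = p * (Nch E (i + 1)).index) :
    (Nch E i).relIndex (Nch E (i + 1)) = p := by
  have h1 := relIndex_mul_index (Nch_le_succ E i)
  rw [h] at h1
  exact Nat.eq_of_mul_eq_mul_right (Nat.pos_of_ne_zero (Nch E (i + 1)).index_ne_zero_of_finite) h1

/-- Overgroups of `E`: each is a member of the chain or properly contains `Nch E i`. -/
theorem overgroup [Finite P] {p : ℕ} [hp : Fact p.Prime] (hP : IsPGroup p P) (E : Subgroup P) :
    ∀ i : ℕ, Step p E i → ∀ K : Subgroup P, E ≤ K → (∃ j ≤ i, K = Nch E j) ∨ Nch E i < K := by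
  intro i
  induction i with
  | zero =>
    intro _ K hK
    rcases eq_or_lt_of_le hK with h | h
    · left; exact ⟨0, le_rfl, h.symm⟩
    · right; exact h
  | succ i ih =>
    intro hS K hK
    rcases ih (hS.mono (Nat.le_succ i)) K hK with ⟨j, hj, hjK⟩ | hlt
    · left; exact ⟨j, Nat.le_succ_of_le hj, hjK⟩
    · have hne : Nch E i ≠ ⊤ := fun h0 => by
        rw [h0] at hlt; exact not_top_lt hlt
      have hidx := relIndex_of_step (hS i (Nat.lt_succ_self i) hne)
      obtain ⟨k, hkK, hkN, hkH⟩ := exists_normalizing_of_lt hP hlt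
      set X := K ⊓ Nch E (i + 1) with hX
      have h1 : Nch E i ≤ X := le_inf hlt.le (Nch_le_succ E i)
      have h2 : X ≤ Nch E (i + 1) := inf_le_right
      have hkX : k ∈ X := ⟨hkK, hkN⟩
      have h3 := relIndex_mul_relIndex (Nch E i) X (Nch E (i + 1)) h1 h2
      rw [hidx] at h3
      have h4 : (Nch E i).relIndex X ≠ 1 := by
        intro h0
        rw [relIndex_eq_one] at h0
        exact hkH (h0 hkX)
      have h5 : (Nch E i).relIndex X ∣ p := Dvd.intro _ h3
      rcases (Nat.dvd_prime hp.out).mp h5 with h6 | h6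
      · exact absurd h6 h4
      · rw [h6] at h3
        have h7 : X.relIndex (Nch E (i + 1)) = 1 := by
          have := Nat.eq_of_mul_eq_mul_left hp.out.pos (h3.trans (mul_one p).symm)
          exact this
        rw [relIndex_eq_one] at h7
        have h8 : Nch E (i + 1) ≤ K := le_trans h7 inf_le_left
        rcases eq_or_lt_of_le h8 with h9 | h9
        · left; exact ⟨i + 1, le_rfl, h9.symm⟩
        · right; exact h9

/-- Conjugates of `E` inside `Nch E i` come from `Nch E (i+1)`. -/
theorem conj_mem [Finite P] {p : ℕ} [hp : Fact p.Prime] (hP : IsPGroup p P) (E : Subgroup P)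
    (i : ℕ) (hS : Step p E i) (g : P) (h : E.map (MulAut.conj g).toMonoidHom ≤ Nch E i) :
    g ∈ Nch E (i + 1) := by
  set K := (Nch E i).map (MulAut.conj g⁻¹).toMonoidHom with hK
  have hEK : E ≤ K := by
    intro x hx
    refine ⟨g * x * g⁻¹, h ⟨x, hx, by simp [MulAut.conj_apply]⟩, ?_⟩
    simp [mul_assoc]
  have hcard : Nat.card K = Nat.card (Nch E i) :=
    Subgroup.card_map_of_injective (MulAut.conj g⁻¹).injective
  have hKeq : K = Nch E i := by
    rcases overgroup hP E i hS K hEK with ⟨j, hj, hjK⟩ | hlt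
    · have hle : K ≤ Nch E i := hjK ▸ Nch_mono E hj
      exact Subgroup.eq_of_le_of_card_ge hle hcard.ge
    · exfalso
      have := Subgroup.eq_of_le_of_card_ge hlt.le hcard.le
      exact hlt.ne this
  have h1 : g⁻¹ ∈ normalizer (Nch E i : Set P) := by
    rw [mem_normalizer_iff_map_conj_eq]
    exact hKeq
  rw [Nch_succ]
  simpa using (normalizer (Nch E i : Set P)).inv_mem h1


/-- Index of the chain members. -/
theorem index_chain [Finite P] {p : ℕ} (E : Subgroup P) :
    ∀ i : ℕ, Step p E i → (∀ j < i, Nch E j ≠ ⊤) → E.index = p ^ i * (Nch E i).index := by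
  intro i
  induction i with
  | zero => intro _ _; simp
  | succ i ih =>
    intro hS hne
    have h1 := ih (hS.mono (Nat.le_succ i)) (fun j hj => hne j (Nat.lt_succ_of_lt hj))
    have h2 := hS i (Nat.lt_succ_self i) (hne i (Nat.lt_succ_self i))
    rw [h1, h2, pow_succ, mul_assoc]

/-- The soft subgroup hypotheses (index form). -/
structure IsSoft (p : ℕ) (E : Subgroup P) : Prop where
  comm : ∀ a ∈ E, ∀ b ∈ E, a * b = b * a
  cent : centralizer (E : Set P) ≤ E
  idx : E.index = p * (normalizer (E : Set P)).index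
  big : p ^ 2 ∣ E.index

theorem IsSoft.step_one {p : ℕ} {E : Subgroup P} (h : IsSoft p E) : Step p E 1 := by
  intro j hj _
  have : j = 0 := by omega
  subst this
  exact h.idx

theorem IsSoft.Nch_one_ne_top [Finite P] {p : ℕ} [hp : Fact p.Prime] {E : Subgroup P}
    (h : IsSoft p E) : Nch E 1 ≠ ⊤ := by
  intro h0
  have h1 := h.idx
  rw [show normalizer (E : Set P) = Nch E 1 from rfl, h0, index_top, mul_one] at h1
  have h2 := h.big
  rw [h1, pow_two] at h2
  have := Nat.le_of_dvd hp.out.pos h2
  have hp2 := hp.out.two_le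
  nlinarith

theorem IsSoft.ne_top [Finite P] {p : ℕ} [hp : Fact p.Prime] {E : Subgroup P}
    (h : IsSoft p E) : E ≠ ⊤ := by
  intro h0
  apply h.Nch_one_ne_top
  rw [eq_top_iff, ← h0]
  exact le_Nch E 1

/-- The centre of an overgroup of `E` lies in `E`. -/
theorem IsSoft.center_le {p : ℕ} {E : Subgroup P} (h : IsSoft p E) {K : Subgroup P}
    (hK : E ≤ K) : K ⊓ centralizer (K : Set P) ≤ E := by
  intro x hx
  apply h.cent
  exact centralizer_le (show (E : Set P) ⊆ K from hK) hx.2

end Cfsg.Agent.Helper1.Soft
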