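import Mathlib
import Cfsg.Agent.Helper1.Soft1
import Cfsg.Agent.Helper1.AbelianIndexP
import Cfsg.Agent.Helper17.Basic

/-!
Soft subgroups of `p`-groups: the structure of the first normalizer `N₁ = N_P(E)`.
-/

set_option autoImplicit false
set_option linter.style.haveILetI false

namespace Cfsg.Agent.Helper1.Soft

open Subgroup
open scoped commutatorElement
open Cfsg.Agent.Helper1.AbIdxP (comm_of_center_eq_top inf_le_center_of_index_prime
  center_le_of_index_prime sup_eq_top_of_index_prime card_eq_card_center_mul_card_commutator)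

variable {P : Type*} [Group P]

/-- The centre of `K`, as a subgroup of the ambient group. -/
def Zc (K : Subgroup P) : Subgroup P := K ⊓ centralizer (K : Set P)

theorem mem_Zc {K : Subgroup P} {x : P} : x ∈ Zc K ↔ x ∈ K ∧ ∀ k ∈ K, k * x = x * k := by
  unfold Zc
  rw [Subgroup.mem_inf, Subgroup.mem_centralizer_iff]
  rfl

theorem Zc_le (K : Subgroup P) : Zc K ≤ K := inf_le_left

variable [Finite P] {p : ℕ} [hp : Fact p.Prime]

/-- Elements of `E` outside `Z(N₁)` have centralizer exactly `E`. -/
theorem IsSoft.centralizer_eq (hP : IsPGroup p P) {E : Subgroup P} (h : IsSoft p E) (e : P)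
    (he : e ∈ E) (hne : e ∉ Zc (Nch E 1)) : centralizer ({e} : Set P) = E := by
  have hEC : E ≤ centralizer ({e} : Set P) := by
    intro x hx
    rw [Subgroup.mem_centralizer_iff]
    intro y hy
    rw [Set.mem_singleton_iff] at hy
    subst hy
    exact h.comm y he x hx
  have hcontra : Nch E 1 ≤ centralizer ({e} : Set P) → False := by
    intro hle
    apply hne
    rw [mem_Zc]
    refine ⟨le_Nch E 1 he, ?_⟩
    intro k hk
    have := (Subgroup.mem_centralizer_iff.mp (hle hk)) e (Set.mem_singleton e)
    exact this.symm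
  rcases overgroup hP E 1 h.step_one _ hEC with ⟨j, hj, hjK⟩ | hlt
  · interval_cases j
    · exact hjK
    · exact (hcontra hjK.ge).elim
  · exact (hcontra hlt.le).elim

/-- Structure of `N₁`: its commutator subgroup `C₁` has order `p` and is central in `N₁`, and
`Z(N₁)` has index `p` in `E`. -/
theorem IsSoft.level_one (hP : IsPGroup p P) {E : Subgroup P} (h : IsSoft p E) :
    ∃ C1 : Subgroup P, Nat.card C1 = p ∧ C1 ≤ Zc (Nch E 1) ∧
      (∀ a ∈ Nch E 1, ∀ b ∈ Nch E 1, a⁻¹ * b⁻¹ * a * b ∈ C1) ∧
      Nat.card E = p * Nat.card (Zc (Nch E 1)) := by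
  set N1 := Nch E 1 with hN1
  have hN1top : N1 ≠ ⊤ := h.Nch_one_ne_top
  have hEN1 : E ≤ N1 := le_Nch E 1
  have hElt : E < N1 := by
    have := Nch_lt_succ hP E 0 (by simpa using h.ne_top)
    simpa using this
  -- an element of N₂ outside N₁
  obtain ⟨g, hgN2, hgN1⟩ := SetLike.exists_of_lt (Nch_lt_succ hP E 1 hN1top)
  have hgnorm : ∀ x ∈ N1, g * x * g⁻¹ ∈ N1 := by
    intro x hx
    have := (Subgroup.mem_normalizer_iff.mp (show g ∈ normalizer (N1 : Set P) from hgN2)) x
    exact this.mp hx
  set Eg := E.map (MulAut.conj g).toMonoidHom with hEg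
  have hEgN1 : Eg ≤ N1 := by
    rintro _ ⟨x, hx, rfl⟩
    exact hgnorm x (hEN1 hx)
  have hEgcard : Nat.card Eg = Nat.card E :=
    Subgroup.card_map_of_injective (MulAut.conj g).injective
  have hEgne : ¬ Eg ≤ E := by
    intro hle
    apply hgN1
    have : g ∈ normalizer (E : Set P) := by
      apply mem_normalizer_of_conj_mem
      intro x hx
      exact hle ⟨x, hx, rfl⟩
    exact this
  -- pass to the group N₁
  set A : Subgroup N1 := E.subgroupOf N1 with hA
  set B : Subgroup N1 := Eg.subgroupOf N1 with hB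
  have hAc : IsMulCommutative A := by
    refine ⟨⟨fun a b => ?_⟩⟩
    apply Subtype.ext
    apply Subtype.ext
    exact h.comm _ a.2 _ b.2
  have hBc : IsMulCommutative B := by
    refine ⟨⟨fun a b => ?_⟩⟩
    apply Subtype.ext
    apply Subtype.ext
    obtain ⟨x, hx, hxa⟩ := a.2
    obtain ⟨y, hy, hyb⟩ := b.2
    show ((a : N1) : P) * ((b : N1) : P) = ((b : N1) : P) * ((a : N1) : P)
    have hxa' : ((a : N1) : P) = (MulAut.conj g).toMonoidHom x := hxa.symm
    have hyb' : ((b : N1) : P) = (MulAut.conj g).toMonoidHom y := hyb.symm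
    rw [hxa', hyb', ← map_mul, ← map_mul, h.comm x hx y hy]
  haveI hAn : A.Normal := by
    show (E.subgroupOf (normalizer (E : Set P))).Normal
    exact Subgroup.normal_in_normalizer
  have hAi : A.index = p := by
    have := relIndex_of_step (E := E) (i := 0) (p := p) h.idx
    exact this
  have hAcard : Nat.card A = Nat.card E :=
    Nat.card_congr (subgroupOfEquivOfLe hEN1).toEquiv
  have hBcard : Nat.card B = Nat.card E := by
    rw [← hEgcard]
    exact Nat.card_congr (subgroupOfEquivOfLe hEgN1).toEquiv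
  have hBi : B.index = p := by
    have h1 := A.card_mul_index
    have h2 := B.card_mul_index
    rw [hAcard, hAi] at h1
    rw [hBcard, ← h1] at h2
    exact Nat.eq_of_mul_eq_mul_left Nat.card_pos h2
  have hBA : ¬ B ≤ A := by
    intro hle
    apply hEgne
    intro x hx
    have : (⟨x, hEgN1 hx⟩ : N1) ∈ A := hle (by rw [hB, mem_subgroupOf]; exact hx)
    rw [hA, mem_subgroupOf] at this
    exact this
  have hAB : ¬ A ≤ B := by
    intro hle
    apply hBA
    have : A = B := Subgroup.eq_of_le_of_card_ge hle (by rw [hAcard, hBcard])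
    rw [this]
  have hna : center N1 ≠ ⊤ := by
    intro h0
    have : N1 ≤ E := by
      intro x hx
      apply h.cent
      rw [Subgroup.mem_centralizer_iff]
      intro y hy
      have := comm_of_center_eq_top h0 (⟨y, hEN1 hy⟩ : N1) ⟨x, hx⟩
      exact congrArg Subtype.val this
    exact absurd (le_antisymm this hEN1) hElt.ne'
  have hcen1 : A ⊓ B ≤ center N1 := inf_le_center_of_index_prime hAc hBc hp.out hAi hBA
  have hcenA : center N1 ≤ A := center_le_of_index_prime hAc hp.out hAi hna
  have hcenB : center N1 ≤ B := center_le_of_index_prime hBc hp.out hBi hna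
  have hcen : center N1 = A ⊓ B := le_antisymm (le_inf hcenA hcenB) hcen1
  have hsup : A ⊔ B = ⊤ := sup_eq_top_of_index_prime hp.out hAi hBA
  have hprod := Cfsg.Agent.Helper17.card_sup_mul_card_inf_of_normal A B
  rw [hsup, Subgroup.card_top, ← hcen, hBcard, hAcard] at hprod
  have hN1card : Nat.card N1 = Nat.card E * p := by
    have := A.card_mul_index
    rw [hAcard, hAi] at this
    exact this.symm
  have hEZ : Nat.card E = p * Nat.card (center N1) := by
    rw [hN1card, mul_assoc] at hprod
    exact (Nat.eq_of_mul_eq_mul_left Nat.card_pos hprod).symm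
  have hcomm := card_eq_card_center_mul_card_commutator hAc hp.out hAi hna
  rw [hAcard, hEZ, mul_comm] at hcomm
  have hcommcard : Nat.card (commutator N1) = p :=
    (Nat.eq_of_mul_eq_mul_left Nat.card_pos hcomm).symm
  -- the commutator subgroup is central
  have hcommA : ∀ (X : Subgroup N1) [X.Normal], X.index = p → commutator N1 ≤ X := by
    intro X _ hXi
    rw [← Subgroup.Normal.quotient_commutative_iff_commutator_le]
    have hcardq : Nat.card (N1 ⧸ X) = p := by rw [← Subgroup.index_eq_card, hXi]
    haveI : IsCyclic (N1 ⧸ X) := isCyclic_of_prime_card hcardq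
    exact ⟨⟨fun x y => (IsCyclic.commGroup (α := N1 ⧸ X)).mul_comm x y⟩⟩
  haveI hBn : B.Normal := by
    constructor
    intro b hb n
    rw [hB, mem_subgroupOf] at hb ⊢
    -- conjugate by g⁻¹ into E, which is normal in N₁
    obtain ⟨x, hx, hxb⟩ := hb
    have hn' : g⁻¹ * (n : P) * g ∈ N1 := by
      have := (Subgroup.mem_normalizer_iff.mp
        ((normalizer (N1 : Set P)).inv_mem (show g ∈ normalizer (N1 : Set P) from hgN2))) (n : P)
      simpa using this.mp n.2
    have hnormE : (g⁻¹ * (n : P) * g) * x * (g⁻¹ * (n : P) * g)⁻¹ ∈ E := by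
      have := (Subgroup.mem_normalizer_iff.mp
        (show (g⁻¹ * (n : P) * g) ∈ normalizer (E : Set P) from hn')) x
      exact this.mp hx
    refine ⟨_, hnormE, ?_⟩
    simp only [MulEquiv.coe_toMonoidHom, MulAut.conj_apply] at hxb ⊢
    simp only [Subgroup.coe_mul, Subgroup.coe_inv]
    rw [← hxb]
    group
  have hcommcen : commutator N1 ≤ center N1 := by
    rw [hcen]
    exact le_inf (hcommA A hAi) (hcommA B hBi)
  have hcenZc : (center N1).map N1.subtype = Zc N1 := by
    ext x
    rw [mem_Zc]
    constructor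
    · rintro ⟨y, hy, rfl⟩
      refine ⟨y.2, fun k hk => ?_⟩
      have := (Subgroup.mem_center_iff.mp hy) ⟨k, hk⟩
      exact congrArg Subtype.val this
    · rintro ⟨hx, hxc⟩
      refine ⟨⟨x, hx⟩, ?_, rfl⟩
      show (⟨x, hx⟩ : N1) ∈ center N1
      rw [Subgroup.mem_center_iff]
      intro k
      apply Subtype.ext
      exact hxc k k.2
  refine ⟨(commutator N1).map N1.subtype, ?_, ?_, ?_, ?_⟩
  · rw [Subgroup.card_map_of_injective N1.subtype_injective, hcommcard]
  · rw [← hcenZc]
    exact Subgroup.map_mono hcommcen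
  · intro a ha b hb
    refine ⟨⁅(⟨a, ha⟩ : N1)⁻¹, (⟨b, hb⟩ : N1)⁻¹⁆, ?_, ?_⟩
    · rw [_root_.commutator_def]
      exact Subgroup.commutator_mem_commutator (Subgroup.mem_top _) (Subgroup.mem_top _)
    · rw [commutatorElement_def]
      simp
  · rw [hEZ, ← hcenZc, Subgroup.card_map_of_injective N1.subtype_injective]


omit [Finite P] hp in
/-- If the fibres of `f` lie in left cosets of `H`, then `|G| ≤ |H| * |t|` for any finite set `t`
containing the image of `f`. -/
theorem card_le_of_fiber_coset {G X : Type*} [Group G] [Finite G] (H : Subgroup G)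
    (f : G → X) (t : Finset X) (hft : ∀ a, f a ∈ t) (hf : ∀ a b, f a = f b → a⁻¹ * b ∈ H) :
    Nat.card G ≤ Nat.card H * t.card := by
  classical
  haveI := Fintype.ofFinite G
  haveI := Fintype.ofFinite H
  rw [Nat.card_eq_fintype_card, ← Finset.card_univ]
  apply Finset.card_le_mul_card_image_of_maps_to (fun a _ => hft a)
  intro b _
  by_cases hne : (Finset.univ.filter fun a => f a = b).Nonempty
  · obtain ⟨a₀, ha₀⟩ := hne
    rw [Finset.mem_filter] at ha₀
    rw [Nat.card_eq_fintype_card, ← Finset.card_univ]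
    apply Finset.card_le_card_of_injOn (fun a => if h : f a = b then
      (⟨a₀⁻¹ * a, hf a₀ a (ha₀.2.trans h.symm)⟩ : H) else 1)
    · intro a _
      exact Finset.mem_univ _
    · intro a ha a' ha'
      rw [Finset.coe_filter] at ha ha'
      simp only [Set.mem_ofPred_eq, Finset.mem_univ, true_and] at ha ha'
      intro heq
      simp only [ha, ha', dif_pos] at heq
      have := congrArg Subtype.val heq
      simpa using this
  · rw [Finset.not_nonempty_iff_eq_empty] at hne
    rw [hne]
    simp

end Cfsg.Agent.Helper1.Soft
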