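import Mathlib
import Cfsg.Agent.Helper1.Soft2

/-!
Soft subgroups of `p`-groups: the second normalizer step and the centrality of `C₁ = N₁'`
in the higher normalizers.
-/

set_option autoImplicit false
set_option linter.style.haveILetI false

namespace Cfsg.Agent.Helper1.Soft

open Subgroup
open scoped commutatorElement

variable {P : Type*} [Group P]

/-- The centre of `K` is normalized by the normalizer of `K`. -/
theorem Zc_conj_mem {K : Subgroup P} {n x : P} (hn : n ∈ normalizer (K : Set P))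
    (hx : x ∈ Zc K) : n * x * n⁻¹ ∈ Zc K := by
  rw [mem_Zc] at hx ⊢
  refine ⟨(Subgroup.mem_normalizer_iff.mp hn x).mp hx.1, fun k hk => ?_⟩
  have hk' : n⁻¹ * k * n ∈ K := by
    have := (Subgroup.mem_normalizer_iff.mp ((normalizer (K : Set P)).inv_mem hn) k).mp hk
    simpa using this
  have h1 := hx.2 _ hk'
  calc k * (n * x * n⁻¹) = n * (n⁻¹ * k * n * x) * n⁻¹ := by group
    _ = n * (x * (n⁻¹ * k * n)) * n⁻¹ := by rw [h1]
    _ = n * x * n⁻¹ * k := by group

theorem Zc_conj_mem' {K : Subgroup P} {n x : P} (hn : n ∈ normalizer (K : Set P))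
    (hx : x ∈ Zc K) : n⁻¹ * x * n ∈ Zc K := by
  have := Zc_conj_mem ((normalizer (K : Set P)).inv_mem hn) hx
  simpa using this

theorem conj_mem_of_mem_normalizer {K : Subgroup P} {n x : P} (hn : n ∈ normalizer (K : Set P))
    (hx : x ∈ K) : n * x * n⁻¹ ∈ K :=
  (Subgroup.mem_normalizer_iff.mp hn x).mp hx

theorem conj_mem_of_mem_normalizer' {K : Subgroup P} {n x : P} (hn : n ∈ normalizer (K : Set P))
    (hx : x ∈ K) : n⁻¹ * x * n ∈ K := by
  have := conj_mem_of_mem_normalizer ((normalizer (K : Set P)).inv_mem hn) hx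
  simpa using this

variable [Finite P] {p : ℕ} [hp : Fact p.Prime]

/-- There is an element of `E` outside `Z(N₁)`. -/
theorem IsSoft.exists_not_mem_Zc {E : Subgroup P}
    (hEcard : Nat.card E = p * Nat.card (Zc (Nch E 1))) : ∃ e₀ ∈ E, e₀ ∉ Zc (Nch E 1) := by
  by_contra hcon
  push Not at hcon
  have hle : E ≤ Zc (Nch E 1) := hcon
  have h1 := Subgroup.card_le_of_le hle
  rw [hEcard] at h1
  have h2 : 0 < Nat.card (Zc (Nch E 1)) := Nat.card_pos
  have h3 := hp.out.two_le
  nlinarith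

omit [Finite P] hp in
/-- The centre of a higher normalizer lies in the centre of `N₁`. -/
theorem IsSoft.Zc_le_Zc_one {E : Subgroup P} (h : IsSoft p E) (j : ℕ) :
    Zc (Nch E (j + 1)) ≤ Zc (Nch E 1) := by
  intro x hx
  have hxE : x ∈ E := h.center_le (le_Nch E (j + 1)) hx
  rw [mem_Zc] at hx ⊢
  refine ⟨le_Nch E 1 hxE, fun k hk => hx.2 k (Nch_mono E (by omega) hk)⟩

/-- The second step of the normalizer chain also has index `p`. -/
theorem IsSoft.step_two (hP : IsPGroup p P) {E : Subgroup P} (h : IsSoft p E) :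
    (Nch E 1).index = p * (Nch E 2).index := by
  classical
  obtain ⟨C1, hC1card, hC1Z, hC1comm, hEcard⟩ := h.level_one hP
  obtain ⟨e₀, he₀E, he₀Z⟩ := IsSoft.exists_not_mem_Zc hEcard
  have hcent := h.centralizer_eq hP e₀ he₀E he₀Z
  set N1 := Nch E 1 with hN1
  set N2 := Nch E 2 with hN2
  have hN1top : N1 ≠ ⊤ := h.Nch_one_ne_top
  have hlt : N1 < N2 := Nch_lt_succ hP E 1 hN1top
  have hEN1 : E ≤ N1 := le_Nch E 1
  have hZN1 : Zc N1 ≤ N1 := Zc_le N1
  have hN2norm : ∀ g ∈ N2, g ∈ normalizer (N1 : Set P) := fun g hg => hg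
  -- cardinalities
  have hEidx : E.relIndex N1 = p := relIndex_of_step (E := E) (i := 0) (p := p) h.idx
  have hN1card : Nat.card N1 = p * Nat.card E := by
    have h1 := (E.subgroupOf N1).card_mul_index
    rw [Nat.card_congr (subgroupOfEquivOfLe hEN1).toEquiv] at h1
    have : (E.subgroupOf N1).index = p := hEidx
    rw [this] at h1
    rw [← h1, mul_comm]
  have hZidx : ((Zc N1).subgroupOf N1).index = p ^ 2 := by
    have h1 := ((Zc N1).subgroupOf N1).card_mul_index
    rw [Nat.card_congr (subgroupOfEquivOfLe hZN1).toEquiv, hN1card, hEcard] at h1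
    have hpos : 0 < Nat.card (Zc N1) := Nat.card_pos
    have : Nat.card (Zc N1) * ((Zc N1).subgroupOf N1).index = Nat.card (Zc N1) * p ^ 2 := by
      rw [h1]; ring
    exact Nat.eq_of_mul_eq_mul_left hpos this
  -- the map
  haveI : Fintype (N1 ⧸ (Zc N1).subgroupOf N1) := Fintype.ofFinite _
  have hcardQ : Fintype.card (N1 ⧸ (Zc N1).subgroupOf N1) = p ^ 2 := by
    rw [← Nat.card_eq_fintype_card, ← Subgroup.index_eq_card, hZidx]
  let f : N2 → N1 ⧸ (Zc N1).subgroupOf N1 := fun g =>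
    QuotientGroup.mk (⟨(g : P) * e₀ * (g : P)⁻¹,
      conj_mem_of_mem_normalizer (hN2norm g g.2) (hEN1 he₀E)⟩ : N1)
  have hbound := card_le_of_fiber_coset (N1.subgroupOf N2) f
    (Finset.univ.erase (QuotientGroup.mk (1 : N1))) ?_ ?_
  · rw [Finset.card_erase_of_mem (Finset.mem_univ _), Finset.card_univ, hcardQ,
      Nat.card_congr (subgroupOfEquivOfLe hlt.le).toEquiv] at hbound
    -- arithmetic
    have h1 := (N1.subgroupOf N2).card_mul_index
    rw [Nat.card_congr (subgroupOfEquivOfLe hlt.le).toEquiv] at h1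
    have hq : N1.relIndex N2 = (N1.subgroupOf N2).index := rfl
    set q := N1.relIndex N2 with hqdef
    rw [← hq] at h1
    have hN1pos : 0 < Nat.card N1 := Nat.card_pos
    have hqlt : q < p ^ 2 := by
      have hp2 : 1 ≤ p ^ 2 := Nat.one_le_pow _ _ hp.out.pos
      have : Nat.card N1 * q ≤ Nat.card N1 * (p ^ 2 - 1) := by rw [h1]; exact hbound
      have := Nat.le_of_mul_le_mul_left this hN1pos
      omega
    have hqne : q ≠ 1 := by
      intro h0
      rw [hqdef, relIndex_eq_one] at h0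
      exact absurd (le_antisymm hlt.le h0) hlt.ne
    obtain ⟨n, hn⟩ := IsPGroup.exists_card_eq (hP.to_subgroup N2)
    have hqdvd : q ∣ p ^ n := by
      rw [← hn, ← h1]
      exact Dvd.intro_left _ rfl
    obtain ⟨k, hk, hqk⟩ := (Nat.dvd_prime_pow hp.out).mp hqdvd
    have hk1 : k = 1 := by
      have hk0 : k ≠ 0 := by
        intro h0; rw [h0, pow_zero] at hqk; exact hqne hqk
      have hk2 : k < 2 := by
        rw [hqk] at hqlt
        exact (Nat.pow_lt_pow_iff_right hp.out.one_lt).mp hqlt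
      omega
    rw [hk1, pow_one] at hqk
    have := relIndex_mul_index hlt.le
    rw [← hqdef, hqk] at this
    exact this.symm
  · -- the image avoids the trivial coset
    intro g
    rw [Finset.mem_erase]
    refine ⟨?_, Finset.mem_univ _⟩
    intro h0
    rw [QuotientGroup.eq] at h0
    rw [mem_subgroupOf] at h0
    apply he₀Z
    have h1 : ((g : P) * e₀ * (g : P)⁻¹) ∈ Zc N1 := by
      have := (Zc N1).inv_mem h0
      simpa using this
    have := Zc_conj_mem' (hN2norm g g.2) h1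
    convert this using 1
    group
  · -- fibres lie in cosets of `N₁`
    intro g g' hgg'
    rw [QuotientGroup.eq, mem_subgroupOf] at hgg'
    rw [mem_subgroupOf]
    set z : P := ((g : P) * e₀ * (g : P)⁻¹)⁻¹ * ((g' : P) * e₀ * (g' : P)⁻¹) with hz
    have hzZ : z ∈ Zc N1 := hgg'
    have hw : (g' : P)⁻¹ * (g : P) ∈ normalizer (E : Set P) := by
      apply mem_normalizer_of_conj_mem
      intro a ha
      rw [← hcent, Subgroup.mem_centralizer_iff]
      intro y hy
      rw [Set.mem_singleton_iff] at hy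
      subst hy
      set b : P := (g : P) * a * (g : P)⁻¹ with hb
      have hbN1 : b ∈ N1 := conj_mem_of_mem_normalizer (hN2norm g g.2) (hEN1 ha)
      have hbx : b * ((g : P) * y * (g : P)⁻¹) = ((g : P) * y * (g : P)⁻¹) * b := by
        have := h.comm a ha y he₀E
        calc b * ((g : P) * y * (g : P)⁻¹) = (g : P) * (a * y) * (g : P)⁻¹ := by
              rw [hb]; group
          _ = (g : P) * (y * a) * (g : P)⁻¹ := by rw [this]
          _ = ((g : P) * y * (g : P)⁻¹) * b := by rw [hb]; group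
      have hbz : b * z = z * b := (mem_Zc.mp hzZ).2 b hbN1
      have hx' : (g' : P) * y * (g' : P)⁻¹ = ((g : P) * y * (g : P)⁻¹) * z := by
        rw [hz]; group
      have hbx' : b * ((g' : P) * y * (g' : P)⁻¹) = ((g' : P) * y * (g' : P)⁻¹) * b := by
        rw [hx']
        calc b * ((g : P) * y * (g : P)⁻¹ * z) = b * ((g : P) * y * (g : P)⁻¹) * z :=
              (mul_assoc _ _ _).symm
          _ = (g : P) * y * (g : P)⁻¹ * b * z := by rw [hbx]
          _ = (g : P) * y * (g : P)⁻¹ * (b * z) := mul_assoc _ _ _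
          _ = (g : P) * y * (g : P)⁻¹ * (z * b) := by rw [hbz]
          _ = (g : P) * y * (g : P)⁻¹ * z * b := (mul_assoc _ _ _).symm
      calc y * ((g' : P)⁻¹ * (g : P) * a * ((g' : P)⁻¹ * (g : P))⁻¹)
          = (g' : P)⁻¹ * (((g' : P) * y * (g' : P)⁻¹) * b) * (g' : P) := by rw [hb]; group
        _ = (g' : P)⁻¹ * (b * ((g' : P) * y * (g' : P)⁻¹)) * (g' : P) := by rw [hbx']
        _ = ((g' : P)⁻¹ * (g : P) * a * ((g' : P)⁻¹ * (g : P))⁻¹) * y := by rw [hb]; group
    have h9 := (normalizer (E : Set P)).inv_mem hw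
    show (g : P)⁻¹ * (g' : P) ∈ normalizer (E : Set P)
    simpa using h9

/-- The iterated commutators `c, [u,c], [u,[u,c]], …`. -/
def cseq (u c : P) : ℕ → P
  | 0 => c
  | m + 1 => u⁻¹ * (cseq u c m)⁻¹ * u * cseq u c m

omit [Finite P] hp in
theorem cseq_mem_lcs (u c : P) (m : ℕ) :
    cseq u c m ∈ (⊤ : Subgroup P).lowerCentralSeries m := by
  induction m with
  | zero => exact Subgroup.mem_top _
  | succ m ih =>
    rw [Subgroup.mem_lowerCentralSeries_succ_iff]
    have h1 : (cseq u c (m + 1))⁻¹ ∈ closure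
        {x | ∃ p ∈ (⊤ : Subgroup P).lowerCentralSeries m, ∃ q ∈ (⊤ : Subgroup P), ⁅p, q⁆ = x} := by
      apply Subgroup.subset_closure
      refine ⟨(cseq u c m)⁻¹, Subgroup.inv_mem _ ih, u⁻¹, Subgroup.mem_top _, ?_⟩
      rw [commutatorElement_def]
      show _ = (u⁻¹ * (cseq u c m)⁻¹ * u * cseq u c m)⁻¹
      group
    have := Subgroup.inv_mem _ h1
    simpa using this

theorem exists_cseq_eq_one (hP : IsPGroup p P) (u c : P) : ∃ m, cseq u c m = 1 := by
  haveI := hP.isNilpotent
  refine ⟨Group.nilpotencyClass P, ?_⟩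
  have := cseq_mem_lcs u c (Group.nilpotencyClass P)
  rw [Subgroup.lowerCentralSeries_nilpotencyClass, Subgroup.mem_bot] at this
  exact this

/-- `C₁` stays central along the normalizer chain. -/
theorem IsSoft.C1_le_step (hP : IsPGroup p P) {E : Subgroup P} (h : IsSoft p E)
    (C1 : Subgroup P) (hC1card : Nat.card C1 = p)
    (hC1comm : ∀ a ∈ Nch E 1, ∀ b ∈ Nch E 1, a⁻¹ * b⁻¹ * a * b ∈ C1)
    (hEcard : Nat.card E = p * Nat.card (Zc (Nch E 1)))
    (j : ℕ) (hS : Step p E (j + 1)) (hne : Nch E (j + 1) ≠ ⊤) (hprev : C1 ≤ Zc (Nch E j)) :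
    C1 ≤ Zc (Nch E (j + 1)) := by
  classical
  by_contra hcon
  obtain ⟨c₀, hc₀C, hc₀Z⟩ := SetLike.not_le_iff_exists.mp hcon
  obtain ⟨y, hyN2, hyN1⟩ := SetLike.exists_of_lt (Nch_lt_succ hP E (j + 1) hne)
  have hynorm : y ∈ normalizer (Nch E (j + 1) : Set P) := hyN2
  obtain ⟨e₀, he₀E, he₀Z⟩ := IsSoft.exists_not_mem_Zc hEcard
  -- a good element of `E`
  have key : ∃ e ∈ E, e ∉ Zc (Nch E 1) ∧ y * e * y⁻¹ ∉ Nch E j := by
    by_cases h1 : y * e₀ * y⁻¹ ∈ Nch E j
    · have h2 : ∃ e ∈ E, y * e * y⁻¹ ∉ Nch E j := by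
        by_contra hc
        push Not at hc
        apply hyN1
        apply conj_mem hP E j (hS.mono (Nat.le_succ j)) y
        rintro _ ⟨x, hx, rfl⟩
        exact hc x hx
      obtain ⟨e, heE, hey⟩ := h2
      by_cases h3 : e ∈ Zc (Nch E 1)
      · refine ⟨e * e₀, E.mul_mem heE he₀E, ?_, ?_⟩
        · intro h4
          apply he₀Z
          have := (Zc (Nch E 1)).mul_mem ((Zc (Nch E 1)).inv_mem h3) h4
          simpa using this
        · intro h4
          apply hey
          have := (Nch E j).mul_mem h4 ((Nch E j).inv_mem h1)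
          convert this using 1
          group
      · exact ⟨e, heE, h3, hey⟩
    · exact ⟨e₀, he₀E, he₀Z, h1⟩
  obtain ⟨e, heE, heZ, hey⟩ := key
  have heNj : e ∈ Nch E j := le_Nch E j heE
  have heNj1 : e ∈ Nch E (j + 1) := le_Nch E (j + 1) heE
  set u : P := e⁻¹ * (y * e * y⁻¹) with hu
  have hyeN : y * e * y⁻¹ ∈ Nch E (j + 1) := conj_mem_of_mem_normalizer hynorm heNj1
  have huN : u ∈ Nch E (j + 1) := (Nch E (j + 1)).mul_mem ((Nch E (j + 1)).inv_mem heNj1) hyeN
  have huNj : u ∉ Nch E j := by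
    intro h0
    apply hey
    have := (Nch E j).mul_mem heNj h0
    rw [hu] at this
    simpa using this
  have hunorm : u ∈ normalizer (Nch E j : Set P) := huN
  -- generation
  have hgen : Nch E (j + 1) ≤ Nch E j ⊔ zpowers u := by
    rcases overgroup hP E (j + 1) hS (Nch E j ⊔ zpowers u)
      (le_trans (le_Nch E j) le_sup_left) with ⟨l, hl, hlK⟩ | hlt
    · rcases Nat.lt_or_ge l (j + 1) with hlj | hlj
      · exfalso
        apply huNj
        have h1 : u ∈ Nch E j ⊔ zpowers u := mem_sup_right (mem_zpowers u)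
        rw [hlK] at h1
        exact Nch_mono E (Nat.lt_succ_iff.mp hlj) h1
      · have : l = j + 1 := le_antisymm hl hlj
        subst this
        exact hlK.ge
    · exact hlt.le
  -- centrality criterion
  have hcrit : ∀ c ∈ Zc (Nch E j), c * u = u * c → c ∈ Zc (Nch E (j + 1)) := by
    intro c hc hcu
    rw [mem_Zc]
    refine ⟨Nch_le_succ E j (Zc_le _ hc), ?_⟩
    intro k hk
    have hle : Nch E j ⊔ zpowers u ≤ centralizer ({c} : Set P) := by
      apply sup_le
      · intro x hx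
        rw [Subgroup.mem_centralizer_iff]
        intro y hy
        rw [Set.mem_singleton_iff] at hy
        subst hy
        exact ((mem_Zc.mp hc).2 x hx).symm
      · rw [zpowers_le, Subgroup.mem_centralizer_iff]
        intro y hy
        rw [Set.mem_singleton_iff] at hy
        subst hy
        exact hcu
    have := Subgroup.mem_centralizer_iff.mp (hle (hgen hk)) c (Set.mem_singleton c)
    exact this.symm
  have hc₀Zj : c₀ ∈ Zc (Nch E j) := hprev hc₀C
  have hc₀u : ¬ (c₀ * u = u * c₀) := fun h0 => hc₀Z (hcrit c₀ hc₀Zj h0)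
  -- the sequence of iterated commutators
  have hseqZ : ∀ m, cseq u c₀ m ∈ Zc (Nch E j) := by
    intro m
    induction m with
    | zero => exact hc₀Zj
    | succ m ih =>
      show u⁻¹ * (cseq u c₀ m)⁻¹ * u * cseq u c₀ m ∈ Zc (Nch E j)
      exact (Zc (Nch E j)).mul_mem (Zc_conj_mem' hunorm ((Zc (Nch E j)).inv_mem ih)) ih
  have hex := exists_cseq_eq_one hP u c₀
  have hc₀ne : c₀ ≠ 1 := by
    intro h0
    apply hc₀u
    rw [h0]; simp
  have hfind0 : Nat.find hex ≠ 0 := by
    intro h0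
    have := Nat.find_spec hex
    rw [h0] at this
    exact hc₀ne this
  have hfind1 : Nat.find hex ≠ 1 := by
    intro h0
    have h1 := Nat.find_spec hex
    rw [h0] at h1
    have h2 : u⁻¹ * c₀⁻¹ * u * c₀ = 1 := h1
    apply hc₀u
    have h3 : u * c₀ = c₀ * u * (u⁻¹ * c₀⁻¹ * u * c₀) := by group
    rw [h2, mul_one] at h3
    exact h3.symm
  obtain ⟨m, hm⟩ : ∃ m, Nat.find hex = m + 2 := ⟨Nat.find hex - 2, by omega⟩
  set c' := cseq u c₀ m with hc'
  set t := cseq u c₀ (m + 1) with ht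
  have htdef : t = u⁻¹ * c'⁻¹ * u * c' := rfl
  have htne : t ≠ 1 := by
    have := Nat.find_min hex (m := m + 1) (by omega)
    exact this
  have htu : t * u = u * t := by
    have h1 : cseq u c₀ (m + 2) = 1 := hm ▸ Nat.find_spec hex
    have h2 : u⁻¹ * t⁻¹ * u * t = 1 := h1
    have h3 : u * t = t * u * (u⁻¹ * t⁻¹ * u * t) := by group
    rw [h2, mul_one] at h3
    exact h3.symm
  have htZ : t ∈ Zc (Nch E (j + 1)) := hcrit t (hseqZ (m + 1)) htu
  have hc'Z : c' ∈ Zc (Nch E j) := hseqZ m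
  set ty : P := y⁻¹ * t * y with hty
  have htyZ : ty ∈ Zc (Nch E (j + 1)) := Zc_conj_mem' hynorm htZ
  have htyne : ty ≠ 1 := by
    intro h0
    apply htne
    have : t = y * ty * y⁻¹ := by rw [hty]; group
    rw [this, h0]; simp
  set d : P := y⁻¹ * c' * y with hd
  have hce : e * c'⁻¹ * e⁻¹ = c'⁻¹ := by
    have h1 : e * c' = c' * e := (mem_Zc.mp hc'Z).2 e heNj
    have h2 : e * c'⁻¹ * e⁻¹ = c'⁻¹ * (c' * e) * c'⁻¹ * e⁻¹ := by group
    rw [h2, ← h1]; group
  have hident : ty = e⁻¹ * d⁻¹ * e * d := by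
    calc ty = e⁻¹ * y⁻¹ * (e * c'⁻¹ * e⁻¹) * y * e * y⁻¹ * c' * y := by
          rw [hty, htdef, hu]; group
      _ = e⁻¹ * y⁻¹ * c'⁻¹ * y * e * y⁻¹ * c' * y := by rw [hce]
      _ = e⁻¹ * d⁻¹ * e * d := by rw [hd]; group
  have htyE : ty ∈ E := h.center_le (le_Nch E (j + 1)) htyZ
  have htyZ1 : ty ∈ Zc (Nch E 1) := h.Zc_le_Zc_one j htyZ
  set e' : P := e * ty with he'
  have he'E : e' ∈ E := E.mul_mem heE htyE
  have he'Z : e' ∉ Zc (Nch E 1) := by
    intro h0
    apply heZ
    have := (Zc (Nch E 1)).mul_mem h0 ((Zc (Nch E 1)).inv_mem htyZ1)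
    rw [he'] at this
    simpa using this
  have hcent := h.centralizer_eq hP e' he'E he'Z
  have he'd : e' = d⁻¹ * e * d := by rw [he', hident]; group
  have hdN1 : d ∈ Nch E 1 := by
    have h1 : d⁻¹ ∈ normalizer (E : Set P) := by
      apply mem_normalizer_of_conj_mem
      intro a ha
      rw [← hcent, Subgroup.mem_centralizer_iff]
      intro x hx
      rw [Set.mem_singleton_iff] at hx
      subst hx
      rw [he'd]
      have := h.comm e heE a ha
      calc d⁻¹ * e * d * (d⁻¹ * a * d⁻¹⁻¹) = d⁻¹ * (e * a) * d := by group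
        _ = d⁻¹ * (a * e) * d := by rw [this]
        _ = d⁻¹ * a * d⁻¹⁻¹ * (d⁻¹ * e * d) := by group
    have h2 := (normalizer (E : Set P)).inv_mem h1
    show d ∈ normalizer (E : Set P)
    simpa using h2
  have htyC : ty ∈ C1 := by
    rw [hident]
    exact hC1comm e (le_Nch E 1 heE) d hdN1
  -- `C₁` has prime order and meets the centre nontrivially
  apply hcon
  have hzp : zpowers (⟨ty, htyC⟩ : C1) = ⊤ :=
    zpowers_eq_top_of_prime_card hC1card (fun h0 => htyne (congrArg Subtype.val h0))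
  intro x hx
  have hxmem : (⟨x, hx⟩ : C1) ∈ zpowers (⟨ty, htyC⟩ : C1) := by rw [hzp]; exact Subgroup.mem_top _
  obtain ⟨k, hk⟩ := Subgroup.mem_zpowers_iff.mp hxmem
  have hk' : ty ^ k = x := by
    have := congrArg Subtype.val hk
    simpa using this
  rw [← hk']
  exact (Zc (Nch E (j + 1))).zpow_mem htyZ k

end Cfsg.Agent.Helper1.Soft
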