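import Mathlib
import Cfsg.Agent.Helper1.Soft3

/-!
Soft subgroups of `p`-groups: transfer to subgroups and quotients, nilpotency class lemmas.
-/

set_option autoImplicit false
set_option linter.style.haveILetI false

namespace Cfsg.Agent.Helper1.Soft

open Subgroup
open scoped commutatorElement

section classlemmas

variable {G H : Type*} [Group G] [Group H]

theorem class_congr (e : G ≃* H) [Group.IsNilpotent G] [Group.IsNilpotent H] :
    Group.nilpotencyClass G = Group.nilpotencyClass H :=
  le_antisymm (Group.nilpotencyClass_le_of_surjective e.symm.toMonoidHom e.symm.surjective)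
    (Group.nilpotencyClass_le_of_surjective e.toMonoidHom e.surjective)

theorem class_eq_succ (f : G →* H) (hf : Function.Surjective f) (hker : f.ker = center G)
    [Nontrivial G] [Group.IsNilpotent G] [Group.IsNilpotent H] :
    Group.nilpotencyClass G = Group.nilpotencyClass H + 1 := by
  rw [Group.nilpotencyClass_eq_quotient_center_plus_one]
  congr 1
  have e1 : G ⧸ f.ker ≃* H := QuotientGroup.quotientKerEquivOfSurjective f hf
  have e2 : G ⧸ f.ker ≃* G ⧸ center G := QuotientGroup.quotientMulEquivOfEq hker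
  exact class_congr (e2.symm.trans e1)

theorem class_le_two (hG : ∀ a b : G, a * b * a⁻¹ * b⁻¹ ∈ center G) [Group.IsNilpotent G] :
    Group.nilpotencyClass G ≤ 2 := by
  rw [← Subgroup.upperCentralSeries_eq_top_iff_nilpotencyClass_le, eq_top_iff]
  intro x _
  rw [show (2 : ℕ) = 1 + 1 from rfl, Subgroup.mem_upperCentralSeries_succ_iff]
  intro y
  rw [Subgroup.upperCentralSeries_one, commutatorElement_def]
  exact hG x y

end classlemmas

variable {P : Type*} [Group P] [Finite P] {p : ℕ} [hp : Fact p.Prime]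

omit hp in
/-- Softness passes to subgroups containing the normalizer. -/
theorem IsSoft.subgroupOf {E M : Subgroup P} (h : IsSoft p E)
    (hN1M : normalizer (E : Set P) ≤ M) (hbig : p ^ 2 ∣ E.relIndex M) :
    IsSoft p (E.subgroupOf M) := by
  have hEM : E ≤ M := le_trans le_normalizer hN1M
  refine ⟨?_, ?_, ?_, hbig⟩
  · intro a ha b hb
    rw [mem_subgroupOf] at ha hb
    apply Subtype.ext
    exact h.comm _ ha _ hb
  · intro x hx
    rw [mem_subgroupOf]
    apply h.cent
    rw [Subgroup.mem_centralizer_iff] at hx ⊢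
    intro y hy
    have := hx ⟨y, hEM hy⟩ (by rw [SetLike.mem_coe, mem_subgroupOf]; exact hy)
    exact congrArg Subtype.val this
  · rw [← subgroupOf_normalizer_eq hEM]
    have h1 := relIndex_mul_relIndex E (normalizer (E : Set P)) M le_normalizer hN1M
    have h2 : E.relIndex (normalizer (E : Set P)) = p :=
      relIndex_of_step (E := E) (i := 0) (p := p) h.idx
    rw [h2] at h1
    exact h1.symm

omit hp in
/-- Softness of `N₁ / Z` in `P / Z` for a normal subgroup `Z ≤ E` containing `N₁'`. -/
theorem isSoft_quotient {E : Subgroup P} (Z : Subgroup P)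
    [Z.Normal] (hZE : Z ≤ E)
    (hcomm : ∀ a ∈ Nch E 1, ∀ b ∈ Nch E 1, a⁻¹ * b⁻¹ * a * b ∈ Z)
    (hstep : (Nch E 1).index = p * (Nch E 2).index) (hbig : p ^ 2 ∣ (Nch E 1).index) :
    IsSoft p ((Nch E 1).map (QuotientGroup.mk' Z)) := by
  have hker : (QuotientGroup.mk' Z).ker ≤ Nch E 1 := by
    rw [QuotientGroup.ker_mk']
    exact le_trans hZE (le_Nch E 1)
  have hidx : ((Nch E 1).map (QuotientGroup.mk' Z)).index = (Nch E 1).index :=
    Subgroup.index_map_eq _ (QuotientGroup.mk'_surjective Z) hker
  refine ⟨?_, ?_, ?_, ?_⟩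
  · rintro _ ⟨x, hx, rfl⟩ _ ⟨y, hy, rfl⟩
    rw [← map_mul, ← map_mul]
    apply (QuotientGroup.eq).mpr
    have := hcomm y hy x hx
    convert this using 1
    group
  · intro q hq
    obtain ⟨g, rfl⟩ := QuotientGroup.mk'_surjective Z q
    refine ⟨g, ?_, rfl⟩
    have h1 : g⁻¹ ∈ normalizer (E : Set P) := by
      apply mem_normalizer_of_conj_mem
      intro x hx
      rw [Subgroup.mem_centralizer_iff] at hq
      have h2 := hq (QuotientGroup.mk' Z x) ⟨x, le_Nch E 1 hx, rfl⟩
      rw [← map_mul, ← map_mul] at h2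
      have h3 : (x * g)⁻¹ * (g * x) ∈ Z := (QuotientGroup.eq).mp h2
      have h4 : (x * g)⁻¹ * (g * x) * x⁻¹ ∈ E := E.mul_mem (hZE h3) (E.inv_mem hx)
      have h5 := E.inv_mem h4
      convert h5 using 1
      group
    have h2 := (normalizer (E : Set P)).inv_mem h1
    show g ∈ normalizer (E : Set P)
    simpa using h2
  · rw [hidx, hstep]
    congr 1
    rw [← Subgroup.index_comap_of_surjective _ (QuotientGroup.mk'_surjective Z),
      Subgroup.comap_normalizer_eq_of_surjective _ (QuotientGroup.mk'_surjective Z),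
      QuotientGroup.comap_map_mk', sup_eq_right.mpr (le_trans hZE (le_Nch E 1))]
    rfl
  · rw [hidx]
    exact hbig

end Cfsg.Agent.Helper1.Soft
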