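import Mathlib
import Cfsg.Agent.Helper1.Soft4

/-!
Soft subgroups of `p`-groups (Héthelyi): the main induction.
-/

set_option autoImplicit false
set_option linter.style.haveILetI false

namespace Cfsg.Agent.Helper1.Soft

open Subgroup

universe u

/-- The conclusions for overgroups of a soft subgroup. -/
def Concl (p : ℕ) {P : Type*} [Group P] (E : Subgroup P) : Prop :=
  (∀ K : Subgroup P, E ≤ K → K ≠ ⊤ → K.index = p * (normalizer (K : Set P)).index) ∧
  (∀ (i : ℕ) (K : Subgroup P), E ≤ K → K ≠ ⊤ → K.index * p ^ i = E.index →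
      Group.nilpotencyClass K = i + 1)

/-- The `i`-th step of the normalizer chain. -/
def RStep (p : ℕ) {P : Type*} [Group P] (E : Subgroup P) (i : ℕ) : Prop :=
  Nch E i ≠ ⊤ → (Nch E i).index = p * (Nch E (i + 1)).index ∧
    Group.nilpotencyClass (Nch E i) = i + 1

theorem Nch_ne_top_of_le {P : Type*} [Group P] {E : Subgroup P} {i j : ℕ} (hij : i ≤ j)
    (h : Nch E j ≠ ⊤) : Nch E i ≠ ⊤ :=
  fun h0 => h (eq_top_iff.mpr (h0 ▸ Nch_mono E hij))

theorem Zc_subgroupOf {P : Type*} [Group P] (K : Subgroup P) :
    (Zc K).subgroupOf K = center K := by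
  ext x
  rw [mem_subgroupOf, mem_Zc, Subgroup.mem_center_iff]
  exact ⟨fun h g => Subtype.ext (h.2 g g.2),
    fun h => ⟨x.2, fun k hk => congrArg Subtype.val (h ⟨k, hk⟩)⟩⟩

variable {P : Type u} [Group P] [Finite P] {p : ℕ} [hp : Fact p.Prime]

omit hp in
theorem relIndex_Nch {E : Subgroup P} {i : ℕ} (hS : Step p E i) (hne : ∀ j < i, Nch E j ≠ ⊤) :
    E.relIndex (Nch E i) = p ^ i := by
  have h1 := index_chain E i hS hne
  have h2 := relIndex_mul_index (le_Nch E i)
  rw [h1] at h2
  exact Nat.eq_of_mul_eq_mul_right (Nat.pos_of_ne_zero (Nch E i).index_ne_zero_of_finite) h2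

theorem exists_Nch_eq_top {E : Subgroup P} (hS : ∀ i, Step p E i) : ∃ i, Nch E i = ⊤ := by
  by_contra hcon
  push Not at hcon
  have h1 := index_chain E E.index (hS _) (fun j _ => hcon j)
  have h2 : 0 < (Nch E E.index).index := Nat.pos_of_ne_zero (Nch E E.index).index_ne_zero_of_finite
  have h3 : E.index < p ^ E.index := Nat.lt_pow_self hp.out.one_lt
  nlinarith

theorem overgroup_eq (hP : IsPGroup p P) {E : Subgroup P} (hS : ∀ i, Step p E i)
    (K : Subgroup P) (hK : E ≤ K) : ∃ j, K = Nch E j := by
  obtain ⟨i, hi⟩ := exists_Nch_eq_top hS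
  rcases overgroup hP E i (hS i) K hK with ⟨j, _, hj⟩ | hlt
  · exact ⟨j, hj⟩
  · rw [hi] at hlt
    exact absurd hlt not_top_lt

theorem concl_of_R (hP : IsPGroup p P) {E : Subgroup P} (hR : ∀ i, RStep p E i) :
    Concl p E ∧ ∀ K L : Subgroup P, E ≤ K → E ≤ L → K ≤ L ∨ L ≤ K := by
  have hS : ∀ i, Step p E i := fun i j _ hne => (hR j hne).1
  have hall : ∀ K : Subgroup P, E ≤ K → ∃ j, K = Nch E j := overgroup_eq hP hS
  refine ⟨⟨?_, ?_⟩, ?_⟩
  · intro K hK hne
    obtain ⟨j, rfl⟩ := hall K hK
    exact (hR j hne).1
  · intro i K hK hne hidx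
    obtain ⟨j, rfl⟩ := hall K hK
    have h1 := index_chain E j (hS j) (fun l hl => Nch_ne_top_of_le hl.le hne)
    rw [h1] at hidx
    have hpos : 0 < (Nch E j).index := Nat.pos_of_ne_zero (Nch E j).index_ne_zero_of_finite
    have h2 : p ^ i = p ^ j := by
      have : (Nch E j).index * p ^ i = (Nch E j).index * p ^ j := by rw [hidx, mul_comm]
      exact Nat.eq_of_mul_eq_mul_left hpos this
    have hij : i = j := Nat.pow_right_injective hp.out.two_le h2
    subst hij
    exact (hR i hne).2
  · intro K L hK hL
    obtain ⟨j, rfl⟩ := hall K hK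
    obtain ⟨l, rfl⟩ := hall L hL
    rcases le_total j l with h | h
    · left; exact Nch_mono E h
    · right; exact Nch_mono E h

theorem IsSoft.C1_le (hP : IsPGroup p P) {E : Subgroup P} (h : IsSoft p E)
    (C1 : Subgroup P) (hC1card : Nat.card C1 = p) (hC1Z : C1 ≤ Zc (Nch E 1))
    (hC1comm : ∀ a ∈ Nch E 1, ∀ b ∈ Nch E 1, a⁻¹ * b⁻¹ * a * b ∈ C1)
    (hEcard : Nat.card E = p * Nat.card (Zc (Nch E 1))) :
    ∀ j : ℕ, Step p E (j + 1) → Nch E (j + 1) ≠ ⊤ → C1 ≤ Zc (Nch E (j + 1)) := by
  intro j
  induction j with
  | zero => intro _ _; exact hC1Z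
  | succ j ih =>
    intro hS hne
    exact h.C1_le_step hP C1 hC1card hC1comm hEcard (j + 1) hS hne
      (ih (hS.mono (Nat.le_succ _)) (Nch_ne_top_of_le (Nat.le_succ _) hne))

theorem chain_step (hP : IsPGroup p P)
    (IH : ∀ (P' : Type u) [Group P'] [Finite P'], Nat.card P' < Nat.card P → IsPGroup p P' →
      ∀ E' : Subgroup P', IsSoft p E' → Concl p E')
    {E : Subgroup P} (h : IsSoft p E) : ∀ i, RStep p E i := by
  intro i
  induction i using Nat.strong_induction_on with
  | _ i ih =>
    intro hne
    have hS : Step p E i := fun j hj hnej => (ih j hj hnej).1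
    have hnej : ∀ j < i, Nch E j ≠ ⊤ := fun j hj => Nch_ne_top_of_le hj.le hne
    haveI : Group.IsNilpotent (Nch E i) := (hP.to_subgroup _).isNilpotent
    rcases i with _ | _ | i
    · -- `i = 0`
      refine ⟨h.idx, ?_⟩
      show Group.nilpotencyClass E = 0 + 1
      haveI : Group.IsNilpotent E := (hP.to_subgroup _).isNilpotent
      apply le_antisymm
      · rw [Group.IsNilpotent.nilpotencyClass_le_one_iff]
        exact ⟨⟨fun a b => Subtype.ext (h.comm _ a.2 _ b.2)⟩⟩
      · rw [Nat.succ_le_iff, Nat.pos_iff_ne_zero, Ne, Group.nilpotencyClass_zero_iff_subsingleton]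
        intro hsub
        apply h.ne_top
        rw [eq_top_iff]
        intro x _
        apply h.cent
        rw [Subgroup.mem_centralizer_iff]
        intro y hy
        have : (⟨y, hy⟩ : E) = 1 := Subsingleton.elim _ _
        have hy1 : y = 1 := congrArg Subtype.val this
        rw [hy1]; simp
    · -- `i = 1`
      refine ⟨h.step_two hP, ?_⟩
      obtain ⟨C1, hC1card, hC1Z, hC1comm, hEcard⟩ := h.level_one hP
      apply le_antisymm
      · apply class_le_two
        intro a b
        rw [Subgroup.mem_center_iff]
        intro g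
        apply Subtype.ext
        have h1 := hC1Z (hC1comm _ ((Nch E 1).inv_mem a.2) _ ((Nch E 1).inv_mem b.2))
        rw [inv_inv, inv_inv] at h1
        exact (mem_Zc.mp h1).2 g g.2
      · by_contra hlt
        push Not at hlt
        have hle : Group.nilpotencyClass (Nch E (0 + 1)) ≤ 1 := by omega
        rw [Group.IsNilpotent.nilpotencyClass_le_one_iff] at hle
        have hlt' : E < Nch E 1 := by
          have := Nch_lt_succ hP E 0 (by simpa using h.ne_top)
          simpa using this
        apply hlt'.ne'
        apply le_antisymm _ hlt'.le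
        intro x hx
        apply h.cent
        rw [Subgroup.mem_centralizer_iff]
        intro y hy
        have := hle.is_comm.comm (⟨y, le_Nch E 1 hy⟩ : Nch E (0 + 1)) ⟨x, hx⟩
        exact congrArg Subtype.val this
    · -- `i + 2`
      set K := Nch E (i + 1 + 1) with hKdef
      have hEK : E ≤ K := le_Nch E _
      have hrel : E.relIndex K = p ^ (i + 1 + 1) := relIndex_Nch hS hnej
      have hidxK : E.index = p ^ (i + 1 + 1) * K.index := index_chain E _ hS hnej
      have hN1K : Nch E 1 ≤ K := Nch_mono E (by omega)
      by_cases hM : Nch E (i + 1 + 1 + 1) = ⊤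
      · -- the normal case: pass to the quotient by the centre
        obtain ⟨C1, hC1card, hC1Z, hC1comm, hEcard⟩ := h.level_one hP
        have hC1K : C1 ≤ Zc K :=
          h.C1_le hP C1 hC1card hC1Z hC1comm hEcard (i + 1) hS hne
        have hnormK : normalizer (K : Set P) = ⊤ := hM
        haveI hKn : K.Normal := Subgroup.normalizer_eq_top_iff.mp hnormK
        set Z := Zc K with hZdef
        haveI hZn : Z.Normal :=
          ⟨fun x hx g => Zc_conj_mem (by rw [hnormK]; exact Subgroup.mem_top g) hx⟩
        have hZE : Z ≤ E := h.center_le hEK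
        have hZK : Z ≤ K := Zc_le K
        have hcommZ : ∀ a ∈ Nch E 1, ∀ b ∈ Nch E 1, a⁻¹ * b⁻¹ * a * b ∈ Z :=
          fun a ha b hb => hC1K (hC1comm a ha b hb)
        have hstep1 : (Nch E 1).index = p * (Nch E 2).index :=
          hS 1 (by omega) (hnej 1 (by omega))
        have hN2ne : Nch E 2 ≠ ⊤ := Nch_ne_top_of_le (by omega) hne
        have hp_dvd : p ∣ (Nch E 2).index := by
          obtain ⟨n, hn⟩ := hP.index (Nch E 2)
          rcases n with _ | n
          · exfalso
            rw [pow_zero, Subgroup.index_eq_one] at hn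
            exact hN2ne hn
          · rw [hn, pow_succ]
            exact Dvd.intro_left _ rfl
        have hbig : p ^ 2 ∣ (Nch E 1).index := by
          rw [hstep1, pow_two]
          exact Nat.mul_dvd_mul_left p hp_dvd
        have hsoftQ := isSoft_quotient (p := p) Z hZE hcommZ hstep1 hbig
        have hcardQ : Nat.card (P ⧸ Z) < Nat.card P := by
          rw [← Subgroup.index_eq_card, ← Z.card_mul_index]
          have h1 : p ≤ Nat.card Z := hC1card ▸ Subgroup.card_le_of_le hC1K
          have h2 : 0 < Z.index := Nat.pos_of_ne_zero Z.index_ne_zero_of_finite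
          have := hp.out.two_le
          nlinarith
        obtain ⟨hB, hCc⟩ := IH (P ⧸ Z) hcardQ (hP.to_quotient Z) _ hsoftQ
        have hπs : Function.Surjective (QuotientGroup.mk' Z) := QuotientGroup.mk'_surjective Z
        have hkerK : (QuotientGroup.mk' Z).ker ≤ K := by
          rw [QuotientGroup.ker_mk']; exact hZK
        have hkerN1 : (QuotientGroup.mk' Z).ker ≤ Nch E 1 := by
          rw [QuotientGroup.ker_mk']; exact le_trans hZE (le_Nch E 1)
        have hidxKbar : (K.map (QuotientGroup.mk' Z)).index = K.index :=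
          Subgroup.index_map_eq _ hπs hkerK
        have hidxEbar : ((Nch E 1).map (QuotientGroup.mk' Z)).index = (Nch E 1).index :=
          Subgroup.index_map_eq _ hπs hkerN1
        have hKbar_ne : K.map (QuotientGroup.mk' Z) ≠ ⊤ := by
          intro h0
          rw [← Subgroup.index_eq_one, hidxKbar, Subgroup.index_eq_one] at h0
          exact hne h0
        have hle : (Nch E 1).map (QuotientGroup.mk' Z) ≤ K.map (QuotientGroup.mk' Z) :=
          Subgroup.map_mono hN1K
        haveI : (K.map (QuotientGroup.mk' Z)).Normal := hKn.map _ hπs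
        have h1 := hB (K.map (QuotientGroup.mk' Z)) hle hKbar_ne
        rw [Subgroup.normalizer_eq_top, Subgroup.index_top, mul_one, hidxKbar] at h1
        refine ⟨?_, ?_⟩
        · rw [hM, Subgroup.index_top, mul_one]
          exact h1
        · have h2 := hCc (i + 1) (K.map (QuotientGroup.mk' Z)) hle hKbar_ne (by
            rw [hidxKbar, hidxEbar]
            have h4 : E.index = p * (Nch E 1).index := h.idx
            rw [h4, pow_succ, mul_comm (p ^ (i + 1)) p, mul_assoc] at hidxK
            have := Nat.eq_of_mul_eq_mul_left hp.out.pos hidxK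
            rw [this, mul_comm])
          haveI : Group.IsNilpotent (K.map (QuotientGroup.mk' Z)) :=
            ((hP.to_quotient Z).to_subgroup _).isNilpotent
          haveI : Nontrivial K := by
            rw [Subgroup.nontrivial_iff_ne_bot]
            intro h0
            have h5 : C1 ≤ ⊥ := h0 ▸ le_trans hC1K hZK
            rw [le_bot_iff] at h5
            rw [h5, Subgroup.card_bot] at hC1card
            exact hp.out.one_lt.ne hC1card
          have h3 := class_eq_succ ((QuotientGroup.mk' Z).subgroupMap K)
            ((QuotientGroup.mk' Z).subgroupMap_surjective K) (by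
              rw [Subgroup.ker_subgroupMap, QuotientGroup.ker_mk']
              exact Zc_subgroupOf K)
          rw [h3, h2]
      · -- the non-normal case: pass to the next normalizer
        set M := Nch E (i + 1 + 1 + 1) with hMdef
        have hKM : K ≤ M := Nch_le_succ E (i + 1 + 1)
        have hKltM : K < M := Nch_lt_succ hP E (i + 1 + 1) hne
        have hN1M : normalizer (E : Set P) ≤ M := Nch_mono E (show 1 ≤ i + 1 + 1 + 1 by omega)
        have hrelM : E.relIndex M = p ^ (i + 1 + 1) * K.relIndex M := by
          rw [← hrel]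
          exact (relIndex_mul_relIndex E K M hEK hKM).symm
        have hbig : p ^ 2 ∣ E.relIndex M := by
          rw [hrelM, show i + 1 + 1 = 2 + i by omega, pow_add, mul_assoc]
          exact Dvd.intro _ rfl
        have hsoftM := h.subgroupOf hN1M hbig
        have hcardM : Nat.card M < Nat.card P := by
          apply lt_of_le_of_ne (Subgroup.card_le_card_group M)
          intro h0
          exact hM ((Subgroup.card_eq_iff_eq_top M).mp h0)
        obtain ⟨hB, hCc⟩ := IH M hcardM (hP.to_subgroup M) _ hsoftM
        have hle : E.subgroupOf M ≤ K.subgroupOf M := fun x hx => hEK hx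
        have hK'ne : K.subgroupOf M ≠ ⊤ := by
          intro h0
          rw [Subgroup.subgroupOf_eq_top] at h0
          exact absurd (le_antisymm hKM h0) hKltM.ne
        have h1 := hB (K.subgroupOf M) hle hK'ne
        rw [← subgroupOf_normalizer_eq hKM] at h1
        have h2 : ((normalizer (K : Set P)).subgroupOf M).index = 1 := by
          rw [Subgroup.index_eq_one]
          exact Subgroup.subgroupOf_self M
        rw [h2, mul_one] at h1
        have hrelKM : K.relIndex M = p := h1
        refine ⟨?_, ?_⟩
        · have := relIndex_mul_index hKM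
          rw [hrelKM] at this
          exact this.symm
        · have h3 := hCc (i + 1 + 1) (K.subgroupOf M) hle hK'ne (by
            show K.relIndex M * p ^ (i + 1 + 1) = E.relIndex M
            rw [hrelM, mul_comm])
          haveI : Group.IsNilpotent (K.subgroupOf M) :=
            ((hP.to_subgroup M).to_subgroup _).isNilpotent
          rw [← h3]
          exact (class_congr (subgroupOfEquivOfLe hKM)).symm

theorem all_R : ∀ (n : ℕ) (P : Type u) [Group P] [Finite P], Nat.card P = n → IsPGroup p P →
    ∀ E : Subgroup P, IsSoft p E → ∀ i, RStep p E i := by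
  intro n
  induction n using Nat.strong_induction_on with
  | _ n ih =>
    intro P _ _ hn hP E h
    apply chain_step hP _ h
    intro P' _ _ hcard hP' E' h'
    exact (concl_of_R hP' (ih (Nat.card P') (hn ▸ hcard) P' rfl hP' E' h')).1

/-- **Héthelyi's theorem on soft subgroups**. -/
theorem soft_main (hP : IsPGroup p P) {E : Subgroup P} (h : IsSoft p E) :
    Concl p E ∧ ∀ K L : Subgroup P, E ≤ K → E ≤ L → K ≤ L ∨ L ≤ K :=
  concl_of_R hP (all_R (Nat.card P) P rfl hP E h)

end Cfsg.Agent.Helper1.Soft
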