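import Mathlib
import Cfsg.Agent.Helper9.NormalSeries
import Cfsg.Agent.Helper9.MaxClassTwo

/-!
# Suzuki's lemma: a `2`-group with an involution whose centralizer has order `4` has maximal class
-/

set_option autoImplicit false

namespace Cfsg.Agent.Helper1.Suzuki

universe u

/-- passing to the quotient by a central subgroup does not enlarge a centralizer -/
theorem card_centralizer_quotient_le {S : Type*} [Group S] [Finite S] (Z : Subgroup S) [Z.Normal]
    (hZc : Z ≤ Subgroup.center S) (x : S) :
    Nat.card (Subgroup.centralizer ({(x : S ⧸ Z)} : Set (S ⧸ Z))) ≤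
      Nat.card (Subgroup.centralizer ({x} : Set S)) := by
  set Cbar := Subgroup.centralizer ({(x : S ⧸ Z)} : Set (S ⧸ Z)) with hCbar
  set Cs := Cbar.comap (QuotientGroup.mk' Z) with hCs
  have h1 : Nat.card Cs = Nat.card Cbar * Nat.card Z := Cfsg.Agent.Helper9.card_comap_mk' Z Cbar
  -- the commutator map
  have hval : ∀ g : Cs, (g : S) * x * (g : S)⁻¹ * x⁻¹ ∈ Z := by
    intro g
    have hg : ((g : S) : S ⧸ Z) ∈ Cbar := g.2
    rw [hCbar, Subgroup.mem_centralizer_iff] at hg
    have h2 := hg (x : S ⧸ Z) rfl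
    apply (QuotientGroup.eq_one_iff _).mp
    rw [QuotientGroup.mk_mul, QuotientGroup.mk_mul, QuotientGroup.mk_mul, QuotientGroup.mk_inv,
      QuotientGroup.mk_inv, ← h2]
    group
  have hmul : ∀ g h : Cs, ((g * h : Cs) : S) * x * ((g * h : Cs) : S)⁻¹ * x⁻¹ =
      ((g : S) * x * (g : S)⁻¹ * x⁻¹) * ((h : S) * x * (h : S)⁻¹ * x⁻¹) := by
    intro g h
    have hc := Subgroup.mem_center_iff.mp (hZc (hval h))
    set c : S := (h : S) * x * (h : S)⁻¹ * x⁻¹ with hcdef
    have e1 : ((g * h : Cs) : S) * x * ((g * h : Cs) : S)⁻¹ * x⁻¹ =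
        (g : S) * (c * x) * (g : S)⁻¹ * x⁻¹ := by
      rw [Subgroup.coe_mul, hcdef]; group
    rw [e1]
    calc (g : S) * (c * x) * (g : S)⁻¹ * x⁻¹ = ((g : S) * c) * x * (g : S)⁻¹ * x⁻¹ := by group
      _ = (c * (g : S)) * x * (g : S)⁻¹ * x⁻¹ := by rw [hc (g : S)]
      _ = c * ((g : S) * x * (g : S)⁻¹ * x⁻¹) := by group
      _ = ((g : S) * x * (g : S)⁻¹ * x⁻¹) * c := (hc _).symm
  let ψ : Cs →* S := MonoidHom.mk' (fun g => (g : S) * x * (g : S)⁻¹ * x⁻¹) hmul
  have hψ : ∀ g : Cs, ψ g = (g : S) * x * (g : S)⁻¹ * x⁻¹ := fun g => rfl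
  have hrange : Nat.card ψ.range ≤ Nat.card Z := by
    apply Subgroup.card_le_of_le
    rintro _ ⟨g, rfl⟩
    exact hval g
  have hker : Nat.card ψ.ker ≤ Nat.card (Subgroup.centralizer ({x} : Set S)) := by
    have hle : ψ.ker.map Cs.subtype ≤ Subgroup.centralizer ({x} : Set S) := by
      rintro _ ⟨g, hg, rfl⟩
      rw [SetLike.mem_coe, MonoidHom.mem_ker, hψ] at hg
      rw [Subgroup.mem_centralizer_iff]
      intro y hy
      rw [Set.mem_singleton_iff] at hy
      subst hy
      show y * (g : S) = (g : S) * y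
      calc y * (g : S) = ((g : S) * y * (g : S)⁻¹ * y⁻¹)⁻¹ * ((g : S) * y) := by group
        _ = (g : S) * y := by rw [hg, inv_one, one_mul]
    calc Nat.card ψ.ker = Nat.card (ψ.ker.map Cs.subtype) :=
          (Subgroup.card_map_of_injective Cs.subtype_injective).symm
      _ ≤ _ := Subgroup.card_le_of_le hle
  have hprod : Nat.card ψ.ker * Nat.card ψ.range = Nat.card Cs := by
    rw [← Subgroup.index_ker, mul_comm, Subgroup.index_mul_card]
  have hZpos : 0 < Nat.card Z := Nat.card_pos
  have : Nat.card Cbar * Nat.card Z ≤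
      Nat.card (Subgroup.centralizer ({x} : Set S)) * Nat.card Z := by
    rw [← h1, ← hprod]
    exact Nat.mul_le_mul hker hrange
  exact Nat.le_of_mul_le_mul_right this hZpos

theorem maxClass_aux : ∀ (N : ℕ) (S : Type u) [Group S] [Finite S], Nat.card S = N →
    IsPGroup 2 S → ∀ x : S, orderOf x = 2 →
    Nat.card (Subgroup.centralizer ({x} : Set S)) ≤ 4 →
    Nat.card S ≤ 4 ∨ ∃ k : ℕ, 3 ≤ k ∧ Nat.card S = 2 ^ k ∧ Group.nilpotencyClass S = k - 1 := by
  intro N
  induction N using Nat.strong_induction_on with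
  | _ N ih =>
  intro S _ _ hN hS x hx hC
  have : Fact (Nat.Prime 2) := ⟨Nat.prime_two⟩
  by_cases hxZ : x ∈ Subgroup.center S
  · left
    have htop : Subgroup.centralizer ({x} : Set S) = ⊤ := by
      rw [Subgroup.centralizer_eq_top_iff_subset]
      intro y hy
      rw [Set.mem_singleton_iff] at hy
      rw [hy]; exact hxZ
    rw [htop, Subgroup.card_top] at hC
    exact hC
  · have hx1 : x ≠ 1 := by
      intro h
      exact hxZ (h ▸ Subgroup.one_mem _)
    have hnt : Nontrivial S := ⟨⟨x, 1, hx1⟩⟩
    have hnil : Group.IsNilpotent S := hS.isNilpotent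
    set Z := Subgroup.center S with hZdef
    have hZle : Z ≤ Subgroup.centralizer ({x} : Set S) := Subgroup.center_le_centralizer _
    have hxC : x ∈ Subgroup.centralizer ({x} : Set S) := by
      rw [Subgroup.mem_centralizer_iff]
      intro y hy
      rw [Set.mem_singleton_iff] at hy
      rw [hy]
    have hZlt : Nat.card Z < Nat.card (Subgroup.centralizer ({x} : Set S)) := by
      refine lt_of_le_of_ne (Subgroup.card_le_of_le hZle) ?_
      intro h
      have := Subgroup.eq_of_le_of_card_ge hZle h.ge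
      exact hxZ (this ▸ hxC)
    obtain ⟨i, hi⟩ := IsPGroup.iff_card.mp (hS.to_subgroup Z)
    have hZnt : Nontrivial Z := hS.center_nontrivial
    have hZ2 : Nat.card Z = 2 := by
      have h3 : Nat.card Z ≤ 3 := by omega
      have h1 : 1 < Nat.card Z := Finite.one_lt_card
      rw [hi] at h3 h1 ⊢
      have hi1 : i ≤ 1 := by
        by_contra hcon
        have : 2 ^ 2 ≤ 2 ^ i := Nat.pow_le_pow_right (by norm_num) (by omega)
        omega
      have hi0 : i ≠ 0 := by
        rintro rfl
        simp at h1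
      have : i = 1 := by omega
      rw [this, pow_one]
    have hcardS : Nat.card S = Nat.card (S ⧸ Z) * 2 := by
      rw [← hZ2]; exact Subgroup.card_eq_card_quotient_mul_card_subgroup Z
    have hxbar : orderOf (x : S ⧸ Z) = 2 := by
      apply orderOf_eq_prime
      · rw [← QuotientGroup.mk_pow, ← hx, pow_orderOf_eq_one]; rfl
      · intro h
        exact hxZ ((QuotientGroup.eq_one_iff x).mp h)
    have hCbar : Nat.card (Subgroup.centralizer ({(x : S ⧸ Z)} : Set (S ⧸ Z))) ≤ 4 :=
      (card_centralizer_quotient_le Z le_rfl x).trans hC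
    have hlt : Nat.card (S ⧸ Z) < N := by
      rw [← hN, hcardS]
      have : 0 < Nat.card (S ⧸ Z) := Nat.card_pos
      omega
    have hclass : Group.nilpotencyClass S = Group.nilpotencyClass (S ⧸ Z) + 1 :=
      Group.nilpotencyClass_eq_quotient_center_plus_one
    rcases ih (Nat.card (S ⧸ Z)) hlt (S ⧸ Z) rfl (hS.to_quotient Z) (x : S ⧸ Z) hxbar hCbar with
      h4 | ⟨k, hk3, hkc, hkn⟩
    · -- `|S| ≤ 8`
      by_cases hS4 : Nat.card S ≤ 4
      · exact Or.inl hS4
      · right
        obtain ⟨j, hj⟩ := IsPGroup.iff_card.mp (hS.to_quotient Z)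
        have hj2 : j = 2 := by
          rw [hj] at h4 hcardS
          have hjle : j ≤ 2 := by
            by_contra hcon
            have : 2 ^ 3 ≤ 2 ^ j := Nat.pow_le_pow_right (by norm_num) (by omega)
            omega
          have hjge : 2 ≤ j := by
            by_contra hcon
            have : 2 ^ j ≤ 2 ^ 1 := Nat.pow_le_pow_right (by norm_num) (by omega)
            omega
          omega
        rw [hj2] at hj
        refine ⟨3, le_rfl, by rw [hcardS, hj]; norm_num, ?_⟩
        have hcomm : IsMulCommutative (S ⧸ Z) :=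
          IsPGroup.isMulCommutative_of_card_eq_prime_sq (p := 2) hj
        have hle1 : Group.nilpotencyClass (S ⧸ Z) ≤ 1 := by
          rw [← Subgroup.upperCentralSeries_eq_top_iff_nilpotencyClass_le,
            Subgroup.upperCentralSeries_one]
          rw [eq_top_iff]
          intro g _
          rw [Subgroup.mem_center_iff]
          intro h
          exact mul_comm' h g
        have hge2 : ¬ Group.nilpotencyClass S ≤ 1 := by
          intro hle
          rw [← Subgroup.upperCentralSeries_eq_top_iff_nilpotencyClass_le,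
            Subgroup.upperCentralSeries_one] at hle
          apply hxZ
          rw [hZdef, hle] at *
          trivial
        omega
    · right
      refine ⟨k + 1, by omega, by rw [hcardS, hkc, pow_succ], ?_⟩
      rw [hclass, hkn]; omega

end Cfsg.Agent.Helper1.Suzuki
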