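import Mathlib
import Cfsg.Agent.Helper29.SylMaxDefs

set_option autoImplicit false
set_option linter.style.haveILetI false
set_option linter.unusedSectionVars false
set_option linter.unusedVariables false

/-!
# S2245, piece FIXA: a Sylow 2-subgroup of `A_n`, `n = 2^k + 1`, fixes a point and is transitive
on the other points.

Constructive proof: the group `ZMod 2 × ZMod (2^(k-1))` acts regularly on the `2^k` points other
than a chosen `x₀`, by even permutations; a Sylow 2-subgroup containing its image has a fixed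
point (`n` is odd), which must be `x₀`; all Sylow 2-subgroups are conjugate.
-/

namespace Cfsg.Agent.Helper1.SylMax

open MulAction Equiv Cfsg.Agent.Helper29.SylMax
open scoped Pointwise

universe u v

variable {𝔾 : Type u} [Group 𝔾] {α : Type v} [Fintype α] [DecidableEq α] [MulAction 𝔾 α]

/-- Sylow transfer: if some 2-subgroup fixes `x₀` and is transitive on the other points
(`|α|` odd), every Sylow 2-subgroup has the same property. -/
theorem fixTrans_sylow_of_subgroup [Finite 𝔾] (hodd : ¬ 2 ∣ Nat.card α)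
    (P : Subgroup 𝔾) (hP : IsPGroup 2 P) (x₀ : α) (hfix : ∀ r ∈ P, r • x₀ = x₀)
    (htr : ∀ y z : α, y ≠ x₀ → z ≠ x₀ → ∃ r ∈ P, r • y = z)
    (hmove : ∀ y : α, y ≠ x₀ → ∃ r ∈ P, r • y ≠ y)
    (R : Sylow 2 𝔾) : FixTrans (α := α) (R : Subgroup 𝔾) := by
  haveI : Fact (Nat.Prime 2) := ⟨Nat.prime_two⟩
  obtain ⟨Q, hPQ⟩ := hP.exists_le_sylow
  obtain ⟨x₁, hx₁⟩ := Q.2.nonempty_fixed_point_of_prime_not_dvd_card α hodd
  have hx₁' : ∀ q ∈ (Q : Subgroup 𝔾), q • x₁ = x₁ := fun q hq => hx₁ ⟨q, hq⟩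
  have hx10 : x₁ = x₀ := by
    by_contra hne
    obtain ⟨r, hr, hrne⟩ := hmove x₁ hne
    exact hrne (hx₁' r (hPQ hr))
  rw [hx10] at hx₁'
  obtain ⟨g, hg⟩ := MulAction.exists_smul_eq 𝔾 Q R
  have hmem : ∀ r : 𝔾, r ∈ (R : Subgroup 𝔾) ↔ g⁻¹ * r * g ∈ (Q : Subgroup 𝔾) := by
    intro r
    rw [← hg, Sylow.coe_subgroup_smul, Subgroup.mem_pointwise_smul_iff_inv_smul_mem]
    simp [MulAut.smul_def]
  refine ⟨g • x₀, ?_, ?_⟩
  · intro r hr
    have h1 := hx₁' _ ((hmem r).1 hr)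
    rw [mul_smul, mul_smul] at h1
    have h2 := congrArg (fun t => g • t) h1
    simpa using h2
  · intro y z hy hz
    have hy' : g⁻¹ • y ≠ x₀ := fun h => hy (by rw [← h, smul_inv_smul])
    have hz' : g⁻¹ • z ≠ x₀ := fun h => hz (by rw [← h, smul_inv_smul])
    obtain ⟨r, hr, hrz⟩ := htr _ _ hy' hz'
    refine ⟨g * r * g⁻¹, ?_, ?_⟩
    · rw [hmem]
      have : g⁻¹ * (g * r * g⁻¹) * g = r := by group
      rw [this]
      exact hPQ hr
    · rw [mul_smul, mul_smul, hrz, smul_inv_smul]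

/-- The sign of a translation on a product of two additive groups of even order. -/
theorem sign_addRight_prod {A B : Type*} [AddGroup A] [AddGroup B] [Fintype A] [Fintype B]
    [DecidableEq A] [DecidableEq B]
    (hA : Even (Fintype.card A)) (hB : Even (Fintype.card B)) (v : A × B) :
    Perm.sign (Equiv.addRight v) = 1 := by
  have h : Equiv.addRight v = Equiv.prodCongrRight (fun _ : A => Equiv.addRight v.2) *
      Equiv.prodCongrLeft (fun _ : B => Equiv.addRight v.1) := by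
    ext ⟨x, y⟩ <;> simp [Equiv.prodCongrRight, Equiv.prodCongrLeft]
  rw [h, Perm.sign_mul, Perm.sign_prodCongrRight, Perm.sign_prodCongrLeft]
  simp only [Finset.prod_const, Finset.card_univ]
  obtain ⟨m, hm⟩ := hA
  obtain ⟨n, hn⟩ := hB
  rw [hm, hn, ← two_mul, ← two_mul, pow_mul, pow_mul, Int.units_sq, Int.units_sq, one_pow, one_pow,
    one_mul]

/-- An explicit 2-subgroup of `Perm α` (`|α| = 2^k+1`, `k ≥ 2`) consisting of even permutations,
fixing a point and regular on the rest. -/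
theorem exists_two_subgroup (k : ℕ) (hk : 2 ≤ k) (hα : Nat.card α = 2 ^ k + 1) :
    ∃ (x₀ : α) (P : Subgroup (Perm α)), IsPGroup 2 P ∧ P ≤ alternatingGroup α ∧
      (∀ r ∈ P, r x₀ = x₀) ∧ ∀ y z : α, y ≠ x₀ → z ≠ x₀ → ∃ r ∈ P, r y = z := by
  classical
  have hne : Nonempty α := by
    rw [← Finite.card_pos_iff, hα]
    positivity
  obtain ⟨x₀⟩ := hne
  haveI : NeZero (2 ^ (k - 1)) := ⟨by positivity⟩
  have hcardE : Fintype.card (ZMod 2 × ZMod (2 ^ (k - 1))) = 2 ^ k := by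
    rw [Fintype.card_prod, ZMod.card, ZMod.card, ← pow_succ']
    congr 1; omega
  have hcardβ : Fintype.card {x : α // x ≠ x₀} = 2 ^ k := by
    have h1 := Fintype.card_subtype_compl (fun x : α => x = x₀)
    rw [Nat.card_eq_fintype_card] at hα
    simp only [Fintype.card_subtype_eq] at h1
    rw [hα, Nat.add_sub_cancel] at h1
    exact h1
  let e : {x : α // x ≠ x₀} ≃ ZMod 2 × ZMod (2 ^ (k - 1)) :=
    Fintype.equivOfCardEq (hcardβ.trans hcardE.symm)
  let ρ : Multiplicative (ZMod 2 × ZMod (2 ^ (k - 1))) →* Perm (ZMod 2 × ZMod (2 ^ (k - 1))) :=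
    { toFun := fun v => Equiv.addRight (Multiplicative.toAdd v)
      map_one' := by ext x <;> simp
      map_mul' := fun a b => by
        ext x <;> simp [add_comm, add_left_comm] }
  let φ : Multiplicative (ZMod 2 × ZMod (2 ^ (k - 1))) →* Perm α :=
    (Perm.ofSubtype).comp ((e.symm.permCongrHom :
      Perm (ZMod 2 × ZMod (2 ^ (k - 1))) →* Perm {x : α // x ≠ x₀}).comp ρ)
  have hφ : ∀ v, φ v = Perm.ofSubtype (e.symm.permCongr (Equiv.addRight (Multiplicative.toAdd v))) :=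
    fun v => rfl
  refine ⟨x₀, φ.range, ?_, ?_, ?_, ?_⟩
  · have hE : IsPGroup 2 (Multiplicative (ZMod 2 × ZMod (2 ^ (k - 1)))) :=
      IsPGroup.of_card (n := k) (by
        rw [Nat.card_eq_fintype_card, Fintype.card_multiplicative]; exact hcardE)
    rw [MonoidHom.range_eq_map]
    exact (hE.to_subgroup ⊤).map φ
  · rintro _ ⟨v, rfl⟩
    rw [Perm.mem_alternatingGroup, hφ, Perm.sign_ofSubtype, Perm.sign_permCongr]
    apply sign_addRight_prod
    · rw [ZMod.card]; exact even_two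
    · rw [ZMod.card]
      exact (Nat.even_pow' (by omega)).2 even_two
  · rintro _ ⟨v, rfl⟩
    rw [hφ]
    exact Perm.ofSubtype_apply_of_not_mem _ (by simp)
  · intro y z hy hz
    refine ⟨φ (Multiplicative.ofAdd (e ⟨z, hz⟩ - e ⟨y, hy⟩)), ⟨_, rfl⟩, ?_⟩
    rw [hφ, Perm.ofSubtype_apply_of_mem (p := fun x => x ≠ x₀) (a := y) _ hy]
    simp

theorem exists_third_point (k : ℕ) (hk : 2 ≤ k) (hα : Nat.card α = 2 ^ k + 1) (x₀ y : α) :
    ∃ z : α, z ≠ x₀ ∧ z ≠ y := by
  by_contra h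
  push Not at h
  have hsub : (Finset.univ : Finset α) ⊆ {x₀, y} := by
    intro z _
    by_cases hz : z = x₀
    · simp [hz]
    · simp [h z hz]
  have h1 := Finset.card_le_card hsub
  have h2 : ({x₀, y} : Finset α).card ≤ 2 := Finset.card_le_two
  rw [Finset.card_univ, ← Nat.card_eq_fintype_card, hα] at h1
  have h3 : 2 ^ 2 ≤ 2 ^ k := Nat.pow_le_pow_right (by norm_num) hk
  omega

theorem not_two_dvd_card (k : ℕ) (hk : 2 ≤ k) (hα : Nat.card α = 2 ^ k + 1) :
    ¬ 2 ∣ Nat.card α := by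
  rw [hα]
  have h : 2 ∣ 2 ^ k := dvd_pow_self 2 (by omega)
  omega

/-- **FIXA** -/
theorem fixTrans_alt (k : ℕ) (hk : 2 ≤ k) (hα : Nat.card α = 2 ^ k + 1)
    (R : Sylow 2 (alternatingGroup α)) :
    FixTrans (α := α) (R : Subgroup (alternatingGroup α)) := by
  obtain ⟨x₀, P, hP, hPA, hfix, htr⟩ := exists_two_subgroup (α := α) k hk hα
  have htr' : ∀ y z : α, y ≠ x₀ → z ≠ x₀ →
      ∃ r ∈ P.subgroupOf (alternatingGroup α), r • y = z := by
    intro y z hy hz
    obtain ⟨r, hr, hrz⟩ := htr y z hy hz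
    exact ⟨⟨r, hPA hr⟩, Subgroup.mem_subgroupOf.2 hr, hrz⟩
  refine fixTrans_sylow_of_subgroup (not_two_dvd_card k hk hα) (P.subgroupOf (alternatingGroup α))
    hP.comap_subtype x₀ ?_ htr' ?_ R
  · intro r hr
    exact hfix _ (Subgroup.mem_subgroupOf.1 hr)
  · intro y hy
    obtain ⟨z, hz0, hzy⟩ := exists_third_point k hk hα x₀ y
    obtain ⟨r, hr, hrz⟩ := htr' y z hy hz0
    exact ⟨r, hr, by rw [hrz]; exact hzy⟩

/-- **FIXS** (same proof) -/
theorem fixTrans_perm' (k : ℕ) (hk : 2 ≤ k) (hα : Nat.card α = 2 ^ k + 1)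
    (R : Sylow 2 (Perm α)) :
    FixTrans (α := α) (R : Subgroup (Perm α)) := by
  obtain ⟨x₀, P, hP, hPA, hfix, htr⟩ := exists_two_subgroup (α := α) k hk hα
  refine fixTrans_sylow_of_subgroup (not_two_dvd_card k hk hα) P hP x₀ hfix htr ?_ R
  intro y hy
  obtain ⟨z, hz0, hzy⟩ := exists_third_point k hk hα x₀ y
  obtain ⟨r, hr, hrz⟩ := htr y z hy hz0
  exact ⟨r, hr, by rw [Perm.smul_def, hrz]; exact hzy⟩

end Cfsg.Agent.Helper1.SylMax
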