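import Mathlib
import Cfsg.Agent.Helper19.Cores

/-!
# S4118, piece (E): the largest normal `π'`-subgroup and a normal `π`-subgroup over it
-/

set_option autoImplicit false
set_option linter.style.haveILetI false
set_option linter.unusedSectionVars false

namespace Cfsg.Agent.Helper1.TIHallE

open Subgroup

variable {G : Type*} [Group G] [Finite G]

theorem exists_normal_pi_over (H : Subgroup G) (hH : H ≠ ⊥) (hsep : ∃ (n : ℕ) (M : Fin (n + 1) → Subgroup G), M 0 = ⊥ ∧ M (Fin.last n) = ⊤ ∧ Monotone M ∧ (∀ i, (M i).Normal) ∧ ∀ i : Fin n, (∀ q : ℕ, q.Prime → q ∣ (M i.castSucc).relIndex (M i.succ) → q ∣ Nat.card H) ∨ ((M i.castSucc).relIndex (M i.succ)).Coprime (Nat.card H)) (O : Subgroup G) (hO : O = sSup {K : Subgroup G | K.Normal ∧ (Nat.card K).Coprime (Nat.card H)}) : O.Normal ∧ (Nat.card O).Coprime (Nat.card H) ∧ (∀ K : Subgroup G, K.Normal → (Nat.card K).Coprime (Nat.card H) → K ≤ O) ∧ ∃ L : Subgroup G, L.Normal ∧ O ≤ L ∧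 ¬ L ≤ O ∧ ∀ q : ℕ, q.Prime → q ∣ O.relIndex L → q ∣ Nat.card H := by
  classical
  set 𝒮 : Set (Subgroup G) := {K : Subgroup G | K.Normal ∧ (Nat.card K).Coprime (Nat.card H)} with h𝒮
  have hOn : O.Normal := by
    rw [hO, sSup_eq_iSup']
    haveI : ∀ K : 𝒮, (K : Subgroup G).Normal := fun K => K.2.1
    exact Subgroup.iSup_normal _
  have hOcop : (Nat.card O).Coprime (Nat.card H) := by
    rw [hO]
    exact Cfsg.Agent.Helper19.card_sSup_normal_of_mul (P := fun n => n.Coprime (Nat.card H))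
      (Nat.coprime_one_left _) (fun _ _ hm hn => Nat.Coprime.mul_left hm hn)
      (fun _ _ h hn => Nat.Coprime.coprime_dvd_left h hn) 𝒮 (fun N hN => hN)
  have hOmax : ∀ K : Subgroup G, K.Normal → (Nat.card K).Coprime (Nat.card H) → K ≤ O := by
    intro K hK hc
    rw [hO]
    exact le_sSup ⟨hK, hc⟩
  refine ⟨hOn, hOcop, hOmax, ?_⟩
  obtain ⟨n, M, hM0, hMlast, hMmono, hMn, hMstep⟩ := hsep
  -- `⊤` is not contained in `O`
  have htop : ¬ (⊤ : Subgroup G) ≤ O := by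
    intro h
    have h1 : O = ⊤ := top_le_iff.mp h
    have h2 : Nat.card H ∣ Nat.card O := by
      rw [h1, Subgroup.card_top]; exact Subgroup.card_subgroup_dvd_card H
    have h3 : Nat.card H ∣ 1 := by
      have := Nat.dvd_gcd h2 (dvd_refl _)
      rwa [hOcop] at this
    exact hH (Subgroup.card_eq_one.mp (Nat.dvd_one.mp h3))
  -- the first index whose member is not in `O`
  have hex : ∃ k : ℕ, ∃ hk : k < n + 1, ¬ M ⟨k, hk⟩ ≤ O := by
    refine ⟨n, Nat.lt_succ_self n, ?_⟩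
    have : (⟨n, Nat.lt_succ_self n⟩ : Fin (n + 1)) = Fin.last n := rfl
    rw [this, hMlast]; exact htop
  obtain ⟨k, ⟨hkn, hknot⟩, hkmin⟩ : ∃ k, (∃ hk : k < n + 1, ¬ M ⟨k, hk⟩ ≤ O) ∧
      ∀ m < k, ¬ ∃ hm : m < n + 1, ¬ M ⟨m, hm⟩ ≤ O :=
    ⟨Nat.find hex, Nat.find_spec hex, fun m hm => Nat.find_min hex hm⟩
  have hk0 : k ≠ 0 := by
    intro h0
    subst h0
    apply hknot
    have : (⟨0, hkn⟩ : Fin (n + 1)) = 0 := rfl
    rw [this, hM0]; exact bot_le
  obtain ⟨j, rfl⟩ : ∃ j, k = j + 1 := ⟨k - 1, by omega⟩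
  have hjn : j < n := by omega
  have hjle : M (⟨j, hjn⟩ : Fin n).castSucc ≤ O := by
    by_contra hcon
    exact hkmin j (Nat.lt_succ_self j) ⟨by omega, hcon⟩
  have hjnot : ¬ M (⟨j, hjn⟩ : Fin n).succ ≤ O := by
    have : (⟨j, hjn⟩ : Fin n).succ = ⟨j + 1, hkn⟩ := rfl
    rw [this]; exact hknot
  set A := M (⟨j, hjn⟩ : Fin n).castSucc with hA
  set B := M (⟨j, hjn⟩ : Fin n).succ with hB
  have hAB : A ≤ B := hMmono (Fin.castSucc_lt_succ.le)
  haveI hBn : B.Normal := hMn _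
  rcases hMstep ⟨j, hjn⟩ with hpi | hcop
  · refine ⟨B ⊔ O, inferInstance, le_sup_right, fun h => hjnot (le_sup_left.trans h), ?_⟩
    intro q hq hqd
    apply hpi q hq
    rw [relIndex_sup_right] at hqd
    exact hqd.trans (relIndex_dvd_of_le_left B hjle)
  · exfalso
    apply hjnot
    apply hOmax B hBn
    have h1 : Nat.card A * A.relIndex B = Nat.card B := by
      rw [← relIndex_bot_left, ← relIndex_bot_left (H := B)]
      exact relIndex_mul_relIndex ⊥ A B bot_le hAB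
    rw [← h1]
    exact Nat.Coprime.mul_left
      (Nat.Coprime.coprime_dvd_left (Subgroup.card_dvd_of_le hjle) hOcop) hcop

end Cfsg.Agent.Helper1.TIHallE
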