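import Mathlib
import Cfsg.Agent.Helper26.TT1
import Cfsg.Agent.Helper26.CB9

set_option autoImplicit false
set_option linter.unusedSectionVars false
set_option linter.unusedVariables false

/-!
# Tate transfer, piece AT: the abstract transfer on a free `Q`-set

`Y` a set with a free action `ρ` of a finite group `Q`, `π : Q →* A` a homomorphism into a
commutative group.  Permutations respecting `ρ` up to `π` form the group `Gp ρ π`; the transfer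
from `Gp ρ π` to `A` with respect to the stabilizer of a `ρ`-orbit takes `ρ t` to `π t ^ k`, where
`|Y| = |Q| k`.
-/

namespace Cfsg.Agent.Helper1.TT

open Cfsg.Agent.Helper26.TT Cfsg.Agent.Helper26.CB

variable {Y : Type*} {Q : Type*} [Group Q] {A : Type*} [CommGroup A]

theorem perm_apply_inv (g : Equiv.Perm Y) (y : Y) : g (g⁻¹ y) = y := g.apply_symm_apply y

theorem perm_inv_apply (g : Equiv.Perm Y) (y : Y) : g⁻¹ (g y) = y := g.symm_apply_apply y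

theorem free_inj (ρ : Q →* Equiv.Perm Y) (hfree : ∀ t y, ρ t y = y → t = 1) (y : Y) (s s' : Q)
    (h : ρ s y = ρ s' y) : s = s' := by
  have h1 : ρ (s'⁻¹ * s) y = y := by
    rw [map_mul, Equiv.Perm.mul_apply, map_inv, Equiv.Perm.inv_eq_iff_eq]
    exact h
  exact (inv_mul_eq_one.1 (hfree _ _ h1)).symm

theorem mem_Gp_of_resp [Finite Q] (ρ : Q →* Equiv.Perm Y) (π : Q →* A)
    (hfree : ∀ t y, ρ t y = y → t = 1) {g : Equiv.Perm Y} (h : Resp ρ π g) : g ∈ Gp ρ π := by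
  refine ⟨h, ?_⟩
  intro y t
  choose c hc using fun t'' => h (g⁻¹ y) t''
  have hinj : Function.Injective c := by
    intro t1 t2 h12
    have e1 := (hc t1).1
    have e2 := (hc t2).1
    rw [h12] at e1
    exact free_inj ρ hfree _ _ _ (g.injective (e1.trans e2.symm))
  obtain ⟨t'', ht''⟩ := (Finite.injective_iff_surjective.1 hinj) t
  refine ⟨t'', ?_, ?_⟩
  · have e := (hc t'').1
    rw [ht''] at e
    rw [Equiv.Perm.inv_eq_iff_eq, e, perm_apply_inv]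
  · have e := (hc t'').2
    rw [ht''] at e
    exact e.symm

section transfer

variable (ρ : Q →* Equiv.Perm Y) (π : Q →* A) (y₀ : Y)

/-- The elements of `Gp` carrying the base point into its `ρ`-orbit. -/
def H0 : Subgroup ↥(Gp ρ π) where
  carrier := {g | ∃ t : Q, (g : Equiv.Perm Y) y₀ = ρ t y₀}
  one_mem' := ⟨1, by simp⟩
  mul_mem' := by
    rintro g g' ⟨t, ht⟩ ⟨t', ht'⟩
    obtain ⟨t'', h1, -⟩ := g.2.1 y₀ t'
    refine ⟨t'' * t, ?_⟩
    rw [Subgroup.coe_mul, Equiv.Perm.mul_apply, ht', h1, ht, map_mul, Equiv.Perm.mul_apply]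
  inv_mem' := by
    rintro g ⟨t, ht⟩
    obtain ⟨t', h1, -⟩ := g.2.2 y₀ t
    refine ⟨t'⁻¹, ?_⟩
    rw [← ht, ← Equiv.Perm.mul_apply, inv_mul_cancel] at h1
    rw [Subgroup.coe_inv, map_inv, eq_comm, Equiv.Perm.inv_eq_iff_eq]
    exact h1

theorem mem_H0 {g : ↥(Gp ρ π)} :
    g ∈ H0 ρ π y₀ ↔ ∃ t : Q, (g : Equiv.Perm Y) y₀ = ρ t y₀ := Iff.rfl

/-- The element of `Q` by which a member of `H0` moves the base point. -/
noncomputable def tOf (g : ↥(H0 ρ π y₀)) : Q := Classical.choose g.2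

theorem tOf_spec (g : ↥(H0 ρ π y₀)) :
    ((g : ↥(Gp ρ π)) : Equiv.Perm Y) y₀ = ρ (tOf ρ π y₀ g) y₀ := Classical.choose_spec g.2

variable (hfree : ∀ t y, ρ t y = y → t = 1)

include hfree in
theorem tOf_eq {g : ↥(H0 ρ π y₀)} {t : Q}
    (h : ((g : ↥(Gp ρ π)) : Equiv.Perm Y) y₀ = ρ t y₀) : tOf ρ π y₀ g = t := by
  apply free_inj ρ hfree y₀
  rw [← tOf_spec, h]

include hfree in
theorem pi_tOf_mul (g g' : ↥(H0 ρ π y₀)) :
    π (tOf ρ π y₀ (g * g')) = π (tOf ρ π y₀ g) * π (tOf ρ π y₀ g') := by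
  obtain ⟨t'', h1, h2⟩ := (g : ↥(Gp ρ π)).2.1 y₀ (tOf ρ π y₀ g')
  have h3 : tOf ρ π y₀ (g * g') = t'' * tOf ρ π y₀ g := by
    apply tOf_eq ρ π y₀ hfree
    rw [Subgroup.coe_mul, Subgroup.coe_mul, Equiv.Perm.mul_apply, tOf_spec, h1, tOf_spec,
      map_mul, Equiv.Perm.mul_apply]
  rw [h3, map_mul, h2, mul_comm]

/-- The homomorphism from `H0` to `A`. -/
noncomputable def Psi : ↥(H0 ρ π y₀) →* A :=
  MonoidHom.mk' (fun g => π (tOf ρ π y₀ g)) (pi_tOf_mul ρ π y₀ hfree)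

theorem Psi_apply (g : ↥(H0 ρ π y₀)) : Psi ρ π y₀ hfree g = π (tOf ρ π y₀ g) := rfl

/-- The key computation: conjugates of powers of `ρ t` lie in `H0`, with value `π t ^ n`. -/
theorem Psi_conj (t : Q) (g₀ : ↥(Gp ρ π)) (n : ℕ)
    (hmem : g₀⁻¹ * (⟨ρ t, rho_mem_Gp ρ π t⟩ : ↥(Gp ρ π)) ^ n * g₀ ∈ H0 ρ π y₀) :
    Psi ρ π y₀ hfree ⟨_, hmem⟩ = π t ^ n := by
  rw [Psi_apply]
  obtain ⟨t', h1, h2⟩ := g₀.2.2 ((g₀ : Equiv.Perm Y) y₀) (t ^ n)
  have h3 : tOf ρ π y₀ ⟨_, hmem⟩ = t' := by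
    apply tOf_eq ρ π y₀ hfree
    show ((g₀⁻¹ * (⟨ρ t, rho_mem_Gp ρ π t⟩ : ↥(Gp ρ π)) ^ n * g₀ : ↥(Gp ρ π)) : Equiv.Perm Y) y₀
      = ρ t' y₀
    rw [Subgroup.coe_mul, Subgroup.coe_mul, Subgroup.coe_inv, Subgroup.coe_pow,
      Equiv.Perm.mul_apply, Equiv.Perm.mul_apply]
    show (g₀ : Equiv.Perm Y)⁻¹ ((ρ t ^ n) ((g₀ : Equiv.Perm Y) y₀)) = _
    rw [← map_pow, h1, perm_inv_apply]
  rw [h3, h2, map_pow]

include hfree in
/-- `Gp` acts transitively. -/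
theorem exists_Gp_apply_eq (y : Y) : ∃ g : ↥(Gp ρ π), (g : Equiv.Perm Y) y₀ = y := by
  by_cases h : ∃ s, ρ s y₀ = y
  · obtain ⟨s, rfl⟩ := h
    exact ⟨⟨ρ s, rho_mem_Gp ρ π s⟩, rfl⟩
  · obtain ⟨σ, hσ, hσx⟩ := exists_swap ρ hfree y₀ y (fun s hs => h ⟨s, hs⟩)
    exact ⟨⟨σ, mem_Gp_of_comm ρ π hσ⟩, hσx⟩

include hfree in
/-- The index of `H0`. -/
theorem card_eq_mul_index [Finite Q] [Finite Y] :
    Nat.card Y = Nat.card Q * (H0 ρ π y₀).index := by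
  have h1 : (MulAction.stabilizer ↥(Gp ρ π) y₀).index = Nat.card Y := by
    rw [MulAction.index_stabilizer]
    have : MulAction.orbit ↥(Gp ρ π) y₀ = Set.univ := by
      ext x
      simp only [Set.mem_univ, iff_true]
      obtain ⟨g, hg⟩ := exists_Gp_apply_eq ρ π y₀ hfree x
      exact ⟨g, hg⟩
    rw [this, Set.ncard_univ]
  have h2 : MulAction.stabilizer ↥(Gp ρ π) y₀ ≤ H0 ρ π y₀ := by
    intro g hg
    rw [MulAction.mem_stabilizer_iff] at hg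
    refine ⟨1, ?_⟩
    rw [map_one]
    exact hg
  have h3 : (MulAction.stabilizer ↥(Gp ρ π) y₀).relIndex (H0 ρ π y₀) = Nat.card Q := by
    have e : (MulAction.stabilizer ↥(Gp ρ π) y₀).subgroupOf (H0 ρ π y₀) =
        MulAction.stabilizer ↥(H0 ρ π y₀) y₀ := by
      ext g
      rw [Subgroup.mem_subgroupOf, MulAction.mem_stabilizer_iff, MulAction.mem_stabilizer_iff]
      rfl
    unfold Subgroup.relIndex
    rw [e, MulAction.index_stabilizer]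
    have : MulAction.orbit ↥(H0 ρ π y₀) y₀ = Set.range (fun s : Q => ρ s y₀) := by
      ext x
      constructor
      · rintro ⟨g, rfl⟩
        obtain ⟨s, hs⟩ := g.2
        exact ⟨s, hs.symm⟩
      · rintro ⟨s, rfl⟩
        exact ⟨⟨⟨ρ s, rho_mem_Gp ρ π s⟩, ⟨s, rfl⟩⟩, rfl⟩
    rw [this, Set.ncard_range_of_injective (fun s s' h => free_inj ρ hfree y₀ s s' h)]
  rw [← h1, ← Subgroup.relIndex_mul_index h2, h3]

end transfer

theorem exists_transfer [Finite Y] [Nonempty Y] [Finite Q] (ρ : Q →* Equiv.Perm Y) (π : Q →* A)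
    (hfree : ∀ t y, ρ t y = y → t = 1) :
    ∃ (T : ↥(Gp ρ π) →* A) (k : ℕ), Nat.card Y = Nat.card Q * k ∧
      ∀ t : Q, T ⟨ρ t, rho_mem_Gp ρ π t⟩ = π t ^ k := by
  classical
  obtain ⟨y₀⟩ := ‹Nonempty Y›
  refine ⟨MonoidHom.transfer (Psi ρ π y₀ hfree), (H0 ρ π y₀).index,
    card_eq_mul_index ρ π y₀ hfree, ?_⟩
  intro t
  let _ : Fintype (Quotient (MulAction.orbitRel
    (Subgroup.zpowers (⟨ρ t, rho_mem_Gp ρ π t⟩ : ↥(Gp ρ π)))
    (↥(Gp ρ π) ⧸ H0 ρ π y₀))) := Fintype.ofFinite _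
  rw [MonoidHom.transfer_eq_prod_quotient_orbitRel_zpowers_quot]
  rw [Finset.prod_congr rfl (fun q _ => Psi_conj ρ π y₀ hfree t q.out.out _ _)]
  rw [Finset.prod_pow_eq_pow_sum, ← Subgroup.index_eq_sum_minimalPeriod]

end Cfsg.Agent.Helper1.TT
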