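import Mathlib
import Cfsg.Agent.Helper5.VL.Defs
import Cfsg.Agent.Helper9.VL.COST
import Cfsg.Agent.Helper18.VLIDX
import Cfsg.Agent.Helper10.VLPHI2
import Cfsg.Agent.Helper10.VLPHI3
import Cfsg.Agent.Helper2.VLPTWOLE
import Cfsg.Agent.Helper8.VLSUPIDX
import Cfsg.Agent.Helper10.VLUNION2

set_option autoImplicit false
set_option linter.style.haveILetI false
set_option linter.unusedSectionVars false
set_option linter.unusedVariables false

/-!
# Piece FLAG of the `s3777pieces` board (Vaughan-Lee's bound)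

Downward induction producing a flag `K ≤ V` with `|G : V| = p ^ k` and
`der V * p ^ (b - m + 1) ≤ p ^ T (b - k + 1)` in case B (`p = 2`).
-/

namespace Cfsg.Agent.Helper5.VL

open Subgroup
open scoped commutatorElement

universe u
variable {p : ℕ} [Fact p.Prime] {G : Type u} [Group G] [Finite G]

/-- One step of the flag induction. -/
private theorem caseB_flag_aux_step {φ0 : Fn p G} (hφ0 : φ0 ≠ 1) {b : ℕ}
    (hb : ∀ x : G, φ0 x ≠ 1 → (centralizer ({x} : Set G)).index ≤ p ^ b) (hp2 : p = 2)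
    {K : Subgroup G} (hK : Phi p G ≤ K) {m : ℕ} (hmb : m ≤ b)
    (hU : ∀ x : G, φ0 x ≠ 1 → x ∉ K →
        (K ⊔ centralizer ({x} : Set G)).index * 2 = (K ⊔ zpowers x).index)
    {k : ℕ} (hk1 : 1 ≤ k) (hkm : k + 1 ≤ m) {V' : Subgroup G} (hKV : K ≤ V')
    (hV'i : V'.index = p ^ (k + 1))
    (hV'd : der V' * p ^ (b - m + 1) ≤ p ^ T (b - (k + 1) + 1)) :
    ∃ V : Subgroup G, K ≤ V ∧ V.index = p ^ k ∧
      der V * p ^ (b - m + 1) ≤ p ^ T (b - k + 1) := by
  have hp : p.Prime := Fact.out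
  have hPV : Phi p G ≤ V' := hK.trans hKV
  haveI hV'n : V'.Normal := normal_of_Phi_le hPV
  have hV'top : V' ≠ ⊤ := by
    intro h
    rw [h, index_top] at hV'i
    have : 1 < p ^ (k + 1) := Nat.one_lt_pow (by omega) hp.one_lt
    omega
  obtain ⟨x, hx0, hxV⟩ := exists_affine_not_mem hφ0 hV'top
  have hxK : x ∉ K := fun h => hxV (hKV h)
  have hidx : (V' ⊔ zpowers x).index * p = V'.index := index_sup_zpowers hPV hxV
  have hVi : (V' ⊔ zpowers x).index = p ^ k := by
    rw [hV'i, pow_succ] at hidx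
    exact Nat.eq_of_mul_eq_mul_right hp.pos hidx
  have hxp : x ^ p ∈ V' := hPV (pow_mem_Phi x)
  have h1 := ptwo_le V' x hxV hxp
  have h2 := cost_mul V' x
  set C := centralizer ({x} : Set G) with hC
  have hxC : x ∈ C := by
    rw [hC, mem_centralizer_singleton_iff]
  have hWU : K ⊔ zpowers x ≤ K ⊔ C :=
    sup_le_sup_left (by rw [zpowers_le]; exact hxC) K
  have h3 := sup_index_le V' (K ⊔ zpowers x) (K ⊔ C) hWU
  have e1 : V' ⊔ (K ⊔ zpowers x) = V' ⊔ zpowers x := by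
    rw [← sup_assoc, sup_eq_left.2 hKV]
  have e2 : V' ⊔ (K ⊔ C) = V' ⊔ C := by
    rw [← sup_assoc, sup_eq_left.2 hKV]
  rw [e1, e2, hVi] at h3
  have h4 : (K ⊔ zpowers x).relIndex (K ⊔ C) = 2 := by
    have h5 := relIndex_mul_index hWU
    have h6 := hU x hx0 hxK
    rw [← h6, mul_comm] at h5
    have hne : (K ⊔ C).index ≠ 0 := index_ne_zero_of_finite
    exact Nat.eq_of_mul_eq_mul_left (Nat.pos_of_ne_zero hne) h5
  rw [h4] at h3
  have h7 := hb x hx0
  rw [← hC] at h7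
  -- cost ≤ 2^(b+1-k)
  set cost := C.relIndex V' with hcost
  set I := (V' ⊔ C).index with hI
  have hcostle : cost * p ^ k ≤ p ^ (b + 1) := by
    calc cost * p ^ k ≤ cost * (I * 2) := Nat.mul_le_mul_left _ h3
      _ = (cost * I) * 2 := by ring
      _ = C.index * p := by rw [h2, hp2]
      _ ≤ p ^ b * p := Nat.mul_le_mul_right _ h7
      _ = p ^ (b + 1) := by rw [pow_succ]
  have hcostle' : cost ≤ p ^ (b - k + 1) := by
    have hbk : b + 1 = (b - k + 1) + k := by omega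
    rw [hbk, pow_add] at hcostle
    exact Nat.le_of_mul_le_mul_right hcostle (pow_pos hp.pos k)
  refine ⟨V' ⊔ zpowers x, hKV.trans le_sup_left, hVi, ?_⟩
  have hT : T (b - k + 1) = T (b - (k + 1) + 1) + (b - k + 1) := by
    have : b - (k + 1) + 1 = b - k := by omega
    rw [this, T_succ]
  calc der (V' ⊔ zpowers x) * p ^ (b - m + 1)
      ≤ (der V' * cost) * p ^ (b - m + 1) := Nat.mul_le_mul_right _ h1
    _ = (der V' * p ^ (b - m + 1)) * cost := by ring
    _ ≤ p ^ T (b - (k + 1) + 1) * p ^ (b - k + 1) := Nat.mul_le_mul hV'd hcostle'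
    _ = p ^ T (b - k + 1) := by rw [hT]; exact (pow_add _ _ _).symm

/-- FLAG -/
theorem caseB_flag {φ0 : Fn p G} (hφ0 : φ0 ≠ 1) {b : ℕ}
    (hb : ∀ x : G, φ0 x ≠ 1 → (centralizer ({x} : Set G)).index ≤ p ^ b) (hp2 : p = 2)
    {K : Subgroup G} (hK : Phi p G ≤ K) {m : ℕ} (hm : K.index = p ^ m) (hmb : m ≤ b)
    (hgood : der K ≤ p ^ T (b - m))
    (hU : ∀ x : G, φ0 x ≠ 1 → x ∉ K →
        (K ⊔ centralizer ({x} : Set G)).index * 2 = (K ⊔ zpowers x).index) :
    ∀ k : ℕ, 1 ≤ k → k ≤ m → ∃ V : Subgroup G, K ≤ V ∧ V.index = p ^ k ∧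
      der V * p ^ (b - m + 1) ≤ p ^ T (b - k + 1) := by
  have hp : p.Prime := Fact.out
  -- downward induction: `k = m - j`
  have key : ∀ j : ℕ, ∀ k : ℕ, 1 ≤ k → k + j = m → ∃ V : Subgroup G, K ≤ V ∧ V.index = p ^ k ∧
      der V * p ^ (b - m + 1) ≤ p ^ T (b - k + 1) := by
    intro j
    induction j with
    | zero =>
      intro k hk1 hkm
      have hkm' : k = m := by omega
      subst hkm'
      refine ⟨K, le_rfl, hm, ?_⟩
      rw [T_succ, pow_add p (T (b - k)) (b - k + 1)]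
      exact Nat.mul_le_mul_right _ hgood
    | succ j ih =>
      intro k hk1 hkm
      obtain ⟨V', hKV, hV'i, hV'd⟩ := ih (k + 1) (by omega) (by omega)
      exact caseB_flag_aux_step hφ0 hb hp2 hK hmb hU hk1 (by omega) hKV hV'i hV'd
  intro k hk1 hkm
  exact key (m - k) k hk1 (by omega)

end Cfsg.Agent.Helper5.VL
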