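import Mathlib
import Cfsg.Agent.Helper5.VL.Defs

set_option autoImplicit false
set_option linter.style.haveILetI false
set_option linter.unusedSectionVars false
set_option linter.unusedVariables false

/-!
# Piece HOMCOUNT of the `s3777pieces` board (Vaughan-Lee's bound)

For `Phi p G ≤ K`, the functionals killing `K` are in bijection with the dual of the elementary
abelian `p`-group `G ⧸ K`, hence there are exactly `K.index` of them.
-/

namespace Cfsg.Agent.Helper5.VL

open Subgroup
open scoped commutatorElement

universe u
variable {p : ℕ} [Fact p.Prime] {G : Type u} [Group G] [Finite G]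

private theorem homcount_aux_comm {K : Subgroup G} (hK : Phi p G ≤ K) (x y : G) :
    x * y * (y * x)⁻¹ ∈ K := by
  apply hK
  rw [mem_Phi]
  intro φ
  rw [map_mul, map_inv, map_mul, map_mul, mul_comm (φ x) (φ y), mul_inv_cancel]

private theorem homcount_aux_pow {K : Subgroup G} (hK : Phi p G ≤ K) (x : G) :
    x ^ p ∈ K := by
  apply hK
  rw [mem_Phi]
  intro φ
  rw [map_pow]
  apply Multiplicative.toAdd.injective
  rw [toAdd_pow, toAdd_one]
  simp

private theorem homcount_aux_normal {K : Subgroup G} (hK : Phi p G ≤ K) : K.Normal := by
  constructor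
  intro n hn g
  have h1 : g * n * g⁻¹ = (g * n * (n * g)⁻¹) * n := by group
  rw [h1]
  exact K.mul_mem (homcount_aux_comm hK g n) hn

private theorem homcount_aux_dual_add (V : Type u) [AddCommGroup V] [Module (ZMod p) V] [Finite V] :
    Nat.card (V →+ ZMod p) = Nat.card V := by
  have e2 : (V →+ ZMod p) ≃ (V →ₗ[ZMod p] ZMod p) :=
    (AddMonoidHom.toZModLinearMapEquiv p).toEquiv
  rw [Nat.card_congr e2]
  haveI : Module.Finite (ZMod p) V := Module.Finite.of_finite
  have h3 : Nat.card (Module.Dual (ZMod p) V) = Nat.card V := by
    rw [Module.natCard_eq_pow_finrank (K := ZMod p) (V := Module.Dual (ZMod p) V),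
      Module.natCard_eq_pow_finrank (K := ZMod p) (V := V), Subspace.dual_finrank_eq]
  exact h3

/-- Cardinality of the dual of a finite elementary abelian `p`-group. -/
private theorem homcount_aux_dual (Q : Type u) [CommGroup Q] [Finite Q]
    (hQ : ∀ q : Q, q ^ p = 1) :
    Nat.card (Q →* Multiplicative (ZMod p)) = Nat.card Q := by
  have hA : ∀ a : Additive Q, p • a = 0 := fun a => by
    have := hQ a.toMul
    exact congrArg Additive.ofMul this
  have e1 : (Q →* Multiplicative (ZMod p)) ≃ (Additive Q →+ ZMod p) :=
    MonoidHom.toAdditiveLeft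
  rw [Nat.card_congr e1]
  haveI : Finite (Additive Q) := inferInstanceAs (Finite Q)
  exact @homcount_aux_dual_add p _ (Additive Q) _ (AddCommGroup.zmodModule hA) _

/-- HOMCOUNT -/
theorem homcount (K : Subgroup G) (hK : Phi p G ≤ K) :
    Nat.card {φ : Fn p G // K ≤ φ.ker} = K.index := by
  haveI hN : K.Normal := homcount_aux_normal hK
  letI : CommGroup (G ⧸ K) :=
    { (inferInstance : Group (G ⧸ K)) with
      mul_comm := by
        intro a b
        induction a using QuotientGroup.induction_on with
        | H x =>
          induction b using QuotientGroup.induction_on with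
          | H y =>
            rw [← QuotientGroup.mk_mul, ← QuotientGroup.mk_mul, QuotientGroup.eq]
            have := K.inv_mem (homcount_aux_comm hK x y)
            have h2 : (x * y)⁻¹ * (y * x) = (y * x)⁻¹ * ((x * y * (y * x)⁻¹)⁻¹) * (y * x) := by
              group
            rw [h2]
            have := hN.conj_mem _ this (y * x)⁻¹
            simpa using this }
  have hQ : ∀ q : G ⧸ K, q ^ p = 1 := by
    intro q
    induction q using QuotientGroup.induction_on with
    | H x =>
      rw [← QuotientGroup.mk_pow, QuotientGroup.eq_one_iff]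
      exact homcount_aux_pow hK x
  rw [Subgroup.index_eq_card, ← homcount_aux_dual (p := p) (G ⧸ K) hQ]
  refine Nat.card_congr
    { toFun := fun φ => QuotientGroup.lift K φ.1 (fun x hx => MonoidHom.mem_ker.1 (φ.2 hx))
      invFun := fun ψ => ⟨ψ.comp (QuotientGroup.mk' K), fun x hx => by
        rw [MonoidHom.mem_ker, MonoidHom.comp_apply, QuotientGroup.mk'_apply,
          (QuotientGroup.eq_one_iff x).2 hx, map_one]⟩
      left_inv := fun φ => by
        apply Subtype.ext
        ext x
        rfl
      right_inv := fun ψ => by
        ext x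
        rfl }
  
end Cfsg.Agent.Helper5.VL
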