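import Mathlib
import Cfsg.Prelude.Def_Characters
import Cfsg.Agent.Helper1.W2pDefs
import Cfsg.Agent.Helper23.W2pFIXa
import Cfsg.Agent.Helper3.W2pFIXb
import Cfsg.Agent.Helper27.W2pP1
import Cfsg.Agent.Helper24.PermCharacter
import Cfsg.Agent.Helper24.TwoTransitive
import Cfsg.Agent.Helper24.Rep
import Cfsg.Agent.Helper8.Ind

set_option autoImplicit false
set_option linter.style.haveILetI false
set_option linter.unusedVariables false
set_option linter.unusedSectionVars false

/-!
# Wielandt's theorem on primitive groups of degree `2p` (S0720): lemmas for the final assembly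
-/

open MulAction Cfsg Cfsg.Agent.Helper24 Cfsg.Agent.Helper1.W2p

universe u v

namespace Cfsg.Agent.Helper1.W2pFin

/-- a subgroup acting 2-transitively makes the group 2-transitive -/
theorem two_trans_of_subgroup {G : Type u} [Group G] {Ω : Type v} [MulAction G Ω] (G₁ : Subgroup G)
    (h : IsMultiplyPretransitive G₁ Ω 2) : IsMultiplyPretransitive G Ω 2 := by
  rw [is_two_pretransitive_iff] at h ⊢
  intro a b c d hab hcd
  obtain ⟨g, hg1, hg2⟩ := h hab hcd
  exact ⟨(g : G), hg1, hg2⟩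

/-- a character of the form `π - 1` that is irreducible gives 2-transitivity -/
theorem two_trans_of_decomp {H : Type u} [Group H] [Fintype H] {Ω : Type v} [Fintype Ω]
    [MulAction H Ω] [IsPretransitive H Ω] (hΩ : 2 ≤ Fintype.card Ω) (χ : IrrCharacter H)
    (h : ∀ g : H, (Nat.card (fixedBy Ω g) : ℂ) = 1 + (χ : H → ℂ) g) :
    IsMultiplyPretransitive H Ω 2 := by
  rw [← isIrrCharacter_permChar_sub_one_iff Ω (by rwa [Nat.card_eq_fintype_card])]
  have : (fun g : H => (Nat.card (fixedBy Ω g) : ℂ) - 1) = (χ : H → ℂ) := by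
    funext g
    rw [h g]; ring
  rw [this]
  exact χ.2

/-- In a faithful primitive action on a set of non-prime cardinality, two distinct point stabilizers
generate the whole group. -/
theorem stabilizer_sup_eq_top {G : Type u} [Group G] [Finite G] {Ω : Type v} [Finite Ω]
    [MulAction G Ω] [FaithfulSMul G Ω] (hprim : IsPreprimitive G Ω)
    (hnp : ¬ (Nat.card Ω).Prime) (α₁ α₂ : Ω) (hne : α₁ ≠ α₂) :
    stabilizer G α₁ ⊔ stabilizer G α₂ = ⊤ := by
  haveI : Nontrivial Ω := ⟨⟨α₁, α₂, hne⟩⟩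
  haveI := hprim
  haveI : IsPretransitive G Ω := hprim.toIsPretransitive
  have hA : IsCoatom (stabilizer G α₁) := IsPreprimitive.isCoatom_stabilizer_of_isPreprimitive (G := G) α₁
  have hB : IsCoatom (stabilizer G α₂) := IsPreprimitive.isCoatom_stabilizer_of_isPreprimitive (G := G) α₂
  by_contra htop
  have h1 : stabilizer G α₂ ≤ stabilizer G α₁ := by
    by_contra hle
    apply htop
    apply hA.2
    exact lt_of_le_of_ne le_sup_left (fun h => hle (h ▸ le_sup_right))
  have h2 : stabilizer G α₁ ≤ stabilizer G α₂ := by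
    by_contra hle
    apply htop
    apply hB.2
    exact lt_of_le_of_ne le_sup_right (fun h => hle (h ▸ le_sup_left))
  have hAB : stabilizer G α₁ = stabilizer G α₂ := le_antisymm h2 h1
  obtain ⟨g, hg⟩ := exists_smul_eq G α₁ α₂
  have hgN : g ∈ Subgroup.normalizer ((stabilizer G α₁ : Subgroup G) : Set G) := by
    rw [Subgroup.mem_normalizer_iff]
    intro h
    constructor
    · intro hh
      rw [hAB, mem_stabilizer_iff, ← hg, smul_smul, inv_mul_cancel_right, ← smul_smul,
        mem_stabilizer_iff.mp hh]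
    · intro hh
      rw [hAB, mem_stabilizer_iff, ← hg, smul_smul, inv_mul_cancel_right, ← smul_smul] at hh
      rw [mem_stabilizer_iff]
      exact smul_left_cancel g hh
  have hgA : g ∉ stabilizer G α₁ := by
    intro h
    rw [mem_stabilizer_iff, hg] at h
    exact hne h.symm
  have hN : Subgroup.normalizer ((stabilizer G α₁ : Subgroup G) : Set G) = ⊤ := by
    apply hA.2
    refine lt_of_le_of_ne Subgroup.le_normalizer (fun h => hgA ?_)
    rw [h]; exact hgN
  have hnorm : (stabilizer G α₁).Normal := Subgroup.normalizer_eq_top_iff.mp hN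
  have hbot : stabilizer G α₁ = ⊥ := by
    rw [Subgroup.eq_bot_iff_forall]
    intro a ha
    apply FaithfulSMul.eq_of_smul_eq_smul (α := Ω)
    intro x
    obtain ⟨h, rfl⟩ := exists_smul_eq G α₁ x
    have : h⁻¹ * a * h ∈ stabilizer G α₁ := by
      have := hnorm.conj_mem a ha h⁻¹
      simpa using this
    rw [mem_stabilizer_iff] at this
    rw [one_smul]
    calc a • h • α₁ = h • (h⁻¹ * a * h) • α₁ := by simp [smul_smul, mul_assoc]
      _ = h • α₁ := by rw [this]
  have hcard : Nat.card G = Nat.card Ω := by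
    rw [← index_stabilizer_of_transitive G α₁, hbot, Subgroup.index_bot]
  rw [hbot] at hA
  have h2le : 2 ≤ Nat.card G := by
    rw [hcard]
    exact Finite.one_lt_card
  set q := (Nat.card G).minFac with hq
  have hqp : q.Prime := Nat.minFac_prime (by omega)
  haveI : Fact q.Prime := ⟨hqp⟩
  obtain ⟨x, hx⟩ := exists_prime_orderOf_dvd_card' q (Nat.minFac_dvd _)
  have hx1 : x ≠ 1 := by
    rintro rfl
    rw [orderOf_one] at hx
    exact hqp.one_lt.ne hx
  have hz : Subgroup.zpowers x = ⊤ := by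
    apply hA.2
    rw [bot_lt_iff_ne_bot]
    intro h
    exact hx1 (Subgroup.zpowers_eq_bot.mp h)
  have : Nat.card G = q := by
    rw [← Subgroup.card_top (G := G), ← hz, Nat.card_zpowers, hx]
  apply hnp
  rw [← hcard, this]
  exact hqp

open scoped ComplexConjugate in
/-- the last step of Wielandt's theorem: a constituent of the permutation character restricting to
an exceptional character of degree `e` on `G₁` is impossible -/
theorem final_contra {G : Type u} [Group G] [Fintype G] {Ω : Type v} [Fintype Ω] [MulAction G Ω]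
    [FaithfulSMul G Ω] (hprim : IsPreprimitive G Ω) (p : ℕ) [Fact p.Prime] (hp2 : p ≠ 2)
    (hΩ : Fintype.card Ω = 2 * p) (G₁ : Subgroup G) (P₁ : Sylow p G₁) (hP₁ : Nat.card P₁ = p)
    (hC₁ : Subgroup.centralizer ((P₁ : Subgroup G₁) : Set G₁) = (P₁ : Subgroup G₁))
    (D : BrauerData p (P₁ : Subgroup G₁)) (hε : D.ε = 1) (hodd : Odd (eN (P₁ : Subgroup G₁)))
    (hfpf₁ : ∀ g : G₁, p ∣ orderOf g → ∀ x : Ω, g • x ≠ x)
    (ψ : IrrCharacter G₁) (hψ : ψ ∈ D.Y) (hdeg : irrDeg ψ = eN (P₁ : Subgroup G₁))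
    (Ψ : IrrCharacter G)
    (hΨ : classInner (fun g : G => (Nat.card (fixedBy Ω g) : ℂ)) (Ψ : G → ℂ) ≠ 0)
    (hres : ∀ g : G₁, (Ψ : G → ℂ) (g : G) = (ψ : G₁ → ℂ) g) : False := by
  classical
  have hp : p.Prime := Fact.out
  have hΩ' : Nat.card Ω = 2 * p := by rw [Nat.card_eq_fintype_card]; exact hΩ
  haveI : IsPretransitive G Ω := hprim.toIsPretransitive
  -- elements of `P₁` are fixed-point-free
  have hfpf₁' : ∀ g : G₁, g ∈ (P₁ : Subgroup G₁) → g ≠ 1 → ∀ x : Ω, g • x ≠ x := by
    intro g hg hg1 x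
    apply hfpf₁ g _ x
    have hdvd : orderOf g ∣ p := by
      have := Subgroup.orderOf_dvd_natCard (P₁ : Subgroup G₁) hg
      rwa [show Nat.card (P₁ : Subgroup G₁) = p from hP₁] at this
    rcases (Nat.dvd_prime hp).mp hdvd with h | h
    · exact absurd (orderOf_eq_one_iff.mp h) hg1
    · rw [h]
  obtain ⟨E₁, α₁, α₂, hne, hEN, hEcard, hEP, hE1, hE2⟩ :=
    Cfsg.Agent.Helper23.W2p.exists_complement_fixing_two (H := ↥G₁) (Ω := Ω) p hp2 hΩ' P₁ hP₁ hC₁
      hfpf₁' hodd
  have hvan := Cfsg.Agent.Helper3.W2p.exc_vanish_off p hp2 P₁ hP₁ hC₁ D hε ψ hψ hdeg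
  -- sum of `ψ` over `E₁`
  have hsumE₁ : ∑ g : ↥E₁, (ψ : G₁ → ℂ) (g : G₁) = (Nat.card E₁ : ℂ) := by
    rw [Finset.sum_eq_single (1 : ↥E₁)]
    · rw [Subgroup.coe_one, irrDeg_spec, hdeg, hEcard]
    · intro g _ hg1
      apply hvan _ (hEN g.2)
      intro hgP
      apply hg1
      have : (g : G₁) ∈ E₁ ⊓ (P₁ : Subgroup G₁) := ⟨g.2, hgP⟩
      rw [hEP, Subgroup.mem_bot] at this
      exact Subtype.ext this
    · intro h; exact absurd (Finset.mem_univ _) h
  set E : Subgroup G := E₁.map G₁.subtype with hE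
  let eE : ↥E₁ ≃ ↥E := (E₁.equivMapOfInjective G₁.subtype G₁.subtype_injective).toEquiv
  have hEsum : ∑ᶠ g : ↥E, (Ψ : G → ℂ) (g : G) = (Nat.card E : ℂ) := by
    rw [finsum_eq_sum_of_fintype, ← Nat.card_congr eE, ← hsumE₁]
    symm
    apply Fintype.sum_equiv eE
    intro g
    rw [← hres]
    rfl
  have hEA : E ≤ stabilizer G α₁ := by
    rintro _ ⟨h, hh, rfl⟩
    have := hE1 hh
    rw [mem_stabilizer_iff] at this ⊢
    exact this
  have hEB : E ≤ stabilizer G α₂ := by
    rintro _ ⟨h, hh, rfl⟩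
    have := hE2 hh
    rw [mem_stabilizer_iff] at this ⊢
    exact this
  have hnp : ¬ (Nat.card Ω).Prime := by
    rw [hΩ']
    exact Nat.not_prime_mul (by norm_num) hp.one_lt.ne'
  have hAB := stabilizer_sup_eq_top hprim hnp α₁ α₂ hne
  have hsum_ne : ∀ x : Ω, ∑ᶠ g : ↥(stabilizer G x), (Ψ : G → ℂ) (g : G) ≠ 0 := by
    intro x h0
    apply hΨ
    rw [permChar_eq_indFun Ω x, Cfsg.Agent.Helper8.frobenius_reciprocity _ _ _
      (IsCharacter.isClassFunction (IsIrrCharacter.isCharacter Ψ.2))]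
    unfold classInner
    rw [finsum_eq_sum_of_fintype] at h0
    have : ∑ g : ↥(stabilizer G x), (1 : ℂ) * conj ((Ψ : G → ℂ) (g : G)) = 0 := by
      simp only [one_mul]
      rw [← map_sum, h0, map_zero]
    rw [this, mul_zero]
  have htriv : Ψ ≠ trivIrr G := by
    intro h
    have : ψ = trivIrr G₁ := by
      apply Subtype.ext
      funext g
      rw [← hres, h]
      rfl
    have h1 : trivIrr G₁ ∈ D.Y := this ▸ hψ
    exact (Set.disjoint_left.mp D.disj D.triv_mem) h1
  exact Cfsg.Agent.Helper27.W2p.fixed_vector (stabilizer G α₁) (stabilizer G α₂) E hEA hEB hAB Ψ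
    htriv hEsum (hsum_ne α₁) (hsum_ne α₂)

end Cfsg.Agent.Helper1.W2pFin
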