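import Mathlib

set_option autoImplicit false
set_option linter.style.haveILetI false
set_option linter.unusedSectionVars false

/-! Tools for mapping a `p`-group with an elementary abelian subgroup of index `p` onto
`C_p ≀ C_p`. -/

namespace Cfsg.Agent.Helper1.WreathQuot

open Subgroup

section Hyperplane

variable {M : Type*} [CommGroup M] [Finite M] {p : ℕ} [hp : Fact p.Prime]

/-- In a finite elementary abelian `p`-group, any `z ≠ 1` is avoided by a subgroup of index `p`. -/
theorem exists_index_p_not_mem (hexp : ∀ a : M, a ^ p = 1) (z : M) (hz : z ≠ 1) :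
    ∃ H : Subgroup M, z ∉ H ∧ H.index = p := by
  classical
  let S : Set (Subgroup M) := {H | z ∉ H}
  have hSfin : S.Finite := Set.toFinite S
  have hbot : (⊥ : Subgroup M) ∈ S := by
    show z ∉ (⊥ : Subgroup M)
    rw [mem_bot]; exact hz
  obtain ⟨H, -, hHmax⟩ := hSfin.exists_le_maximal hbot
  obtain ⟨hzH, hHmax⟩ := hHmax
  have hzH' : z ∉ H := hzH
  refine ⟨H, hzH', ?_⟩
  have hordz : orderOf z = p := by
    rcases (Nat.dvd_prime hp.out).mp (orderOf_dvd_of_pow_eq_one (hexp z)) with h | h
    · exact absurd (orderOf_eq_one_iff.mp h) hz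
    · exact h
  -- every element lies in `H ⊔ ⟨z⟩`
  have hsup : H ⊔ zpowers z = ⊤ := by
    rw [eq_top_iff]
    intro a _
    by_cases haH : a ∈ H
    · exact le_sup_left (a := H) haH
    · have hnot : H ⊔ zpowers a ∉ S := by
        intro hS
        have := hHmax hS le_sup_left
        exact haH (this (le_sup_right (a := H) (mem_zpowers a)))
      have hzmem : z ∈ H ⊔ zpowers a := by
        by_contra h; exact hnot h
      obtain ⟨h, hh, w, hw, hhw⟩ := mem_sup.mp hzmem
      obtain ⟨k, rfl⟩ := mem_zpowers_iff.mp hw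
      -- `a ^ k ∈ H ⊔ ⟨z⟩` and `a ^ k ≠ 1`
      have hak : a ^ k ∈ H ⊔ zpowers z := by
        have : a ^ k = h⁻¹ * z := by rw [← hhw]; group
        rw [this]
        exact mul_mem (le_sup_left (a := H) (inv_mem hh)) (le_sup_right (a := H) (mem_zpowers z))
      have hak1 : a ^ k ≠ 1 := by
        intro h1
        rw [h1, mul_one] at hhw
        exact hzH' (hhw ▸ hh)
      have horda : orderOf a = p := by
        rcases (Nat.dvd_prime hp.out).mp (orderOf_dvd_of_pow_eq_one (hexp a)) with h | h
        · exfalso; rw [orderOf_eq_one_iff] at h; rw [h, one_zpow] at hak1; exact hak1 rfl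
        · exact h
      -- `a ∈ ⟨a ^ k⟩`
      have : a ∈ zpowers (a ^ k) := by
        have hcard : Nat.card (zpowers a) = p := by rw [Nat.card_zpowers, horda]
        have hle : zpowers (a ^ k) ≤ zpowers a := by
          rw [zpowers_le]; exact zpow_mem (mem_zpowers a) k
        have hne : zpowers (a ^ k) ≠ ⊥ := by
          rw [Ne, zpowers_eq_bot]; exact hak1
        have hcard2 : Nat.card (zpowers (a ^ k)) = p := by
          have h1 : Nat.card (zpowers (a ^ k)) ∣ p := hcard ▸ card_dvd_of_le hle
          rcases (Nat.dvd_prime hp.out).mp h1 with h2 | h2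
          · exact absurd (card_eq_one.mp h2) hne
          · exact h2
        have : zpowers (a ^ k) = zpowers a :=
          eq_of_le_of_card_ge hle (by rw [hcard, hcard2])
        rw [this]; exact mem_zpowers a
      exact (zpowers_le.mpr hak) this
  -- the index
  have h1 : H.relIndex (zpowers z) = H.index := by
    rw [← relIndex_sup_left, hsup, relIndex_top_right]
  have h2 : H.relIndex (zpowers z) ∣ p := by
    have := relIndex_dvd_card H (zpowers z)
    rwa [Nat.card_zpowers, hordz] at this
  rw [h1] at h2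
  rcases (Nat.dvd_prime hp.out).mp h2 with h3 | h3
  · exfalso
    rw [index_eq_one] at h3
    exact hzH' (h3 ▸ mem_top z)
  · exact h3

end Hyperplane


section Count

variable {M : Type*} [CommGroup M] [Finite M] {p : ℕ} [hp : Fact p.Prime]

/-- the `σ`-conjugates of `x`, indexed by `ZMod p` -/
noncomputable def xs (σ : M ≃* M) (x : M) (i : ZMod p) : M := (σ ^ i.val) x

theorem xs_add (σ : M ≃* M) (hσ : σ ^ p = 1) (x : M) (i : ZMod p) (k : ℕ) :
    (σ ^ k) (xs σ x i) = xs σ x (i + (k : ZMod p)) := by
  haveI : NeZero p := ⟨hp.out.ne_zero⟩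
  unfold xs
  rw [← MulAut.mul_apply, ← pow_add, ZMod.val_add, ZMod.val_natCast, Nat.add_mod_mod,
    ← pow_eq_pow_mod _ hσ, add_comm]

/-- the "linear combination" map -/
noncomputable def Phi (σ : M ≃* M) (x : M) (c : ZMod p → ZMod p) : M :=
  haveI : NeZero p := ⟨hp.out.ne_zero⟩
  ∏ i : ZMod p, (xs σ x i) ^ (c i).val

theorem Phi_add (hexp : ∀ a : M, a ^ p = 1) (σ : M ≃* M) (x : M) (c c' : ZMod p → ZMod p) :
    Phi σ x (c + c') = Phi σ x c * Phi σ x c' := by
  haveI : NeZero p := ⟨hp.out.ne_zero⟩
  unfold Phi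
  rw [← Finset.prod_mul_distrib]
  apply Finset.prod_congr rfl
  intro i _
  rw [Pi.add_apply, ZMod.val_add, ← pow_eq_pow_mod _ (hexp _), pow_add]

theorem Phi_zero (σ : M ≃* M) (x : M) : Phi σ x (0 : ZMod p → ZMod p) = 1 := by
  haveI : NeZero p := ⟨hp.out.ne_zero⟩
  unfold Phi
  apply Finset.prod_eq_one
  intro i _
  rw [Pi.zero_apply, ZMod.val_zero, pow_zero]

theorem Phi_shift (σ : M ≃* M) (hσ : σ ^ p = 1) (x : M) (c : ZMod p → ZMod p) (k : ℕ) :
    (σ ^ k) (Phi σ x c) = Phi σ x (fun i => c (i - (k : ZMod p))) := by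
  haveI : NeZero p := ⟨hp.out.ne_zero⟩
  unfold Phi
  rw [map_prod]
  apply Fintype.prod_equiv (Equiv.addRight (k : ZMod p))
  intro i
  rw [map_pow, xs_add σ hσ]
  simp only [Equiv.coe_addRight, add_sub_cancel_right]

theorem Phi_const (σ : M ≃* M) (x : M) (a : ZMod p) :
    Phi σ x (fun _ => a) = (haveI : NeZero p := ⟨hp.out.ne_zero⟩; ∏ i : ZMod p, xs σ x i) ^ a.val := by
  haveI : NeZero p := ⟨hp.out.ne_zero⟩
  unfold Phi
  rw [Finset.prod_pow]

/-- Key count: if the norm of `x` avoids `H`, a `σ`-invariant subgroup `K ≤ H` has index at least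
`p ^ p`. -/
theorem pow_le_index (hexp : ∀ a : M, a ^ p = 1) (σ : M ≃* M) (hσ : σ ^ p = 1) (x : M)
    (H K : Subgroup M) (hKH : K ≤ H) (hKσ : ∀ a ∈ K, σ a ∈ K)
    (hN : (haveI : NeZero p := ⟨hp.out.ne_zero⟩; ∏ i : ZMod p, xs σ x i) ∉ H) :
    p ^ p ≤ K.index := by
  classical
  haveI : NeZero p := ⟨hp.out.ne_zero⟩
  have hKσk : ∀ (k : ℕ), ∀ a ∈ K, (σ ^ k) a ∈ K := by
    intro k
    induction k with
    | zero => intro a ha; simpa using ha
    | succ k ih =>
      intro a ha
      rw [pow_succ', MulAut.mul_apply]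
      exact hKσ _ (ih a ha)
  -- the subgroup `L`
  let L : AddSubgroup (ZMod p → ZMod p) :=
    { carrier := {c | Phi σ x c ∈ K}
      zero_mem' := by
        show Phi σ x 0 ∈ K
        rw [Phi_zero]; exact K.one_mem
      add_mem' := by
        intro c c' hc hc'
        show Phi σ x (c + c') ∈ K
        rw [Phi_add hexp]; exact K.mul_mem hc hc'
      neg_mem' := by
        intro c hc
        show Phi σ x (-c) ∈ K
        have h1 : Phi σ x (-c) * Phi σ x c = 1 := by
          rw [← Phi_add hexp, neg_add_cancel, Phi_zero]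
        rw [eq_inv_of_mul_eq_one_left h1]
        exact K.inv_mem hc }
  have hLmem : ∀ c, c ∈ L ↔ Phi σ x c ∈ K := fun c => Iff.rfl
  -- `L` is trivial
  have hL : L = ⊥ := by
    by_contra hne
    -- the shift action
    letI : MulAction (Multiplicative (ZMod p)) L :=
      { smul := fun k c => ⟨fun i => c.1 (i - Multiplicative.toAdd k), by
          rw [hLmem]
          have h1 := Phi_shift σ hσ x c.1 (Multiplicative.toAdd k).val
          rw [ZMod.natCast_zmod_val] at h1
          rw [← h1]
          exact hKσk _ _ ((hLmem _).mp c.2)⟩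
        one_smul := by
          intro c
          apply Subtype.ext
          funext i
          show c.1 (i - Multiplicative.toAdd (1 : Multiplicative (ZMod p))) = c.1 i
          rw [toAdd_one, sub_zero]
        mul_smul := by
          intro k k' c
          apply Subtype.ext
          funext i
          show c.1 (i - Multiplicative.toAdd (k * k')) =
            c.1 (i - Multiplicative.toAdd k - Multiplicative.toAdd k')
          rw [toAdd_mul, sub_sub] }
    have hsmul : ∀ (k : Multiplicative (ZMod p)) (c : L) (i : ZMod p),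
        (k • c).1 i = c.1 (i - Multiplicative.toAdd k) := fun _ _ _ => rfl
    have hG0 : IsPGroup p (Multiplicative (ZMod p)) := by
      apply IsPGroup.of_card (n := 1)
      rw [pow_one, Nat.card_eq_fintype_card, Fintype.card_multiplicative, ZMod.card]
    have hcardL : p ∣ Nat.card L := by
      have hdvd : Nat.card L ∣ p ^ p := by
        have := AddSubgroup.card_addSubgroup_dvd_card L
        rwa [Nat.card_eq_fintype_card (α := ZMod p → ZMod p), Fintype.card_fun, ZMod.card] at this
      obtain ⟨j, -, hj⟩ := (Nat.dvd_prime_pow hp.out).mp hdvd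
      rcases j with _ | j
      · exfalso
        apply hne
        rw [pow_zero] at hj
        exact AddSubgroup.card_eq_one.mp hj
      · rw [hj, pow_succ]; exact dvd_mul_left _ _
    have h0fix : (0 : L) ∈ MulAction.fixedPoints (Multiplicative (ZMod p)) L := by
      intro k
      apply Subtype.ext
      funext i
      rw [hsmul]
      rfl
    obtain ⟨b, hbfix, hb0⟩ := hG0.exists_fixed_point_of_prime_dvd_card_of_fixed_point L hcardL h0fix
    -- `b` is constant
    have hbconst : ∀ i, b.1 i = b.1 0 := by
      intro i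
      have h1 := hbfix (Multiplicative.ofAdd (-i))
      have h2 := congrArg (fun c : L => c.1 0) h1
      simp only [hsmul, toAdd_ofAdd, sub_neg_eq_add, zero_add] at h2
      exact h2
    have hb00 : b.1 0 ≠ 0 := by
      intro h
      apply hb0
      apply Subtype.ext
      funext i
      rw [hbconst i, h]
      rfl
    have hbeq : b.1 = fun _ => b.1 0 := funext hbconst
    have hbK : Phi σ x b.1 ∈ K := (hLmem _).mp b.2
    rw [hbeq, Phi_const] at hbK
    -- deduce the norm lies in `H`
    apply hN
    set z := ∏ i : ZMod p, xs σ x i with hz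
    have hzH : z ^ (b.1 0).val ∈ H := hKH hbK
    have hcop : Nat.Coprime (b.1 0).val p := by
      rw [Nat.coprime_comm, hp.out.coprime_iff_not_dvd]
      intro hdvd
      apply hb00
      rw [← ZMod.natCast_zmod_val (b.1 0), ZMod.natCast_eq_zero_iff]
      exact hdvd
    have hzz : z ∈ zpowers (z ^ (b.1 0).val) := by
      obtain ⟨n, -, hn⟩ := Nat.exists_mul_mod_eq_one_of_coprime hcop hp.out.one_lt
      refine mem_zpowers_iff.mpr ⟨(n : ℤ), ?_⟩
      rw [zpow_natCast, ← pow_mul, pow_eq_pow_mod _ (hexp z), hn, pow_one]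
    exact (zpowers_le.mpr hzH) hzz
  -- injectivity
  have hinj : Function.Injective (fun c : ZMod p → ZMod p => (QuotientGroup.mk (Phi σ x c) : M ⧸ K)) := by
    intro c c' h
    have h1 : (Phi σ x c)⁻¹ * Phi σ x c' ∈ K := QuotientGroup.eq.mp h
    have h2 : Phi σ x (c' - c) = (Phi σ x c)⁻¹ * Phi σ x c' := by
      have : Phi σ x (c' - c) * Phi σ x c = Phi σ x c' := by
        rw [← Phi_add hexp, sub_add_cancel]
      rw [← this]; simp [mul_comm]
    have h3 : c' - c ∈ L := by rw [hLmem, h2]; exact h1
    rw [hL, AddSubgroup.mem_bot, sub_eq_zero] at h3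
    exact h3.symm
  have hcard := Nat.card_le_card_of_injective _ hinj
  rw [Nat.card_eq_fintype_card (α := ZMod p → ZMod p), Fintype.card_fun, ZMod.card,
    ← Subgroup.index_eq_card] at hcard
  exact hcard

end Count

end Cfsg.Agent.Helper1.WreathQuot
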