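import Mathlib
import Cfsg.Agent.Lead.ZGroupCoprime
import Cfsg.Agent.Helper26.Basic
import Cfsg.Agent.Helper23.Cyclic

/-!
A nontrivial finite group all of whose Sylow subgroups are cyclic and all of whose subgroups of
order `pq` are cyclic has a nontrivial centre: it contains the elements of order the least prime.
-/

set_option autoImplicit false

namespace Cfsg.Agent.Helper1

open Subgroup

variable {L : Type*} [Group L] [Finite L]

/-- In a Z-group whose subgroups of order `pq` are cyclic, elements of order the least prime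
divisor of the group order are central. -/
theorem zgroup_minFac_central [IsZGroup L]
    (hpq : ∀ A : Subgroup L, (∃ p q : ℕ, p.Prime ∧ q.Prime ∧ Nat.card A = p * q) → IsCyclic A)
    (y₀ : L) (hy₀ : orderOf y₀ = (Nat.card L).minFac) : y₀ ∈ center L := by
  by_cases hL1 : Nat.card L = 1
  · have hsub : Subsingleton L := (Nat.card_eq_one_iff_unique.mp hL1).1
    have : y₀ = 1 := Subsingleton.elim _ _
    rw [this]; exact one_mem _
  set q := (Nat.card L).minFac with hq
  have hqp : q.Prime := Nat.minFac_prime hL1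
  have : Fact q.Prime := ⟨hqp⟩
  -- a Sylow `q`-subgroup containing `y₀`
  have hA_p : IsPGroup q (zpowers y₀) := by
    apply IsPGroup.of_card (n := 1)
    rw [Nat.card_zpowers, hy₀, pow_one]
  obtain ⟨Q, hQ⟩ := hA_p.exists_le_sylow
  have hy₀Q : y₀ ∈ (Q : Subgroup L) := hQ (mem_zpowers y₀)
  have hQcyc : IsCyclic Q := inferInstance
  have hcompl := IsCyclic.isComplement' (P := Q) hq.symm hQcyc
  set M : Subgroup L := (MonoidHom.transferSylow Q (hQcyc.normalizer_le_centralizer hq.symm)).ker
    with hM
  have hMn : M.Normal := by rw [hM]; infer_instance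
  have hMcard : Nat.card M = (Q : Subgroup L).index := hcompl.index_eq_card.symm
  have hcopQM : (Nat.card Q).Coprime (Nat.card M) := by
    rw [hMcard]; exact Q.card_coprime_index
  set A : Subgroup L := zpowers y₀ with hA
  have hAcard : Nat.card A = q := by rw [hA, Nat.card_zpowers, hy₀]
  have hcop : (Nat.card A).Coprime (Nat.card M) :=
    hcopQM.coprime_dvd_left (card_dvd_of_le hQ)
  have hAM : A ≤ normalizer (M : Set L) := by
    rw [normalizer_eq_top_iff.mpr hMn]; exact le_top
  obtain ⟨hDcyc, hDC, -, -, -⟩ := Cfsg.Agent.Lead.zgroup_coprime_structure A M hAM hcop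
  set D : Subgroup L := ⁅M, A⁆ with hD
  have hDM : D ≤ M := Cfsg.Agent.Lead.commutator_le_of_le_normalizer hAM
  have hAD : A ≤ normalizer (D : Set L) := Cfsg.Agent.Lead.le_normalizer_commutator_right M A
  -- `D` is trivial
  have hDbot : D = ⊥ := by
    by_contra hD1
    have hDcard1 : Nat.card D ≠ 1 := fun h => hD1 (card_eq_one.mp h)
    obtain ⟨p, hp, hpD⟩ := Nat.exists_prime_and_dvd hDcard1
    have : Fact p.Prime := ⟨hp⟩
    obtain ⟨x', hx'⟩ := exists_prime_orderOf_dvd_card' p hpD
    set x : L := (x' : L) with hx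
    have hxo : orderOf x = p := by rw [← hx', hx]; exact Subgroup.orderOf_coe x'
    have hxD : x ∈ D := x'.2
    set P₀ : Subgroup L := zpowers x with hP₀
    have hP₀card : Nat.card P₀ = p := by rw [hP₀, Nat.card_zpowers, hxo]
    have hP₀D : P₀ ≤ D := zpowers_le.mpr hxD
    have hpq' : p ≠ q := by
      intro hpq'
      have h1 : p ∣ Nat.card M := hpD.trans (card_dvd_of_le hDM)
      rw [hAcard, ← hpq'] at hcop
      exact hp.one_lt.ne' (Nat.dvd_one.mp (hcop.gcd_eq_one ▸ Nat.dvd_gcd dvd_rfl h1))
    -- `A` normalizes `P₀`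
    have hconj : ∀ y ∈ A, P₀.map (MulAut.conj y).toMonoidHom = P₀ := by
      intro y hy
      apply Cfsg.Agent.Helper23.eq_of_card_eq_of_isCyclic D hDcyc _ _ _ hP₀D
      · rw [card_map_of_injective (MulAut.conj y).injective]
      · rintro _ ⟨u, hu, rfl⟩
        have := (mem_normalizer_iff.mp (hAD hy) u).mp (hP₀D hu)
        simpa using this
    have hAP₀ : A ≤ normalizer (P₀ : Set L) := by
      intro y hy
      rw [mem_normalizer_iff]
      intro u
      constructor
      · intro hu
        rw [← hconj y hy]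
        exact ⟨u, hu, by simp⟩
      · intro hu
        rw [← hconj y hy] at hu
        obtain ⟨v, hv, hvu⟩ := hu
        have : v = u := by
          have h1 : y * v * y⁻¹ = y * u * y⁻¹ := by simpa using hvu
          exact mul_left_cancel (mul_right_cancel h1)
        rw [← this]; exact hv
    -- `A ⊔ P₀` has order `q * p`
    have hinf : A ⊓ P₀ = ⊥ := by
      apply disjoint_iff.mp
      apply disjoint_of_coprime_natCard
      rw [hAcard, hP₀card]
      exact (Nat.coprime_primes hqp hp).mpr (Ne.symm hpq')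
    have hcardB : Nat.card ↥(A ⊔ P₀) = q * p := by
      have := Cfsg.Agent.Helper26.card_sup_mul_card_inf hAP₀
      rw [hinf, card_bot, mul_one, hAcard, hP₀card] at this
      exact this
    have hBcyc : IsCyclic ↥(A ⊔ P₀) := hpq _ ⟨q, p, hqp, hp, hcardB⟩
    have hBcomm : ∀ u ∈ A ⊔ P₀, ∀ v ∈ A ⊔ P₀, u * v = v * u := by
      intro u hu v hv
      have := (IsCyclic.isMulCommutative (α := ↥(A ⊔ P₀))).is_comm.comm ⟨u, hu⟩ ⟨v, hv⟩
      exact congrArg Subtype.val this
    have hxC : x ∈ centralizer (A : Set L) := by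
      rw [mem_centralizer_iff]
      intro a ha
      exact hBcomm a (le_sup_left (a := A) ha) x (le_sup_right (b := P₀) (mem_zpowers x))
    have hxbot : x ∈ (⊥ : Subgroup L) := by
      rw [← hDC]; exact ⟨hxD, hxC⟩
    rw [mem_bot] at hxbot
    rw [hxbot, orderOf_one] at hxo
    exact hp.one_lt.ne hxo
  -- `y₀` centralizes `M` and `Q`
  have hMC : M ≤ centralizer (A : Set L) := by
    rw [← commutator_eq_bot_iff_le_centralizer]; exact hDbot
  have hQcomm : ∀ u ∈ (Q : Subgroup L), u * y₀ = y₀ * u := by
    intro u hu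
    have := (IsCyclic.isMulCommutative (α := ↥(Q : Subgroup L))).is_comm.comm ⟨u, hu⟩ ⟨y₀, hy₀Q⟩
    exact congrArg Subtype.val this
  have htop : M ⊔ (Q : Subgroup L) ≤ centralizer ({y₀} : Set L) := by
    apply sup_le
    · intro m hm
      rw [mem_centralizer_iff]
      intro y hy
      rw [Set.mem_singleton_iff] at hy
      rw [hy]
      exact (mem_centralizer_iff.mp (hMC hm)) y₀ (mem_zpowers y₀)
    · intro u hu
      rw [mem_centralizer_iff]
      intro y hy
      rw [Set.mem_singleton_iff] at hy
      rw [hy]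
      exact (hQcomm u hu).symm
  rw [hcompl.sup_eq_top] at htop
  rw [mem_center_iff]
  intro g
  have := htop (mem_top g)
  rw [mem_centralizer_iff] at this
  exact (this y₀ rfl).symm

/-- A nontrivial Z-group whose subgroups of order `pq` are cyclic has nontrivial centre. -/
theorem zgroup_center_ne_bot [IsZGroup L] [Nontrivial L]
    (hpq : ∀ A : Subgroup L, (∃ p q : ℕ, p.Prime ∧ q.Prime ∧ Nat.card A = p * q) → IsCyclic A) :
    center L ≠ ⊥ := by
  have hL1 : Nat.card L ≠ 1 := by
    intro h1
    have hsub : Subsingleton L := (Nat.card_eq_one_iff_unique.mp h1).1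
    exact not_subsingleton L hsub
  have hqp : (Nat.card L).minFac.Prime := Nat.minFac_prime hL1
  have : Fact (Nat.card L).minFac.Prime := ⟨hqp⟩
  obtain ⟨y₀, hy₀⟩ := exists_prime_orderOf_dvd_card' (G := L) (Nat.card L).minFac
    (Nat.minFac_dvd _)
  have hc := zgroup_minFac_central hpq y₀ hy₀
  intro hbot
  rw [hbot, mem_bot] at hc
  rw [hc, orderOf_one] at hy₀
  exact hqp.one_lt.ne hy₀

end Cfsg.Agent.Helper1
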